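import Mathlib
import Groth.Prelude.Def_W4bk4hartshdef114Obs

universe u
open W4bk4hartshdef114 TensorProduct

namespace Groth.Agent.Helper1.ObsBound

section smallext
variable {k : Type u} [Field k] {C' : Type u} [CommRing C'] [Algebra k C'] {J : Ideal C'}

lemma isSmallExt_quot (h : IsSmallExt k C' J) (K : Ideal C') (hK : K ≤ J) :
    IsSmallExt k (C' ⧸ K) (J.map (Ideal.Quotient.mkₐ k K)) := by
  obtain ⟨hloc, hart, hres, hkill, hne⟩ := h
  have hKne : K ≠ ⊤ := fun h => hne (top_le_iff.mp (h ▸ hK))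
  haveI := hloc
  haveI := hart
  haveI : Nontrivial (C' ⧸ K) := Ideal.Quotient.nontrivial_iff.mpr hKne
  have hlocK : IsLocalRing (C' ⧸ K) :=
    IsLocalRing.of_surjective' (Ideal.Quotient.mk K) Ideal.Quotient.mk_surjective
  haveI := hlocK
  have hlh : IsLocalHom (Ideal.Quotient.mk K) :=
    IsLocalHom.of_surjective _ Ideal.Quotient.mk_surjective
  have hnu : ∀ y : C', Ideal.Quotient.mk K y ∈ nonunits (C' ⧸ K) → y ∈ nonunits C' :=
    fun y hy hu => hy (hu.map _)
  have hnu' : ∀ y : C', y ∈ nonunits C' → Ideal.Quotient.mk K y ∈ nonunits (C' ⧸ K) :=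
    fun y hy hu => hy (hlh.map_nonunit y hu)
  refine ⟨hlocK, inferInstance, ?_, ?_, ?_⟩
  · intro x
    obtain ⟨y, rfl⟩ := Ideal.Quotient.mk_surjective x
    obtain ⟨c, hc⟩ := hres y
    refine ⟨c, ?_⟩
    have := hnu' _ hc
    rwa [map_sub] at this
  · intro x j hx hj
    obtain ⟨y, rfl⟩ := Ideal.Quotient.mk_surjective x
    obtain ⟨j₀, hj₀, rfl⟩ := (Ideal.mem_map_iff_of_surjective (Ideal.Quotient.mkₐ k K)
      Ideal.Quotient.mk_surjective).mp hj
    show Ideal.Quotient.mk K y * Ideal.Quotient.mk K j₀ = 0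
    rw [← map_mul, hkill y j₀ (hnu y hx) hj₀, map_zero]
  · intro htop
    have h1 : (1 : C' ⧸ K) ∈ J.map (Ideal.Quotient.mkₐ k K) := by rw [htop]; trivial
    obtain ⟨j₀, hj₀, hj1⟩ := (Ideal.mem_map_iff_of_surjective (Ideal.Quotient.mkₐ k K)
      Ideal.Quotient.mk_surjective).mp h1
    have h2 : j₀ - 1 ∈ K := by
      rw [← Ideal.Quotient.eq]; exact hj1
    have h3 : (1 : C') ∈ J := by
      have := J.sub_mem hj₀ (hK h2)
      simpa using this
    exact hne ((Ideal.eq_top_iff_one J).mpr h3)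

end smallext

section linalg
variable {k : Type u} [Field k] {V W : Type u} [AddCommGroup V] [Module k V] [Module.Finite k V]
  [AddCommGroup W] [Module k W] [Module.Finite k W]

lemma exists_functional (ω : V ⊗[k] W) (h : Module.finrank k V < Module.finrank k W) :
    ∃ l : W →ₗ[k] k, l ≠ 0 ∧ (LinearMap.lTensor V l) ω = 0 := by
  let Φ : (W →ₗ[k] k) →ₗ[k] (V ⊗[k] k) :=
    (LinearMap.applyₗ ω) ∘ₗ (LinearMap.lTensorHom V)
  have h1 : Module.finrank k (V ⊗[k] k) < Module.finrank k (W →ₗ[k] k) := by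
    rw [Module.finrank_tensorProduct, Module.finrank_self, mul_one]
    have : Module.finrank k (W →ₗ[k] k) = Module.finrank k W := Subspace.dual_finrank_eq
    rw [this]; exact h
  have h2 := LinearMap.ker_ne_bot_of_finrank_lt (f := Φ) h1
  obtain ⟨l, hl, hl0⟩ := (Submodule.ne_bot_iff _).mp h2
  exact ⟨l, hl0, hl⟩

end linalg

section kerideal
variable {k : Type u} [Field k] {C' : Type u} [CommRing C'] [Algebra k C'] {J : Ideal C'}

/-- the ideal of elements of `J` killed by the functional `l` -/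
def kerIdeal (h : IsSmallExt k C' J) (l : ↥J →ₗ[k] k) : Ideal C' where
  carrier := {x | ∃ hx : x ∈ J, l ⟨x, hx⟩ = 0}
  add_mem' := by
    rintro a b ⟨ha, ha0⟩ ⟨hb, hb0⟩
    refine ⟨J.add_mem ha hb, ?_⟩
    have : (⟨a + b, J.add_mem ha hb⟩ : ↥J) = ⟨a, ha⟩ + ⟨b, hb⟩ := rfl
    rw [this, map_add, ha0, hb0, add_zero]
  zero_mem' := by
    refine ⟨J.zero_mem, ?_⟩
    have : (⟨0, J.zero_mem⟩ : ↥J) = 0 := rfl
    rw [this, map_zero]
  smul_mem' := by
    rintro c x ⟨hx, hx0⟩
    obtain ⟨-, -, hres, hkill, -⟩ := h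
    obtain ⟨c₀, hc₀⟩ := hres c
    have h1 : c • x = c₀ • x := by
      have := hkill _ x hc₀ hx
      rw [sub_mul, sub_eq_zero] at this
      rw [smul_eq_mul, this, Algebra.smul_def]
    refine ⟨h1 ▸ J.smul_mem c hx, ?_⟩
    have : (⟨c • x, h1 ▸ J.smul_mem c hx⟩ : ↥J) = c₀ • ⟨x, hx⟩ := by
      ext; exact h1
    rw [this, map_smul, hx0, smul_zero]

lemma mem_kerIdeal (h : IsSmallExt k C' J) (l : ↥J →ₗ[k] k) (x : C') :
    x ∈ kerIdeal h l ↔ ∃ hx : x ∈ J, l ⟨x, hx⟩ = 0 := Iff.rfl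

lemma kerIdeal_le (h : IsSmallExt k C' J) (l : ↥J →ₗ[k] k) : kerIdeal h l ≤ J :=
  fun _ hx => hx.1

lemma kerIdeal_ne (h : IsSmallExt k C' J) (l : ↥J →ₗ[k] k) (hl : l ≠ 0) : kerIdeal h l ≠ J := by
  intro heq
  apply hl
  ext j
  have : (j : C') ∈ kerIdeal h l := by rw [heq]; exact j.2
  obtain ⟨_, h0⟩ := this
  simpa using h0

lemma lTensor_idealToQuot_eq_zero (h : IsSmallExt k C' J) (l : ↥J →ₗ[k] k) (hl : l ≠ 0)
    {V : Type u} [AddCommGroup V] [Module k V] (ω : V ⊗[k] ↥J)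
    (hω : (LinearMap.lTensor V l) ω = 0) :
    (LinearMap.lTensor V (idealToQuot k J (kerIdeal h l))) ω = 0 := by
  have : ∃ j₀ : ↥J, l j₀ = 1 := by
    by_contra hcon
    apply hl
    ext j
    by_contra hj
    apply hcon
    refine ⟨(l j)⁻¹ • j, ?_⟩
    rw [map_smul, smul_eq_mul, inv_mul_cancel₀ hj]
  obtain ⟨j₀, hj₀⟩ := this
  have hfac : idealToQuot k J (kerIdeal h l) =
      (LinearMap.toSpanSingleton k _ (idealToQuot k J (kerIdeal h l) j₀)) ∘ₗ l := by
    ext j
    simp only [LinearMap.comp_apply, LinearMap.toSpanSingleton_apply]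
    have hmem : ((j - l j • j₀ : ↥J) : C') ∈ kerIdeal h l := by
      refine ⟨(j - l j • j₀ : ↥J).2, ?_⟩
      have : (⟨((j - l j • j₀ : ↥J) : C'), (j - l j • j₀ : ↥J).2⟩ : ↥J) = j - l j • j₀ := rfl
      rw [this, map_sub, map_smul, hj₀, smul_eq_mul, mul_one, sub_self]
    have h0 : idealToQuot k J (kerIdeal h l) (j - l j • j₀) = 0 := by
      ext
      exact Ideal.Quotient.eq_zero_iff_mem.mpr hmem
    rw [map_sub, map_smul, sub_eq_zero] at h0
    rw [h0]
  rw [hfac, LinearMap.lTensor_comp, LinearMap.comp_apply, hω, map_zero]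

end kerideal

section core
variable {k : Type u} [Field k] {A : Type u} [CommRing A] [Algebra k A]
  {V : Type u} [AddCommGroup V] [Module k V] [Module.Finite k V]
  {C' : Type u} [CommRing C'] [Algebra k C'] {J : Ideal C'}

lemma exists_lift_mod (T : ObsTheory k A V) (h : IsSmallExt k C' J) (u : A →ₐ[k] C' ⧸ J)
    [Module.Finite k ↥J] (hlt : Module.finrank k V < Module.finrank k ↥J) :
    ∃ (K : Ideal C') (hK : K ≤ J), K ≠ J ∧ ∃ w : A →ₐ[k] C' ⧸ K,
      (Ideal.Quotient.mkₐ k (J.map (Ideal.Quotient.mkₐ k K))).comp w =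
        ((DoubleQuot.quotQuotEquivQuotOfLEₐ k hK).symm : (C' ⧸ J) →ₐ[k] _).comp u := by
  obtain ⟨l, hl0, hl⟩ := exists_functional (T.obs C' J u) hlt
  refine ⟨kerIdeal h l, kerIdeal_le h l, kerIdeal_ne h l hl0, ?_⟩
  have h1 := T.obs_quot C' J (kerIdeal h l) h (kerIdeal_le h l) u
  rw [lTensor_idealToQuot_eq_zero h l hl0 _ hl] at h1
  exact (T.obs_eq_zero_iff _ _ (isSmallExt_quot h _ (kerIdeal_le h l)) _).mp h1

end core

section deriv
variable {k : Type u} [Field k] {D : Type u} [CommRing D] [Algebra k D] {J' : Ideal D}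
  {P : Type u} [CommRing P] [Algebra k P] [IsLocalRing P]

lemma eq_on_sq (h : IsSmallExt k D J') (g₁ g₂ : P →ₐ[k] D)
    (hcong : ∀ p, g₁ p - g₂ p ∈ J')
    (hnu : ∀ p ∈ IsLocalRing.maximalIdeal P, g₁ p ∈ nonunits D) :
    ∀ p ∈ IsLocalRing.maximalIdeal P ^ 2, g₁ p = g₂ p := by
  obtain ⟨hloc, -, -, hkill, hne⟩ := h
  haveI := hloc
  have hnu2 : ∀ p ∈ IsLocalRing.maximalIdeal P, g₂ p ∈ nonunits D := by
    intro p hp
    have h1 : g₁ p ∈ IsLocalRing.maximalIdeal D := hnu p hp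
    have h2 : g₁ p - g₂ p ∈ IsLocalRing.maximalIdeal D :=
      IsLocalRing.le_maximalIdeal hne (hcong p)
    have := (IsLocalRing.maximalIdeal D).sub_mem h1 h2
    simpa using this
  intro p hp
  rw [pow_two] at hp
  refine Submodule.mul_induction_on hp ?_ ?_
  · intro a ha b hb
    have e : g₁ (a * b) - g₂ (a * b) = g₁ a * (g₁ b - g₂ b) + g₂ b * (g₁ a - g₂ a) := by
      rw [map_mul, map_mul]; ring
    rw [← sub_eq_zero, e, hkill _ _ (hnu a ha) (hcong b), hkill _ _ (hnu2 b hb) (hcong a),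
      add_zero]
  · intro x y hx hy
    rw [map_add, map_add, hx, hy]

end deriv

section fin
variable {k : Type u} [Field k] {C' : Type u} [CommRing C'] [Algebra k C'] {J : Ideal C'}

lemma restrictScalars_eq_span (h : IsSmallExt k C' J) (s : Set C') (hs : Ideal.span s = J) :
    J.restrictScalars k = Submodule.span k s := by
  apply le_antisymm
  · intro x hx
    have hx' : x ∈ Ideal.span s := by rw [hs]; exact hx
    refine Submodule.span_induction ?_ ?_ ?_ ?_ hx'
    · intro y hy; exact Submodule.subset_span hy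
    · exact zero_mem _
    · intro a b _ _ ha hb; exact add_mem ha hb
    · intro c y hy hyk
      have hyJ : y ∈ J := by rw [← hs]; exact hy
      obtain ⟨c₀, hc₀⟩ := h.2.2.1 c
      have := h.2.2.2.1 _ y hc₀ hyJ
      rw [sub_mul, sub_eq_zero] at this
      rw [smul_eq_mul, this, ← Algebra.smul_def]
      exact Submodule.smul_mem _ c₀ hyk
  · rw [Submodule.span_le]
    intro y hy
    have : y ∈ J := by rw [← hs]; exact Submodule.subset_span hy
    exact this

lemma finite_of_isSmallExt (h : IsSmallExt k C' J) : Module.Finite k ↥J := by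
  haveI := h.2.1
  obtain ⟨s, hs⟩ := (IsNoetherian.noetherian J : J.FG)
  have key := restrictScalars_eq_span h (s : Set C') hs
  have : (J.restrictScalars k).FG := ⟨s, key.symm⟩
  exact Module.Finite.iff_fg.mpr this

end fin

section concrete
open IsLocalRing
variable {k : Type u} [Field k] {P : Type u} [CommRing P] [IsLocalRing P] [IsNoetherianRing P]
  [Algebra k P]

lemma exists_AR (I : Ideal P) :
    ∃ N : ℕ, 1 ≤ N ∧ I ⊓ maximalIdeal P ^ N ≤ maximalIdeal P * I := by
  obtain ⟨n, hn⟩ := Ideal.exists_pow_inf_eq_pow_smul (maximalIdeal P) (I : Submodule P P)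
  refine ⟨n + 1, Nat.le_add_left _ _, ?_⟩
  have := hn (n+1) (Nat.le_succ _)
  rw [Nat.add_sub_cancel_left, pow_one] at this
  intro x hx
  have hx' : x ∈ (maximalIdeal P ^ (n+1)) • (⊤ : Submodule P P) ⊓ I := by
    refine ⟨?_, hx.1⟩
    rw [Ideal.smul_top_eq_map]
    simpa using hx.2
  rw [this] at hx'
  exact Submodule.smul_mono le_rfl inf_le_right hx'

/-- the auxiliary ideal `𝔪 I + 𝔪^N` -/
def Q (I : Ideal P) (N : ℕ) : Ideal P := maximalIdeal P * I ⊔ maximalIdeal P ^ N

lemma Q_le (I : Ideal P) (N : ℕ) (hN : 1 ≤ N) : Q I N ≤ maximalIdeal P := by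
  refine sup_le Ideal.mul_le_left ?_
  exact Ideal.pow_le_self (by omega)

lemma isSmallExt_concrete (hres : Function.Surjective (algebraMap k (ResidueField P)))
    (I : Ideal P) (hI : I ≤ maximalIdeal P) (N : ℕ) (hN : 1 ≤ N) :
    IsSmallExt k (P ⧸ Q I N) (I.map (Ideal.Quotient.mk (Q I N))) := by
  have hQle : Q I N ≤ maximalIdeal P := Q_le I N hN
  have hQne : Q I N ≠ ⊤ := fun h => (maximalIdeal.isMaximal P).ne_top (top_le_iff.mp (h ▸ hQle))
  haveI : Nontrivial (P ⧸ Q I N) := Ideal.Quotient.nontrivial_iff.mpr hQne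
  have hloc : IsLocalRing (P ⧸ Q I N) :=
    IsLocalRing.of_surjective' (Ideal.Quotient.mk _) Ideal.Quotient.mk_surjective
  haveI := hloc
  have hlh : IsLocalHom (Ideal.Quotient.mk (Q I N)) :=
    IsLocalHom.of_surjective _ Ideal.Quotient.mk_surjective
  have hmax : ∀ p : P, Ideal.Quotient.mk (Q I N) p ∈ nonunits (P ⧸ Q I N) ↔
      p ∈ maximalIdeal P := by
    intro p
    constructor
    · intro h; rw [mem_maximalIdeal]; exact fun hu => h (hu.map _)
    · intro h hu; exact h (hlh.map_nonunit p hu)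
  refine ⟨hloc, ?_, ?_, ?_, ?_⟩
  · rw [isArtinianRing_iff_isNilpotent_maximalIdeal]
    refine ⟨N, ?_⟩
    rw [Ideal.zero_eq_bot, eq_bot_iff]
    have : maximalIdeal (P ⧸ Q I N) ≤ (maximalIdeal P).map (Ideal.Quotient.mk (Q I N)) := by
      intro x hx
      obtain ⟨p, rfl⟩ := Ideal.Quotient.mk_surjective x
      exact Ideal.mem_map_of_mem _ ((hmax p).mp hx)
    refine (Ideal.pow_right_mono this N).trans ?_
    rw [← Ideal.map_pow, Ideal.map_le_iff_le_comap]
    intro p hp
    rw [Ideal.mem_comap, Ideal.mem_bot, Ideal.Quotient.eq_zero_iff_mem]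
    exact (le_sup_right : _ ≤ Q I N) hp
  · intro x
    obtain ⟨p, rfl⟩ := Ideal.Quotient.mk_surjective x
    obtain ⟨c, hc⟩ := hres (residue P p)
    refine ⟨c, ?_⟩
    have h1 : p - algebraMap k P c ∈ maximalIdeal P := by
      rw [← residue_eq_zero_iff, map_sub, sub_eq_zero, ← hc,
        IsScalarTower.algebraMap_apply k P (ResidueField P)]
      rfl
    have := (hmax _).mpr h1
    rwa [map_sub] at this
  · intro x j hx hj
    obtain ⟨p, rfl⟩ := Ideal.Quotient.mk_surjective x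
    obtain ⟨i, hi, rfl⟩ := (Ideal.mem_map_iff_of_surjective _ Ideal.Quotient.mk_surjective).mp hj
    rw [← map_mul, Ideal.Quotient.eq_zero_iff_mem]
    exact (le_sup_left : _ ≤ Q I N) (Ideal.mul_mem_mul ((hmax p).mp hx) hi)
  · intro htop
    have h1 : (1 : P ⧸ Q I N) ∈ I.map (Ideal.Quotient.mk (Q I N)) := by rw [htop]; trivial
    obtain ⟨i, hi, hi1⟩ :=
      (Ideal.mem_map_iff_of_surjective _ Ideal.Quotient.mk_surjective).mp h1
    have h3 : i - 1 ∈ Q I N := by rw [← Ideal.Quotient.eq]; exact hi1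
    have h2 : (1 : P) ∈ maximalIdeal P := by
      have := (maximalIdeal P).sub_mem (hI hi) (hQle h3)
      simpa using this
    exact (Ideal.ne_top_iff_one _).mp (maximalIdeal.isMaximal P).ne_top h2

end concrete

section final
open IsLocalRing
variable {k : Type u} [Field k] {P : Type u} [CommRing P] [IsLocalRing P] [IsNoetherianRing P]
  [Algebra k P]

lemma spanFinrank_le_finrank (I : Ideal P) (N : ℕ)
    (hAR : I ⊓ maximalIdeal P ^ N ≤ maximalIdeal P * I)
    [Module.Finite k ↥(I.map (Ideal.Quotient.mk (Q I N)))] :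
    I.spanFinrank ≤ Module.finrank k ↥(I.map (Ideal.Quotient.mk (Q I N))) := by
  classical
  let b := Module.finBasis k ↥(I.map (Ideal.Quotient.mk (Q I N)))
  have hx : ∀ t, ∃ x : P, x ∈ I ∧ Ideal.Quotient.mk (Q I N) x = (b t : P ⧸ Q I N) := fun t =>
    (Ideal.mem_map_iff_of_surjective _ Ideal.Quotient.mk_surjective).mp (b t).2
  choose x hxI hxb using hx
  have hle : I ≤ Ideal.span (Set.range x) ⊔ maximalIdeal P • I := by
    intro i hi
    have hiJ : Ideal.Quotient.mk (Q I N) i ∈ I.map (Ideal.Quotient.mk (Q I N)) :=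
      Ideal.mem_map_of_mem _ hi
    have hrepr : ((∑ t, b.repr ⟨_, hiJ⟩ t • b t : ↥(I.map (Ideal.Quotient.mk (Q I N)))) :
        P ⧸ Q I N) = Ideal.Quotient.mk (Q I N) i := congrArg Subtype.val (b.sum_repr ⟨_, hiJ⟩)
    obtain ⟨c, hc⟩ : ∃ c : Fin _ → k, c = fun t => b.repr ⟨_, hiJ⟩ t := ⟨_, rfl⟩
    have hrepr' : ((∑ t, c t • b t : ↥(I.map (Ideal.Quotient.mk (Q I N)))) :
        P ⧸ Q I N) = Ideal.Quotient.mk (Q I N) i := by rw [hc]; exact hrepr
    clear hrepr hc
    obtain ⟨y, hy⟩ : ∃ y : P, y = ∑ t, algebraMap k P (c t) * x t := ⟨_, rfl⟩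
    have hyI : y ∈ I := by
      rw [hy]; exact I.sum_mem fun t _ => I.mul_mem_left _ (hxI t)
    have hyS : y ∈ Ideal.span (Set.range x) := by
      rw [hy]
      exact sum_mem fun t _ => Ideal.mul_mem_left _ _ (Ideal.subset_span ⟨t, rfl⟩)
    have hdI : i - y ∈ I := I.sub_mem hi hyI
    have hdQ : i - y ∈ Q I N := by
      rw [← Ideal.Quotient.eq_zero_iff_mem, map_sub, sub_eq_zero, hy, map_sum, ← hrepr',
        Submodule.coe_sum]
      refine Finset.sum_congr rfl fun t _ => ?_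
      rw [map_mul, hxb]
      show (c t • (b t : P ⧸ Q I N)) = _
      rw [Algebra.smul_def]
      rfl
    obtain ⟨a, ha, e, he, hae⟩ := Submodule.mem_sup.mp hdQ
    have haI : a ∈ I := (Ideal.mul_le_right : maximalIdeal P * I ≤ I) ha
    have heI : e ∈ I := by
      have : e = (i - y) - a := by rw [← hae]; ring
      rw [this]; exact I.sub_mem hdI haI
    have hd2 : i - y ∈ maximalIdeal P * I := by
      rw [← hae]; exact add_mem ha (hAR ⟨heI, he⟩)
    have : i = y + (i - y) := by ring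
    rw [this]
    exact Submodule.add_mem_sup hyS hd2
  have hIle : I ≤ Ideal.span (Set.range x) :=
    Submodule.le_of_le_smul_of_le_jacobson_bot (IsNoetherian.noetherian I)
      (IsLocalRing.maximalIdeal_le_jacobson _) hle
  have hIeq : I = Ideal.span (Set.range x) :=
    le_antisymm hIle (Ideal.span_le.mpr (by rintro _ ⟨t, rfl⟩; exact hxI t))
  calc I.spanFinrank = (Ideal.span (Set.range x)).spanFinrank := by rw [← hIeq]
    _ ≤ (Set.range x).ncard := Submodule.spanFinrank_span_le_ncard_of_finite (Set.finite_range x)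
    _ ≤ Module.finrank k ↥(I.map (Ideal.Quotient.mk (Q I N))) := by
      have h1 : Set.range x = ((Finset.univ.image x : Finset P) : Set P) := by simp
      rw [h1, Set.ncard_coe_finset]
      refine (Finset.card_image_le).trans ?_
      simp

theorem spanFinrank_le (hres : Function.Surjective (algebraMap k (ResidueField P)))
    (I : Ideal P) (hI : I ≤ maximalIdeal P ^ 2)
    (V : Type u) [AddCommGroup V] [Module k V] [Module.Finite k V]
    (T : ObsTheory k (P ⧸ I) V) :
    I.spanFinrank ≤ Module.finrank k V := by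
  obtain ⟨N, hN1, hAR⟩ := exists_AR I
  have hI1 : I ≤ maximalIdeal P := hI.trans (Ideal.pow_le_self two_ne_zero)
  have hsm : IsSmallExt k (P ⧸ Q I N) (I.map (Ideal.Quotient.mk (Q I N))) :=
    isSmallExt_concrete hres I hI1 N hN1
  haveI : Module.Finite k ↥(I.map (Ideal.Quotient.mk (Q I N))) := finite_of_isSmallExt hsm
  have h7 := spanFinrank_le_finrank (k := k) I N hAR
  by_contra hcon
  push Not at hcon
  have hlt : Module.finrank k V < Module.finrank k ↥(I.map (Ideal.Quotient.mk (Q I N))) :=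
    lt_of_lt_of_le hcon h7
  let u : P ⧸ I →ₐ[k] (P ⧸ Q I N) ⧸ (I.map (Ideal.Quotient.mk (Q I N))) :=
    Ideal.Quotient.liftₐ I ((Ideal.Quotient.mkₐ k _).comp (Ideal.Quotient.mkₐ k (Q I N))) (by
      intro i hi
      show Ideal.Quotient.mk _ (Ideal.Quotient.mk (Q I N) i) = 0
      rw [Ideal.Quotient.eq_zero_iff_mem]
      exact Ideal.mem_map_of_mem _ hi)
  obtain ⟨K, hK, hKne, w, hw⟩ := exists_lift_mod T hsm u hlt
  apply hKne
  apply le_antisymm hK
  rw [Ideal.map_le_iff_le_comap]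
  intro i hi
  rw [Ideal.mem_comap]
  have hsmK := isSmallExt_quot hsm K hK
  let g₁ : P →ₐ[k] (P ⧸ Q I N) ⧸ K := (Ideal.Quotient.mkₐ k K).comp (Ideal.Quotient.mkₐ k (Q I N))
  let g₂ : P →ₐ[k] (P ⧸ Q I N) ⧸ K := w.comp (Ideal.Quotient.mkₐ k I)
  have hcong : ∀ p, g₁ p - g₂ p ∈
      (I.map (Ideal.Quotient.mk (Q I N))).map (Ideal.Quotient.mkₐ k K) := by
    intro p
    rw [← Ideal.Quotient.eq]
    have := AlgHom.congr_fun hw (Ideal.Quotient.mk I p)
    symm
    refine this.trans ?_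
    rfl
  have hnu : ∀ p ∈ maximalIdeal P, g₁ p ∈ nonunits ((P ⧸ Q I N) ⧸ K) := by
    intro p hp hu
    haveI := hsmK.1
    have hsurj : Function.Surjective ((Ideal.Quotient.mk K).comp (Ideal.Quotient.mk (Q I N))) :=
      Ideal.Quotient.mk_surjective.comp Ideal.Quotient.mk_surjective
    have hlh : IsLocalHom ((Ideal.Quotient.mk K).comp (Ideal.Quotient.mk (Q I N))) :=
      IsLocalHom.of_surjective _ hsurj
    exact hp (hlh.map_nonunit p hu)
  have := eq_on_sq hsmK g₁ g₂ hcong hnu i (hI hi)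
  have h0 : g₂ i = 0 := by
    show w (Ideal.Quotient.mk I i) = 0
    rw [Ideal.Quotient.eq_zero_iff_mem.mpr hi, map_zero]
  rw [h0] at this
  exact Ideal.Quotient.eq_zero_iff_mem.mp this

end final

end Groth.Agent.Helper1.ObsBound
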