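import Mathlib

universe u

open AlgebraicGeometry CategoryTheory CategoryTheory.Limits

namespace Groth.Agent.Helper1.OmegaPts

/-- A field extension of finite transcendence degree embeds into an algebraically closed
extension of infinite transcendence degree. -/
theorem exists_algHom_of_finTrdeg (K L Ω : Type*) [Field K] [Field L] [Field Ω] [Algebra K L]
    [Algebra K Ω] [IsAlgClosed Ω] [FinTrdeg K L] (t : ℕ → Ω) (ht : AlgebraicIndependent K t) :
    Nonempty (L →ₐ[K] Ω) := by
  obtain ⟨s, hs⟩ := exists_isTranscendenceBasis K L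
  have hfin : Finite s := finite_of_isTranscendenceBasis hs
  let e : s ≃ Fin (Nat.card s) := Finite.equivFin s
  let t' : s → Ω := fun i => t (e i)
  have ht' : AlgebraicIndependent K t' :=
    ht.comp (fun i : s => ((e i : Fin _) : ℕ)) (Fin.val_injective.comp e.injective)
  let E := IntermediateField.adjoin K (Set.range ((↑) : s → L))
  let E' := IntermediateField.adjoin K (Set.range t')
  let σ : E →ₐ[K] Ω := E'.val.comp
    ((hs.1.aevalEquivField.symm.trans ht'.aevalEquivField : E ≃ₐ[K] E') : E →ₐ[K] E')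
  letI : Algebra E Ω := σ.toRingHom.toAlgebra
  haveI : IsScalarTower K E Ω := IsScalarTower.of_algebraMap_eq (fun x => (σ.commutes x).symm)
  haveI : Algebra.IsAlgebraic E L := hs.isAlgebraic_field
  exact ⟨(IsAlgClosed.lift (R := E) (S := L) (M := Ω)).restrictScalars K⟩

set_option backward.isDefEq.respectTransparency.types false in
lemma preimage_eq {R : CommRingCat.{u}} {Y : Scheme.{u}} (pY : Y ⟶ Spec R) (y : Y) :
    Spec.preimage (Y.fromSpecResidueField y ≫ pY) =
      StructureSheaf.toStalk R (pY y) ≫ pY.stalkMap y ≫ Y.residue y := by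
  apply Spec.map_injective
  rw [Spec.map_preimage, Spec.map_comp, Spec.map_comp, ← Spec.fromSpecStalk_eq',
    Category.assoc]
  have h := Scheme.SpecMap_stalkMap_fromSpecStalk (f := pY) (x := y)
  calc Y.fromSpecResidueField y ≫ pY
      = Spec.map (Y.residue y) ≫ (Y.fromSpecStalk y ≫ pY) := by
        simp [Scheme.fromSpecResidueField]
    _ = _ := by rw [← h]; rfl

set_option backward.isDefEq.respectTransparency.types false in
lemma essFiniteType_preimage {R : CommRingCat.{u}} {Y : Scheme.{u}} (pY : Y ⟶ Spec R)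
    [LocallyOfFiniteType pY] (y : Y) :
    (Spec.preimage (Y.fromSpecResidueField y ≫ pY)).hom.EssFiniteType := by
  rw [preimage_eq]
  simp only [CommRingCat.hom_comp]
  refine RingHom.EssFiniteType.comp ?_ (RingHom.EssFiniteType.comp ?_ ?_)
  · let p : PrimeSpectrum R := pY y
    have : (algebraMap R ((Spec.structureSheaf R).presheaf.stalk p)).EssFiniteType := by
      rw [RingHom.essFiniteType_algebraMap]
      exact Algebra.EssFiniteType.of_isLocalization _ p.asIdeal.primeCompl
    exact this
  · exact LocallyOfFiniteType.stalkMap pY y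
  · exact (RingHom.FiniteType.of_surjective _ (Y.residue_surjective y)).essFiniteType

set_option backward.isDefEq.respectTransparency.types false in
/-- Existence of an `Ω`-point over a given point. -/
lemma exists_point (K Ω : Type u) [Field K] [Field Ω] [IsAlgClosed Ω] [Algebra K Ω]
    (t : ℕ → Ω) (ht : AlgebraicIndependent K t)
    {Y : Scheme.{u}} (pY : Y ⟶ Spec (CommRingCat.of K)) [LocallyOfFiniteType pY] (y : Y) :
    ∃ y' : Spec (CommRingCat.of Ω) ⟶ Y,
      y' ≫ pY = Spec.map (CommRingCat.ofHom (algebraMap K Ω)) ∧ ∀ z, y' z = y := by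
  let a : CommRingCat.of K ⟶ Y.residueField y := Spec.preimage (Y.fromSpecResidueField y ≫ pY)
  have ha : a.hom.EssFiniteType := essFiniteType_preimage pY y
  algebraize [a.hom]
  obtain ⟨ψ⟩ := exists_algHom_of_finTrdeg K (Y.residueField y) Ω t ht
  refine ⟨Spec.map (CommRingCat.ofHom ψ.toRingHom) ≫ Y.fromSpecResidueField y, ?_, ?_⟩
  · rw [Category.assoc, ← Spec.map_preimage (Y.fromSpecResidueField y ≫ pY), ← Spec.map_comp]
    congr 1
    ext k
    exact ψ.commutes k
  · intro z
    rw [Scheme.Hom.comp_apply, Scheme.fromSpecResidueField_apply]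

set_option backward.isDefEq.respectTransparency.types false in
theorem result (K Ω : Type u) [Field K] [Field Ω] [IsAlgClosed Ω] [Algebra K Ω]
    (t : ℕ → Ω) (ht : AlgebraicIndependent K t)
    {X Y : Scheme.{u}} (pX : X ⟶ Spec (CommRingCat.of K)) (pY : Y ⟶ Spec (CommRingCat.of K))
    [LocallyOfFiniteType pX] [LocallyOfFiniteType pY] (f : X ⟶ Y) (hf : f ≫ pY = pX) :
    Surjective f ↔ ∀ y : Spec (CommRingCat.of Ω) ⟶ Y,
      y ≫ pY = Spec.map (CommRingCat.ofHom (algebraMap K Ω)) →
        ∃ x : Spec (CommRingCat.of Ω) ⟶ X, x ≫ f = y := by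
  constructor
  · intro hsurj y _
    have h1 : LocallyOfFiniteType (f ≫ pY) := hf ▸ inferInstance
    have h2 : LocallyOfFiniteType f := locallyOfFiniteType_of_comp f pY
    let q : pullback f y ⟶ Spec (CommRingCat.of Ω) := pullback.snd f y
    have h3 : Surjective q := inferInstance
    have h4 := LocallyOfFiniteType.jacobsonSpace q
    obtain ⟨p0, -⟩ := h3.surj (IsLocalRing.closedPoint Ω)
    obtain ⟨p, -, hp⟩ := nonempty_inter_closedPoints (Z := Set.univ)
      ⟨p0, trivial⟩ isClosed_univ.isLocallyClosed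
    refine ⟨pointOfClosedPoint q p hp ≫ pullback.fst f y, ?_⟩
    rw [Category.assoc, pullback.condition, ← Category.assoc, pointOfClosedPoint_comp,
      Category.id_comp]
  · intro H
    refine ⟨fun y => ?_⟩
    obtain ⟨y', hy', hy'pt⟩ := exists_point K Ω t ht pY y
    obtain ⟨x, hx⟩ := H y' hy'
    refine ⟨x (IsLocalRing.closedPoint Ω), ?_⟩
    rw [← Scheme.Hom.comp_apply, hx, hy'pt]

end Groth.Agent.Helper1.OmegaPts
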