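import Mathlib

open Filter Topology UniformSpace

namespace Groth.Agent.Helper1.OpenMapL

section Approx

variable {G : Type*} [AddCommGroup G] [UniformSpace G] [IsUniformAddGroup G] [CompleteSpace G]
  {H : Type*} [AddCommGroup H] [TopologicalSpace H] [IsTopologicalAddGroup H] [T2Space H]

/-- Successive approximation: `ψ : G → H` continuous additive, `G` complete with a countable
basis `U n` of open subgroups, the closures `V n` of `ψ (U n)` open and a basis of
neighbourhoods of `0` in `H`. Then `ψ (U n) = V n`. -/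
theorem image_eq_closure_image (ψ : G →+ H)
    (U : ℕ → AddSubgroup G) (hUo : ∀ n, IsOpen (U n : Set G)) (hUanti : Antitone U)
    (hUb : ∀ W ∈ 𝓝 (0 : G), ∃ n, (U n : Set G) ⊆ W)
    (hVo : ∀ n, IsOpen (closure (ψ '' (U n : Set G))))
    (hVb : ∀ W ∈ 𝓝 (0 : H), ∃ n, closure (ψ '' (U n : Set G)) ⊆ W) (n : ℕ) :
    ψ '' (U n : Set G) = closure (ψ '' (U n : Set G)) := by
  classical
  refine subset_antisymm subset_closure ?_
  intro b hb
  -- the closed subgroups `V k`
  set V : ℕ → AddSubgroup H := fun k => ((U k).map ψ).topologicalClosure with hV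
  have hVcoe : ∀ k, (V k : Set H) = closure (ψ '' (U k : Set G)) := by
    intro k
    simp [hV, AddSubgroup.topologicalClosure_coe, AddSubgroup.coe_map]
  have hVanti : Antitone V := by
    intro i j hij
    exact AddSubgroup.topologicalClosure_mono (AddSubgroup.map_mono (hUanti hij))
  have hNA : NonarchimedeanAddGroup G := by
    refine ⟨fun W hW => ?_⟩
    obtain ⟨m, hm⟩ := hUb W hW
    exact ⟨⟨U m, hUo m⟩, hm⟩
  have hUc : ∀ k, IsClosed (U k : Set G) := fun k => AddSubgroup.isClosed_of_isOpen _ (hUo k)
  -- one step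
  have step : ∀ (k : ℕ) (s : G), ∃ s' : G, b - ψ s ∈ V (n + k) →
      s' - s ∈ U (n + k) ∧ b - ψ s' ∈ V (n + k + 1) := by
    intro k s
    by_cases hs : b - ψ s ∈ V (n + k)
    · have hs' : b - ψ s ∈ closure (ψ '' (U (n + k) : Set G)) := by rw [← hVcoe]; exact hs
      have hopen : IsOpen (V (n + k + 1) : Set H) := by rw [hVcoe]; exact hVo _
      -- neighbourhood `b - ψ s - V (n+k+1)` meets `ψ '' U (n+k)`
      have hnb : {y : H | b - ψ s - y ∈ V (n + k + 1)} ∈ 𝓝 (b - ψ s) := by
        have hc : Continuous fun y : H => b - ψ s - y := continuous_const.sub continuous_id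
        refine (hc.isOpen_preimage _ hopen).mem_nhds ?_
        simp [(V (n + k + 1)).zero_mem]
      obtain ⟨y, hy1, hy2⟩ := mem_closure_iff_nhds.mp hs' _ hnb
      obtain ⟨x, hx, rfl⟩ := hy2
      refine ⟨s + x, fun _ => ⟨by simpa using hx, ?_⟩⟩
      have : b - ψ (s + x) = b - ψ s - ψ x := by rw [map_add]; abel
      rw [this]; exact hy1
    · exact ⟨s, fun h => absurd h hs⟩
  choose F hF using step
  let f : ℕ → G := fun k => Nat.rec (0 : G) (fun k s => F k s) k
  have hf0 : f 0 = 0 := rfl
  have hfs : ∀ k, f (k + 1) = F k (f k) := fun k => rfl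
  have hb0 : b - ψ (f 0) ∈ V (n + 0) := by
    simp only [hf0, map_zero, sub_zero, add_zero]
    change b ∈ (V n : Set H)
    rw [hVcoe]; exact hb
  have hinv : ∀ k, b - ψ (f k) ∈ V (n + k) := by
    intro k
    induction k with
    | zero => exact hb0
    | succ k ih => rw [hfs]; exact (hF k (f k) ih).2
  have hdiff : ∀ k, f (k + 1) - f k ∈ U (n + k) := by
    intro k; rw [hfs]; exact (hF k (f k) (hinv k)).1
  -- differences from `f k`
  have hdiff' : ∀ k j, f (k + j) - f k ∈ U (n + k) := by
    intro k j
    induction j with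
    | zero => simp
    | succ j ih =>
      have h1 : f (k + (j + 1)) - f k = (f (k + j + 1) - f (k + j)) + (f (k + j) - f k) := by
        rw [← add_assoc]; abel
      rw [h1]
      refine (U (n + k)).add_mem ?_ ih
      exact hUanti (by omega : n + k ≤ n + (k + j)) (hdiff (k + j))
  have hcau : CauchySeq f := by
    apply NonarchimedeanAddGroup.cauchySeq_of_tendsto_sub_nhds_zero
    rw [tendsto_def]
    intro W hW
    obtain ⟨m, hm⟩ := hUb W hW
    rw [mem_atTop_sets]
    refine ⟨m, fun k hk => hm ?_⟩
    exact hUanti (by omega : m ≤ n + k) (hdiff k)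
  obtain ⟨a, ha⟩ := cauchySeq_tendsto_of_complete hcau
  -- `a - f k ∈ U (n+k)`
  have hak : ∀ k, a - f k ∈ U (n + k) := by
    intro k
    have ht : Tendsto (fun j => f (k + j) - f k) atTop (𝓝 (a - f k)) := by
      refine Tendsto.sub ?_ tendsto_const_nhds
      exact ha.comp (tendsto_add_atTop_nat k |>.congr (fun j => by rw [add_comm]))
    exact (hUc (n + k)).mem_of_tendsto ht (Eventually.of_forall fun j => hdiff' k j)
  refine ⟨a, ?_, ?_⟩
  · have := hak 0
    simpa [hf0] using this
  · -- `b - ψ a ∈ V (n+k)` for all `k`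
    have hmem : ∀ k, b - ψ a ∈ V (n + k) := by
      intro k
      have h1 : b - ψ a = (b - ψ (f k)) - ψ (a - f k) := by rw [map_sub]; abel
      rw [h1]
      refine (V (n + k)).sub_mem (hinv k) ?_
      exact AddSubgroup.le_topologicalClosure _ (AddSubgroup.mem_map_of_mem ψ (hak k))
    have hzero : b - ψ a = 0 := by
      by_contra hne
      obtain ⟨W, hW, hWn⟩ : ∃ W ∈ 𝓝 (0 : H), b - ψ a ∉ W := by
        refine ⟨{b - ψ a}ᶜ, ?_, by simp⟩
        exact isOpen_compl_singleton.mem_nhds (by simpa using Ne.symm hne)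
      obtain ⟨m, hm⟩ := hVb W hW
      apply hWn
      apply hm
      rw [← hVcoe]
      exact hVanti (by omega : m ≤ n + m) (hmem m)
    exact (sub_eq_zero.mp hzero).symm

/-- Consequence: `ψ` is an open map. -/
theorem isOpenMap_of_approx (ψ : G →+ H)
    (U : ℕ → AddSubgroup G) (hUo : ∀ n, IsOpen (U n : Set G)) (hUanti : Antitone U)
    (hUb : ∀ W ∈ 𝓝 (0 : G), ∃ n, (U n : Set G) ⊆ W)
    (hVo : ∀ n, IsOpen (closure (ψ '' (U n : Set G))))
    (hVb : ∀ W ∈ 𝓝 (0 : H), ∃ n, closure (ψ '' (U n : Set G)) ⊆ W) :
    IsOpenMap ψ := by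
  rw [IsTopologicalAddGroup.isOpenMap_iff_nhds_zero, Filter.le_map_iff]
  intro S hS
  obtain ⟨m, hm⟩ := hUb S hS
  have h1 := image_eq_closure_image ψ U hUo hUanti hUb hVo hVb m
  have h2 : ψ '' (U m : Set G) ∈ 𝓝 (0 : H) := by
    rw [h1]
    refine (hVo m).mem_nhds (subset_closure ⟨0, (U m).zero_mem, map_zero ψ⟩)
  exact Filter.mem_of_superset h2 (Set.image_mono hm)

/-- Consequence: with dense range, `ψ` is surjective. -/
theorem surjective_of_approx (ψ : G →+ H) (hd : DenseRange ψ)
    (U : ℕ → AddSubgroup G) (hUo : ∀ n, IsOpen (U n : Set G)) (hUanti : Antitone U)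
    (hUb : ∀ W ∈ 𝓝 (0 : G), ∃ n, (U n : Set G) ⊆ W)
    (hVo : ∀ n, IsOpen (closure (ψ '' (U n : Set G))))
    (hVb : ∀ W ∈ 𝓝 (0 : H), ∃ n, closure (ψ '' (U n : Set G)) ⊆ W) :
    Function.Surjective ψ := by
  have hopen := isOpenMap_of_approx ψ U hUo hUanti hUb hVo hVb
  have hro : IsOpen (ψ.range : Set H) := by
    rw [AddMonoidHom.coe_range]; exact hopen.isOpen_range
  have hrc : IsClosed (ψ.range : Set H) := AddSubgroup.isClosed_of_isOpen _ hro
  have : (ψ.range : Set H) = Set.univ := by
    have h := hd.closure_range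
    rw [← AddMonoidHom.coe_range, hrc.closure_eq] at h
    exact h
  intro b
  have hb : b ∈ (ψ.range : Set H) := by rw [this]; trivial
  exact hb

/-- An open continuous surjective additive map out of a complete first countable group has
complete target. -/
theorem completeSpace_of_isOpenQuotientMap {G' H' : Type*} [AddCommGroup G'] [UniformSpace G']
    [IsUniformAddGroup G'] [CompleteSpace G'] [FirstCountableTopology G']
    [AddCommGroup H'] [UniformSpace H'] [IsUniformAddGroup H'] (ψ : G' →+ H')
    (h : IsOpenQuotientMap ψ) : CompleteSpace H' := by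
  let _ : UniformSpace (G' ⧸ ψ.ker) := IsTopologicalAddGroup.rightUniformSpace (G' ⧸ ψ.ker)
  have hU : IsUniformAddGroup (G' ⧸ ψ.ker) := isUniformAddGroup_of_addCommGroup
  have hc : CompleteSpace (G' ⧸ ψ.ker) := QuotientAddGroup.completeSpace_right G' ψ.ker
  let e : G' ⧸ ψ.ker ≃+ H' := QuotientAddGroup.quotientKerEquivOfSurjective ψ h.surjective
  have he : Continuous e := by
    rw [(QuotientAddGroup.isQuotientMap_mk ψ.ker).continuous_iff]
    exact h.continuous
  have he' : Continuous e.symm := by
    rw [h.isQuotientMap.continuous_iff]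
    have : (e.symm ∘ ψ) = (QuotientAddGroup.mk : G' → G' ⧸ ψ.ker) := by
      funext x
      apply e.injective
      simp [e]
      rfl
    rw [this]
    exact QuotientAddGroup.continuous_mk
  have hue : UniformContinuous e := uniformContinuous_addMonoidHom_of_continuous (f := e.toAddMonoidHom) he
  have hue' : UniformContinuous e.symm :=
    uniformContinuous_addMonoidHom_of_continuous (f := e.symm.toAddMonoidHom) he'
  let E : (G' ⧸ ψ.ker) ≃ᵤ H' := { e.toEquiv with uniformContinuous_toFun := hue, uniformContinuous_invFun := hue' }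
  exact E.completeSpace_iff.mp hc

end Approx

section QuotCompl
universe u v
theorem ker_completion_map_quotient
    {R : Type u} [Ring R] {M : Type v} [AddCommGroup M] [Module R M] [UniformSpace M]
    [IsUniformAddGroup M] [IsLinearTopology R M] (N : Submodule R M) :
    (@UniformSpace.Completion.map M _ (M ⧸ N.toAddSubgroup)
        (IsTopologicalAddGroup.rightUniformSpace (M ⧸ N.toAddSubgroup))
        (QuotientAddGroup.mk' N.toAddSubgroup)) ⁻¹' {0} =
      closure (Set.range (fun n : N => ((n : M) : UniformSpace.Completion M))) := by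
  let _ : UniformSpace (M ⧸ N.toAddSubgroup) :=
    IsTopologicalAddGroup.rightUniformSpace (M ⧸ N.toAddSubgroup)
  have hQ : IsUniformAddGroup (M ⧸ N.toAddSubgroup) := isUniformAddGroup_of_addCommGroup
  set π : M →+ M ⧸ N.toAddSubgroup := QuotientAddGroup.mk' N.toAddSubgroup with hπ
  have hπc : Continuous π := QuotientAddGroup.continuous_mk
  have hπu : UniformContinuous π := uniformContinuous_addMonoidHom_of_continuous hπc
  set ψ : Completion M → Completion (M ⧸ N.toAddSubgroup) := Completion.map π with hψ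
  have hψc : Continuous ψ := Completion.continuous_map
  have hψcoe : ∀ m : M, ψ (m : Completion M) = ((π m : M ⧸ N.toAddSubgroup) : Completion _) :=
    fun m => Completion.map_coe hπu m
  have hψadd : ∀ x y, ψ (x - y) = ψ x - ψ y := by
    intro x y
    exact map_sub (AddMonoidHom.completion π hπc) x y
  apply subset_antisymm
  · intro x hx
    have hx0 : ψ x = 0 := hx
    rw [mem_closure_iff_nhds]
    intro W hW
    -- V := {v | x - v ∈ W} is a nbhd of 0
    have hV : {v : Completion M | x - v ∈ W} ∈ 𝓝 (0 : Completion M) := by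
      have hc : Continuous fun v : Completion M => x - v := continuous_const.sub continuous_id
      exact hc.continuousAt.preimage_mem_nhds (by simpa using hW)
    obtain ⟨C, ⟨hC, hCc⟩, hCV⟩ := (closed_nhds_basis (0 : Completion M)).mem_iff.mp hV
    have hpre : ((↑) : M → Completion M) ⁻¹' C ∈ 𝓝 (0 : M) :=
      (Completion.continuous_coe M).continuousAt.preimage_mem_nhds (by rw [Completion.coe_zero]; exact hC)
    obtain ⟨U, hUo, hUC⟩ := (IsLinearTopology.hasBasis_open_submodule R (M := M)).mem_iff.mp hpre
    -- closure of the image of U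
    set Ubar : AddSubgroup (Completion M) :=
      (U.toAddSubgroup.map (Completion.toCompl : M →+ Completion M)).topologicalClosure with hUbar
    have hUbarC : (Ubar : Set (Completion M)) ⊆ C := by
      refine closure_minimal ?_ hCc
      rintro _ ⟨u, hu, rfl⟩
      exact hUC hu
    have hUbar_nhds : (Ubar : Set (Completion M)) ∈ 𝓝 (0 : Completion M) := by
      have := (Completion.isDenseInducing_coe (α := M)).closure_image_mem_nhds
        (hUo.mem_nhds U.zero_mem)
      rw [Completion.coe_zero] at this
      simpa [hUbar, AddSubgroup.topologicalClosure_coe, AddSubgroup.coe_map] using this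
    -- density: find m with x - m ∈ Ubar
    have hnb : {y : Completion M | x - y ∈ Ubar} ∈ 𝓝 x := by
      have hc : Continuous fun v : Completion M => x - v := continuous_const.sub continuous_id
      exact hc.continuousAt.preimage_mem_nhds (by simpa using hUbar_nhds)
    obtain ⟨m, hm⟩ := (Completion.denseRange_coe (α := M)).mem_nhds hnb
    have hm' : x - (m : Completion M) ∈ Ubar := hm
    -- image under ψ
    have h1 : ψ (x - (m : Completion M)) ∈
        closure (((↑) : M ⧸ N.toAddSubgroup → Completion (M ⧸ N.toAddSubgroup)) '' (π '' (U : Set M))) := by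
      refine map_mem_closure hψc hm' ?_
      rintro _ ⟨u, hu, rfl⟩
      change ψ ((u : M) : Completion M) ∈ _
      rw [hψcoe]
      exact ⟨π u, ⟨u, hu, rfl⟩, rfl⟩
    have h2 : ψ (x - (m : Completion M)) = ((π (-m) : M ⧸ N.toAddSubgroup) : Completion _) := by
      rw [hψadd, hx0, hψcoe, zero_sub, map_neg, Completion.coe_neg]
    rw [h2] at h1
    have h3 : π (-m) ∈ closure (π '' (U : Set M)) := by
      rw [(Completion.isDenseInducing_coe (α := M ⧸ N.toAddSubgroup)).isInducing.closure_eq_preimage_closure_image]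
      exact h1
    have hπUo : IsOpen ((U.toAddSubgroup.map π : AddSubgroup (M ⧸ N.toAddSubgroup)) : Set (M ⧸ N.toAddSubgroup)) := by
      rw [AddSubgroup.coe_map]
      exact QuotientAddGroup.isOpenMap_coe _ hUo
    have hπUc := AddSubgroup.isClosed_of_isOpen _ hπUo
    rw [AddSubgroup.coe_map] at hπUc
    rw [show (π '' (U : Set M)) = (π '' ((U.toAddSubgroup : AddSubgroup M) : Set M)) from rfl,
      hπUc.closure_eq] at h3
    obtain ⟨u, hu, hum⟩ := h3
    -- n := u + m ∈ N
    have hn : u + m ∈ N := by
      have : π (u + m) = 0 := by rw [map_add, hum, map_neg, neg_add_cancel]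
      rw [hπ, QuotientAddGroup.mk'_apply, QuotientAddGroup.eq_zero_iff] at this
      exact this
    refine ⟨((u + m : M) : Completion M), ?_, ⟨⟨u + m, hn⟩, rfl⟩⟩
    have h4 : x - ((u + m : M) : Completion M) ∈ Ubar := by
      have : x - ((u + m : M) : Completion M) = (x - (m : Completion M)) - ((u : M) : Completion M) := by
        rw [Completion.coe_add]; abel
      rw [this]
      refine Ubar.sub_mem hm' ?_
      exact AddSubgroup.le_topologicalClosure _ (AddSubgroup.mem_map_of_mem _ hu)
    have h5 := hCV (hUbarC h4)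
    simpa using h5
  · refine closure_minimal ?_ ((isClosed_singleton (x := (0 : Completion (M ⧸ N.toAddSubgroup)))).preimage hψc)
    rintro _ ⟨n, rfl⟩
    change ψ ((n : M) : Completion M) = 0
    rw [hψcoe]
    have : π (n : M) = 0 := by
      rw [hπ, QuotientAddGroup.mk'_apply, QuotientAddGroup.eq_zero_iff]
      exact n.2
    rw [this]; rfl

end QuotCompl

section QuotCompl2
universe u v

theorem completion_map_quotient_surjective_open
    {R : Type u} [Ring R] {M : Type v} [AddCommGroup M] [Module R M] [UniformSpace M]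
    [IsUniformAddGroup M] [IsLinearTopology R M] (hc : (nhds (0 : M)).IsCountablyGenerated)
    (N : Submodule R M) :
    Function.Surjective (@UniformSpace.Completion.map M _ (M ⧸ N.toAddSubgroup)
        (IsTopologicalAddGroup.rightUniformSpace (M ⧸ N.toAddSubgroup))
        (QuotientAddGroup.mk' N.toAddSubgroup)) ∧
      IsOpenMap (@UniformSpace.Completion.map M _ (M ⧸ N.toAddSubgroup)
        (IsTopologicalAddGroup.rightUniformSpace (M ⧸ N.toAddSubgroup))
        (QuotientAddGroup.mk' N.toAddSubgroup)) := by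
  let _ : UniformSpace (M ⧸ N.toAddSubgroup) :=
    IsTopologicalAddGroup.rightUniformSpace (M ⧸ N.toAddSubgroup)
  have hQ : IsUniformAddGroup (M ⧸ N.toAddSubgroup) := isUniformAddGroup_of_addCommGroup
  set π : M →+ M ⧸ N.toAddSubgroup := QuotientAddGroup.mk' N.toAddSubgroup with hπ
  have hπc : Continuous π := QuotientAddGroup.continuous_mk
  have hπu : UniformContinuous π := uniformContinuous_addMonoidHom_of_continuous hπc
  have hπo : IsOpenMap π := QuotientAddGroup.isOpenMap_coe
  set ψ : Completion M →+ Completion (M ⧸ N.toAddSubgroup) := AddMonoidHom.completion π hπc with hψ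
  have hψfun : (ψ : Completion M → Completion (M ⧸ N.toAddSubgroup)) = Completion.map π := rfl
  have hψc : Continuous ψ := AddMonoidHom.continuous_completion π hπc
  have hψcoe : ∀ m : M, ψ (m : Completion M) = ((π m : M ⧸ N.toAddSubgroup) : Completion _) :=
    fun m => Completion.map_coe hπu m
  -- countable antitone basis of open submodules
  obtain ⟨U', hU'o, hU'b⟩ :=
    (IsLinearTopology.hasBasis_open_submodule R (M := M)).exists_antitone_subbasis
  set ι : M →+ Completion M := Completion.toCompl with hι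
  set ι' : (M ⧸ N.toAddSubgroup) →+ Completion (M ⧸ N.toAddSubgroup) := Completion.toCompl with hι'
  set U : ℕ → AddSubgroup (Completion M) :=
    fun n => ((U' n).toAddSubgroup.map ι).topologicalClosure with hU
  have hUcoe : ∀ n, (U n : Set (Completion M)) = closure (ι '' (U' n : Set M)) := by
    intro n
    simp [hU, AddSubgroup.topologicalClosure_coe, AddSubgroup.coe_map]
  have hUo : ∀ n, IsOpen (U n : Set (Completion M)) := by
    intro n
    apply AddSubgroup.isOpen_of_mem_nhds (g := 0)
    rw [hUcoe]
    have := (Completion.isDenseInducing_toCompl M).closure_image_mem_nhds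
      ((hU'o n).mem_nhds (U' n).zero_mem)
    rwa [map_zero] at this
  have hUanti : Antitone U := by
    intro i j hij
    refine AddSubgroup.topologicalClosure_mono (AddSubgroup.map_mono ?_)
    intro x hx
    exact hU'b.antitone hij hx
  have hUb : ∀ W ∈ 𝓝 (0 : Completion M), ∃ n, (U n : Set (Completion M)) ⊆ W := by
    intro W hW
    obtain ⟨C, ⟨hC, hCc⟩, hCW⟩ := (closed_nhds_basis (0 : Completion M)).mem_iff.mp hW
    have hpre : ι ⁻¹' C ∈ 𝓝 (0 : M) :=
      (Completion.continuous_toCompl).continuousAt.preimage_mem_nhds (by rw [map_zero]; exact hC)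
    obtain ⟨n, -, hn⟩ := hU'b.toHasBasis.mem_iff.mp hpre
    refine ⟨n, subset_trans ?_ hCW⟩
    rw [hUcoe]
    refine closure_minimal ?_ hCc
    rintro _ ⟨u, hu, rfl⟩
    exact hn hu
  have hVeq : ∀ n, closure (ψ '' (U n : Set (Completion M))) =
      closure (ι' '' (π '' (U' n : Set M))) := by
    intro n
    rw [hUcoe, closure_image_closure hψc]
    congr 1
    ext y
    constructor
    · rintro ⟨_, ⟨u, hu, rfl⟩, rfl⟩
      exact ⟨π u, ⟨u, hu, rfl⟩, (hψcoe u).symm⟩
    · rintro ⟨_, ⟨u, hu, rfl⟩, rfl⟩
      exact ⟨ι u, ⟨u, hu, rfl⟩, hψcoe u⟩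
  have hVo : ∀ n, IsOpen (closure (ψ '' (U n : Set (Completion M)))) := by
    intro n
    have h1 : closure (ψ '' (U n : Set (Completion M))) =
        ((((U' n).toAddSubgroup.map π).map ι').topologicalClosure : Set _) := by
      rw [hVeq]
      simp [AddSubgroup.topologicalClosure_coe, AddSubgroup.coe_map]
    rw [h1]
    apply AddSubgroup.isOpen_of_mem_nhds (g := 0)
    rw [← h1, hVeq]
    have hmem : π '' (U' n : Set M) ∈ 𝓝 (0 : M ⧸ N.toAddSubgroup) := by
      have := hπo.image_mem_nhds ((hU'o n).mem_nhds (U' n).zero_mem)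
      rwa [map_zero] at this
    have := (Completion.isDenseInducing_toCompl (M ⧸ N.toAddSubgroup)).closure_image_mem_nhds hmem
    rwa [map_zero] at this
  have hVb : ∀ W ∈ 𝓝 (0 : Completion (M ⧸ N.toAddSubgroup)), ∃ n,
      closure (ψ '' (U n : Set (Completion M))) ⊆ W := by
    intro W hW
    obtain ⟨C, ⟨hC, hCc⟩, hCW⟩ :=
      (closed_nhds_basis (0 : Completion (M ⧸ N.toAddSubgroup))).mem_iff.mp hW
    have hpre : (fun m => ι' (π m)) ⁻¹' C ∈ 𝓝 (0 : M) := by
      have hcont : Continuous fun m => ι' (π m) := (Completion.continuous_toCompl).comp hπc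
      exact hcont.continuousAt.preimage_mem_nhds (by simp only [map_zero]; exact hC)
    obtain ⟨n, -, hn⟩ := hU'b.toHasBasis.mem_iff.mp hpre
    refine ⟨n, subset_trans ?_ hCW⟩
    rw [hVeq]
    refine closure_minimal ?_ hCc
    rintro _ ⟨_, ⟨u, hu, rfl⟩, rfl⟩
    exact hn hu
  have hd : DenseRange ψ := by
    have h1 : DenseRange (ι' ∘ π) :=
      (Completion.denseRange_coe (α := M ⧸ N.toAddSubgroup)).comp
        (QuotientAddGroup.mk'_surjective _).denseRange (Completion.continuous_coe _)
    refine h1.mono ?_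
    rintro _ ⟨m, rfl⟩
    exact ⟨ι m, hψcoe m⟩
  rw [← hψfun]
  exact ⟨surjective_of_approx ψ hd U hUo hUanti hUb hVo hVb,
    isOpenMap_of_approx ψ U hUo hUanti hUb hVo hVb⟩

end QuotCompl2

section AdicCompl
universe u v

variable {R : Type u} [CommRing R] {M : Type v} [AddCommGroup M] [Module R M] [UniformSpace M]
  [IsUniformAddGroup M] [UniformContinuousConstSMul R M]

/-- the linear map to the completion -/
noncomputable def toComplₗ (R : Type u) [CommRing R] (M : Type v) [AddCommGroup M] [Module R M]
    [UniformSpace M] [IsUniformAddGroup M] [UniformContinuousConstSMul R M] :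
    M →ₗ[R] Completion M :=
  { (Completion.toCompl : M →+ Completion M) with
    map_smul' := fun a m => Completion.coe_smul a m }

theorem toComplₗ_apply (m : M) : toComplₗ R M m = (m : Completion M) := rfl

variable (I : Ideal R) (M' : Submodule R M)

/-- closure of the image of `I^k M'` in the completion -/
noncomputable def Cc (k : ℕ) : Submodule R (Completion M) :=
  ((I ^ k • M').map (toComplₗ R M)).topologicalClosure

theorem Cc_coe (k : ℕ) : (Cc I M' k : Set (Completion M)) =
    closure (((↑) : M → Completion M) '' ((I ^ k • M' : Submodule R M) : Set M)) := by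
  simp only [Cc, Submodule.topologicalClosure_coe, Submodule.map_coe]
  rfl

theorem Cc_isClosed (k : ℕ) : IsClosed (Cc I M' k : Set (Completion M)) :=
  Submodule.isClosed_topologicalClosure _

theorem Cc_mem_nhds (hopen : ∀ n : ℕ, IsOpen ((I ^ n • M' : Submodule R M) : Set M)) (k : ℕ) :
    (Cc I M' k : Set (Completion M)) ∈ 𝓝 (0 : Completion M) := by
  rw [Cc_coe]
  have := (Completion.isDenseInducing_coe (α := M)).closure_image_mem_nhds
    ((hopen k).mem_nhds (I ^ k • M').zero_mem)
  rwa [Completion.coe_zero] at this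

theorem Cc_isOpen (hopen : ∀ n : ℕ, IsOpen ((I ^ n • M' : Submodule R M) : Set M)) (k : ℕ) :
    IsOpen (Cc I M' k : Set (Completion M)) :=
  AddSubgroup.isOpen_of_mem_nhds (Cc I M' k).toAddSubgroup (g := 0) (Cc_mem_nhds I M' hopen k)

theorem pow_smul_antitone : Antitone fun k => (I ^ k • M' : Submodule R M) := by
  intro i j hij
  exact Submodule.smul_mono_left (Ideal.pow_le_pow_right hij)

theorem Cc_antitone : Antitone (Cc I M') := by
  intro i j hij
  exact Submodule.topologicalClosure_mono (Submodule.map_mono (pow_smul_antitone I M' hij))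

theorem Cc_basis (hbasis : ∀ U ∈ nhds (0 : M), ∃ n : ℕ, ((I ^ n • M' : Submodule R M) : Set M) ⊆ U)
    (W : Set (Completion M)) (hW : W ∈ 𝓝 (0 : Completion M)) :
    ∃ k, (Cc I M' k : Set (Completion M)) ⊆ W := by
  obtain ⟨C, ⟨hC, hCc⟩, hCW⟩ := (closed_nhds_basis (0 : Completion M)).mem_iff.mp hW
  have hpre : ((↑) : M → Completion M) ⁻¹' C ∈ 𝓝 (0 : M) :=
    (Completion.continuous_coe M).continuousAt.preimage_mem_nhds
      (by rw [Completion.coe_zero]; exact hC)
  obtain ⟨k, hk⟩ := hbasis _ hpre
  refine ⟨k, subset_trans ?_ hCW⟩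
  rw [Cc_coe]
  refine closure_minimal ?_ hCc
  rintro _ ⟨u, hu, rfl⟩
  exact hk hu

theorem smul_mem_Cc {n k : ℕ} {a : R} (ha : a ∈ I ^ n) {x : Completion M} (hx : x ∈ Cc I M' k) :
    a • x ∈ Cc I M' (n + k) := by
  have hx' : x ∈ closure (((↑) : M → Completion M) '' ((I ^ k • M' : Submodule R M) : Set M)) := by
    rw [← Cc_coe]; exact hx
  have hc : Continuous fun x : Completion M => a • x := continuous_const_smul a
  have := map_mem_closure (f := fun x : Completion M => a • x) hc hx'
    (t := ((↑) : M → Completion M) '' ((I ^ (n + k) • M' : Submodule R M) : Set M)) ?_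
  · rw [← Cc_coe] at this; exact this
  · rintro _ ⟨y, hy, rfl⟩
    refine ⟨a • y, ?_, Completion.coe_smul a y⟩
    change a • y ∈ I ^ (n + k) • M'
    rw [pow_add, mul_smul]
    exact Submodule.smul_mem_smul ha hy

theorem smul_Cc_le (n k : ℕ) : I ^ n • Cc I M' k ≤ Cc I M' (n + k) :=
  Submodule.smul_le.mpr fun _ ha _ hx => smul_mem_Cc I M' ha hx

/-- neighbourhoods of `0` in a finite power contain a box of `Cc k`'s. -/
theorem exists_pi_Cc_subset
    (hbasis : ∀ U ∈ nhds (0 : M), ∃ n : ℕ, ((I ^ n • M' : Submodule R M) : Set M) ⊆ U)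
    (r : ℕ) (W : Set (Fin r → Completion M)) (hW : W ∈ 𝓝 (0 : Fin r → Completion M)) :
    ∃ k, Set.pi Set.univ (fun _ : Fin r => (Cc I M' k : Set (Completion M))) ⊆ W := by
  rw [nhds_pi, Filter.mem_pi] at hW
  obtain ⟨J, -, t, ht, hJt⟩ := hW
  have : ∀ i : Fin r, ∃ k, (Cc I M' k : Set (Completion M)) ⊆ t i :=
    fun i => Cc_basis I M' hbasis (t i) (ht i)
  choose kf hkf using this
  refine ⟨Finset.univ.sup kf, subset_trans ?_ hJt⟩
  intro w hw i _
  apply hkf i
  exact Cc_antitone I M' (Finset.le_sup (Finset.mem_univ i)) (hw i (Set.mem_univ i))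

theorem Cc_le_smul (hI : I.FG)
    (hopen : ∀ n : ℕ, IsOpen ((I ^ n • M' : Submodule R M) : Set M))
    (hbasis : ∀ U ∈ nhds (0 : M), ∃ n : ℕ, ((I ^ n • M' : Submodule R M) : Set M) ⊆ U)
    (n : ℕ) : Cc I M' n ≤ I ^ n • Cc I M' 0 := by
  classical
  obtain ⟨r, g, hg⟩ := Submodule.fg_iff_exists_fin_generating_family.mp (hI.pow (n := n))
  have hgmem : ∀ i, g i ∈ I ^ n := fun i => by
    rw [← hg]; exact Submodule.subset_span ⟨i, rfl⟩
  -- the additive map `w ↦ ∑ g i • w i`
  let ψ : (Fin r → Completion M) →+ Completion M :=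
    { toFun := fun w => ∑ i, g i • w i
      map_zero' := by simp
      map_add' := fun w w' => by simp [smul_add, Finset.sum_add_distrib] }
  have hψ : ∀ w, ψ w = ∑ i, g i • w i := fun w => rfl
  let U : ℕ → AddSubgroup (Fin r → Completion M) :=
    fun k => AddSubgroup.pi Set.univ (fun _ => (Cc I M' k).toAddSubgroup)
  have hUcoe : ∀ k, (U k : Set (Fin r → Completion M)) =
      Set.pi Set.univ (fun _ : Fin r => (Cc I M' k : Set (Completion M))) := fun k => rfl
  have hUo : ∀ k, IsOpen (U k : Set (Fin r → Completion M)) := by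
    intro k
    rw [hUcoe]
    exact isOpen_set_pi Set.finite_univ (fun _ _ => Cc_isOpen I M' hopen k)
  have hUanti : Antitone U := by
    intro i j hij w hw a ha
    exact Cc_antitone I M' hij (hw a ha)
  have hUb : ∀ W ∈ 𝓝 (0 : Fin r → Completion M), ∃ k, (U k : Set _) ⊆ W := by
    intro W hW
    obtain ⟨k, hk⟩ := exists_pi_Cc_subset I M' hbasis r W hW
    exact ⟨k, by rw [hUcoe]; exact hk⟩
  -- closure of the image of `U k` is `Cc (n+k)`
  have hVeq : ∀ k, closure (ψ '' (U k : Set _)) = (Cc I M' (n + k) : Set (Completion M)) := by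
    intro k
    apply subset_antisymm
    · refine closure_minimal ?_ (Cc_isClosed I M' (n + k))
      rintro _ ⟨w, hw, rfl⟩
      rw [hψ]
      refine Submodule.sum_mem _ fun i _ => ?_
      exact smul_mem_Cc I M' (hgmem i) (hw i (Set.mem_univ i))
    · rw [Cc_coe]
      refine closure_mono ?_
      rintro _ ⟨y, hy, rfl⟩
      -- `y ∈ I^(n+k) M' = I^n • (I^k M')`
      have hy' : y ∈ I ^ n • (I ^ k • M') := by
        rw [← mul_smul, ← pow_add]; exact hy
      have key : ∀ y ∈ I ^ n • (I ^ k • M'), ∃ z : Fin r → M, (∀ i, z i ∈ I ^ k • M') ∧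
          y = ∑ i, g i • z i := by
        intro y hy
        refine Submodule.smul_induction_on hy ?_ ?_
        · intro a ha z hz
          rw [← hg] at ha
          obtain ⟨c, rfl⟩ := (Submodule.mem_span_range_iff_exists_fun R).mp ha
          refine ⟨fun i => c i • z, fun i => Submodule.smul_mem _ _ hz, ?_⟩
          rw [Finset.sum_smul]
          refine Finset.sum_congr rfl fun i _ => ?_
          rw [smul_eq_mul, mul_comm, mul_smul]
        · rintro y₁ y₂ ⟨z₁, hz₁, rfl⟩ ⟨z₂, hz₂, rfl⟩
          refine ⟨fun i => z₁ i + z₂ i, fun i => Submodule.add_mem _ (hz₁ i) (hz₂ i), ?_⟩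
          simp [smul_add, Finset.sum_add_distrib]
      obtain ⟨z, hz, rfl⟩ := key y hy'
      refine ⟨fun i => ((z i : M) : Completion M), ?_, ?_⟩
      · intro i _
        change ((z i : M) : Completion M) ∈ Cc I M' k
        have : ((z i : M) : Completion M) ∈ (Cc I M' k : Set (Completion M)) := by
          rw [Cc_coe]; exact subset_closure ⟨z i, hz i, rfl⟩
        exact this
      · rw [hψ]
        have : (((∑ i, g i • z i : M)) : Completion M) = toComplₗ R M (∑ i, g i • z i) := rfl
        rw [this, map_sum]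
        refine Finset.sum_congr rfl fun i _ => ?_
        rw [map_smul]; rfl
  have hVo : ∀ k, IsOpen (closure (ψ '' (U k : Set _))) := by
    intro k; rw [hVeq]; exact Cc_isOpen I M' hopen _
  have hVb : ∀ W ∈ 𝓝 (0 : Completion M), ∃ k, closure (ψ '' (U k : Set _)) ⊆ W := by
    intro W hW
    obtain ⟨k, hk⟩ := Cc_basis I M' hbasis W hW
    refine ⟨k, ?_⟩
    rw [hVeq]
    exact subset_trans (Cc_antitone I M' (Nat.le_add_left k n)) hk
  have main := image_eq_closure_image ψ U hUo hUanti hUb hVo hVb 0
  rw [hVeq 0] at main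
  intro x hx
  have hx' : x ∈ ψ '' (U 0 : Set _) := by rw [main]; exact hx
  obtain ⟨w, hw, rfl⟩ := hx'
  rw [hψ]
  refine Submodule.sum_mem _ fun i _ => ?_
  exact Submodule.smul_mem_smul (hgmem i) (hw i (Set.mem_univ i))

theorem smul_Cc_zero_eq (hI : I.FG)
    (hopen : ∀ n : ℕ, IsOpen ((I ^ n • M' : Submodule R M) : Set M))
    (hbasis : ∀ U ∈ nhds (0 : M), ∃ n : ℕ, ((I ^ n • M' : Submodule R M) : Set M) ⊆ U)
    (n : ℕ) : I ^ n • Cc I M' 0 = Cc I M' n :=
  le_antisymm (by simpa using smul_Cc_le I M' n 0) (Cc_le_smul I M' hI hopen hbasis n)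

theorem adic_completion_main (hI : I.FG)
    (hopen : ∀ n : ℕ, IsOpen ((I ^ n • M' : Submodule R M) : Set M))
    (hbasis : ∀ U ∈ nhds (0 : M), ∃ n : ℕ, ((I ^ n • M' : Submodule R M) : Set M) ⊆ U) :
    (∃ M'' : Submodule R (UniformSpace.Completion M),
        (∀ n : ℕ, IsOpen ((I ^ n • M'' : Submodule R (UniformSpace.Completion M)) :
          Set (UniformSpace.Completion M))) ∧
        ∀ U ∈ nhds (0 : UniformSpace.Completion M), ∃ n : ℕ,
          ((I ^ n • M'' : Submodule R (UniformSpace.Completion M)) :
            Set (UniformSpace.Completion M)) ⊆ U) ∧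
      ∀ n : ℕ, 0 < n →
        Function.Surjective ((QuotientAddGroup.mk' (I ^ n • ⊤ : Submodule R (UniformSpace.Completion M)).toAddSubgroup).comp
          (UniformSpace.Completion.toCompl : M →+ UniformSpace.Completion M)) ∧
        ((QuotientAddGroup.mk' (I ^ n • ⊤ : Submodule R (UniformSpace.Completion M)).toAddSubgroup).comp
          (UniformSpace.Completion.toCompl : M →+ UniformSpace.Completion M)).ker = (I ^ n • ⊤ : Submodule R M).toAddSubgroup := by
  have hEq := smul_Cc_zero_eq I M' hI hopen hbasis
  refine ⟨⟨Cc I M' 0, fun n => ?_, fun W hW => ?_⟩, fun n _ => ⟨?_, ?_⟩⟩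
  · rw [hEq]; exact Cc_isOpen I M' hopen n
  · obtain ⟨k, hk⟩ := Cc_basis I M' hbasis W hW
    exact ⟨k, by rw [hEq]; exact hk⟩
  · -- surjectivity
    intro q
    obtain ⟨x, rfl⟩ := QuotientAddGroup.mk'_surjective _ q
    have hnb : {y : Completion M | y - x ∈ Cc I M' n} ∈ 𝓝 x := by
      have hc : Continuous fun v : Completion M => v - x := continuous_id.sub continuous_const
      exact hc.continuousAt.preimage_mem_nhds (by simpa using Cc_mem_nhds I M' hopen n)
    obtain ⟨m, hm⟩ := (Completion.denseRange_coe (α := M)).mem_nhds hnb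
    refine ⟨m, ?_⟩
    rw [AddMonoidHom.comp_apply, QuotientAddGroup.mk'_apply, QuotientAddGroup.mk'_apply,
      QuotientAddGroup.eq]
    have h1 : (m : Completion M) - x ∈ Cc I M' n := hm
    have h2 : Cc I M' n ≤ I ^ n • ⊤ := by
      rw [← hEq]; exact Submodule.smul_mono le_rfl le_top
    have h3 : -(Completion.toCompl m) + x = -((m : Completion M) - x) := by
      change -(m : Completion M) + x = _
      abel
    rw [h3]
    exact (I ^ n • ⊤ : Submodule R (Completion M)).neg_mem (h2 h1)
  · -- kernel
    ext m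
    rw [AddMonoidHom.mem_ker, AddMonoidHom.comp_apply, QuotientAddGroup.mk'_apply,
      QuotientAddGroup.eq_zero_iff]
    change (m : Completion M) ∈ (I ^ n • ⊤ : Submodule R (Completion M)) ↔
      m ∈ (I ^ n • ⊤ : Submodule R M)
    constructor
    · intro hm
      -- `I^n M^ ≤ ι(I^n M) + C n`
      have hle : (I ^ n • ⊤ : Submodule R (Completion M)) ≤
          (I ^ n • ⊤ : Submodule R M).map (toComplₗ R M) ⊔ Cc I M' n := by
        refine Submodule.smul_le.mpr fun a ha x _ => ?_
        have hnb : {y : Completion M | x - y ∈ Cc I M' 0} ∈ 𝓝 x := by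
          have hc : Continuous fun v : Completion M => x - v := continuous_const.sub continuous_id
          exact hc.continuousAt.preimage_mem_nhds (by simpa using Cc_mem_nhds I M' hopen 0)
        obtain ⟨m', hm'⟩ := (Completion.denseRange_coe (α := M)).mem_nhds hnb
        have hm'' : x - (m' : Completion M) ∈ Cc I M' 0 := hm'
        have hx : a • x = toComplₗ R M (a • m') + a • (x - (m' : Completion M)) := by
          rw [map_smul, toComplₗ_apply, smul_sub]; abel
        rw [hx]
        refine Submodule.add_mem_sup (Submodule.mem_map_of_mem ?_) ?_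
        · exact Submodule.smul_mem_smul ha Submodule.mem_top
        · simpa using smul_mem_Cc I M' ha hm''
      obtain ⟨y, ⟨m0, hm0, rfl⟩, c, hc, hyc⟩ := Submodule.mem_sup.mp (hle hm)
      have hc' : ((m - m0 : M) : Completion M) ∈ (Cc I M' n : Set (Completion M)) := by
        have : ((m - m0 : M) : Completion M) = c := by
          rw [Completion.coe_sub, ← hyc, toComplₗ_apply]; abel
        rw [this]; exact hc
      rw [Cc_coe] at hc'
      have h4 : m - m0 ∈ closure ((I ^ n • M' : Submodule R M) : Set M) := by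
        rw [(Completion.isDenseInducing_coe (α := M)).isInducing.closure_eq_preimage_closure_image]
        exact hc'
      have hclosed : IsClosed ((I ^ n • M' : Submodule R M) : Set M) :=
        AddSubgroup.isClosed_of_isOpen (I ^ n • M' : Submodule R M).toAddSubgroup (hopen n)
      rw [hclosed.closure_eq] at h4
      have h5 : m - m0 ∈ (I ^ n • ⊤ : Submodule R M) :=
        Submodule.smul_mono le_rfl le_top h4
      have : m = m0 + (m - m0) := by abel
      rw [this]
      exact Submodule.add_mem _ hm0 h5
    · intro hm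
      have h1 : toComplₗ R M m ∈ (I ^ n • ⊤ : Submodule R M).map (toComplₗ R M) :=
        Submodule.mem_map_of_mem hm
      rw [Submodule.map_smul''] at h1
      exact Submodule.smul_mono le_rfl le_top h1

end AdicCompl

section GenApprox
universe u v

variable {R : Type u} [CommRing R] {T : Type v} [AddCommGroup T] [Module R T] [UniformSpace T]
  [IsUniformAddGroup T] [ContinuousConstSMul R T] [CompleteSpace T] [T2Space T]

/-- General successive approximation for finitely generated ideals: if `D k` are submodules with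
`I^n • D k = D (n+k)` whose closures are open and form a basis of neighbourhoods of `0` in the
complete Hausdorff module `T`, then `closure (D n) = I^n • closure (D 0)`. -/
theorem topologicalClosure_eq_pow_smul (I : Ideal R) (hI : I.FG) (D : ℕ → Submodule R T)
    (hD : ∀ n k, I ^ n • D k = D (n + k))
    (hopen : ∀ k, IsOpen ((D k).topologicalClosure : Set T))
    (hbasis : ∀ W ∈ 𝓝 (0 : T), ∃ k, ((D k).topologicalClosure : Set T) ⊆ W) (n : ℕ) :
    (D n).topologicalClosure = I ^ n • (D 0).topologicalClosure := by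
  classical
  set C : ℕ → Submodule R T := fun k => (D k).topologicalClosure with hC
  have hDanti : Antitone D := by
    intro i j hij
    obtain ⟨d, rfl⟩ := Nat.exists_eq_add_of_le hij
    rw [add_comm, ← hD]
    exact Submodule.smul_le_right
  have hCanti : Antitone C := fun i j hij => Submodule.topologicalClosure_mono (hDanti hij)
  have hCc : ∀ k, IsClosed (C k : Set T) := fun k => Submodule.isClosed_topologicalClosure _
  have hsmul : ∀ {n k : ℕ} {a : R}, a ∈ I ^ n → ∀ {x : T}, x ∈ C k → a • x ∈ C (n + k) := by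
    intro n k a ha x hx
    have hc : Continuous fun x : T => a • x := continuous_const_smul a
    have := map_mem_closure (f := fun x : T => a • x) hc hx (t := (D (n + k) : Set T)) ?_
    · exact this
    · intro y hy
      change a • y ∈ D (n + k)
      rw [← hD]
      exact Submodule.smul_mem_smul ha hy
  apply le_antisymm
  · obtain ⟨r, g, hg⟩ := Submodule.fg_iff_exists_fin_generating_family.mp (hI.pow (n := n))
    have hgmem : ∀ i, g i ∈ I ^ n := fun i => by
      rw [← hg]; exact Submodule.subset_span ⟨i, rfl⟩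
    let ψ : (Fin r → T) →+ T :=
      { toFun := fun w => ∑ i, g i • w i
        map_zero' := by simp
        map_add' := fun w w' => by simp [smul_add, Finset.sum_add_distrib] }
    have hψ : ∀ w, ψ w = ∑ i, g i • w i := fun w => rfl
    let U : ℕ → AddSubgroup (Fin r → T) :=
      fun k => AddSubgroup.pi Set.univ (fun _ => (C k).toAddSubgroup)
    have hUcoe : ∀ k, (U k : Set (Fin r → T)) =
        Set.pi Set.univ (fun _ : Fin r => (C k : Set T)) := fun k => rfl
    have hUo : ∀ k, IsOpen (U k : Set (Fin r → T)) := by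
      intro k
      rw [hUcoe]
      exact isOpen_set_pi Set.finite_univ (fun _ _ => hopen k)
    have hUanti : Antitone U := by
      intro i j hij w hw a ha
      exact hCanti hij (hw a ha)
    have hUb : ∀ W ∈ 𝓝 (0 : Fin r → T), ∃ k, (U k : Set _) ⊆ W := by
      intro W hW
      rw [nhds_pi, Filter.mem_pi] at hW
      obtain ⟨J, -, t, ht, hJt⟩ := hW
      have : ∀ i : Fin r, ∃ k, (C k : Set T) ⊆ t i := fun i => hbasis (t i) (ht i)
      choose kf hkf using this
      refine ⟨Finset.univ.sup kf, subset_trans ?_ hJt⟩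
      intro w hw i _
      apply hkf i
      exact hCanti (Finset.le_sup (Finset.mem_univ i)) (hw i (Set.mem_univ i))
    have hVeq : ∀ k, closure (ψ '' (U k : Set _)) = (C (n + k) : Set T) := by
      intro k
      apply subset_antisymm
      · refine closure_minimal ?_ (hCc (n + k))
        rintro _ ⟨w, hw, rfl⟩
        rw [hψ]
        refine Submodule.sum_mem _ fun i _ => ?_
        exact hsmul (hgmem i) (hw i (Set.mem_univ i))
      · change closure (D (n + k) : Set T) ⊆ _
        refine closure_mono ?_
        intro y hy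
        have hy' : y ∈ I ^ n • D k := by rw [hD]; exact hy
        have key : ∀ y ∈ I ^ n • D k, ∃ z : Fin r → T, (∀ i, z i ∈ D k) ∧
            y = ∑ i, g i • z i := by
          intro y hy
          refine Submodule.smul_induction_on hy ?_ ?_
          · intro a ha z hz
            rw [← hg] at ha
            obtain ⟨c, rfl⟩ := (Submodule.mem_span_range_iff_exists_fun R).mp ha
            refine ⟨fun i => c i • z, fun i => Submodule.smul_mem _ _ hz, ?_⟩
            rw [Finset.sum_smul]
            refine Finset.sum_congr rfl fun i _ => ?_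
            rw [smul_eq_mul, mul_comm, mul_smul]
          · rintro y₁ y₂ ⟨z₁, hz₁, rfl⟩ ⟨z₂, hz₂, rfl⟩
            refine ⟨fun i => z₁ i + z₂ i, fun i => Submodule.add_mem _ (hz₁ i) (hz₂ i), ?_⟩
            simp [smul_add, Finset.sum_add_distrib]
        obtain ⟨z, hz, rfl⟩ := key y hy'
        refine ⟨z, ?_, (hψ z)⟩
        intro i _
        exact Submodule.le_topologicalClosure _ (hz i)
    have hVo : ∀ k, IsOpen (closure (ψ '' (U k : Set _))) := by
      intro k; rw [hVeq]; exact hopen _
    have hVb : ∀ W ∈ 𝓝 (0 : T), ∃ k, closure (ψ '' (U k : Set _)) ⊆ W := by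
      intro W hW
      obtain ⟨k, hk⟩ := hbasis W hW
      refine ⟨k, ?_⟩
      rw [hVeq]
      exact subset_trans (hCanti (Nat.le_add_left k n)) hk
    have main := image_eq_closure_image ψ U hUo hUanti hUb hVo hVb 0
    rw [hVeq 0] at main
    intro x hx
    have hx' : x ∈ ψ '' (U 0 : Set _) := by rw [main]; exact hx
    obtain ⟨w, hw, rfl⟩ := hx'
    rw [hψ]
    refine Submodule.sum_mem _ fun i _ => ?_
    exact Submodule.smul_mem_smul (hgmem i) (hw i (Set.mem_univ i))
  · refine Submodule.smul_le.mpr fun a ha x hx => ?_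
    simpa using hsmul ha hx

end GenApprox

end Groth.Agent.Helper1.OpenMapL
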