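import Mathlib
import Groth.Prelude.Def_CohB1

universe u

open AlgebraicGeometry CategoryTheory

namespace Groth.Agent.Helper1.P1NotAffine

variable (k : Type u) [Field k]

lemma algebraMap_surjective :
    Function.Surjective (algebraMap k (CohB1.polyGrading 1 k 0)) := by
  rintro ⟨p, hp⟩
  have hp' : p.IsHomogeneous 0 := (MvPolynomial.mem_homogeneousSubmodule _ _).mp hp
  have h0 : p.totalDegree = 0 := (MvPolynomial.totalDegree_zero_iff_isHomogeneous _).mpr hp'
  refine ⟨p.coeff 0, Subtype.ext ?_⟩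
  exact ((MvPolynomial.totalDegree_eq_zero_iff_eq_C).mp h0).symm

instance : IsArtinianRing (CohB1.polyGrading 1 k 0) :=
  (algebraMap_surjective k).isArtinianRing

instance : IsScalarTower k (CohB1.polyGrading 1 k 0) (MvPolynomial (Fin (1 + 1)) k) := by
  exact IsScalarTower.of_algebraMap_eq (R := k) (S := CohB1.polyGrading 1 k 0)
    (A := MvPolynomial (Fin (1 + 1)) k) (fun x => rfl)

instance : Algebra.FiniteType (CohB1.polyGrading 1 k 0) (MvPolynomial (Fin (1 + 1)) k) :=
  Algebra.FiniteType.of_restrictScalars_finiteType k _ _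

theorem not_isAffine : ¬ IsAffine (CohB1.ProjSpace 1 k) := by
  intro hA
  have hA' : IsAffine (Proj (CohB1.polyGrading 1 k)) := hA
  have hfin : IsFinite (Proj.toSpecZero (CohB1.polyGrading 1 k)) :=
    (IsFinite.iff_isProper_and_isAffineHom).mpr ⟨inferInstance, inferInstance⟩
  have h1 : ((Proj.toSpecZero (CohB1.polyGrading 1 k)).appTop).hom.Finite :=
    IsFinite.finite_app _ ⊤ (isAffineOpen_top _)
  -- Γ(Spec 𝒜₀, ⊤) is artinian
  have hart0 : IsArtinianRing Γ(Spec (CommRingCat.of (CohB1.polyGrading 1 k 0)), ⊤) :=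
    (Scheme.ΓSpecIso (CommRingCat.of (CohB1.polyGrading 1 k 0))).symm.commRingCatIsoToRingEquiv.surjective.isArtinianRing
  have hart : IsArtinianRing Γ(Proj (CohB1.polyGrading 1 k), ⊤) := by
    algebraize [((Proj.toSpecZero (CohB1.polyGrading 1 k)).appTop).hom]
    exact IsArtinianRing.of_finite Γ(Spec (CommRingCat.of (CohB1.polyGrading 1 k 0)), ⊤) _
  have hdisc : DiscreteTopology (Spec Γ(Proj (CohB1.polyGrading 1 k), ⊤)) :=
    inferInstanceAs (DiscreteTopology (PrimeSpectrum _))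
  have ht1 : T1Space (Proj (CohB1.polyGrading 1 k)) :=
    (Scheme.homeoOfIso (Scheme.isoSpec (Proj (CohB1.polyGrading 1 k)))).symm.t1Space
  -- two points
  have hX0 : (Ideal.span {(MvPolynomial.X 0 : MvPolynomial (Fin (1 + 1)) k)}).IsPrime := by
    rw [Ideal.span_singleton_prime (MvPolynomial.X_ne_zero 0)]
    exact MvPolynomial.X_prime
  have hX0h : (Ideal.span {(MvPolynomial.X 0 : MvPolynomial (Fin (1 + 1)) k)}).IsHomogeneous
      (CohB1.polyGrading 1 k) := by
    apply Ideal.homogeneous_span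
    rintro _ rfl
    exact ⟨1, MvPolynomial.isHomogeneous_X k 0⟩
  have hbot : (⊥ : Ideal (MvPolynomial (Fin (1 + 1)) k)).IsHomogeneous
      (CohB1.polyGrading 1 k) := Ideal.IsHomogeneous.bot _
  have hX1mem : (MvPolynomial.X 1 : MvPolynomial (Fin (1 + 1)) k) ∈
      HomogeneousIdeal.irrelevant (CohB1.polyGrading 1 k) := by
    apply HomogeneousIdeal.mem_irrelevant_of_mem (i := 1) _ Nat.one_pos
    exact MvPolynomial.isHomogeneous_X k 1
  have hX1not : (MvPolynomial.X 1 : MvPolynomial (Fin (1 + 1)) k) ∉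
      Ideal.span {(MvPolynomial.X 0 : MvPolynomial (Fin (1 + 1)) k)} := by
    rw [Ideal.mem_span_singleton]
    rintro ⟨q, hq⟩
    have h2 := congrArg (MvPolynomial.eval (![0, 1] : Fin (1 + 1) → k)) hq
    simp at h2
  have hnx : ¬ (HomogeneousIdeal.irrelevant (CohB1.polyGrading 1 k)).toIdeal ≤
      (⊥ : Ideal (MvPolynomial (Fin (1 + 1)) k)) := by
    intro hle
    have h3 := hle hX1mem
    simp at h3
  have hny : ¬ (HomogeneousIdeal.irrelevant (CohB1.polyGrading 1 k)).toIdeal ≤
      Ideal.span {(MvPolynomial.X 0 : MvPolynomial (Fin (1 + 1)) k)} :=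
    fun hle => hX1not (hle hX1mem)
  let x : ProjectiveSpectrum (CohB1.polyGrading 1 k) :=
    ⟨⟨⊥, hbot⟩, Ideal.isPrime_bot, hnx⟩
  let y : ProjectiveSpectrum (CohB1.polyGrading 1 k) :=
    ⟨⟨_, hX0h⟩, hX0, hny⟩
  have hxy : x ≤ y := by
    rw [← ProjectiveSpectrum.as_ideal_le_as_ideal]
    intro a ha
    have : a = 0 := ha
    rw [this]
    exact zero_mem _
  have hcl : y ∈ closure {x} := (ProjectiveSpectrum.le_iff_mem_closure _ x y).mp hxy
  have hsp : @Specializes (Proj (CohB1.polyGrading 1 k)) _ x y :=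
    specializes_iff_mem_closure.mpr hcl
  have heq : x = y := hsp.eq
  have h4 : x.asHomogeneousIdeal.toIdeal = y.asHomogeneousIdeal.toIdeal := by rw [heq]
  have h5 : (MvPolynomial.X 0 : MvPolynomial (Fin (1 + 1)) k) ∈
      (⊥ : Ideal (MvPolynomial (Fin (1 + 1)) k)) := by
    have h6 : (MvPolynomial.X 0 : MvPolynomial (Fin (1 + 1)) k) ∈
      y.asHomogeneousIdeal.toIdeal := Ideal.subset_span rfl
    rw [← h4] at h6
    exact h6
  exact MvPolynomial.X_ne_zero 0 h5

end Groth.Agent.Helper1.P1NotAffine
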