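import Mathlib
import Groth.Prelude.Def_GrMod2
import Groth.Agent.Lib.Helper1.PF10

/-! `PF10.main` with the covering hypothesis instead of generation of the irrelevant ideal (helper1). -/

universe u
open AlgebraicGeometry CategoryTheory Limits TopologicalSpace HomogeneousLocalization Opposite
open DirectSum

namespace Groth.Agent.Helper1.PF10c
open Groth.Agent.Helper1.PF1 Groth.Agent.Helper1.PF2 Groth.Agent.Helper1.PF4
  Groth.Agent.Helper1.PF5 Groth.Agent.Helper1.PF9 Groth.Agent.Helper1.PF10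
  Groth.Agent.Helper1.TildeQC

variable {R A : Type u} [CommRing R] [CommRing A] [Algebra R A] (𝒜 : ℕ → Submodule R A)
  [GradedAlgebra 𝒜]

section Main
variable (s : Finset A) (F : (Proj 𝒜).Modules)
attribute [local instance] modΓ modGM modRGM

theorem main (hcov : ∀ x : ProjectiveSpectrum 𝒜, ∃ g : T 𝒜 s, g.1 ∉ x.asHomogeneousIdeal)
    (hF : SheafOfModules.IsQuasicoherent.{u, u, u} F)
    (hFT : SheafOfModules.IsFiniteType.{u, u, u} F) :
    ∃ (N : Type u) (_ : AddCommGroup N) (_ : Module R N) (_ : Module A N) (_ : IsScalarTower R A N)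
      (𝒩 : ℕ → Submodule R N) (_ : DirectSum.Decomposition 𝒩) (_ : SetLike.GradedSMul 𝒜 𝒩),
      Module.Finite A N ∧ Nonempty (GrTilde.tilde 𝒜 𝒩 0 ≅ F) := by
  classical
  -- finite generating families on the charts
  choose S hS using fun g : T 𝒜 s => finGen 𝒜 F g.1 g.deg one_pos hF hFT
  -- extend the generators to homogeneous elements of `Γ_*(F)`
  let ι : Type u := Σ g : T 𝒜 s, {t // t ∈ S g}
  have hext : ∀ i : ι, ∃ (n : ℕ) (m : Mn 𝒜 s F n), m.1 i.1 = i.2.1 := fun i =>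
    ext_M 𝒜 s F hF i.1 i.2.1
  choose deg m hm using hext
  let Q := Qgen 𝒜 s F deg (fun i => (m i).1)
  have hle : ∀ n, Q n ≤ Mn 𝒜 s F n := Qgen_le 𝒜 s F deg _ (fun i => (m i).2)
  have hsurj : ∀ (g : T 𝒜 s) (t : Γ(F, Proj.basicOpen 𝒜 g.1)), ∃ (n : ℕ) (y : P 𝒜 s F),
      y ∈ Q n ∧ y g = t := by
    intro g t
    refine hS g (fun t => ∃ (n : ℕ) (y : P 𝒜 s F), y ∈ Q n ∧ y g = t) ?_ ?_ ?_ ?_ t
    · intro t ht
      exact ⟨deg ⟨g, ⟨t, ht⟩⟩, (m ⟨g, ⟨t, ht⟩⟩).1, gen_mem 𝒜 s F deg _ _, hm ⟨g, ⟨t, ht⟩⟩⟩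
    · exact ⟨0, 0, zero_mem _, rfl⟩
    · rintro a b ⟨n, y, hy, rfl⟩ ⟨n', y', hy', rfl⟩
      refine ⟨n' + n, g.1 ^ n' • y + g.1 ^ n • y', add_mem ?_ ?_, ?_⟩
      · exact SetLike.GradedSMul.smul_mem (A := 𝒜) (B := Q) (pow_mem_deg 𝒜 g.deg n') hy
      · exact Qgen_cast (add_comm n n')
          (SetLike.GradedSMul.smul_mem (A := 𝒜) (B := Q) (pow_mem_deg 𝒜 g.deg n) hy')
      · rw [Pi.add_apply, P_smul_apply, P_smul_apply, pow_smul_P, pow_smul_P]
        simp only [c_self, one_pow, one_smul]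
    · rintro r a ⟨n, y, hy, rfl⟩
      obtain ⟨k, b, hb, rfl⟩ := HomogeneousLocalization.Away.mk_surjective 𝒜 g.deg r
      have hb' : b ∈ 𝒜 k := by simpa using hb
      refine ⟨k + n, b • y, SetLike.GradedSMul.smul_mem (A := 𝒜) (B := Q) hb' hy, ?_⟩
      rw [P_smul_apply, smul_of_mem 𝒜 s F g hb']
      rfl
  haveI : Finite ι := by
    haveI : Finite (T 𝒜 s) := finiteT 𝒜 s
    infer_instance
  refine ⟨GM Q, inferInstance, modRGM Q, modGM Q, towerGM Q, piece Q, decompGM Q,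
    gradedSMulGM Q, finite_GM 𝒜 s F deg _, ?_⟩
  haveI := towerGM Q
  haveI := decompGM Q
  exact PF7.nonempty_iso (dataGM Q hF hle hsurj) hF hcov

end Main

end Groth.Agent.Helper1.PF10c
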