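import Mathlib
import Groth.Prelude.Def_GrMod2
import Groth.Agent.Lib.Helper1.PF12
import Groth.Agent.Lib.Helper1.PF1

universe u
open AlgebraicGeometry CategoryTheory Limits TopologicalSpace HomogeneousLocalization Opposite
open DirectSum

namespace Groth.Agent.Helper1.PF13
open Groth.Agent.Helper1.PF1 Groth.Agent.Helper1.PF12

set_option synthInstance.maxHeartbeats 400000

variable {R A : Type u} [CommRing R] [CommRing A] [Algebra R A] (𝒜 : ℕ → Submodule R A)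
  [GradedAlgebra 𝒜]
variable {N : Type u} [AddCommGroup N] [Module R N] [Module A N] (𝒩 : ℕ → Submodule R N)
  [SetLike.GradedSMul 𝒜 𝒩]

/-- the restriction of the global section `z/1` of `N(n)~`, as a section over `V` -/
noncomputable def gres (n : ℕ) (z : 𝒩 n) (V : (Proj 𝒜).Opens) :
    Γ(GrTilde.tilde 𝒜 𝒩 (n : ℤ), V) :=
  (GrTilde.tilde 𝒜 𝒩 (n : ℤ)).presheaf.map (homOfLE (le_top : V ≤ ⊤)).op
    (show Γ(GrTilde.tilde 𝒜 𝒩 (n : ℤ), ⊤) from GrTilde.globalOf 𝒜 𝒩 z)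

theorem exists_sec_of_mem_closure (n j : ℕ) {k : ℕ} (z : Fin k → N) (hz : ∀ i, z i ∈ 𝒩 n)
    (V : (Proj 𝒜).Opens) (c : A) (hc : c ∈ 𝒜 j) (hVc : V ≤ Proj.basicOpen 𝒜 c) {w : N}
    (hw : w ∈ AddSubgroup.closure {x : N | ∃ b ∈ 𝒜 j, ∃ y ∈ Set.range z, x = b • y}) :
    ∃ t : Γ(GrTilde.tilde 𝒜 𝒩 (n : ℤ), V),
      t ∈ Submodule.span Γ(Proj 𝒜, V) (Set.range fun i => gres 𝒜 𝒩 n ⟨z i, hz i⟩ V) ∧
      ∀ (v : ProjectiveSpectrum 𝒜) (hv : v ∈ V),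
        ((((show GrTilde.sect 𝒜 𝒩 (n : ℤ) (op V) from t).1 ⟨v, hv⟩).1 :
          GrTilde.LocMod 𝒜 (M := N) v)) =
          LocalizedModule.mk w ⟨c, (Proj.mem_basicOpen 𝒜 c v).1 (hVc hv)⟩ := by
  induction hw using AddSubgroup.closure_induction with
  | mem x hx =>
    obtain ⟨b, hb, _, ⟨i, rfl⟩, rfl⟩ := hx
    have hb' : b ∈ 𝒜 (1 • j) := by simpa using hb
    refine ⟨ρ 𝒜 c hVc (Away.mk 𝒜 hc 1 b hb') • gres 𝒜 𝒩 n ⟨z i, hz i⟩ V, ?_, ?_⟩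
    · exact Submodule.smul_mem _ _ (Submodule.subset_span ⟨i, rfl⟩)
    · intro v hv
      refine (GrTilde.coe_smul_val (n : ℤ) v _ _).trans ?_
      show (Localization.mk b ⟨c ^ 1, _⟩ : Twist.Loc 𝒜 v) •
        (LocalizedModule.mk (z i) ⟨1, _⟩ : GrTilde.LocMod 𝒜 (M := N) v) = _
      rw [LocalizedModule.mk_smul_mk]
      congr 1
      exact Subtype.ext (by simp)
  | zero =>
    refine ⟨0, zero_mem _, fun v hv => ?_⟩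
    rw [LocalizedModule.zero_mk]
    rfl
  | add x y _ _ hx hy =>
    obtain ⟨t, ht, htv⟩ := hx
    obtain ⟨t', ht', htv'⟩ := hy
    refine ⟨t + t', add_mem ht ht', fun v hv => ?_⟩
    rw [← mk_add_same, ← htv v hv, ← htv' v hv]
    rfl
  | neg x _ hx =>
    obtain ⟨t, ht, htv⟩ := hx
    refine ⟨-t, neg_mem ht, fun v hv => ?_⟩
    rw [LocalizedModule.mk_neg, ← htv v hv]
    rfl

theorem span_free (n : ℕ) {k : ℕ} (z : Fin k → N) (hz : ∀ i, z i ∈ 𝒩 n)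
    (hgen : ∀ e : ℕ, n ≤ e → ∀ w ∈ 𝒩 e,
      w ∈ AddSubgroup.closure {x : N | ∃ b ∈ 𝒜 (e - n), ∃ y ∈ Set.range z, x = b • y})
    (U : (Proj 𝒜).Opens) (τ : Γ(GrTilde.tilde 𝒜 𝒩 (n : ℤ), U)) (x : ProjectiveSpectrum 𝒜)
    (hx : x ∈ U) :
    ∃ (V : (Proj 𝒜).Opens) (hVU : V ≤ U), x ∈ V ∧
      (GrTilde.tilde 𝒜 𝒩 (n : ℤ)).presheaf.map (homOfLE hVU).op τ ∈
        Submodule.span Γ(Proj 𝒜, V) (Set.range fun i =>
          (GrTilde.tilde 𝒜 𝒩 (n : ℤ)).presheaf.map (homOfLE (le_top : V ≤ ⊤)).op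
            (show Γ(GrTilde.tilde 𝒜 𝒩 (n : ℤ), ⊤) from GrTilde.globalOf 𝒜 𝒩 ⟨z i, hz i⟩)) := by
  obtain ⟨V₀, hxV₀, iV, i, j, m, c, nin, hij, hw⟩ :=
    (show GrTilde.sect 𝒜 𝒩 (n : ℤ) (op U) from τ).2 ⟨x, hx⟩
  obtain ⟨m', hm', hmm'⟩ : ∃ m' : N, m' ∈ 𝒩 (n + j) ∧ m' = m.1 := by
    rcases hij with hij | hij
    · have : i = n + j := by omega
      subst this
      exact ⟨m.1, m.2, rfl⟩
    · exact ⟨0, zero_mem _, hij.symm⟩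
  obtain ⟨W, hW⟩ : ∃ W : (Proj 𝒜).Opens, W = (show (Proj 𝒜).Opens from V₀) := ⟨_, rfl⟩
  have hWV : W ≤ V₀ := hW ▸ le_rfl
  have hWU : W ≤ U := hWV.trans iV.le
  have hxW : x ∈ W := hW ▸ hxV₀
  have hWc : W ≤ Proj.basicOpen 𝒜 c.1 := fun v hv =>
    (Proj.mem_basicOpen 𝒜 _ v).2 (nin ⟨v, hWV hv⟩)
  have hcl := hgen (n + j) (Nat.le_add_right n j) _ hm'
  rw [Nat.add_sub_cancel_left] at hcl
  obtain ⟨t, ht, htv⟩ := exists_sec_of_mem_closure 𝒜 𝒩 n j z hz W c.1 c.2 hWc hcl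
  refine ⟨W, hWU, hxW, ?_⟩
  have heq : (GrTilde.tilde 𝒜 𝒩 (n : ℤ)).presheaf.map (homOfLE hWU).op τ = t := by
    apply Subtype.ext
    funext v
    apply Subtype.ext
    refine Eq.trans ?_ (htv v.1 v.2).symm
    refine (hw ⟨v.1, hWV v.2⟩).trans ?_
    rw [← hmm']
  rw [heq]
  exact ht

variable (s : Finset A) (hs1 : ∀ f ∈ s, f ∈ 𝒜 1)
  (hs : (HomogeneousIdeal.irrelevant 𝒜).toIdeal = Ideal.span (s : Set A))

include hs1 hs in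
/-- `N(n)~` is a quotient of a finite free module for all large `n` -/
theorem epi_free [IsScalarTower R A N] [DirectSum.Decomposition 𝒩] [Module.Finite A N] :
    ∃ n₀ : ℕ, ∀ n : ℕ, n₀ ≤ n →
      ∃ (k : ℕ) (p : FlatMod.freeMod (Proj 𝒜) k ⟶ GrTilde.tilde 𝒜 𝒩 (n : ℤ)), Epi p := by
  obtain ⟨n₀, hn₀⟩ := PF11.exists_gens 𝒜 s 𝒩 hs1 hs
  refine ⟨n₀, fun n hn => ?_⟩
  obtain ⟨Z, hZfin, hZ, hgen⟩ := hn₀ n hn
  obtain ⟨k, zf, hzf⟩ := hZfin.fin_embedding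
  have hz : ∀ i, zf i ∈ 𝒩 n := fun i => hZ _ (hzf ▸ Set.mem_range_self i)
  obtain ⟨p, hp⟩ := ModTriv.exists_epi_of_locally_span (GrTilde.tilde 𝒜 𝒩 (n : ℤ))
    (fun i => (show Γ(GrTilde.tilde 𝒜 𝒩 (n : ℤ), ⊤) from GrTilde.globalOf 𝒜 𝒩 ⟨zf i, hz i⟩))
    (fun U τ x hx => span_free 𝒜 𝒩 n zf hz (fun e he w hw => hzf ▸ hgen e he w hw) U τ x hx)
  exact ⟨k, p, hp⟩

include hs1 hs in
/-- twisting: `N(n)~ ≅ N~ ⊗ O(n)` -/
theorem nonempty_twist_iso (n : ℕ) :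
    Nonempty (GrTilde.tilde 𝒜 𝒩 (n : ℤ) ≅ Twist.twistBy 𝒜 (GrTilde.tilde 𝒜 𝒩 0) (n : ℤ)) := by
  apply TildeTens.nonempty_tilde_iso_twistBy
  intro x
  obtain ⟨g, hg1, hgx⟩ := hcov_of 𝒜 s hs1 hs x
  have hgn : g ^ n ∈ 𝒜 n := by
    have := SetLike.pow_mem_graded n hg1
    simpa using this
  refine ⟨n, 0, g ^ n, 1, hgn, SetLike.GradedOne.one_mem, by simp, ?_, ?_⟩
  · exact fun h => hgx (x.isPrime.mem_of_pow_mem n h)
  · exact fun h => x.isPrime.ne_top ((Ideal.eq_top_iff_one _).mpr h)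

end Groth.Agent.Helper1.PF13
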