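import Mathlib

set_option autoImplicit false

open IntermediateField Polynomial

namespace Groth.Agent.Helper1.PInsepTower

universe u

theorem finrank_adjoin_root (F E : Type*) [Field F] [Field E] [Algebra F E] (p : ℕ)
    [hp : Fact p.Prime] [CharP F p]
    (a₀ : E) (ha₀p : a₀ ^ p ∈ (⊥ : IntermediateField F E))
    (ha₀ : a₀ ∉ (⊥ : IntermediateField F E)) :
    Module.finrank F F⟮a₀⟯ = p := by
  obtain ⟨c, hc⟩ := IntermediateField.mem_bot.1 ha₀p
  have hirr : Irreducible (X ^ p - C c : F[X]) := by
    rw [X_pow_sub_C_irreducible_iff_of_prime hp.out]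
    intro b hb
    apply ha₀
    have : CharP E p := charP_of_injective_algebraMap (algebraMap F E).injective p
    have h1 : (a₀ - algebraMap F E b) ^ p = 0 := by
      rw [sub_pow_char, ← map_pow, hb, hc, sub_self]
    have h2 : a₀ = algebraMap F E b := sub_eq_zero.1 ((pow_eq_zero_iff hp.out.ne_zero).1 h1)
    rw [h2]
    exact IntermediateField.mem_bot.2 ⟨b, rfl⟩
  have haev : aeval a₀ (X ^ p - C c : F[X]) = 0 := by
    simp [hc]
  have hint : IsIntegral F a₀ := ⟨X ^ p - C c, monic_X_pow_sub_C c hp.out.ne_zero, haev⟩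
  have hmin : minpoly F a₀ = X ^ p - C c :=
    (minpoly.eq_of_irreducible_of_monic hirr haev (monic_X_pow_sub_C c hp.out.ne_zero)).symm
  rw [IntermediateField.adjoin.finrank hint, hmin, natDegree_X_pow_sub_C]

theorem tower (E : Type u) [Field E] (p : ℕ) [hp : Fact p.Prime] :
    ∀ (d : ℕ) (F : Type u) [Field F] [Algebra F E] [CharP F p] [FiniteDimensional F E]
      [IsPurelyInseparable F E], Module.finrank F E = d →
      ∃ (n : ℕ) (a : Fin n → E), adjoin F (Set.range a) = ⊤ ∧
        (∀ i : Fin n, a i ^ p ∈ adjoin F (a '' {j | j < i}) ∧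
          a i ∉ adjoin F (a '' {j | j < i})) ∧
        Module.finrank F E = p ^ n := by
  intro d
  induction d using Nat.strong_induction_on with
  | _ d ih =>
    intro F _ _ _ _ _ hd
    by_cases htop : (⊥ : IntermediateField F E) = ⊤
    · refine ⟨0, Fin.elim0, ?_, fun i => i.elim0, ?_⟩
      · rw [Set.range_eq_empty, adjoin_empty]; exact htop
      · rw [pow_zero]; exact IntermediateField.bot_eq_top_iff_finrank_eq_one.1 htop
    · obtain ⟨b, hb⟩ : ∃ b : E, b ∉ (⊥ : IntermediateField F E) := by
        by_contra hcon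
        push Not at hcon
        exact htop (eq_top_iff.2 fun x _ => hcon x)
      have : ExpChar F p := ExpChar.prime hp.out
      obtain ⟨m, hm⟩ := IsPurelyInseparable.pow_mem F p b
      have hex : ∃ m, b ^ p ^ m ∈ (⊥ : IntermediateField F E) :=
        ⟨m, IntermediateField.mem_bot.2 hm⟩
      classical
      have hm₀ : b ^ p ^ (Nat.find hex) ∈ (⊥ : IntermediateField F E) := Nat.find_spec hex
      have hm₀pos : Nat.find hex ≠ 0 := by
        intro h0
        rw [h0, pow_zero, pow_one] at hm₀
        exact hb hm₀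
      obtain ⟨m₁, hm₁⟩ := Nat.exists_eq_succ_of_ne_zero hm₀pos
      obtain ⟨a₀, ha₀def⟩ : ∃ a₀ : E, a₀ = b ^ p ^ m₁ := ⟨_, rfl⟩
      have ha₀p : a₀ ^ p ∈ (⊥ : IntermediateField F E) := by
        rw [ha₀def, ← pow_mul, ← pow_succ, ← Nat.succ_eq_add_one, ← hm₁]; exact hm₀
      have ha₀ : a₀ ∉ (⊥ : IntermediateField F E) := by
        rw [ha₀def]
        exact Nat.find_min hex (by omega : m₁ < Nat.find hex)
      have hfr : Module.finrank F F⟮a₀⟯ = p := finrank_adjoin_root F E p a₀ ha₀p ha₀
      have : CharP F⟮a₀⟯ p := charP_of_injective_algebraMap (algebraMap F F⟮a₀⟯).injective p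
      have : IsPurelyInseparable F⟮a₀⟯ E := IsPurelyInseparable.tower_top F F⟮a₀⟯ E
      have hmul : Module.finrank F F⟮a₀⟯ * Module.finrank F⟮a₀⟯ E = Module.finrank F E :=
        Module.finrank_mul_finrank F F⟮a₀⟯ E
      have hpos : 0 < Module.finrank F⟮a₀⟯ E := Module.finrank_pos
      have hlt : Module.finrank F⟮a₀⟯ E < d := by
        rw [← hd, ← hmul, hfr]
        have h2 : 2 ≤ p := hp.out.two_le
        nlinarith
      obtain ⟨n', a', htop', hcond', hfin'⟩ := ih _ hlt F⟮a₀⟯ rfl
      have hres : ∀ T : Set E, ∀ x : E, x ∈ adjoin F⟮a₀⟯ T ↔ x ∈ adjoin F (insert a₀ T) := by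
        intro T x
        have h3 := adjoin_adjoin_left F ({a₀} : Set E) T
        rw [Set.singleton_union] at h3
        rw [← h3, IntermediateField.mem_restrictScalars]
      refine ⟨n' + 1, Fin.cons a₀ a', ?_, ?_, ?_⟩
      · rw [Fin.range_cons, eq_top_iff]
        intro x _
        rw [← hres, htop']
        trivial
      · intro i
        refine Fin.cases ?_ (fun i' => ?_) i
        · have hempty : (Fin.cons a₀ a' : Fin (n' + 1) → E) '' {j | j < 0} = ∅ := by
            rw [Set.image_eq_empty]
            ext j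
            simp
          rw [hempty, adjoin_empty, Fin.cons_zero]
          exact ⟨ha₀p, ha₀⟩
        · have himg : (Fin.cons a₀ a' : Fin (n' + 1) → E) '' {j | j < i'.succ} =
              insert a₀ (a' '' {j | j < i'}) := by
            ext x
            constructor
            · rintro ⟨j, hj, rfl⟩
              revert hj
              refine Fin.cases ?_ (fun j' => ?_) j
              · intro _
                rw [Fin.cons_zero]
                exact Set.mem_insert _ _
              · intro hj
                rw [Fin.cons_succ]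
                exact Set.mem_insert_of_mem _ ⟨j', Fin.succ_lt_succ_iff.1 hj, rfl⟩
            · intro hx
              rcases Set.mem_insert_iff.1 hx with rfl | ⟨j', hj', rfl⟩
              · exact ⟨0, Fin.succ_pos i', Fin.cons_zero _ _⟩
              · exact ⟨j'.succ, Fin.succ_lt_succ_iff.2 hj', Fin.cons_succ _ _ _⟩
          rw [himg, Fin.cons_succ, ← hres, ← hres]
          exact hcond' i'
      · rw [← hmul, hfr, hfin', pow_succ, mul_comm]

theorem main {F E : Type u} [Field F] [Field E] [Algebra F E] (p : ℕ)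
    [Fact p.Prime] [CharP F p] [FiniteDimensional F E] [IsPurelyInseparable F E] :
    ∃ (n : ℕ) (a : Fin n → E), adjoin F (Set.range a) = ⊤ ∧
      (∀ i : Fin n, a i ^ p ∈ adjoin F (a '' {j | j < i}) ∧ a i ∉ adjoin F (a '' {j | j < i})) ∧
      Module.finrank F E = p ^ n :=
  tower E p _ F rfl

end Groth.Agent.Helper1.PInsepTower
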