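import Mathlib
import Groth.Prelude.Def_PLie
import Groth.Agent.Lib.Helper1.JacForm

namespace Groth.Agent.Helper1.PLie3

open Groth.Agent.Helper1.JacForm

universe u v w

section General

variable {R : Type u} [CommRing R] {L : Type v} [LieRing L] [LieAlgebra R L]
variable {A : Type w} [Ring A] [Algebra R A]

/-- A linear map into an associative algebra that takes brackets of basis vectors to commutators
takes all brackets to commutators. -/
theorem lie_comm_of_basis {ι : Type*} (bs : Module.Basis ι R L) (e : L →ₗ[R] A)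
    (h : ∀ i j, e ⁅bs i, bs j⁆ = e (bs i) * e (bs j) - e (bs j) * e (bs i)) :
    ∀ u v : L, e ⁅u, v⁆ = e u * e v - e v * e u := by
  let B : L →ₗ[R] L →ₗ[R] A := LinearMap.mk₂ R (fun u v => e ⁅u, v⁆ - (e u * e v - e v * e u))
    (by intro a b c; simp only [add_lie, map_add, add_mul, mul_add]; abel)
    (by intro c a b; simp only [smul_lie, map_smul, smul_mul_assoc, mul_smul_comm, smul_sub])
    (by intro a b c; simp only [lie_add, map_add, add_mul, mul_add]; abel)
    (by intro c a b; simp only [lie_smul, map_smul, smul_mul_assoc, mul_smul_comm, smul_sub])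
  have hB : B = 0 := by
    refine bs.ext fun i => bs.ext fun j => ?_
    simp only [B, LinearMap.mk₂_apply, LinearMap.zero_apply]
    rw [h, sub_self]
  intro u v
  have := LinearMap.congr_fun (LinearMap.congr_fun hB u) v
  simp only [B, LinearMap.mk₂_apply, LinearMap.zero_apply] at this
  exact sub_eq_zero.mp this

theorem lie_comm_of_basis3 (bs : Module.Basis (Fin 3) R L) (e : L →ₗ[R] A)
    (h01 : e ⁅bs 0, bs 1⁆ = e (bs 0) * e (bs 1) - e (bs 1) * e (bs 0))
    (h02 : e ⁅bs 0, bs 2⁆ = e (bs 0) * e (bs 2) - e (bs 2) * e (bs 0))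
    (h12 : e ⁅bs 1, bs 2⁆ = e (bs 1) * e (bs 2) - e (bs 2) * e (bs 1)) :
    ∀ u v : L, e ⁅u, v⁆ = e u * e v - e v * e u := by
  have hself : ∀ i, e ⁅bs i, bs i⁆ = e (bs i) * e (bs i) - e (bs i) * e (bs i) := by
    intro i; rw [lie_self, map_zero, sub_self]
  have hskew : ∀ i j, e ⁅bs i, bs j⁆ = e (bs i) * e (bs j) - e (bs j) * e (bs i) →
      e ⁅bs j, bs i⁆ = e (bs j) * e (bs i) - e (bs i) * e (bs j) := by
    intro i j hij
    rw [← lie_skew, map_neg, hij, neg_sub]
  refine lie_comm_of_basis bs e ?_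
  intro i j
  fin_cases i <;> fin_cases j
  · exact hself 0
  · exact h01
  · exact h02
  · exact hskew 0 1 h01
  · exact hself 1
  · exact h12
  · exact hskew 0 2 h02
  · exact hskew 1 2 h12
  · exact hself 2

end General

section Fam1

variable {R : Type u} [CommRing R] (t : R)

/-- upper triangular matrices with zero last row and zero (0,1) entry. -/
def N1 (a d b c : R) : Matrix (Fin 3) (Fin 3) R := !![a, 0, b; 0, d, c; 0, 0, 0]

omit t in
theorem N1_mul (a d b c a' d' b' c' : R) :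
    N1 a d b c * N1 a' d' b' c' = N1 (a * a') (d * d') (a * b') (d * c') := by
  ext i j
  fin_cases i <;> fin_cases j <;> simp [N1, Matrix.mul_apply, Fin.sum_univ_three]

omit t in
theorem N1_pow (a d b c : R) (n : ℕ) :
    N1 a d b c ^ (n + 1) = N1 (a ^ (n + 1)) (d ^ (n + 1)) (a ^ n * b) (d ^ n * c) := by
  induction n with
  | zero => simp
  | succ n ih =>
    rw [pow_succ, ih, N1_mul]
    congr 1 <;> ring

/-- the matrix of `a x + b y + c z` in the representation of `l_t`. -/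
def M1 (a b c : R) : Matrix (Fin 3) (Fin 3) R := !![a, 0, b; 0, t * a, c; 0, 0, 0]

theorem M1_eq (a b c : R) : M1 t a b c = N1 a (t * a) b c := rfl

theorem M1_pow (a b c : R) (n : ℕ) :
    M1 t a b c ^ (n + 1) = N1 (a ^ (n + 1)) ((t * a) ^ (n + 1)) (a ^ n * b) ((t * a) ^ n * c) := by
  rw [M1_eq, N1_pow]

theorem M1_add (a b c a' b' c' : R) :
    M1 t a b c + M1 t a' b' c' = M1 t (a + a') (b + b') (c + c') := by
  ext i j
  fin_cases i <;> fin_cases j <;> simp [M1] <;> ring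

theorem M1_smul (r a b c : R) : r • M1 t a b c = M1 t (r * a) (r * b) (r * c) := by
  ext i j
  fin_cases i <;> fin_cases j <;> simp [M1] <;> ring

theorem M1_inj {a b c a' b' c' : R} (h : M1 t a b c = M1 t a' b' c') :
    a = a' ∧ b = b' ∧ c = c' := by
  refine ⟨?_, ?_, ?_⟩
  · simpa [M1] using congr_fun (congr_fun h 0) 0
  · simpa [M1] using congr_fun (congr_fun h 0) 2
  · simpa [M1] using congr_fun (congr_fun h 1) 2

variable {L : Type v} [LieRing L] [LieAlgebra R L] (bs : Module.Basis (Fin 3) R L)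

/-- the representation. -/
noncomputable def e1 : L →ₗ[R] Matrix (Fin 3) (Fin 3) R where
  toFun u := M1 t (bs.repr u 0) (bs.repr u 1) (bs.repr u 2)
  map_add' u v := by simp only [map_add, Finsupp.add_apply, M1_add]
  map_smul' r u := by
    simp only [map_smul, Finsupp.smul_apply, smul_eq_mul, RingHom.id_apply, M1_smul]

theorem e1_apply (u : L) : e1 t bs u = M1 t (bs.repr u 0) (bs.repr u 1) (bs.repr u 2) := rfl

theorem e1_injective : Function.Injective (e1 t bs) := by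
  intro u v h
  rw [e1_apply, e1_apply] at h
  obtain ⟨h0, h1, h2⟩ := M1_inj t h
  apply bs.repr.injective
  ext i
  fin_cases i
  · exact h0
  · exact h1
  · exact h2

end Fam1

section Fam1Main

variable {R : Type u} [CommRing R] (t : R)
variable {L : Type v} [LieRing L] [LieAlgebra R L] (bs : Module.Basis (Fin 3) R L)

theorem e1_bs0 : e1 t bs (bs 0) = M1 t 1 0 0 := by
  simp [e1_apply, Module.Basis.repr_self, Finsupp.single_apply]

theorem e1_bs1 : e1 t bs (bs 1) = M1 t 0 1 0 := by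
  simp [e1_apply, Module.Basis.repr_self, Finsupp.single_apply]

theorem e1_bs2 : e1 t bs (bs 2) = M1 t 0 0 1 := by
  simp [e1_apply, Module.Basis.repr_self, Finsupp.single_apply]

variable (hxy : ⁅bs 0, bs 1⁆ = bs 1) (hxz : ⁅bs 0, bs 2⁆ = t • bs 2) (hyz : ⁅bs 1, bs 2⁆ = 0)

include hxy hxz hyz in
theorem e1_lie (u v : L) :
    e1 t bs ⁅u, v⁆ = e1 t bs u * e1 t bs v - e1 t bs v * e1 t bs u := by
  refine lie_comm_of_basis3 bs (e1 t bs) ?_ ?_ ?_ u v
  · rw [hxy, e1_bs0, e1_bs1]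
    ext i j
    fin_cases i <;> fin_cases j <;> simp [M1, Matrix.mul_apply, Fin.sum_univ_three]
  · rw [hxz, map_smul, e1_bs0, e1_bs2]
    ext i j
    fin_cases i <;> fin_cases j <;> simp [M1, Matrix.mul_apply, Fin.sum_univ_three]
  · rw [hyz, map_zero, e1_bs1, e1_bs2]
    ext i j
    fin_cases i <;> fin_cases j <;> simp [M1, Matrix.mul_apply, Fin.sum_univ_three]

/-- the `p`-mapping of `l_t`. -/
noncomputable def phi1 (p : ℕ) (u : L) : L :=
  (bs.repr u 0 ^ p) • bs 0 + (bs.repr u 0 ^ (p - 1) * bs.repr u 1) • bs 1 +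
    ((t * bs.repr u 0) ^ (p - 1) * bs.repr u 2) • bs 2

theorem e1_phi1 (p : ℕ) (hp : 1 ≤ p) (ht : t ^ p = t) (u : L) :
    e1 t bs (phi1 t bs p u) = e1 t bs u ^ p := by
  have hp1 : p = (p - 1) + 1 := by omega
  conv_rhs => rw [e1_apply, hp1, M1_pow, ← hp1]
  rw [e1_apply, M1_eq]
  have h0 : bs.repr (phi1 t bs p u) 0 = bs.repr u 0 ^ p := by
    simp [phi1, Module.Basis.repr_self, Finsupp.single_apply]
  have h1 : bs.repr (phi1 t bs p u) 1 = bs.repr u 0 ^ (p - 1) * bs.repr u 1 := by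
    simp [phi1, Module.Basis.repr_self, Finsupp.single_apply]
  have h2 : bs.repr (phi1 t bs p u) 2 = (t * bs.repr u 0) ^ (p - 1) * bs.repr u 2 := by
    simp [phi1, Module.Basis.repr_self, Finsupp.single_apply]
  rw [h0, h1, h2, mul_pow t _ p, ht]

end Fam1Main

section Fam1Conv

variable {R : Type u} [CommRing R] (t : R) {p : ℕ} [Fact p.Prime] [CharP R p]
variable {L : Type v} [LieRing L] [LieAlgebra R L] (bs : Module.Basis (Fin 3) R L)
variable (hxy : ⁅bs 0, bs 1⁆ = bs 1) (hxz : ⁅bs 0, bs 2⁆ = t • bs 2) (hyz : ⁅bs 1, bs 2⁆ = 0)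

include hxy hxz hyz in
theorem fam1_exists (ht : t ^ p = t) : Nonempty (PLie.PMap R p L) := by
  obtain ⟨φ, -, -⟩ := exists_pmap_of_assoc (p := p) (e1 t bs) (e1_injective t bs)
    (e1_lie t bs hxy hxz hyz) (phi1 t bs p)
    (e1_phi1 t bs p (Fact.out : p.Prime).one_le ht)
  exact ⟨φ⟩

include hxy in
theorem ad_pow_bs1 (n : ℕ) : (LieAlgebra.ad R L (bs 0) ^ n) (bs 1) = bs 1 := by
  induction n with
  | zero => simp
  | succ n ih => rw [pow_succ, Module.End.mul_apply, LieAlgebra.ad_apply, hxy, ih]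

include hxz in
theorem ad_pow_bs2 (n : ℕ) : (LieAlgebra.ad R L (bs 0) ^ n) (bs 2) = t ^ n • bs 2 := by
  induction n with
  | zero => simp
  | succ n ih =>
    rw [pow_succ, Module.End.mul_apply, LieAlgebra.ad_apply, hxz, map_smul, ih, smul_smul,
      pow_succ, mul_comm]

include hxy hxz hyz in
theorem fam1_necessary (φ : PLie.PMap R p L) : t ^ p = t := by
  have had := φ.ad_map (bs 0)
  set w := φ.toFun (bs 0) with hw
  have hwexp : w = bs.repr w 0 • bs 0 + bs.repr w 1 • bs 1 + bs.repr w 2 • bs 2 := by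
    conv_lhs => rw [← bs.sum_repr w, Fin.sum_univ_three]
  have h21 : ⁅bs 2, bs 1⁆ = 0 := by rw [← lie_skew, hyz, neg_zero]
  have e1' : ⁅w, bs 1⁆ = bs.repr w 0 • bs 1 := by
    rw [hwexp]
    simp only [add_lie, smul_lie, hxy, lie_self, h21, smul_zero, add_zero]
    simp
  have e2' : ⁅w, bs 2⁆ = (bs.repr w 0 * t) • bs 2 := by
    rw [hwexp]
    simp only [add_lie, smul_lie, hxz, hyz, lie_self, smul_zero, add_zero, smul_smul]
    simp
  have k1 := LinearMap.congr_fun had (bs 1)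
  rw [LieAlgebra.ad_apply, e1', ad_pow_bs1 bs hxy] at k1
  have k2 := LinearMap.congr_fun had (bs 2)
  rw [LieAlgebra.ad_apply, e2', ad_pow_bs2 t bs hxz] at k2
  have c1 : bs.repr w 0 = 1 := by
    have := congrArg (fun z => bs.repr z 1) k1
    simpa [Module.Basis.repr_self] using this
  have c2 : bs.repr w 0 * t = t ^ p := by
    have := congrArg (fun z => bs.repr z 2) k2
    simpa [Module.Basis.repr_self] using this
  rw [← c2, c1, one_mul]

end Fam1Conv

section Fam2

variable {R : Type u} [CommRing R] (t : R)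

/-- the matrices `[[αI + βN, (b,c)], [0, 0]]` with `N = [[0,t],[1,0]]`. -/
def Q2 (α β b c : R) : Matrix (Fin 3) (Fin 3) R := !![α, t * β, b; β, α, c; 0, 0, 0]

theorem Q2_mul (α β b c α' β' b' c' : R) :
    Q2 t α β b c * Q2 t α' β' b' c' =
      Q2 t (α * α' + t * β * β') (α * β' + β * α') (α * b' + t * β * c') (β * b' + α * c') := by
  ext i j
  fin_cases i <;> fin_cases j <;> simp [Q2, Matrix.mul_apply, Fin.sum_univ_three] <;> ring

theorem Q2_add (α β b c α' β' b' c' : R) :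
    Q2 t α β b c + Q2 t α' β' b' c' = Q2 t (α + α') (β + β') (b + b') (c + c') := by
  ext i j
  fin_cases i <;> fin_cases j <;> simp [Q2] <;> ring

theorem Q2_smul (r α β b c : R) : r • Q2 t α β b c = Q2 t (r * α) (r * β) (r * b) (r * c) := by
  ext i j
  fin_cases i <;> fin_cases j <;> simp [Q2] <;> ring

theorem Q2_inj {α β b c α' β' b' c' : R} (h : Q2 t α β b c = Q2 t α' β' b' c') :
    α = α' ∧ β = β' ∧ b = b' ∧ c = c' := by
  refine ⟨?_, ?_, ?_, ?_⟩
  · simpa [Q2] using congr_fun (congr_fun h 0) 0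
  · simpa [Q2] using congr_fun (congr_fun h 1) 0
  · simpa [Q2] using congr_fun (congr_fun h 0) 2
  · simpa [Q2] using congr_fun (congr_fun h 1) 2

theorem Q2_odd_pow (a b c : R) (k : ℕ) :
    Q2 t 0 a b c ^ (2 * k + 1) =
      Q2 t 0 (t ^ k * a ^ (2 * k + 1)) (t ^ k * a ^ (2 * k) * b) (t ^ k * a ^ (2 * k) * c) := by
  induction k with
  | zero => simp
  | succ k ih =>
    have h2 : Q2 t 0 a b c ^ 2 = Q2 t (t * a ^ 2) 0 (t * a * c) (a * b) := by
      rw [pow_two, Q2_mul]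
      congr 1 <;> ring
    have : 2 * (k + 1) + 1 = (2 * k + 1) + 2 := by ring
    rw [this, pow_add, ih, h2, Q2_mul]
    congr 1 <;> ring

variable {L : Type v} [LieRing L] [LieAlgebra R L] (bs : Module.Basis (Fin 3) R L)

/-- the representation. -/
noncomputable def e2 : L →ₗ[R] Matrix (Fin 3) (Fin 3) R where
  toFun u := Q2 t 0 (bs.repr u 0) (bs.repr u 1) (bs.repr u 2)
  map_add' u v := by simp only [map_add, Finsupp.add_apply, Q2_add, add_zero]
  map_smul' r u := by
    simp only [map_smul, Finsupp.smul_apply, smul_eq_mul, RingHom.id_apply, Q2_smul, mul_zero]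

theorem e2_apply (u : L) : e2 t bs u = Q2 t 0 (bs.repr u 0) (bs.repr u 1) (bs.repr u 2) := rfl

theorem e2_injective : Function.Injective (e2 t bs) := by
  intro u v h
  rw [e2_apply, e2_apply] at h
  obtain ⟨-, h0, h1, h2⟩ := Q2_inj t h
  apply bs.repr.injective
  ext i
  fin_cases i
  · exact h0
  · exact h1
  · exact h2

theorem e2_bs0 : e2 t bs (bs 0) = Q2 t 0 1 0 0 := by
  simp [e2_apply, Module.Basis.repr_self]

theorem e2_bs1 : e2 t bs (bs 1) = Q2 t 0 0 1 0 := by
  simp [e2_apply, Module.Basis.repr_self]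

theorem e2_bs2 : e2 t bs (bs 2) = Q2 t 0 0 0 1 := by
  simp [e2_apply, Module.Basis.repr_self]

variable (hxy : ⁅bs 0, bs 1⁆ = bs 2) (hxz : ⁅bs 0, bs 2⁆ = t • bs 1) (hyz : ⁅bs 1, bs 2⁆ = 0)

include hxy hxz hyz in
theorem e2_lie (u v : L) :
    e2 t bs ⁅u, v⁆ = e2 t bs u * e2 t bs v - e2 t bs v * e2 t bs u := by
  refine lie_comm_of_basis3 bs (e2 t bs) ?_ ?_ ?_ u v
  · rw [hxy, e2_bs0, e2_bs1, e2_bs2]
    ext i j
    fin_cases i <;> fin_cases j <;> simp [Q2, Matrix.mul_apply, Fin.sum_univ_three]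
  · rw [hxz, map_smul, e2_bs0, e2_bs1, e2_bs2]
    ext i j
    fin_cases i <;> fin_cases j <;> simp [Q2, Matrix.mul_apply, Fin.sum_univ_three]
  · rw [hyz, map_zero, e2_bs1, e2_bs2]
    ext i j
    fin_cases i <;> fin_cases j <;> simp [Q2, Matrix.mul_apply, Fin.sum_univ_three]

/-- the `p`-mapping. -/
noncomputable def phi2 (p : ℕ) (u : L) : L :=
  (t ^ ((p - 1) / 2) * bs.repr u 0 ^ p) • bs 0 +
    (t ^ ((p - 1) / 2) * bs.repr u 0 ^ (p - 1) * bs.repr u 1) • bs 1 +
    (t ^ ((p - 1) / 2) * bs.repr u 0 ^ (p - 1) * bs.repr u 2) • bs 2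

theorem e2_phi2 (p : ℕ) (hp : Odd p) (u : L) :
    e2 t bs (phi2 t bs p u) = e2 t bs u ^ p := by
  obtain ⟨k, hk⟩ := hp
  have hk1 : (p - 1) / 2 = k := by omega
  have hk2 : p - 1 = 2 * k := by omega
  conv_rhs => rw [e2_apply, hk, Q2_odd_pow]
  rw [e2_apply]
  have h0 : bs.repr (phi2 t bs p u) 0 = t ^ k * bs.repr u 0 ^ (2 * k + 1) := by
    simp [phi2, Module.Basis.repr_self, hk1, hk]
  have h1 : bs.repr (phi2 t bs p u) 1 = t ^ k * bs.repr u 0 ^ (2 * k) * bs.repr u 1 := by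
    simp [phi2, Module.Basis.repr_self, hk1, hk2]
  have h2 : bs.repr (phi2 t bs p u) 2 = t ^ k * bs.repr u 0 ^ (2 * k) * bs.repr u 2 := by
    simp [phi2, Module.Basis.repr_self, hk1, hk2]
  rw [h0, h1, h2]

theorem phi2_bs0 (p : ℕ) : phi2 t bs p (bs 0) = t ^ ((p - 1) / 2) • bs 0 := by
  simp [phi2, Module.Basis.repr_self]

theorem phi2_bs1 (p : ℕ) (hp : 2 ≤ p) : phi2 t bs p (bs 1) = 0 := by
  have : p - 1 ≠ 0 := by omega
  have hp0 : p ≠ 0 := by omega
  simp [phi2, Module.Basis.repr_self, this, hp0]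

theorem phi2_bs2 (p : ℕ) (hp : 2 ≤ p) : phi2 t bs p (bs 2) = 0 := by
  have : p - 1 ≠ 0 := by omega
  have hp0 : p ≠ 0 := by omega
  simp [phi2, Module.Basis.repr_self, this, hp0]

include hxy hxz hyz in
theorem fam2_exists (p : ℕ) [hpp : Fact p.Prime] [CharP R p] (hp : p ≠ 2) :
    ∃ φ : PLie.PMap R p L, φ (bs 0) = t ^ ((p - 1) / 2) • bs 0 ∧ φ (bs 1) = 0 ∧ φ (bs 2) = 0 := by
  obtain ⟨φ, hφ, -⟩ := exists_pmap_of_assoc (p := p) (e2 t bs) (e2_injective t bs)
    (e2_lie t bs hxy hxz hyz) (phi2 t bs p)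
    (e2_phi2 t bs p (hpp.out.odd_of_ne_two hp))
  exact ⟨φ, by rw [hφ, phi2_bs0], by rw [hφ, phi2_bs1 t bs p hpp.out.two_le],
    by rw [hφ, phi2_bs2 t bs p hpp.out.two_le]⟩

end Fam2

end Groth.Agent.Helper1.PLie3
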