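import Mathlib

/-!
# Flatness statements for perfect rings (equational criterion)

Helper library of helper1.
-/

set_option autoImplicit false

namespace Groth.Agent.Helper1.PerfFlat

open Finset

universe u

section Basic

variable (p : ℕ) [Fact p.Prime] {R : Type*} [CommRing R] [CharP R p] [PerfectRing R p]

/-- `p^n`-th root in a perfect ring. -/
noncomputable def root (n : ℕ) (x : R) : R := (iterateFrobeniusEquiv R p n).symm x

theorem root_pow (n : ℕ) (x : R) : (root p n x) ^ p ^ n = x := by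
  have := (iterateFrobeniusEquiv R p n).apply_symm_apply x
  rwa [iterateFrobeniusEquiv_def] at this

theorem pow_inj (n : ℕ) {x y : R} (h : x ^ p ^ n = y ^ p ^ n) : x = y := by
  apply (iterateFrobeniusEquiv R p n).injective
  rw [iterateFrobeniusEquiv_def, iterateFrobeniusEquiv_def, h]

theorem root_succ_pow (n : ℕ) (x : R) : (root p (n + 1) x) ^ p = root p n x := by
  apply pow_inj p n
  rw [root_pow, ← pow_mul, mul_comm, ← pow_succ, root_pow]

end Basic

theorem S14262 (p : ℕ) [Fact p.Prime] (A : Type u) [CommRing A]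
    [CharP A p] [PerfectRing A p] (f : A) :
    Module.Flat A ((Ideal.span {f}).radical) := by
  have hp1 : 1 < p := (Fact.out : p.Prime).one_lt
  apply Module.Flat.iff_forall_isTrivialRelation.mpr
  intro l a x h
  -- common exponent
  have hx : ∀ i, ∃ n : ℕ, ((x i : A)) ^ n ∈ Ideal.span {f} := fun i => (x i).2
  choose n hn using hx
  set N := ∑ i, n i with hN
  have hle : ∀ i, n i ≤ p ^ N := fun i =>
    (Finset.single_le_sum (fun _ _ => Nat.zero_le _) (Finset.mem_univ i)).trans
      (Nat.lt_pow_self hp1).le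
  have hxN : ∀ i, ∃ c : A, (x i : A) ^ p ^ N = c * f := by
    intro i
    have h1 : (x i : A) ^ p ^ N ∈ Ideal.span {f} := by
      have e : p ^ N = n i + (p ^ N - n i) := by have := hle i; omega
      rw [e, pow_add]
      exact Ideal.mul_mem_right _ _ (hn i)
    obtain ⟨c, hc⟩ := Ideal.mem_span_singleton'.mp h1
    exact ⟨c, hc.symm⟩
  choose c hc using hxN
  obtain ⟨q, hq⟩ : ∃ q, p = q + 1 := ⟨p - 1, by omega⟩
  have hpowq : ∀ y : A, y ^ p = y ^ q * y := fun y => by rw [hq, pow_succ]
  set g' := root p (N + 1) f with hg'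
  have hg'p : g' ^ p = root p N f := root_succ_pow p N f
  have hxi : ∀ i, (x i : A) = root p N (c i) * g' ^ p := by
    intro i
    apply pow_inj p N
    rw [mul_pow, root_pow, hg'p, root_pow, hc]
  have hg'mem : g' ∈ (Ideal.span {f}).radical :=
    ⟨p ^ (N + 1), by rw [hg', root_pow]; exact Ideal.mem_span_singleton_self f⟩
  refine ⟨1, fun i _ => root p N (c i) * g' ^ q, fun _ => ⟨g', hg'mem⟩, ?_, ?_⟩
  · intro i
    rw [Fin.sum_univ_one]
    apply Subtype.ext
    show (x i : A) = (root p N (c i) * g' ^ q) * g'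
    rw [hxi i, hpowq g']
    ring
  · intro _
    have h0 : ∑ i, a i * (x i : A) = 0 := by
      have := congrArg (Subtype.val) h
      simpa using this
    -- s * g'^p = 0
    have hs : (∑ i, a i * root p N (c i)) * g' ^ p = 0 := by
      rw [Finset.sum_mul, ← h0]
      refine Finset.sum_congr rfl fun i _ => ?_
      rw [hxi i]; ring
    have hs1 : (∑ i, a i * root p N (c i)) * g' = 0 := by
      have h2 : ((∑ i, a i * root p N (c i)) * g') ^ p = 0 := by
        rw [mul_pow, hpowq (∑ i, a i * root p N (c i)), mul_assoc, hs, mul_zero]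
      apply pow_inj p 1
      rw [pow_one, h2, zero_pow (by omega)]
    have hq1 : q = (q - 1) + 1 := by omega
    calc ∑ i, a i * (root p N (c i) * g' ^ q)
        = ((∑ i, a i * root p N (c i)) * g') * g' ^ (q - 1) := by
          rw [Finset.sum_mul, Finset.sum_mul]
          refine Finset.sum_congr rfl fun i _ => ?_
          conv_lhs => rw [hq1, pow_succ]
          ring
      _ = 0 := by rw [hs1, zero_mul]

section Closure

/-- Ring-hom form of the equational criterion of flatness. -/
theorem flat_iff_ringHom {A B : Type u} [CommRing A] [CommRing B] (φ : A →+* B) :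
    φ.Flat ↔ ∀ (l : ℕ) (a : Fin l → A) (b : Fin l → B), ∑ k, φ (a k) * b k = 0 →
      ∃ (m : ℕ) (c : Fin l → Fin m → A) (y : Fin m → B),
        (∀ k, b k = ∑ t, φ (c k t) * y t) ∧ ∀ t, ∑ k, a k * c k t = 0 := by
  letI := φ.toAlgebra
  show Module.Flat A B ↔ _
  rw [Module.Flat.iff_forall_isTrivialRelation]
  constructor
  · intro h l a b hab
    exact h (f := a) (x := b) hab
  · intro h l a b hab
    exact h l a b hab

theorem common_pow {K L : Type*} [CommRing K] [CommRing L] (p : ℕ) (i : K →+* L) [IsPRadical i p]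
    {ι : Type*} [Fintype ι] (x : ι → L) :
    ∃ n₀ : ℕ, ∀ n, n₀ ≤ n → ∀ k, ∃ y : K, i y = x k ^ p ^ n := by
  have h := fun k => IsPRadical.pow_mem i p (x k)
  choose n y hy using h
  refine ⟨∑ k, n k, fun N hN k => ?_⟩
  have hle : n k ≤ N :=
    (Finset.single_le_sum (fun _ _ => Nat.zero_le _) (Finset.mem_univ k)).trans hN
  obtain ⟨d, hd⟩ := Nat.exists_eq_add_of_le hle
  refine ⟨y k ^ p ^ d, ?_⟩
  rw [map_pow, hy k, hd, pow_add, pow_mul]

variable (p : ℕ) [Fact p.Prime]

theorem root_map {R S : Type*} [CommRing R] [CommRing S] [CharP R p] [CharP S p]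
    [PerfectRing R p] [PerfectRing S p] (f : R →+* S) (n : ℕ) (x : R) :
    f (root p n x) = root p n (f x) := by
  apply pow_inj p n
  rw [← map_pow, root_pow, root_pow]

theorem S14255
    {A B A' B' : Type u} [CommRing A] [CommRing B] [CommRing A'] [CommRing B']
    [CharP A p] [CharP B p] [CharP A' p] [CharP B' p] [PerfectRing A' p] [PerfectRing B' p]
    (φ : A →+* B) (hflat : φ.Flat) (i : A →+* A') (j : B →+* B')
    [IsPerfectClosure i p] [IsPerfectClosure j p]
    (φ' : A' →+* B') (hφ : φ'.comp i = j.comp φ) : φ'.Flat := by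
  have hφa : ∀ a, φ' (i a) = j (φ a) := fun a => congrArg (fun f => f a) hφ
  rw [flat_iff_ringHom] at hflat ⊢
  intro l a' b' hab
  obtain ⟨n₁, h₁⟩ := common_pow p i a'
  obtain ⟨n₂, h₂⟩ := common_pow p j b'
  have h₁' := h₁ (n₁ + n₂) (Nat.le_add_right _ _)
  have h₂' := h₂ (n₁ + n₂) (Nat.le_add_left _ _)
  set n := n₁ + n₂ with hn
  choose a ha using h₁'
  choose b hb using h₂'
  have hrel : j (∑ k, φ (a k) * b k) = 0 := by
    rw [map_sum]
    have : ∀ k, j (φ (a k) * b k) = (φ' (a' k) * b' k) ^ p ^ n := by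
      intro k
      rw [map_mul, ← hφa, ha, hb, mul_pow, map_pow]
    rw [Finset.sum_congr rfl fun k _ => this k, ← sum_pow_char_pow p n, hab,
      zero_pow (pow_pos (Fact.out : p.Prime).pos n).ne']
  have hker : ∑ k, φ (a k) * b k ∈ pNilradical B p :=
    IsPRadical.ker_le j p ((RingHom.mem_ker).2 hrel)
  obtain ⟨m, hm⟩ := mem_pNilradical.1 hker
  have hrel2 : ∑ k, φ (a k ^ p ^ m) * (b k ^ p ^ m) = 0 := by
    rw [← hm, sum_pow_char_pow p m]
    refine Finset.sum_congr rfl fun k _ => ?_
    rw [mul_pow, map_pow]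
  obtain ⟨M, c, y, hby, hac⟩ := hflat l (fun k => a k ^ p ^ m) (fun k => b k ^ p ^ m) hrel2
  refine ⟨M, fun k t => root p (n + m) (i (c k t)), fun t => root p (n + m) (j (y t)), ?_, ?_⟩
  · intro k
    apply pow_inj p (n + m)
    rw [sum_pow_char_pow p (n + m)]
    have : ∀ t, (φ' (root p (n + m) (i (c k t))) * root p (n + m) (j (y t))) ^ p ^ (n + m)
        = j (φ (c k t) * y t) := by
      intro t
      rw [mul_pow, ← map_pow, root_pow, root_pow, hφa, map_mul]
    rw [Finset.sum_congr rfl fun t _ => this t, ← map_sum, ← hby k, map_pow, hb, pow_add, pow_mul]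
  · intro t
    apply pow_inj p (n + m)
    rw [sum_pow_char_pow p (n + m), zero_pow (pow_pos (Fact.out : p.Prime).pos _).ne']
    have : ∀ k, (a' k * root p (n + m) (i (c k t))) ^ p ^ (n + m)
        = i (a k ^ p ^ m * c k t) := by
      intro k
      rw [mul_pow, root_pow, map_mul, map_pow, ha, pow_add, pow_mul]
    rw [Finset.sum_congr rfl fun k _ => this k, ← map_sum, hac t, map_zero]

theorem isIntegral_of_isPRadical {K L : Type*} [CommRing K] [CommRing L] (i : K →+* L)
    [IsPRadical i p] : i.IsIntegral := by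
  letI := i.toAlgebra
  intro x
  obtain ⟨n, y, hy⟩ := IsPRadical.pow_mem i p x
  have h1 : IsIntegral K (x ^ p ^ n) := by
    rw [← hy]
    exact (isIntegral_algebraMap (R := K) (A := L) (x := y))
  exact IsIntegral.of_pow (pow_pos (Fact.out : p.Prime).pos n) h1

theorem S14256
    {A B A' B' : Type u} [CommRing A] [CommRing B] [CommRing A'] [CommRing B']
    [CharP A p] [CharP B p] [CharP A' p] [CharP B' p] [PerfectRing A' p] [PerfectRing B' p]
    (φ : A →+* B) (i : A →+* A') (j : B →+* B') [IsPerfectClosure i p] [IsPerfectClosure j p]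
    (φ' : A' →+* B') (hφ : φ'.comp i = j.comp φ) : φ.IsIntegral ↔ φ'.IsIntegral := by
  have hi : i.IsIntegral := isIntegral_of_isPRadical p i
  have hj : j.IsIntegral := isIntegral_of_isPRadical p j
  constructor
  · intro h
    have h1 : (j.comp φ).IsIntegral := RingHom.IsIntegral.trans φ j h hj
    rw [← hφ] at h1
    exact RingHom.IsIntegral.tower_top i φ' h1
  · intro h
    have h1 : (φ'.comp i).IsIntegral := RingHom.IsIntegral.trans i φ' hi h
    rw [hφ] at h1
    intro b
    obtain ⟨Q, hQm, hQ⟩ := h1 (j b)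
    have h2 : j (Q.eval₂ φ b) = 0 := by rw [Polynomial.hom_eval₂]; exact hQ
    have h3 : Q.eval₂ φ b ∈ pNilradical B p := IsPRadical.ker_le j p ((RingHom.mem_ker).2 h2)
    obtain ⟨m, hm⟩ := mem_pNilradical.1 h3
    exact ⟨Q ^ p ^ m, hQm.pow _, by rw [Polynomial.eval₂_pow, hm]⟩

theorem comap_injective_of_isPRadical {K L : Type*} [CommRing K] [CommRing L] (i : K →+* L)
    [IsPRadical i p] : Function.Injective (PrimeSpectrum.comap i) := by
  have key : ∀ q₁ q₂ : PrimeSpectrum L, PrimeSpectrum.comap i q₁ = PrimeSpectrum.comap i q₂ →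
      q₁.asIdeal ≤ q₂.asIdeal := by
    intro q₁ q₂ h x hx
    obtain ⟨n, y, hy⟩ := IsPRadical.pow_mem i p x
    have h1 : y ∈ (PrimeSpectrum.comap i q₁).asIdeal := by
      show i y ∈ q₁.asIdeal
      rw [hy]; exact Ideal.pow_mem_of_mem _ hx _ (pow_pos (Fact.out : p.Prime).pos n)
    rw [h] at h1
    have h2 : i y ∈ q₂.asIdeal := h1
    rw [hy] at h2
    exact q₂.2.mem_of_pow_mem _ h2
  intro q₁ q₂ h
  exact PrimeSpectrum.ext (le_antisymm (key q₁ q₂ h) (key q₂ q₁ h.symm))

theorem comap_surjective_of_isPRadical {K L : Type*} [CommRing K] [CommRing L] (j : K →+* L)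
    [IsPRadical j p] : Function.Surjective (PrimeSpectrum.comap j) := by
  letI := j.toAlgebra
  haveI : Algebra.IsIntegral K L := ⟨isIntegral_of_isPRadical p j⟩
  intro P
  haveI := P.2
  have hker : (⊥ : Ideal L).comap (algebraMap K L) ≤ P.asIdeal := by
    intro x hx
    have hx' : x ∈ RingHom.ker j := hx
    have h1 : x ∈ nilradical K := pNilradical_le_nilradical (IsPRadical.ker_le j p hx')
    exact nilradical_le_prime P.asIdeal h1
  obtain ⟨Q, -, hQ, hQP⟩ := Ideal.exists_ideal_over_prime_of_isIntegral P.asIdeal ⊥ hker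
  exact ⟨⟨Q, hQ⟩, PrimeSpectrum.ext hQP⟩

theorem S14260
    {A B A' B' : Type u} [CommRing A] [CommRing B] [CommRing A'] [CommRing B']
    [CharP A p] [CharP B p] [CharP A' p] [CharP B' p] [PerfectRing A' p] [PerfectRing B' p]
    (φ : A →+* B) (hflat : φ.FaithfullyFlat) (i : A →+* A') (j : B →+* B') [IsPerfectClosure i p]
    [IsPerfectClosure j p] (φ' : A' →+* B') (hφ : φ'.comp i = j.comp φ) : φ'.FaithfullyFlat := by
  rw [RingHom.FaithfullyFlat.iff_flat_and_comap_surjective] at hflat ⊢
  refine ⟨S14255 p φ hflat.1 i j φ' hφ, ?_⟩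
  intro q'
  obtain ⟨P, hP⟩ := hflat.2 (PrimeSpectrum.comap i q')
  obtain ⟨P', hP'⟩ := comap_surjective_of_isPRadical p j P
  refine ⟨P', ?_⟩
  apply comap_injective_of_isPRadical p i
  have e1 : PrimeSpectrum.comap i (PrimeSpectrum.comap φ' P') = PrimeSpectrum.comap (φ'.comp i) P' :=
    rfl
  have e2 : PrimeSpectrum.comap (j.comp φ) P' = PrimeSpectrum.comap φ (PrimeSpectrum.comap j P') :=
    rfl
  rw [e1, hφ, e2, hP', hP]

end Closure

end Groth.Agent.Helper1.PerfFlat
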