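import Mathlib

/-! Perfect rings of characteristic `p` (possibly trivial): basic algebra. -/
universe u
open TensorProduct

namespace Groth.Agent.Helper1.PerfRing

/-- `p = 0` in `R` and the `p`-th power map is bijective. -/
structure Perf (p : ℕ) (R : Type*) [CommRing R] : Prop where
  p0 : (p : R) = 0
  bij : Function.Bijective (fun x : R => x ^ p)

variable {p : ℕ} [hp : Fact p.Prime] {R : Type*} [CommRing R] (hR : Perf p R)

include hR in
theorem Perf.add_pow (x y : R) : (x + y) ^ p = x ^ p + y ^ p := by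
  obtain ⟨r, hr⟩ := exists_add_pow_prime_eq hp.out x y
  rw [hr, hR.p0]; ring

include hR in
theorem Perf.neg_pow (x : R) : (-x) ^ p = -(x ^ p) := by
  have h := hR.add_pow x (-x)
  rw [add_neg_cancel, zero_pow hp.out.ne_zero] at h
  exact eq_neg_of_add_eq_zero_right h.symm

include hR in
theorem Perf.sub_pow (x y : R) : (x - y) ^ p = x ^ p - y ^ p := by
  rw [sub_eq_add_neg, hR.add_pow, hR.neg_pow, ← sub_eq_add_neg]

/-- the `p`-th root -/
noncomputable def Perf.root (hR : Perf p R) (x : R) : R := (Equiv.ofBijective _ hR.bij).symm x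

theorem Perf.root_pow (x : R) : (hR.root x) ^ p = x :=
  (Equiv.ofBijective _ hR.bij).apply_symm_apply x

theorem Perf.root_unique {x y : R} (h : y ^ p = x) : y = hR.root x := by
  apply hR.bij.1
  show y ^ p = (hR.root x) ^ p
  rw [hR.root_pow, h]

theorem Perf.root_pow_self (x : R) : hR.root (x ^ p) = x := (hR.root_unique rfl).symm

theorem Perf.root_mul (x y : R) : hR.root (x * y) = hR.root x * hR.root y :=
  (hR.root_unique (by rw [mul_pow, hR.root_pow, hR.root_pow])).symm

theorem Perf.root_add (x y : R) : hR.root (x + y) = hR.root x + hR.root y :=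
  (hR.root_unique (by rw [hR.add_pow, hR.root_pow, hR.root_pow])).symm

theorem Perf.root_zero : hR.root 0 = 0 :=
  (hR.root_unique (zero_pow hp.out.ne_zero)).symm

theorem Perf.root_one : hR.root 1 = 1 := (hR.root_unique (one_pow p)).symm

include hR in
theorem Perf.eq_zero_of_pow_p {x : R} (h : x ^ p = 0) : x = 0 := by
  apply hR.bij.1
  show x ^ p = 0 ^ p
  rw [h, zero_pow hp.out.ne_zero]

include hR in
theorem Perf.eq_zero_of_pow {x : R} {n : ℕ} (h : x ^ n = 0) : x = 0 := by
  have h1 : ∀ k : ℕ, x ^ (p ^ k) = 0 → x = 0 := by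
    intro k
    induction k with
    | zero => intro h; simpa using h
    | succ k ih =>
      intro h
      apply ih
      apply hR.eq_zero_of_pow_p
      rw [← pow_mul, ← pow_succ]; exact h
  apply h1 n
  have hle : n ≤ p ^ n := (Nat.lt_pow_self hp.out.one_lt).le
  rw [← Nat.sub_add_cancel hle, pow_add, h, mul_zero]

/-- iterated root -/
noncomputable def Perf.rootk (hR : Perf p R) : ℕ → R → R
  | 0, x => x
  | k + 1, x => hR.root (Perf.rootk hR k x)

@[simp] theorem Perf.rootk_zero (x : R) : hR.rootk 0 x = x := rfl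

theorem Perf.rootk_succ (k : ℕ) (x : R) : hR.rootk (k + 1) x = hR.root (hR.rootk k x) := rfl

theorem Perf.rootk_succ_pow (k : ℕ) (x : R) : (hR.rootk (k + 1) x) ^ p = hR.rootk k x := by
  rw [hR.rootk_succ, hR.root_pow]

theorem Perf.rootk_pow (k : ℕ) (x : R) : (hR.rootk k x) ^ (p ^ k) = x := by
  induction k with
  | zero => simp
  | succ k ih => rw [pow_succ', pow_mul, hR.rootk_succ_pow, ih]

/-- `f_k = f_l ^ (p^(l-k))` -/
theorem Perf.rootk_le {k l : ℕ} (h : k ≤ l) (x : R) :
    hR.rootk k x = (hR.rootk l x) ^ (p ^ (l - k)) := by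
  induction l, h using Nat.le_induction with
  | base => simp
  | succ l hl ih =>
    rw [ih, Nat.succ_sub hl, pow_succ', pow_mul, hR.rootk_succ_pow]

/-- `f_k = f_l ^ m * f_l` for `k ≤ l` -/
theorem Perf.rootk_le' {k l : ℕ} (h : k ≤ l) (x : R) :
    hR.rootk k x = (hR.rootk l x) ^ (p ^ (l - k) - 1) * hR.rootk l x := by
  rw [← pow_succ, Nat.sub_add_cancel (Nat.one_le_pow _ _ hp.out.pos)]
  exact hR.rootk_le h x

variable {R' : Type*} [CommRing R'] (hR' : Perf p R')

theorem Perf.map_root (φ : R →+* R') (x : R) : φ (hR.root x) = hR'.root (φ x) :=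
  hR'.root_unique (by rw [← map_pow, hR.root_pow])

theorem Perf.map_rootk (φ : R →+* R') (k : ℕ) (x : R) : φ (hR.rootk k x) = hR'.rootk k (φ x) := by
  induction k with
  | zero => rfl
  | succ k ih => rw [hR.rootk_succ, hR'.rootk_succ, hR.map_root hR', ih]

/-- the ideal `(f^{1/p^∞})` -/
noncomputable def Perf.J (hR : Perf p R) (f : R) : Ideal R :=
  Ideal.span (Set.range fun k => hR.rootk k f)

theorem Perf.rootk_mem_J (f : R) (k : ℕ) : hR.rootk k f ∈ hR.J f :=
  Ideal.subset_span ⟨k, rfl⟩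

theorem Perf.self_mem_J (f : R) : f ∈ hR.J f := hR.rootk_mem_J f 0

theorem Perf.mem_J_iff (f x : R) : x ∈ hR.J f ↔ ∃ (k : ℕ) (a : R), x = a * hR.rootk k f := by
  constructor
  · intro hx
    induction hx using Submodule.span_induction with
    | mem x hx =>
      obtain ⟨k, rfl⟩ := hx
      exact ⟨k, 1, (one_mul _).symm⟩
    | zero => exact ⟨0, 0, (zero_mul _).symm⟩
    | add x y _ _ hx hy =>
      obtain ⟨k, a, rfl⟩ := hx
      obtain ⟨l, b, rfl⟩ := hy
      refine ⟨max k l, a * (hR.rootk (max k l) f) ^ (p ^ (max k l - k) - 1) +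
        b * (hR.rootk (max k l) f) ^ (p ^ (max k l - l) - 1), ?_⟩
      rw [hR.rootk_le' (le_max_left k l) f, hR.rootk_le' (le_max_right k l) f]
      ring
    | smul r x _ hx =>
      obtain ⟨k, a, rfl⟩ := hx
      exact ⟨k, r * a, by rw [smul_eq_mul, mul_assoc]⟩
  · rintro ⟨k, a, rfl⟩
    exact Ideal.mul_mem_left _ _ (hR.rootk_mem_J f k)

/-- `(f^{1/p^∞})` is closed under `p`-th roots. -/
theorem Perf.mem_J_of_pow_mem (f x : R) (hx : x ^ p ∈ hR.J f) : x ∈ hR.J f := by
  obtain ⟨k, a, h⟩ := (hR.mem_J_iff f _).mp hx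
  have : x = hR.root a * hR.rootk (k + 1) f := by
    rw [hR.root_unique h, hR.root_mul, hR.rootk_succ]
  rw [this]
  exact Ideal.mul_mem_left _ _ (hR.rootk_mem_J f _)

include hR in
/-- quotient by an ideal closed under `p`-th roots is perfect -/
theorem Perf.quotient (I : Ideal R) (hI : ∀ x, x ^ p ∈ I → x ∈ I) : Perf p (R ⧸ I) where
  p0 := by
    have := congrArg (Ideal.Quotient.mk I) hR.p0
    simpa using this
  bij := by
    constructor
    · intro x y hxy
      obtain ⟨x, rfl⟩ := Ideal.Quotient.mk_surjective x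
      obtain ⟨y, rfl⟩ := Ideal.Quotient.mk_surjective y
      have h : (Ideal.Quotient.mk I x) ^ p = (Ideal.Quotient.mk I y) ^ p := hxy
      rw [← map_pow, ← map_pow, Ideal.Quotient.eq, ← hR.sub_pow] at h
      exact Ideal.Quotient.eq.mpr (hI _ h)
    · intro x
      obtain ⟨x, rfl⟩ := Ideal.Quotient.mk_surjective x
      refine ⟨Ideal.Quotient.mk I (hR.root x), ?_⟩
      show (Ideal.Quotient.mk I (hR.root x)) ^ p = _
      rw [← map_pow, hR.root_pow]

theorem Perf.quotient_J (f : R) : Perf p (R ⧸ hR.J f) :=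
  hR.quotient _ (hR.mem_J_of_pow_mem f)

/-- perfect quotient ⇒ ideal closed under roots -/
theorem Perf.mem_of_pow_mem_of_quotient (I : Ideal R) (hq : Perf p (R ⧸ I))
    (x : R) (hx : x ^ p ∈ I) : x ∈ I := by
  rw [← Ideal.Quotient.eq_zero_iff_mem] at hx ⊢
  rw [map_pow] at hx
  exact hq.eq_zero_of_pow_p hx

theorem Perf.rootk_mem_of_quotient (I : Ideal R) (hq : Perf p (R ⧸ I))
    (x : R) (hx : x ∈ I) (k : ℕ) : hR.rootk k x ∈ I := by
  rw [← Ideal.Quotient.eq_zero_iff_mem] at hx ⊢
  apply hq.eq_zero_of_pow (n := p ^ k)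
  rw [← map_pow, hR.rootk_pow, hx]

theorem Perf.J_le_of_quotient (I : Ideal R) (hq : Perf p (R ⧸ I))
    (x : R) (hx : x ∈ I) : hR.J x ≤ I := by
  rw [Perf.J, Ideal.span_le]
  rintro _ ⟨k, rfl⟩
  exact hR.rootk_mem_of_quotient I hq x hx k

/-- image of `J` under a ring hom of perfect rings -/
theorem Perf.map_J (φ : R →+* R') (f : R) : (hR.J f).map φ = hR'.J (φ f) := by
  rw [Perf.J, Perf.J, Ideal.map_span]
  congr 1
  ext y
  constructor
  · rintro ⟨_, ⟨k, rfl⟩, rfl⟩
    exact ⟨k, (hR.map_rootk hR' φ k f).symm⟩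
  · rintro ⟨k, rfl⟩
    exact ⟨_, ⟨k, rfl⟩, hR.map_rootk hR' φ k f⟩

end Groth.Agent.Helper1.PerfRing

namespace Groth.Agent.Helper1.PerfRing
section Tensor
variable {p : ℕ} [hp : Fact p.Prime] {R B C : Type*} [CommRing R] [CommRing B] [CommRing C]
  [Algebra R B] [Algebra R C] (hR : Perf p R) (hB : Perf p B) (hC : Perf p C)

/-- the additive map `b ⊗ c ↦ b^{1/p} ⊗ c^{1/p}` -/
noncomputable def tensorRoot : B ⊗[R] C →+ B ⊗[R] C :=
  TensorProduct.liftAddHom
    { toFun := fun b =>
        { toFun := fun c => hB.root b ⊗ₜ[R] hC.root c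
          map_zero' := by rw [hC.root_zero, tmul_zero]
          map_add' := fun c c' => by rw [hC.root_add, tmul_add] }
      map_zero' := by
        ext c
        show hB.root 0 ⊗ₜ[R] hC.root c = 0
        rw [hB.root_zero, zero_tmul]
      map_add' := fun b b' => by
        ext c
        show hB.root (b + b') ⊗ₜ[R] hC.root c = hB.root b ⊗ₜ[R] hC.root c + hB.root b' ⊗ₜ[R] hC.root c
        rw [hB.root_add, add_tmul] }
    (fun r b c => by
      show hB.root (r • b) ⊗ₜ[R] hC.root c = hB.root b ⊗ₜ[R] hC.root (r • c)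
      rw [Algebra.smul_def, Algebra.smul_def, hB.root_mul, hC.root_mul,
        ← hR.map_root hB (algebraMap R B), ← hR.map_root hC (algebraMap R C),
        ← Algebra.smul_def, ← Algebra.smul_def, smul_tmul])

include hR hB hC in
theorem perf_tensor : Perf p (B ⊗[R] C) where
  p0 := by
    have : ((p : B) ⊗ₜ[R] (1 : C) : B ⊗[R] C) = (p : B ⊗[R] C) := by
      rw [← map_natCast (Algebra.TensorProduct.includeLeftRingHom : B →+* B ⊗[R] C)]
      rfl
    rw [← this, hB.p0, zero_tmul]
  bij := by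
    have hadd : ∀ x y : B ⊗[R] C, (x + y) ^ p = x ^ p + y ^ p := by
      intro x y
      obtain ⟨r, hr⟩ := exists_add_pow_prime_eq hp.out x y
      have h0 : (p : B ⊗[R] C) = 0 := by
        have : ((p : B) ⊗ₜ[R] (1 : C) : B ⊗[R] C) = (p : B ⊗[R] C) := by
          rw [← map_natCast (Algebra.TensorProduct.includeLeftRingHom : B →+* B ⊗[R] C)]
          rfl
        rw [← this, hB.p0, zero_tmul]
      rw [hr, h0]; ring
    have h1 : ∀ t : B ⊗[R] C, tensorRoot hR hB hC (t ^ p) = t := by
      intro t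
      induction t using TensorProduct.induction_on with
      | zero => rw [zero_pow hp.out.ne_zero, map_zero]
      | tmul b c =>
        rw [Algebra.TensorProduct.tmul_pow]
        show hB.root (b ^ p) ⊗ₜ[R] hC.root (c ^ p) = _
        rw [hB.root_pow_self, hC.root_pow_self]
      | add x y hx hy => rw [hadd, map_add, hx, hy]
    have h2 : ∀ t : B ⊗[R] C, (tensorRoot hR hB hC t) ^ p = t := by
      intro t
      induction t using TensorProduct.induction_on with
      | zero => rw [map_zero, zero_pow hp.out.ne_zero]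
      | tmul b c =>
        show (hB.root b ⊗ₜ[R] hC.root c) ^ p = _
        rw [Algebra.TensorProduct.tmul_pow, hB.root_pow, hC.root_pow]
      | add x y hx hy => rw [map_add, hadd, hx, hy]
    constructor
    · intro x y hxy
      have := congrArg (tensorRoot hR hB hC) hxy
      simpa only [h1] using this
    · intro t
      exact ⟨tensorRoot hR hB hC t, h2 t⟩

end Tensor

theorem perf_zmod (p : ℕ) [Fact p.Prime] : Perf p (ZMod p) where
  p0 := ZMod.natCast_self p
  bij := by
    have : (fun x : ZMod p => x ^ p) = id := by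
      funext x
      exact ZMod.pow_card x
    rw [this]
    exact Function.bijective_id

end Groth.Agent.Helper1.PerfRing

namespace Groth.Agent.Helper1.PerfRing

variable {p : ℕ} [hp : Fact p.Prime] {R : Type*} [CommRing R] (hR : Perf p R)

/-- common level: finitely many elements of `J f` are all multiples of one `f_K`. -/
theorem Perf.exists_common {l : ℕ} (f : R) (x : Fin l → hR.J f) :
    ∃ (K : ℕ) (b : Fin l → R), ∀ i, (x i : R) = b i * hR.rootk K f := by
  have h : ∀ i, ∃ (k : ℕ) (a : R), (x i : R) = a * hR.rootk k f :=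
    fun i => (hR.mem_J_iff f _).mp (x i).2
  choose k a ha using h
  refine ⟨Finset.univ.sup k, fun i => a i *
    (hR.rootk (Finset.univ.sup k) f) ^ (p ^ (Finset.univ.sup k - k i) - 1), fun i => ?_⟩
  rw [ha i, hR.rootk_le' (Finset.le_sup (Finset.mem_univ i)) f, mul_assoc]

theorem Perf.flat_J (f : R) : Module.Flat R (hR.J f) := by
  apply Module.Flat.of_forall_isTrivialRelation
  intro l a x hax
  obtain ⟨K, b, hb⟩ := hR.exists_common f x
  -- s * f_K = 0
  have hs : (∑ i, a i * b i) * hR.rootk K f = 0 := by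
    have := congrArg Subtype.val hax
    rw [Finset.sum_mul]
    simpa [hb, mul_assoc] using this
  have hs' : (∑ i, a i * b i) * hR.rootk (K + 1) f = 0 := by
    apply hR.eq_zero_of_pow_p
    rw [mul_pow, hR.rootk_succ_pow]
    have h2 : 2 ≤ p := hp.out.two_le
    obtain ⟨q, rfl⟩ : ∃ q, p = q + 1 := ⟨p - 1, by omega⟩
    have : (∑ i, a i * b i) ^ (q + 1) * hR.rootk K f =
        (∑ i, a i * b i) ^ q * ((∑ i, a i * b i) * hR.rootk K f) := by ring
    rw [this, hs, mul_zero]
  have h2 : 2 ≤ p := hp.out.two_le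
  refine ⟨1, fun i _ => b i * (hR.rootk (K + 1) f) ^ (p - 1),
    fun _ => ⟨hR.rootk (K + 1) f, hR.rootk_mem_J f _⟩, fun i => ?_, fun j => ?_⟩
  · apply Subtype.ext
    simp only [Finset.univ_unique, Finset.sum_singleton]
    show (x i : R) = (b i * hR.rootk (K + 1) f ^ (p - 1)) * hR.rootk (K + 1) f
    rw [hb i, mul_assoc, ← pow_succ, Nat.sub_add_cancel (by omega), hR.rootk_succ_pow]
  · obtain ⟨q, hq⟩ : ∃ q, p - 1 = q + 1 := ⟨p - 2, by omega⟩
    have : ∑ i, a i * (b i * hR.rootk (K + 1) f ^ (p - 1)) =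
        ((∑ i, a i * b i) * hR.rootk (K + 1) f) * hR.rootk (K + 1) f ^ q := by
      rw [hq, Finset.sum_mul, Finset.sum_mul]
      refine Finset.sum_congr rfl fun i _ => ?_
      ring
    rw [this, hs', zero_mul]

end Groth.Agent.Helper1.PerfRing

namespace Groth.Agent.Helper1.PerfRing

variable {p : ℕ} [hp : Fact p.Prime] {R : Type*} [CommRing R] (hR : Perf p R)
  {C : Type*} [CommRing C] [Algebra R C] (hC : Perf p C)

/-- the generator `f_k` as an element of `J f` -/
noncomputable def Perf.gen (f : R) (k : ℕ) : hR.J f := ⟨hR.rootk k f, hR.rootk_mem_J f k⟩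

theorem Perf.gen_le {k l : ℕ} (h : k ≤ l) (f : R) :
    hR.gen f k = (hR.rootk l f) ^ (p ^ (l - k) - 1) • hR.gen f l := by
  apply Subtype.ext
  show hR.rootk k f = (hR.rootk l f) ^ (p ^ (l - k) - 1) * hR.rootk l f
  exact hR.rootk_le' h f

theorem Perf.tensor_J_form (f : R) (t : C ⊗[R] (hR.J f)) :
    ∃ (k : ℕ) (c : C), t = c ⊗ₜ[R] hR.gen f k := by
  induction t using TensorProduct.induction_on with
  | zero => exact ⟨0, 0, (zero_tmul _ _).symm⟩
  | tmul c x =>
    obtain ⟨k, a, ha⟩ := (hR.mem_J_iff f _).mp x.2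
    refine ⟨k, a • c, ?_⟩
    have : x = a • hR.gen f k := Subtype.ext ha
    rw [this, tmul_smul, smul_tmul']
  | add x y hx hy =>
    obtain ⟨k, c, rfl⟩ := hx
    obtain ⟨l, d, rfl⟩ := hy
    refine ⟨max k l, (hR.rootk (max k l) f) ^ (p ^ (max k l - k) - 1) • c +
      (hR.rootk (max k l) f) ^ (p ^ (max k l - l) - 1) • d, ?_⟩
    rw [hR.gen_le (le_max_left k l) f, hR.gen_le (le_max_right k l) f, add_tmul,
      tmul_smul, tmul_smul, smul_tmul', smul_tmul']

include hC in
theorem Perf.lTensor_J_injective (f : R) :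
    Function.Injective (LinearMap.lTensor C (hR.J f).subtype) := by
  rw [injective_iff_map_eq_zero]
  intro t ht
  obtain ⟨k, c, rfl⟩ := hR.tensor_J_form (C := C) f t
  have h1 : hR.rootk k f • c = 0 := by
    have := congrArg (TensorProduct.rid R C) ht
    simpa [Perf.gen] using this
  have h2 : hR.rootk (k + 1) f • c = 0 := by
    rw [Algebra.smul_def] at h1 ⊢
    apply hC.eq_zero_of_pow_p
    rw [mul_pow, ← map_pow, hR.rootk_succ_pow]
    have h2 : 2 ≤ p := hp.out.two_le
    obtain ⟨q, rfl⟩ : ∃ q, p = q + 1 := ⟨p - 1, by omega⟩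
    rw [pow_succ, ← mul_assoc, mul_comm _ (c ^ q), mul_assoc, h1, mul_zero]
  have h2' : 2 ≤ p := hp.out.two_le
  obtain ⟨q, hq⟩ : ∃ q, p - 1 = q + 1 := ⟨p - 2, by omega⟩
  have h3 : hR.gen f k = (hR.rootk (k + 1) f) ^ (p - 1) • hR.gen f (k + 1) := by
    have := hR.gen_le (Nat.le_succ k) f
    simpa using this
  rw [h3, tmul_smul, smul_tmul', hq, pow_succ, mul_smul, h2, smul_zero, zero_tmul]

end Groth.Agent.Helper1.PerfRing
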