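import Groth.Agent.Lib.Helper1.TorL
universe u
open CategoryTheory MonoidalCategory Limits TensorProduct

namespace Groth.Agent.Helper1.TorBC
open Groth.Agent.Helper1.TorL

section Alg
variable {A A' : Type*} [CommRing A] [CommRing A'] (σ : A →+* A')
variable {M1 M0 N0 : Type*} [AddCommGroup M1] [AddCommGroup M0] [AddCommGroup N0]
  [Module A M1] [Module A M0] [Module A N0]
variable {M1' M0' N0' : Type*} [AddCommGroup M1'] [AddCommGroup M0'] [AddCommGroup N0']
  [Module A' M1'] [Module A' M0'] [Module A' N0']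

theorem ker_compare (δ : M1 →ₗ[A] M0) (f : M0 →ₗ[A] N0) (hδ : Function.Injective δ)
    (hex : Function.Exact δ f)
    (δ' : M1' →ₗ[A'] M0') (f' : M0' →ₗ[A'] N0') (hδ' : Function.Injective δ')
    (hex' : Function.Exact δ' f')
    (e0 : M0 →ₛₗ[σ] M0') (he0 : Function.Bijective e0)
    (eN : N0 →ₛₗ[σ] N0') (heN : Function.Injective eN)
    (hcomm : ∀ x, f' (e0 x) = eN (f x)) :
    ∃ φ : M1 →ₛₗ[σ] M1', Function.Bijective φ := by
  have hmem : ∀ c, (e0.comp δ) c ∈ LinearMap.range δ' := by
    intro c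
    rw [← hex'.linearMap_ker_eq, LinearMap.mem_ker]
    show f' (e0 (δ c)) = 0
    rw [hcomm, hex.apply_apply_eq_zero, map_zero]
  refine ⟨((LinearEquiv.ofInjective δ' hδ').symm : LinearMap.range δ' →ₗ[A'] M1').comp
    (LinearMap.codRestrict (LinearMap.range δ') (e0.comp δ) hmem), ?_, ?_⟩
  · intro x y hxy
    have h1 := (LinearEquiv.ofInjective δ' hδ').symm.injective hxy
    have h2 : e0 (δ x) = e0 (δ y) := congrArg Subtype.val h1
    exact hδ (he0.1 h2)
  · intro y
    obtain ⟨z, hz⟩ := he0.2 (δ' y)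
    have hfz : f z = 0 := by
      apply heN
      rw [← hcomm, hz, hex'.apply_apply_eq_zero, map_zero]
    obtain ⟨x, hx⟩ := (hex z).1 hfz
    refine ⟨x, ?_⟩
    apply hδ'
    show δ' ((LinearEquiv.ofInjective δ' hδ').symm _) = _
    have := (LinearEquiv.ofInjective δ' hδ').apply_symm_apply
      (LinearMap.codRestrict (LinearMap.range δ') (e0.comp δ) hmem x)
    have h3 := congrArg Subtype.val this
    simp only [LinearEquiv.ofInjective_apply] at h3
    rw [h3]
    show e0 (δ x) = _
    rw [hx, hz]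

end Alg
section Base0
variable (A A' : Type u) [CommRing A] [CommRing A'] [Algebra A A']
variable (P : Type u) [AddCommGroup P] [Module A P]
variable (Q' : Type u) [AddCommGroup Q'] [Module A' Q'] [Module A Q'] [IsScalarTower A A' Q']

/-- `P ⊗_A Q' ≃ (A' ⊗_A P) ⊗_{A'} Q'` as `A`-modules. -/
noncomputable def base0Equiv : P ⊗[A] Q' ≃ₗ[A] (A' ⊗[A] P) ⊗[A'] Q' :=
  (TensorProduct.comm A P Q') ≪≫ₗ
    (((TensorProduct.AlgebraTensorModule.cancelBaseChange A A' A' Q' P).symm.restrictScalars A) ≪≫ₗ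
      ((TensorProduct.comm A' Q' (A' ⊗[A] P)).restrictScalars A))

theorem base0Equiv_tmul (p : P) (q : Q') :
    base0Equiv A A' P Q' (p ⊗ₜ q) = ((1 : A') ⊗ₜ[A] p) ⊗ₜ[A'] q := by
  simp [base0Equiv]

/-- semilinear version -/
noncomputable def base0 : P ⊗[A] Q' →ₛₗ[algebraMap A A'] (A' ⊗[A] P) ⊗[A'] Q' where
  toFun := base0Equiv A A' P Q'
  map_add' := map_add _
  map_smul' a x := by
    rw [map_smul, algebraMap_smul]

theorem base0_bijective : Function.Bijective (base0 A A' P Q') :=
  (base0Equiv A A' P Q').bijective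

theorem base0_tmul (p : P) (q : Q') :
    base0 A A' P Q' (p ⊗ₜ q) = ((1 : A') ⊗ₜ[A] p) ⊗ₜ[A'] q := base0Equiv_tmul A A' P Q' p q

variable {P} {P₂ : Type u} [AddCommGroup P₂] [Module A P₂]

theorem base0_natural (f : P →ₗ[A] P₂) (x : P ⊗[A] Q') :
    base0 A A' P₂ Q' (f.rTensor Q' x) = (f.baseChange A').rTensor Q' (base0 A A' P Q' x) := by
  induction x using TensorProduct.induction_on with
  | zero => simp
  | tmul p q => simp [base0_tmul]
  | add x y hx hy => simp only [map_add, hx, hy]

end Base0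

section Main
variable (A A' : Type u) [CommRing A] [CommRing A'] [Algebra A A']
variable (Q' : Type u) [AddCommGroup Q'] [Module A' Q'] [Module A Q'] [IsScalarTower A A' Q']

/-- the degree-0 comparison -/
noncomputable def psi0 (P : Type u) [AddCommGroup P] [Module A P] :
    T 0 (ModuleCat.of A P) (ModuleCat.of A Q') →ₛₗ[algebraMap A A']
      T 0 (ModuleCat.of A' (A' ⊗[A] P)) (ModuleCat.of A' Q') :=
  ((tor0Iso (ModuleCat.of A' (A' ⊗[A] P)) (ModuleCat.of A' Q')).inv.hom).comp
    ((base0 A A' P Q').comp (tor0Iso (ModuleCat.of A P) (ModuleCat.of A Q')).hom.hom)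

theorem psi0_bijective (P : Type u) [AddCommGroup P] [Module A P] :
    Function.Bijective (psi0 A A' Q' P) := by
  have h1 : Function.Bijective (tor0Iso (ModuleCat.of A P) (ModuleCat.of A Q')).hom.hom :=
    (tor0Iso (ModuleCat.of A P) (ModuleCat.of A Q')).toLinearEquiv.bijective
  have h2 : Function.Bijective
      (tor0Iso (ModuleCat.of A' (A' ⊗[A] P)) (ModuleCat.of A' Q')).inv.hom :=
    (tor0Iso (ModuleCat.of A' (A' ⊗[A] P)) (ModuleCat.of A' Q')).symm.toLinearEquiv.bijective
  exact h2.comp ((base0_bijective A A' P Q').comp h1)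

theorem psi0_natural {P P₂ : Type u} [AddCommGroup P] [Module A P] [AddCommGroup P₂] [Module A P₂]
    (f : P →ₗ[A] P₂) (x : T 0 (ModuleCat.of A P) (ModuleCat.of A Q')) :
    psi0 A A' Q' P₂ ((((Tor (ModuleCat.{u} A) 0).map (ModuleCat.ofHom f)).app
        (ModuleCat.of A Q')).hom x) =
      (((Tor (ModuleCat.{u} A') 0).map (ModuleCat.ofHom (f.baseChange A'))).app
        (ModuleCat.of A' Q')).hom (psi0 A A' Q' P x) := by
  have n1 := tor0Iso_naturality (ModuleCat.ofHom f) (ModuleCat.of A Q')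
  have n2 := tor0Iso_naturality (ModuleCat.ofHom (f.baseChange A')) (ModuleCat.of A' Q')
  have n1' : (tor0Iso (ModuleCat.of A P₂) (ModuleCat.of A Q')).hom.hom
      ((((Tor (ModuleCat.{u} A) 0).map (ModuleCat.ofHom f)).app (ModuleCat.of A Q')).hom x) =
      f.rTensor Q' ((tor0Iso (ModuleCat.of A P) (ModuleCat.of A Q')).hom.hom x) :=
    congrArg (fun g => g.hom x) n1
  have n2'' : (tor0Iso (ModuleCat.of A' (A' ⊗[A] P)) (ModuleCat.of A' Q')).inv ≫
      ((Tor (ModuleCat.{u} A') 0).map (ModuleCat.ofHom (f.baseChange A'))).app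
        (ModuleCat.of A' Q') =
      (ModuleCat.ofHom (f.baseChange A') ▷ (ModuleCat.of A' Q')) ≫
        (tor0Iso (ModuleCat.of A' (A' ⊗[A] P₂)) (ModuleCat.of A' Q')).inv := by
    rw [Iso.inv_comp_eq, ← Category.assoc, Iso.eq_comp_inv]
    exact n2
  have n2' : ∀ z, (((Tor (ModuleCat.{u} A') 0).map (ModuleCat.ofHom (f.baseChange A'))).app
        (ModuleCat.of A' Q')).hom
        ((tor0Iso (ModuleCat.of A' (A' ⊗[A] P)) (ModuleCat.of A' Q')).inv.hom z) =
      (tor0Iso (ModuleCat.of A' (A' ⊗[A] P₂)) (ModuleCat.of A' Q')).inv.hom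
        ((f.baseChange A').rTensor Q' z) := fun z => congrArg (fun g => g.hom z) n2''
  show (tor0Iso (ModuleCat.of A' (A' ⊗[A] P₂)) (ModuleCat.of A' Q')).inv.hom
    (base0 A A' P₂ Q' ((tor0Iso (ModuleCat.of A P₂) (ModuleCat.of A Q')).hom.hom _)) = _
  rw [n1', base0_natural]
  exact (n2' _).symm

/-- base change of the free presentation, as a short complex of `A'`-modules -/
noncomputable abbrev bcPres (P : Type u) [AddCommGroup P] [Module A P] :
    ShortComplex (ModuleCat.{u} A') :=
  ModuleCat.shortComplexOfCompEqZero ((freePres (R := A) P).f.hom.baseChange A')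
    ((freePres (R := A) P).g.hom.baseChange A') (by
      rw [← LinearMap.baseChange_comp]
      have : (freePres (R := A) P).g.hom ∘ₗ (freePres (R := A) P).f.hom = 0 := by
        rw [← ModuleCat.hom_comp, (freePres (R := A) P).zero]; rfl
      rw [this]; exact LinearMap.baseChange_zero)

theorem bcPres_shortExact (P : Type u) [AddCommGroup P] [Module A P]
    (h1 : Subsingleton (T 1 (ModuleCat.of A P) (ModuleCat.of A A'))) :
    (bcPres A A' P).ShortExact := by
  have hS := freePres_shortExact (R := A) P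
  have hex : Function.Exact (freePres (R := A) P).f.hom (freePres (R := A) P).g.hom :=
    (ShortComplex.ShortExact.moduleCat_exact_iff_function_exact _).mp hS.exact
  have hsurj : Function.Surjective (freePres (R := A) P).g.hom :=
    (ModuleCat.epi_iff_surjective _).mp hS.epi_g
  refine ModuleCat.shortComplex_shortExact _ ?_ ?_ ?_
  · show Function.Exact ((freePres (R := A) P).f.hom.baseChange A')
      ((freePres (R := A) P).g.hom.baseChange A')
    rw [LinearMap.baseChange_eq_ltensor, LinearMap.baseChange_eq_ltensor]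
    exact lTensor_exact A' hex hsurj
  · show Function.Injective ((freePres (R := A) P).f.hom.baseChange A')
    rw [LinearMap.baseChange_eq_ltensor, LinearMap.lTensor_inj_iff_rTensor_inj]
    exact (isZero_tor_one_iff P (ModuleCat.of A A')).mp (ModuleCat.isZero_of_subsingleton _)
  · show Function.Surjective ((freePres (R := A) P).g.hom.baseChange A')
    rw [LinearMap.baseChange_eq_ltensor]
    exact LinearMap.lTensor_surjective A' hsurj

instance (P : Type u) [AddCommGroup P] [Module A P] : Module.Flat A' (bcPres A A' P).X₂ :=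
  inferInstanceAs (Module.Flat A' (A' ⊗[A] (P →₀ A)))

theorem step_one (P : Type u) [AddCommGroup P] [Module A P]
    (h1 : Subsingleton (T 1 (ModuleCat.of A P) (ModuleCat.of A A'))) :
    ∃ φ : T 1 (ModuleCat.of A P) (ModuleCat.of A Q') →ₛₗ[algebraMap A A']
      T 1 (ModuleCat.of A' (A' ⊗[A] P)) (ModuleCat.of A' Q'), Function.Bijective φ := by
  have hS := freePres_shortExact (R := A) P
  have hS' := bcPres_shortExact A A' P h1
  have hF : IsZero (T 1 (freePres (R := A) P).X₂ (ModuleCat.of A Q')) :=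
    isZero_tor_succ_of_flat _ _ 0
  have hF' : IsZero (T 1 (bcPres A A' P).X₂ (ModuleCat.of A' Q')) :=
    isZero_tor_succ_of_flat _ _ 0
  have hm : Mono (torδ _ hS (ModuleCat.of A Q') 0) :=
    (tor_exact₃ _ hS (ModuleCat.of A Q') 0).mono_g (hF.eq_of_src _ _)
  have hm' : Mono (torδ _ hS' (ModuleCat.of A' Q') 0) :=
    (tor_exact₃ _ hS' (ModuleCat.of A' Q') 0).mono_g (hF'.eq_of_src _ _)
  have hex := (ShortComplex.ShortExact.moduleCat_exact_iff_function_exact _).mp
    (tor_exact₁ _ hS (ModuleCat.of A Q') 0)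
  have hex' := (ShortComplex.ShortExact.moduleCat_exact_iff_function_exact _).mp
    (tor_exact₁ _ hS' (ModuleCat.of A' Q') 0)
  exact ker_compare (algebraMap A A') (torδ _ hS (ModuleCat.of A Q') 0).hom _
    ((ModuleCat.mono_iff_injective _).mp hm) hex
    (torδ _ hS' (ModuleCat.of A' Q') 0).hom _ ((ModuleCat.mono_iff_injective _).mp hm') hex'
    (psi0 A A' Q' _) (psi0_bijective A A' Q' _) (psi0 A A' Q' _) (psi0_bijective A A' Q' _).1
    (fun x => (psi0_natural A A' Q' (freePres (R := A) P).f.hom x).symm)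

theorem main (n : ℕ) : ∀ (P : Type u) [AddCommGroup P] [Module A P],
    (∀ q : ℕ, 0 < q → Subsingleton (T q (ModuleCat.of A P) (ModuleCat.of A A'))) →
    ∃ φ : T (n + 1) (ModuleCat.of A P) (ModuleCat.of A Q') →ₛₗ[algebraMap A A']
      T (n + 1) (ModuleCat.of A' (A' ⊗[A] P)) (ModuleCat.of A' Q'), Function.Bijective φ := by
  induction n with
  | zero =>
    intro P _ _ hP
    exact step_one A A' Q' P (hP 1 one_pos)
  | succ n ih =>
    intro P _ _ hP
    have hS := freePres_shortExact (R := A) P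
    have hS' := bcPres_shortExact A A' P (hP 1 one_pos)
    have hK : ∀ q : ℕ, 0 < q → Subsingleton
        (T q (ModuleCat.of A (freePres (R := A) P).X₁) (ModuleCat.of A A')) := by
      intro q hq
      obtain ⟨q, rfl⟩ : ∃ k, q = k + 1 := ⟨q - 1, by omega⟩
      have := hP (q + 2) (by omega)
      exact ModuleCat.subsingleton_of_isZero
        ((isZero_tor_succ_succ_iff P (ModuleCat.of A A') q).mp (ModuleCat.isZero_of_subsingleton _))
    obtain ⟨φ, hφ⟩ := ih (freePres (R := A) P).X₁ hK
    have e := torShiftIso _ hS (ModuleCat.of A Q') (n + 1)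
      (isZero_tor_succ_of_flat _ _ _) (isZero_tor_succ_of_flat _ _ _)
    have e' := torShiftIso _ hS' (ModuleCat.of A' Q') (n + 1)
      (isZero_tor_succ_of_flat _ _ _) (isZero_tor_succ_of_flat _ _ _)
    refine ⟨(e'.inv.hom).comp (φ.comp e.hom.hom), ?_⟩
    exact (e'.symm.toLinearEquiv.bijective).comp (hφ.comp e.toLinearEquiv.bijective)

theorem full (n : ℕ) (P : Type u) [AddCommGroup P] [Module A P]
    (hP : ∀ q : ℕ, 0 < q → Subsingleton (T q (ModuleCat.of A P) (ModuleCat.of A A'))) :
    ∃ φ : T n (ModuleCat.of A P) (ModuleCat.of A Q') →ₛₗ[algebraMap A A']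
      T n (ModuleCat.of A' (A' ⊗[A] P)) (ModuleCat.of A' Q'), Function.Bijective φ := by
  cases n with
  | zero => exact ⟨psi0 A A' Q' P, psi0_bijective A A' Q' P⟩
  | succ n => exact main A A' Q' n P hP

end Main
end Groth.Agent.Helper1.TorBC
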