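import Mathlib
import Groth.Agent.Lib.Helper1.TorNat
import Groth.Agent.Lib.Helper1.TorBal

universe u v
open CategoryTheory MonoidalCategory Limits

namespace Groth.Agent.Helper1.TorBalNat
open Groth.Agent.Helper1.TorBal

section RHD
variable {V : Type u} [Category.{v} V] [Abelian V] (S : ShortComplex V) {K' : V}
  (p : S.X₂ ⟶ K') (ι' : K' ⟶ S.X₃) (fac : p ≫ ι' = S.g) (w : S.f ≫ p = 0)
  (hp : IsColimit (CokernelCofork.ofπ p w))

/-- right homology data from a factorization of `g` through the cokernel of `f`. -/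
noncomputable def rhd : S.RightHomologyData where
  Q := K'
  H := kernel (hp.desc (CokernelCofork.ofπ S.g S.zero))
  p := p
  ι := kernel.ι _
  wp := w
  hp := hp
  wι := kernel.condition _
  hι := kernelIsKernel _

include fac in
theorem rhd_g' : (rhd S p w hp).g' = ι' := by
  apply Cofork.IsColimit.hom_ext hp
  refine (Cofork.IsColimit.π_desc hp).trans ?_
  exact fac.symm

/-- `H(S) ≅ ker ι'`. -/
noncomputable def homIso : S.homology ≅ kernel ι' :=
  (rhd S p w hp).homologyIso ≪≫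
    kernel.mapIso (rhd S p w hp).g' ι' (Iso.refl _) (Iso.refl _)
      (by rw [rhd_g' S p ι' fac w hp]; exact (Category.comp_id _).trans (Category.id_comp _).symm)

set_option backward.isDefEq.respectTransparency false in
theorem π_homIso_hom_ι :
    S.homologyπ ≫ (homIso S p ι' fac w hp).hom ≫ kernel.ι ι' = S.iCycles ≫ p := by
  have h1 : (rhd S p w hp).homologyIso.hom ≫ (rhd S p w hp).ι =
      S.homologyι ≫ (rhd S p w hp).opcyclesIso.hom :=
    (rhd S p w hp).homologyIso_hom_comp_ι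
  have h2 : S.pOpcycles ≫ (rhd S p w hp).opcyclesIso.hom = p :=
    (rhd S p w hp).pOpcycles_comp_opcyclesIso_hom
  have h3 : (rhd S p w hp).ι = kernel.ι (rhd S p w hp).g' := rfl
  simp only [homIso, Iso.trans_hom, kernel.mapIso_hom, Category.assoc, kernel.lift_ι,
    Iso.refl_hom, Category.comp_id]
  rw [← h3, h1, ← Category.assoc, ShortComplex.homology_π_ι, Category.assoc, h2]

end RHD

section CC
variable {V : Type u} [Category.{v} V] [Abelian V] (D : ChainComplex V ℕ) {K' : V}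
  (p : D.X 1 ⟶ K') (ι' : K' ⟶ D.X 0) (fac : p ≫ ι' = D.d 1 0) (w : D.d 2 1 ≫ p = 0)
  (hp : IsColimit (CokernelCofork.ofπ p w))

/-- `H_1(D) ≅ ker ι'` when `d₁₀ = p ≫ ι'` with `p = coker d₂₁`. -/
noncomputable def homOneIso : D.homology 1 ≅ kernel ι' :=
  D.homologyIsoSc' 2 1 0 (by simp) (by simp) ≪≫ homIso (D.sc' 2 1 0) p ι' fac w hp

set_option backward.isDefEq.respectTransparency false in
@[reassoc]
theorem π_homOneIso_hom_ι :
    D.homologyπ 1 ≫ (homOneIso D p ι' fac w hp).hom ≫ kernel.ι ι' = D.iCycles 1 ≫ p := by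
  rw [homOneIso, Iso.trans_hom, Category.assoc, ← Category.assoc (D.homologyπ 1),
    D.π_homologyIsoSc'_hom, Category.assoc, π_homIso_hom_ι, ← Category.assoc,
    D.cyclesIsoSc'_hom_iCycles]

end CC

section CCnat
variable {V : Type u} [Category.{v} V] [Abelian V] {D D' : ChainComplex V ℕ} (ψ : D ⟶ D')
  {K' K'' : V}
  (p : D.X 1 ⟶ K') (ι' : K' ⟶ D.X 0) (fac : p ≫ ι' = D.d 1 0) (w : D.d 2 1 ≫ p = 0)
  (hp : IsColimit (CokernelCofork.ofπ p w))
  (p' : D'.X 1 ⟶ K'') (ι'' : K'' ⟶ D'.X 0) (fac' : p' ≫ ι'' = D'.d 1 0) (w' : D'.d 2 1 ≫ p' = 0)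
  (hp' : IsColimit (CokernelCofork.ofπ p' w'))
  (κ : K' ⟶ K'') (h1 : p ≫ κ = ψ.f 1 ≫ p') (h0 : ι' ≫ ψ.f 0 = κ ≫ ι'')

include h1 in
set_option backward.isDefEq.respectTransparency false in
theorem homOneIso_naturality :
    HomologicalComplex.homologyMap ψ 1 ≫ (homOneIso D' p' ι'' fac' w' hp').hom =
      (homOneIso D p ι' fac w hp).hom ≫ kernel.map ι' ι'' κ (ψ.f 0) h0 := by
  rw [← cancel_epi (D.homologyπ 1), ← cancel_mono (kernel.ι ι'')]
  simp only [Category.assoc]
  rw [HomologicalComplex.homologyπ_naturality_assoc, π_homOneIso_hom_ι, kernel.lift_ι,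
    π_homOneIso_hom_ι_assoc, h1, HomologicalComplex.cyclesMap_i_assoc]

end CCnat

section ShiftNat
variable {V : Type u} [Category.{v} V] [Abelian V]

theorem homologyMap_isoSc'_naturality {D D' : ChainComplex V ℕ} (ψ : D ⟶ D') (i j k : ℕ)
    (hi : (ComplexShape.down ℕ).prev j = i) (hk : (ComplexShape.down ℕ).next j = k) :
    HomologicalComplex.homologyMap ψ j ≫
      (ShortComplex.homologyMapIso (D'.isoSc' i j k hi hk)).hom =
    (ShortComplex.homologyMapIso (D.isoSc' i j k hi hk)).hom ≫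
      ShortComplex.homologyMap
        ((HomologicalComplex.shortComplexFunctor' V (ComplexShape.down ℕ) i j k).map ψ) := by
  have h := (HomologicalComplex.natIsoSc' V (ComplexShape.down ℕ) i j k hi hk).hom.naturality ψ
  show ShortComplex.homologyMap _ ≫ ShortComplex.homologyMap _ =
    ShortComplex.homologyMap _ ≫ ShortComplex.homologyMap _
  rw [← ShortComplex.homologyMap_comp, ← ShortComplex.homologyMap_comp]
  congr 1

set_option backward.isDefEq.respectTransparency false in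
theorem truncHomologyIso_naturality {D D' : ChainComplex V ℕ} (ψ : D ⟶ D') (n : ℕ) :
    HomologicalComplex.homologyMap (ChainComplex.truncate.map ψ) (n + 1) ≫
      (truncHomologyIso D' n).hom =
    (truncHomologyIso D n).hom ≫ HomologicalComplex.homologyMap ψ (n + 2) := by
  have h1 := homologyMap_isoSc'_naturality (ChainComplex.truncate.map ψ) (n + 2) (n + 1) n
    (by simp) (by simp)
  have h2 := homologyMap_isoSc'_naturality ψ (n + 3) (n + 2) (n + 1) (by simp) (by simp)
  have h2' : (ShortComplex.homologyMapIso (D.isoSc' (n + 3) (n + 2) (n + 1)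
      (by simp) (by simp))).inv ≫ HomologicalComplex.homologyMap ψ (n + 2) =
      ShortComplex.homologyMap ((HomologicalComplex.shortComplexFunctor' V
        (ComplexShape.down ℕ) (n + 3) (n + 2) (n + 1)).map ψ) ≫
      (ShortComplex.homologyMapIso (D'.isoSc' (n + 3) (n + 2) (n + 1) (by simp) (by simp))).inv := by
    rw [Iso.inv_comp_eq, ← Category.assoc, Iso.eq_comp_inv]
    exact h2
  show _ ≫ (_ ≫ 𝟙 _ ≫ _) = (_ ≫ 𝟙 _ ≫ _) ≫ _
  rw [Category.id_comp, Category.id_comp, Category.assoc]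
  erw [h2']
  rw [← Category.assoc, ← Category.assoc]
  congr 1

end ShiftNat

end Groth.Agent.Helper1.TorBalNat

namespace Groth.Agent.Helper1.TorBalNat
open Groth.Agent.Helper1.TorL Groth.Agent.Helper1.TorNat Groth.Agent.Helper1.TorBal
variable {R : Type u} [CommRing R]

/-- second-variable map on `X ⊗ Q`. -/
noncomputable abbrev tensCxMap₂ (X : ModuleCat.{u} R) {Q Q' : ChainComplex (ModuleCat.{u} R) ℕ}
    (φ : Q ⟶ Q') : tensCx X Q ⟶ tensCx X Q' :=
  ((tensorLeft X).mapHomologicalComplex _).map φ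

theorem tensCxMap_comm {X X' : ModuleCat.{u} R} (f : X ⟶ X')
    {Q Q' : ChainComplex (ModuleCat.{u} R) ℕ} (φ : Q ⟶ Q') :
    tensCxMap f Q ≫ tensCxMap₂ X' φ = tensCxMap₂ X φ ≫ tensCxMap f Q' := by
  ext i : 1
  show f ▷ Q.X i ≫ X' ◁ φ.f i = X ◁ φ.f i ≫ f ▷ Q'.X i
  exact (whisker_exchange f (φ.f i)).symm

noncomputable def tensSCMap₂ (S : ShortComplex (ModuleCat.{u} R))
    {Q Q' : ChainComplex (ModuleCat.{u} R) ℕ} (φ : Q ⟶ Q') : tensSC S Q ⟶ tensSC S Q' where
  τ₁ := tensCxMap₂ S.X₁ φ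
  τ₂ := tensCxMap₂ S.X₂ φ
  τ₃ := tensCxMap₂ S.X₃ φ
  comm₁₂ := (tensCxMap_comm S.f φ).symm
  comm₂₃ := (tensCxMap_comm S.g φ).symm

theorem tor_map_hom₂ (X : ModuleCat.{u} R) {Y Y' : ModuleCat.{u} R} (g : Y ⟶ Y')
    (Q : ProjectiveResolution Y) (Q' : ProjectiveResolution Y') (φ : Q.complex ⟶ Q'.complex)
    (comm : φ.f 0 ≫ Q'.π.f 0 = Q.π.f 0 ≫ g) (n : ℕ) :
    ((Tor (ModuleCat.{u} R) n).obj X).map g ≫ (torIso X Q' n).hom =
      (torIso X Q n).hom ≫ HomologicalComplex.homologyMap (tensCxMap₂ X φ) n :=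
  ProjectiveResolution.isoLeftDerivedObj_hom_naturality g Q Q' φ comm
    ((tensoringLeft (ModuleCat.{u} R)).obj X) n

theorem torδ_naturality₂ (S : ShortComplex (ModuleCat.{u} R)) (hS : S.ShortExact)
    {Y Y' : ModuleCat.{u} R} (g : Y ⟶ Y') (n : ℕ) :
    torδ S hS Y n ≫ ((Tor (ModuleCat.{u} R) n).obj S.X₁).map g =
      ((Tor (ModuleCat.{u} R) (n + 1)).obj S.X₃).map g ≫ torδ S hS Y' n := by
  let Q := projectiveResolution Y
  let Q' := projectiveResolution Y'
  let φ := ProjectiveResolution.lift g Q Q'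
  have comm : φ.f 0 ≫ Q'.π.f 0 = Q.π.f 0 ≫ g := ProjectiveResolution.lift_commutes_zero g Q Q'
  have hSQ := tensSC_shortExact S hS Q.complex (flat_res Q)
  have hSQ' := tensSC_shortExact S hS Q'.complex (flat_res Q')
  have hnat := HomologicalComplex.HomologySequence.δ_naturality (tensSCMap₂ S φ) hSQ hSQ'
    (n + 1) n (relDown n)
  rw [← cancel_mono (torIso S.X₁ Q' n).hom, Category.assoc, Category.assoc, torδ_hom,
    tor_map_hom₂ S.X₁ g Q Q' φ comm n, reassoc_of% (torδ_hom S hS Y n),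
    reassoc_of% (tor_map_hom₂ S.X₃ g Q Q' φ comm (n + 1))]
  congr 1

/-- The functor `N ↦ C ⊗ N`. -/
noncomputable def tensCxFunctorR (C : ChainComplex (ModuleCat.{u} R) ℕ) :
    ModuleCat.{u} R ⥤ ChainComplex (ModuleCat.{u} R) ℕ where
  obj N := ((tensorRight N).mapHomologicalComplex _).obj C
  map g := (NatTrans.mapHomologicalComplex ((tensoringRight (ModuleCat.{u} R)).map g) _).app C
  map_id N := by
    ext i : 1
    exact whiskerLeft_id (C.X i) N
  map_comp f g := by
    ext i : 1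
    exact whiskerLeft_comp (C.X i) f g

/-- The functor `N ↦ H_n(C ⊗ N)`. -/
noncomputable def HKf (C : ChainComplex (ModuleCat.{u} R) ℕ) (n : ℕ) :
    ModuleCat.{u} R ⥤ ModuleCat.{u} R :=
  tensCxFunctorR C ⋙ HomologicalComplex.homologyFunctor _ _ n

theorem iso0_hom {M : ModuleCat.{u} R} (P : ProjectiveResolution M) (N : ModuleCat.{u} R) :
    (iso0 N P).hom = (tor0Iso M N).hom ≫ ((tensorRight N).leftDerivedZeroIsoSelf.app M).inv ≫
      (P.isoLeftDerivedObj (tensorRight N) 0).hom := rfl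

set_option backward.isDefEq.respectTransparency false in
theorem iso0_naturality {M : ModuleCat.{u} R} (P : ProjectiveResolution M)
    {N N' : ModuleCat.{u} R} (g : N ⟶ N') :
    ((Tor (ModuleCat.{u} R) 0).obj M).map g ≫ (iso0 N' P).hom =
      (iso0 N P).hom ≫ (HKf P.complex 0).map g := by
  let α : tensorRight N ⟶ tensorRight N' := (tensoringRight (ModuleCat.{u} R)).map g
  have h1 : ((Tor (ModuleCat.{u} R) 0).obj M).map g ≫ (tor0Iso M N').hom =
      (tor0Iso M N).hom ≫ α.app M :=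
    ((tensorLeft M).leftDerivedZeroIsoSelf).hom.naturality g
  have h2 : α.app M ≫ ((tensorRight N').leftDerivedZeroIsoSelf.app M).inv =
      ((tensorRight N).leftDerivedZeroIsoSelf.app M).inv ≫ (NatTrans.leftDerived α 0).app M := by
    rw [Iso.comp_inv_eq, Category.assoc, Iso.eq_inv_comp]
    exact (fromLeftDerivedZero_naturality_natTrans α M).symm
  have h3 : (NatTrans.leftDerived α 0).app M ≫ (P.isoLeftDerivedObj (tensorRight N') 0).hom =
      (P.isoLeftDerivedObj (tensorRight N) 0).hom ≫ (HKf P.complex 0).map g := by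
    rw [P.leftDerived_app_eq α 0, Category.assoc, Category.assoc, Iso.inv_hom_id,
      Category.comp_id]
    rfl
  rw [iso0_hom, iso0_hom, reassoc_of% h1, reassoc_of% h2, h3, Category.assoc, Category.assoc]

theorem tor0Iso_naturality₂ (X : ModuleCat.{u} R) {Y Y' : ModuleCat.{u} R} (g : Y ⟶ Y') :
    ((Tor (ModuleCat.{u} R) 0).obj X).map g ≫ (tor0Iso X Y').hom =
      (tor0Iso X Y).hom ≫ X ◁ g :=
  ((tensorLeft X).leftDerivedZeroIsoSelf).hom.naturality g

section TorOne
variable (S : ShortComplex (ModuleCat.{u} R)) (hS : S.ShortExact) (N : ModuleCat.{u} R)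
  (hF : IsZero (T 1 S.X₂ N))

noncomputable def torOneLimit :
    IsLimit (KernelFork.ofι (torδ S hS N 0) (tor_δ_comp S hS N 0)) :=
  @ShortComplex.Exact.fIsKernel _ _ _ _ _ (tor_exact₁ S hS N 0)
    ((tor_exact₃ S hS N 0).mono_g (hF.eq_of_src _ _))

/-- `Tor₁(X₃, N) ≅ ker (X₁ ⊗ N → X₂ ⊗ N)` when `Tor₁(X₂, N) = 0`. -/
noncomputable def torOneIso : T 1 S.X₃ N ≅ kernel (S.f ▷ N) :=
  IsLimit.conePointUniqueUpToIso (torOneLimit S hS N hF) (kernelIsKernel _) ≪≫
    kernel.mapIso _ _ (tor0Iso S.X₁ N) (tor0Iso S.X₂ N) (tor0Iso_naturality S.f N)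

@[reassoc]
theorem torOneIso_hom_ι :
    (torOneIso S hS N hF).hom ≫ kernel.ι (S.f ▷ N) = torδ S hS N 0 ≫ (tor0Iso S.X₁ N).hom := by
  simp only [torOneIso, Iso.trans_hom, kernel.mapIso_hom, Category.assoc, kernel.lift_ι]
  rw [← Category.assoc]
  congr 1
  exact IsLimit.conePointUniqueUpToIso_hom_comp (torOneLimit S hS N hF) (kernelIsKernel _)
    WalkingParallelPair.zero

end TorOne

theorem torOneIso_naturality (S : ShortComplex (ModuleCat.{u} R)) (hS : S.ShortExact)
    {N N' : ModuleCat.{u} R} (g : N ⟶ N') (hF : IsZero (T 1 S.X₂ N))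
    (hF' : IsZero (T 1 S.X₂ N')) :
    ((Tor (ModuleCat.{u} R) 1).obj S.X₃).map g ≫ (torOneIso S hS N' hF').hom =
      (torOneIso S hS N hF).hom ≫
        kernel.map (S.f ▷ N) (S.f ▷ N') (S.X₁ ◁ g) (S.X₂ ◁ g) (whisker_exchange S.f g).symm := by
  rw [← cancel_mono (kernel.ι (S.f ▷ N'))]
  simp only [Category.assoc]
  rw [torOneIso_hom_ι, kernel.lift_ι, torOneIso_hom_ι_assoc, ← tor0Iso_naturality₂,
    ← Category.assoc, ← torδ_naturality₂, Category.assoc]

section HKOne
variable {M : ModuleCat.{u} R} (P : ProjectiveResolution M) (N : ModuleCat.{u} R)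

theorem hkOne_fac : dLift P ▷ N ≫ syzι P ▷ N =
    ((tensCxFunctorR P.complex).obj N).d 1 0 := by
  rw [← comp_whiskerRight, dLift_ι]
  rfl

theorem hkOne_w : ((tensCxFunctorR P.complex).obj N).d 2 1 ≫ dLift P ▷ N = 0 :=
  (tensSC₀ N P).zero

noncomputable def hkOne_hp : IsColimit (CokernelCofork.ofπ (dLift P ▷ N)
    (hkOne_w P N)) :=
  (tensSC₀_exact N P).gIsCokernel

set_option synthInstance.maxHeartbeats 400000 in
/-- `H_1(P ⊗ N) ≅ ker (syz ⊗ N → P₀ ⊗ N)`. -/
noncomputable def hkOneIso : (HKf P.complex 1).obj N ≅ kernel (syzι P ▷ N) :=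
  homOneIso ((tensCxFunctorR P.complex).obj N) (dLift P ▷ N)
    (syzι P ▷ N) (hkOne_fac P N) (hkOne_w P N) (hkOne_hp P N)

set_option synthInstance.maxHeartbeats 400000 in
theorem hkOneIso_naturality {N N' : ModuleCat.{u} R} (g : N ⟶ N') :
    (HKf P.complex 1).map g ≫ (hkOneIso P N').hom =
      (hkOneIso P N).hom ≫ kernel.map (syzι P ▷ N)
        (syzι P ▷ N') (syz P ◁ g) (P.complex.X 0 ◁ g)
        (whisker_exchange (syzι P) g).symm :=
  homOneIso_naturality ((tensCxFunctorR P.complex).map g) _ _ _ _ _ _ _ _ _ _ (syz P ◁ g)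
    (whisker_exchange (dLift P) g).symm (whisker_exchange (syzι P) g).symm

theorem isZero_tor_one_syzSC_X₂ : IsZero (T 1 (syzSC P).X₂ N) := by
  have := flat_X₂ P
  exact isZero_tor_succ_of_flat _ _ 0

set_option synthInstance.maxHeartbeats 400000 in
/-- degree one, natural version -/
noncomputable def iso1' : T 1 M N ≅ (HKf P.complex 1).obj N :=
  torOneIso (syzSC P) (syzSC_shortExact P) N (isZero_tor_one_syzSC_X₂ P N) ≪≫ (hkOneIso P N).symm

set_option synthInstance.maxHeartbeats 400000 in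
set_option backward.isDefEq.respectTransparency false in
theorem iso1'_naturality {N N' : ModuleCat.{u} R} (g : N ⟶ N') :
    ((Tor (ModuleCat.{u} R) 1).obj M).map g ≫ (iso1' P N').hom =
      (iso1' P N).hom ≫ (HKf P.complex 1).map g := by
  have h1 := torOneIso_naturality (syzSC P) (syzSC_shortExact P) g
    (isZero_tor_one_syzSC_X₂ P N) (isZero_tor_one_syzSC_X₂ P N')
  have h2 := hkOneIso_naturality P g
  have h3 : (hkOneIso P N).inv ≫ (HKf P.complex 1).map g = kernel.map (syzι P ▷ N)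
        (syzι P ▷ N') (syz P ◁ g) (P.complex.X 0 ◁ g)
        (whisker_exchange (syzι P) g).symm ≫ (hkOneIso P N').inv := by
    rw [Iso.inv_comp_eq, ← Category.assoc, Iso.eq_comp_inv]
    exact h2
  show _ ≫ (_ ≫ (hkOneIso P N').inv) = (_ ≫ (hkOneIso P N).inv) ≫ _
  rw [Category.assoc, h3, ← Category.assoc, ← Category.assoc]
  congr 1

end HKOne


section Shift
variable {M : ModuleCat.{u} R} (P : ProjectiveResolution M)

theorem torShift_naturality {N N' : ModuleCat.{u} R} (g : N ⟶ N') (n : ℕ) :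
    ((Tor (ModuleCat.{u} R) (n + 2)).obj M).map g ≫ (torShift N' P n).hom =
      (torShift N P n).hom ≫ ((Tor (ModuleCat.{u} R) (n + 1)).obj (syz P)).map g :=
  (torδ_naturality₂ (syzSC P) (syzSC_shortExact P) g (n + 1)).symm

theorem isoShift_naturality {N N' : ModuleCat.{u} R} (g : N ⟶ N') (n : ℕ) :
    (HKf (truncRes P).complex (n + 1)).map g ≫ (isoShift N' P n).hom =
      (isoShift N P n).hom ≫ (HKf P.complex (n + 2)).map g :=
  truncHomologyIso_naturality ((tensCxFunctorR P.complex).map g) n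

/-- natural version of `iso0`. -/
noncomputable def iso0Nat : (Tor (ModuleCat.{u} R) 0).obj M ≅ HKf P.complex 0 :=
  NatIso.ofComponents (fun N => iso0 N P) (fun g => iso0_naturality P g)

/-- natural version of `iso1`. -/
noncomputable def iso1Nat : (Tor (ModuleCat.{u} R) 1).obj M ≅ HKf P.complex 1 :=
  NatIso.ofComponents (fun N => iso1' P N) (fun g => iso1'_naturality P g)

noncomputable def torShiftNat (n : ℕ) :
    (Tor (ModuleCat.{u} R) (n + 2)).obj M ≅ (Tor (ModuleCat.{u} R) (n + 1)).obj (syz P) :=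
  NatIso.ofComponents (fun N => torShift N P n) (fun g => torShift_naturality P g n)

noncomputable def isoShiftNat (n : ℕ) :
    HKf (truncRes P).complex (n + 1) ≅ HKf P.complex (n + 2) :=
  NatIso.ofComponents (fun N => isoShift N P n) (fun g => isoShift_naturality P g n)

end Shift

/-- **Balancing of Tor, natural in the second variable**: `Tor_n(M, -) ≅ H_n(P ⊗ -)` for any
projective resolution `P` of `M`. -/
theorem natBalance (n : ℕ) : ∀ {M : ModuleCat.{u} R} (P : ProjectiveResolution M),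
    Nonempty ((Tor (ModuleCat.{u} R) n).obj M ≅ HKf P.complex n) := by
  induction n using Nat.strong_induction_on with
  | _ n ih =>
    intro M P
    match n, ih with
    | 0, _ => exact ⟨iso0Nat P⟩
    | 1, _ => exact ⟨iso1Nat P⟩
    | (n + 2), ih =>
      obtain ⟨e⟩ := ih (n + 1) (by omega) (truncRes P)
      exact ⟨torShiftNat P n ≪≫ e ≪≫ isoShiftNat P n⟩

end Groth.Agent.Helper1.TorBalNat
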