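import Mathlib
import Groth.Agent.Lib.Helper1.TorBalNat
import Groth.Agent.Lib.Helper1.HomFilt

universe u
open CategoryTheory MonoidalCategory Limits

namespace Groth.Agent.Helper1.TorFilt2
open Groth.Agent.Helper1.TorL Groth.Agent.Helper1.TorBalNat
variable {R : Type u} [CommRing R]

noncomputable def evalIsoR (C : ChainComplex (ModuleCat.{u} R) ℕ) (i : ℕ) :
    tensorLeft (C.X i) ≅ tensCxFunctorR C ⋙ HomologicalComplex.eval _ _ i :=
  NatIso.ofComponents (fun _ => Iso.refl _) (fun f => by
    simp only [Iso.refl_hom, Category.comp_id, Category.id_comp]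
    rfl)

theorem preserves_tensCxFunctorR (C : ChainComplex (ModuleCat.{u} R) ℕ) (J : Type u)
    [SmallCategory J] : PreservesColimitsOfShape J (tensCxFunctorR C) := by
  apply HomologicalComplex.preservesColimitsOfShape_of_eval
  intro i
  exact preservesColimitsOfShape_of_natIso (evalIsoR C i)

theorem preserves_HKf (C : ChainComplex (ModuleCat.{u} R) ℕ) (p : ℕ) (J : Type u)
    [SmallCategory J] [IsFiltered J] : PreservesColimitsOfShape J (HKf C p) := by
  have h1 := preserves_tensCxFunctorR C J
  have h2 := HomFilt.preserves (A := R) (c := ComplexShape.down ℕ) J p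
  unfold HKf
  infer_instance

theorem main (M : ModuleCat.{u} R) (p : ℕ) (J : Type u) [SmallCategory J] [IsFiltered J] :
    PreservesColimitsOfShape J ((Tor (ModuleCat.{u} R) p).obj M) := by
  obtain ⟨e⟩ := natBalance p (projectiveResolution M)
  have := preserves_HKf (projectiveResolution M).complex p J
  exact preservesColimitsOfShape_of_natIso e.symm

end Groth.Agent.Helper1.TorFilt2
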