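import Mathlib
import Groth.Agent.Lib.Helper1.TorBalNat

universe u
open CategoryTheory MonoidalCategory Limits

namespace Groth.Agent.Helper1.TorLES2
open Groth.Agent.Helper1.TorL Groth.Agent.Helper1.TorBalNat
variable {R : Type u} [CommRing R]

/-- the short complex of complexes `C ⊗ S`. -/
noncomputable abbrev tensSCR (C : ChainComplex (ModuleCat.{u} R) ℕ)
    (S : ShortComplex (ModuleCat.{u} R)) : ShortComplex (ChainComplex (ModuleCat.{u} R) ℕ) :=
  ShortComplex.mk ((tensCxFunctorR C).map S.f) ((tensCxFunctorR C).map S.g) (by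
    rw [← Functor.map_comp, S.zero]
    ext i : 1
    exact MonoidalPreadditive.whiskerLeft_zero)

theorem tensSCR_shortExact (C : ChainComplex (ModuleCat.{u} R) ℕ)
    (hC : ∀ i, Module.Flat R (C.X i)) (S : ShortComplex (ModuleCat.{u} R)) (hS : S.ShortExact) :
    (tensSCR C S).ShortExact := by
  apply HomologicalComplex.shortExact_of_degreewise_shortExact
  intro i
  have := hC i
  exact hS.map_of_exact (tensorLeft (C.X i))

section
variable (M : ModuleCat.{u} R) (S : ShortComplex (ModuleCat.{u} R)) (hS : S.ShortExact)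

theorem epi_tor_zero_map {X Y : ModuleCat.{u} R} (g : X ⟶ Y) [Epi g] :
    Epi (((Tor (ModuleCat.{u} R) 0).obj M).map g) := by
  have h := tor0Iso_naturality₂ M g
  have h2 : ((Tor (ModuleCat.{u} R) 0).obj M).map g =
      (tor0Iso M X).hom ≫ M ◁ g ≫ (tor0Iso M Y).inv := by
    rw [← Category.assoc, ← h, Category.assoc, Iso.hom_inv_id, Category.comp_id]
  rw [h2]
  have : Epi (M ◁ g) :=
    (ModuleCat.epi_iff_surjective _).mpr
      (LinearMap.lTensor_surjective M ((ModuleCat.epi_iff_surjective g).mp inferInstance))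
  infer_instance

end

section Transport
variable {F F' G G' : ModuleCat.{u} R ⥤ ModuleCat.{u} R} (e : F ≅ G) (e' : F' ≅ G')
  (S : ShortComplex (ModuleCat.{u} R))

include e in
theorem exact_of_natIso (w : F.map S.f ≫ F.map S.g = 0) (w' : G.map S.f ≫ G.map S.g = 0)
    (h : (ShortComplex.mk _ _ w').Exact) : (ShortComplex.mk _ _ w).Exact := by
  refine ShortComplex.exact_of_iso ?_ h
  exact (ShortComplex.isoMk (e.app S.X₁) (e.app S.X₂) (e.app S.X₃)
    (e.hom.naturality S.f).symm (e.hom.naturality S.g).symm).symm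

include e in
theorem zero_of_natIso (w' : G.map S.f ≫ G.map S.g = 0) : F.map S.f ≫ F.map S.g = 0 := by
  rw [← NatIso.naturality_2 e S.f, ← NatIso.naturality_2 e S.g]
  simp only [Category.assoc, Iso.inv_hom_id_app_assoc]
  rw [reassoc_of% w', Limits.zero_comp, Limits.comp_zero]

end Transport

set_option backward.isDefEq.respectTransparency false in
theorem main (M : ModuleCat.{u} R) (S : ShortComplex (ModuleCat.{u} R)) (hS : S.ShortExact)
    (i : ℕ) :
    (∃ w₀ : ((Tor (ModuleCat.{u} R) i).obj M).map S.f ≫ ((Tor (ModuleCat.{u} R) i).obj M).map S.g = 0,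
        (ShortComplex.mk (((Tor (ModuleCat.{u} R) i).obj M).map S.f)
          (((Tor (ModuleCat.{u} R) i).obj M).map S.g) w₀).Exact) ∧
      Epi (((Tor (ModuleCat.{u} R) 0).obj M).map S.g) ∧
      ∃ (δ : ((Tor (ModuleCat.{u} R) (i + 1)).obj M).obj S.X₃ ⟶
          ((Tor (ModuleCat.{u} R) i).obj M).obj S.X₁)
        (w₁ : ((Tor (ModuleCat.{u} R) (i + 1)).obj M).map S.g ≫ δ = 0)
        (w₂ : δ ≫ ((Tor (ModuleCat.{u} R) i).obj M).map S.f = 0),
        (ShortComplex.mk (((Tor (ModuleCat.{u} R) (i + 1)).obj M).map S.g) δ w₁).Exact ∧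
          (ShortComplex.mk δ (((Tor (ModuleCat.{u} R) i).obj M).map S.f) w₂).Exact := by
  let P := projectiveResolution M
  obtain ⟨e⟩ := natBalance i P
  obtain ⟨e'⟩ := natBalance (i + 1) P
  have hSP := tensSCR_shortExact P.complex (flat_res P) S hS
  have w₀ : ((Tor (ModuleCat.{u} R) i).obj M).map S.f ≫
      ((Tor (ModuleCat.{u} R) i).obj M).map S.g = 0 :=
    zero_of_natIso e S (by
      show HomologicalComplex.homologyMap (tensSCR P.complex S).f i ≫
        HomologicalComplex.homologyMap (tensSCR P.complex S).g i = 0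
      rw [← HomologicalComplex.homologyMap_comp, (tensSCR P.complex S).zero,
        HomologicalComplex.homologyMap_zero])
  refine ⟨⟨w₀, ?_⟩, ?_, ?_⟩
  · exact exact_of_natIso e S w₀ _ (hSP.homology_exact₂ i)
  · have := hS.epi_g
    exact epi_tor_zero_map M S.g
  · let δ' := hSP.δ (i + 1) i (relDown i)
    refine ⟨e'.hom.app S.X₃ ≫ δ' ≫ e.inv.app S.X₁, ?_, ?_, ?_, ?_⟩
    · rw [← Category.assoc, e'.hom.naturality S.g, Category.assoc]
      have := hSP.comp_δ (i + 1) i (relDown i)
      erw [reassoc_of% this]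
      rw [zero_comp, comp_zero]
    · rw [Category.assoc, Category.assoc, ← e.inv.naturality S.f]
      have := hSP.δ_comp (i + 1) i (relDown i)
      erw [reassoc_of% this]
      rw [zero_comp, comp_zero]
    · refine ShortComplex.exact_of_iso ?_ (hSP.homology_exact₃ (i + 1) i (relDown i))
      refine (ShortComplex.isoMk (e'.app S.X₂) (e'.app S.X₃) (e.app S.X₁)
        (e'.hom.naturality S.g).symm ?_).symm
      simp [δ']
      exact (Category.comp_id _).symm
    · refine ShortComplex.exact_of_iso ?_ (hSP.homology_exact₁ (i + 1) i (relDown i))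
      refine (ShortComplex.isoMk (e'.app S.X₃) (e.app S.X₁) (e.app S.X₂) ?_
        (e.hom.naturality S.f).symm).symm
      simp [δ']
      exact (Category.comp_id _).symm

end Groth.Agent.Helper1.TorLES2
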