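import Mathlib
import Groth.Agent.Lib.Helper1.TorLES2

universe u
open CategoryTheory MonoidalCategory Limits

/-! Second-variable `Tor₁` consequences of the long exact sequence. -/
namespace Groth.Agent.Helper1.TorOne2
open Groth.Agent.Helper1.TorL Groth.Agent.Helper1.TorBalNat Groth.Agent.Helper1.TorLES2
variable {R : Type u} [CommRing R]

variable (N : ModuleCat.{u} R) (S : ShortComplex (ModuleCat.{u} R)) (hS : S.ShortExact)

theorem mono_tor_zero_map {X Y : ModuleCat.{u} R} (g : X ⟶ Y) (hg : Mono (N ◁ g)) :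
    Mono (((Tor (ModuleCat.{u} R) 0).obj N).map g) := by
  have h := tor0Iso_naturality₂ N g
  have h2 : ((Tor (ModuleCat.{u} R) 0).obj N).map g =
      (tor0Iso N X).hom ≫ N ◁ g ≫ (tor0Iso N Y).inv := by
    rw [← Category.assoc, ← h, Category.assoc, Iso.hom_inv_id, Category.comp_id]
  rw [h2]
  infer_instance

include hS in
/-- If `Tor₁(N, X₁) = 0` and `N ⊗ X₁ → N ⊗ X₂` is injective then
`Tor₁(N, X₂) → Tor₁(N, X₃)` is an isomorphism. -/
theorem isIso_tor_one_map_g (h1 : IsZero (T 1 N S.X₁)) (hm : Mono (N ◁ S.f)) :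
    IsIso (((Tor (ModuleCat.{u} R) 1).obj N).map S.g) := by
  obtain ⟨⟨w₀, hex⟩, -, -⟩ := main N S hS 1
  obtain ⟨-, -, δ, w₁, w₂, hex₁, hex₂⟩ := main N S hS 0
  have hmono : Mono (((Tor (ModuleCat.{u} R) 1).obj N).map S.g) :=
    hex.mono_g (h1.eq_of_src _ _)
  have hm0 := mono_tor_zero_map N S.f hm
  have hδ : δ = 0 := by
    rw [← cancel_mono (((Tor (ModuleCat.{u} R) 0).obj N).map S.f), w₂, zero_comp]
  have hepi : Epi (((Tor (ModuleCat.{u} R) 1).obj N).map S.g) := hex₁.epi_f hδ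
  exact isIso_of_mono_of_epi _

include hS in
/-- If `Tor₁(N, X₂) = 0` then `Tor₁(N, X₃) ≅ ker (N ⊗ X₁ → N ⊗ X₂)`. -/
theorem nonempty_tor_one_iso_kernel (h2 : IsZero (T 1 N S.X₂)) :
    Nonempty (T 1 N S.X₃ ≅ kernel (N ◁ S.f)) := by
  obtain ⟨-, -, δ, w₁, w₂, hex₁, hex₂⟩ := main N S hS 0
  have hmono : Mono δ := hex₁.mono_g (h2.eq_of_src _ _)
  have hk := hex₂.fIsKernel
  let e1 : T 1 N S.X₃ ≅ kernel (((Tor (ModuleCat.{u} R) 0).obj N).map S.f) :=
    IsLimit.conePointUniqueUpToIso hk (limit.isLimit _)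
  let e2 : kernel (((Tor (ModuleCat.{u} R) 0).obj N).map S.f) ≅ kernel (N ◁ S.f) :=
    kernel.mapIso _ _ (tor0Iso N S.X₁) (tor0Iso N S.X₂) (tor0Iso_naturality₂ N S.f)
  exact ⟨e1 ≪≫ e2⟩

end Groth.Agent.Helper1.TorOne2

namespace Groth.Agent.Helper1.TorOne2
open TensorProduct
variable {O : Type u} [CommRing O]

/-- the short exact sequence `0 → N₁ → N₂ → N₂ / range f → 0` of an injective map -/
noncomputable abbrev scOfInj {N₁ N₂ : Type u} [AddCommGroup N₁] [Module O N₁]
    [AddCommGroup N₂] [Module O N₂] (f : N₁ →ₗ[O] N₂) : ShortComplex (ModuleCat.{u} O) :=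
  ShortComplex.mk (ModuleCat.ofHom f) (ModuleCat.ofHom (LinearMap.range f).mkQ) (by
    ext x
    exact (Submodule.Quotient.mk_eq_zero _).mpr ⟨x, rfl⟩)

theorem scOfInj_shortExact {N₁ N₂ : Type u} [AddCommGroup N₁] [Module O N₁]
    [AddCommGroup N₂] [Module O N₂] (f : N₁ →ₗ[O] N₂) (hf : Function.Injective f) :
    (scOfInj f).ShortExact := by
  have hex : (scOfInj f).Exact := by
    rw [ShortComplex.moduleCat_exact_iff_range_eq_ker]
    show LinearMap.range f = LinearMap.ker (LinearMap.range f).mkQ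
    rw [Submodule.ker_mkQ]
  have : Mono (scOfInj f).f := (ModuleCat.mono_iff_injective _).mpr hf
  have : Epi (scOfInj f).g :=
    (ModuleCat.epi_iff_surjective _).mpr (Submodule.mkQ_surjective _)
  exact ⟨hex⟩

theorem exists_ne_zero_smul_eq_zero [IsDomain O] (hO : ¬ IsField O)
    (T : Type u) [AddCommGroup T] [Module O T] (hT : IsFiniteLength O T) :
    ∃ a : O, a ≠ 0 ∧ ∀ t : T, a • t = 0 := by
  induction hT with
  | of_subsingleton => exact ⟨1, one_ne_zero, fun t => Subsingleton.elim _ _⟩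
  | @of_simple_quotient N _ _ N' hs hN' ih =>
    obtain ⟨a, ha, hat⟩ := ih
    obtain ⟨I, hI, ⟨e⟩⟩ := isSimpleModule_iff_quot_maximal.mp hs
    have hIb : I ≠ ⊥ := by
      rintro rfl
      exact hO (Ring.isField_iff_maximal_bot.mpr hI)
    obtain ⟨b, hbI, hb⟩ := Submodule.exists_mem_ne_zero_of_ne_bot hIb
    refine ⟨a * b, mul_ne_zero ha hb, fun t => ?_⟩
    have h1 : b • t ∈ N' := by
      rw [← Submodule.Quotient.mk_eq_zero, Submodule.Quotient.mk_smul]
      apply e.injective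
      rw [map_smul, map_zero]
      obtain ⟨c, hc⟩ := Ideal.Quotient.mk_surjective (e (Submodule.Quotient.mk t))
      rw [← hc]
      show Ideal.Quotient.mk I (b * c) = 0
      exact Ideal.Quotient.eq_zero_iff_mem.mpr (I.mul_mem_right _ hbI)
    have := hat ⟨b • t, h1⟩
    rw [mul_smul]
    simpa using congrArg Subtype.val this

theorem smul_tensor_pi_eq_zero [IsDomain O] (B : Type u) [AddCommGroup B] [Module O B]
    [NoZeroSMulDivisors O B] (n : ℕ) (a : O) (ha : a ≠ 0) (x : B ⊗[O] (Fin n → O))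
    (hx : a • x = 0) : x = 0 := by
  have e := TensorProduct.piScalarRight O O B (Fin n)
  apply e.injective
  rw [map_zero]
  have h2 : a • e x = 0 := by rw [← map_smul, hx, map_zero]
  exact (smul_eq_zero.mp h2).resolve_left ha

theorem noZeroSMulDivisors_integralClosure [IsDomain O] (K : Type u) [Field K] [Algebra O K]
    [IsFractionRing O K] : NoZeroSMulDivisors O ↥(integralClosure O K) := ⟨fun {a x} h => by
  have h' : algebraMap O K a * (x : K) = 0 := by
    have := congrArg Subtype.val h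
    rw [← Algebra.smul_def]
    exact this
  rcases mul_eq_zero.mp h' with h1 | h1
  · left; exact (IsFractionRing.injective O K) (by rw [h1, map_zero])
  · right; exact Subtype.ext h1⟩

theorem exists_pseudo_inverse {N₁ N₂ : Type u} [AddCommGroup N₁] [Module O N₁]
    [AddCommGroup N₂] [Module O N₂] (f : N₁ →ₗ[O] N₂) (hf : Function.Injective f) (a : O)
    (ha : ∀ t : N₂ ⧸ LinearMap.range f, a • t = 0) :
    ∃ h : N₂ →ₗ[O] N₁, h ∘ₗ f = a • LinearMap.id ∧ f ∘ₗ h = a • LinearMap.id := by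
  have hr : ∀ y : N₂, a • y ∈ LinearMap.range f := by
    intro y
    have := ha (Submodule.Quotient.mk y)
    rwa [← Submodule.Quotient.mk_smul, Submodule.Quotient.mk_eq_zero] at this
  let e := LinearEquiv.ofInjective f hf
  let h : N₂ →ₗ[O] N₁ := e.symm.toLinearMap ∘ₗ
    (LinearMap.codRestrict (LinearMap.range f) (a • LinearMap.id) hr)
  have hfh : f ∘ₗ h = a • LinearMap.id := by
    ext y
    have : f (e.symm ⟨a • y, hr y⟩) = a • y := by
      have := e.apply_symm_apply ⟨a • y, hr y⟩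
      exact congrArg Subtype.val this
    exact this
  refine ⟨h, ?_, hfh⟩
  ext x
  apply hf
  have := LinearMap.congr_fun hfh (f x)
  simpa using this

end Groth.Agent.Helper1.TorOne2
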