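import Mathlib
import Groth.Agent.Lib.Helper1.PerfRing
import Groth.Agent.Lib.Helper1.TorOne2
import Groth.Agent.Lib.Helper1.TorBC
import Groth.Agent.Lib.Helper1.TorFilt2
import Groth.Agent.Lib.Helper1.TorBal

/-! Tor-independence of perfect rings of characteristic `p`. -/
universe u
open CategoryTheory MonoidalCategory Limits TensorProduct

namespace Groth.Agent.Helper1.PerfTor
open Groth.Agent.Helper1.PerfRing Groth.Agent.Helper1.TorL Groth.Agent.Helper1.TorBalNat
  Groth.Agent.Helper1.TorLES2 Groth.Agent.Helper1.TorOne2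

/-- `Good p A B`: `Tor_n^A(C, B) = 0` for every perfect `A`-algebra `C` and `n > 0`. -/
def Good (p : ℕ) (A : Type u) [CommRing A] (B : Type u) [AddCommGroup B] [Module A B] : Prop :=
  ∀ (C : Type u) [CommRing C] [Algebra A C], Perf p C → ∀ n : ℕ, 0 < n →
    IsZero (T n (ModuleCat.of A C) (ModuleCat.of A B))

variable {p : ℕ} [hp : Fact p.Prime] {A : Type u} [CommRing A]

theorem good_of_flat (B : Type u) [AddCommGroup B] [Module A B] [Module.Flat A B] :
    Good p A B := by
  intro C _ _ _ n hn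
  obtain ⟨n, rfl⟩ : ∃ k, n = k + 1 := ⟨n - 1, by omega⟩
  exact isZero_tor_succ_of_flat_right (ModuleCat.of A B) n C

theorem Good.of_linearEquiv {B B' : Type u} [AddCommGroup B] [Module A B] [AddCommGroup B']
    [Module A B'] (e : B ≃ₗ[A] B') (h : Good p A B) : Good p A B' := by
  intro C _ _ hC n hn
  exact IsZero.of_iso (h C hC n hn) (torCongrRight (ModuleCat.of A C) e.toModuleIso n).symm

/-- (G1) -/
theorem good_quot_J (hA : Perf p A) (f : A) : Good p A (A ⧸ hA.J f) := by
  intro C _ _ hC n hn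
  have hS := shortExact_subtype_mkQ (hA.J f)
  have := hA.flat_J f
  obtain ⟨n, rfl⟩ : ∃ k, n = k + 1 := ⟨n - 1, by omega⟩
  cases n with
  | zero =>
    have h2 : IsZero (T 1 (ModuleCat.of A C) (ModuleCat.of A A)) :=
      isZero_tor_succ_of_flat_right (ModuleCat.of A A) 0 C
    obtain ⟨e⟩ := nonempty_tor_one_iso_kernel (ModuleCat.of A C) _ hS h2
    refine IsZero.of_iso ?_ e
    have hm : Mono ((ModuleCat.of A C) ◁ (ModuleCat.ofHom (hA.J f).subtype)) :=
      (ModuleCat.mono_iff_injective _).mpr (hA.lTensor_J_injective hC f)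
    exact isZero_kernel_of_mono _
  | succ n =>
    obtain ⟨⟨w₀, hex⟩, -, -⟩ := main (ModuleCat.of A C) _ hS (n + 2)
    obtain ⟨-, -, δ, w₁, w₂, hex₁, hex₂⟩ := main (ModuleCat.of A C) _ hS (n + 1)
    refine hex₁.isZero_of_both_zeros (IsZero.eq_of_src ?_ _ _) (IsZero.eq_of_tgt ?_ _ _)
    · exact isZero_tor_succ_of_flat_right (ModuleCat.of A A) (n + 1) C
    · exact isZero_tor_succ_of_flat_right (ModuleCat.of A (hA.J f)) n C

/-- (G2) -/
theorem good_trans (hA : Perf p A) {B : Type u} [CommRing B] [Algebra A B] (hB : Perf p B)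
    (B' : Type u) [AddCommGroup B'] [Module B B'] [Module A B'] [IsScalarTower A B B']
    (h1 : Good p A B) (h2 : Good p B B') : Good p A B' := by
  intro C _ _ hC n hn
  have hP : ∀ q : ℕ, 0 < q → Subsingleton (T q (ModuleCat.of A C) (ModuleCat.of A B)) :=
    fun q hq => ModuleCat.subsingleton_of_isZero (h1 C hC q hq)
  obtain ⟨φ, hφ⟩ := Groth.Agent.Helper1.TorBC.full A B B' n C hP
  have hBC : Perf p (B ⊗[A] C) := perf_tensor hA hB hC
  have hz := h2 (B ⊗[A] C) hBC n hn
  have : Subsingleton (T n (ModuleCat.of B (B ⊗[A] C)) (ModuleCat.of B B')) :=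
    ModuleCat.subsingleton_of_isZero hz
  have : Subsingleton (T n (ModuleCat.of A C) (ModuleCat.of A B')) := hφ.1.subsingleton
  exact ModuleCat.isZero_of_subsingleton _

/-- one more generator -/
theorem good_step (hA : Perf p A) (I : Ideal A) (hI : ∀ x, x ^ p ∈ I → x ∈ I)
    (hg : Good p A (A ⧸ I)) (f : A) :
    (∀ x, x ^ p ∈ I ⊔ hA.J f → x ∈ I ⊔ hA.J f) ∧ Good p A (A ⧸ (I ⊔ hA.J f)) := by
  have hĀ : Perf p (A ⧸ I) := hA.quotient I hI
  have hmap : (hA.J f).map (Ideal.Quotient.mk I) = hĀ.J (Ideal.Quotient.mk I f) :=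
    hA.map_J hĀ _ f
  constructor
  · intro x hx
    rw [sup_comm, ← Ideal.mem_quotient_iff_mem_sup, hmap] at hx ⊢
    rw [map_pow] at hx
    exact hĀ.mem_J_of_pow_mem _ _ hx
  · have h2 : Good p (A ⧸ I) ((A ⧸ I) ⧸ (hA.J f).map (Ideal.Quotient.mkₐ A I)) := by
      have : (hA.J f).map (Ideal.Quotient.mkₐ A I) = hĀ.J (Ideal.Quotient.mk I f) := hmap
      rw [this]
      exact good_quot_J hĀ _
    have h3 : Good p A ((A ⧸ I) ⧸ (hA.J f).map (Ideal.Quotient.mkₐ A I)) :=
      good_trans hA hĀ _ hg h2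
    exact h3.of_linearEquiv (DoubleQuot.quotQuotEquivQuotSupₐ A I (hA.J f)).toLinearEquiv

/-- the ideal generated by all `p`-power roots of the elements `g i`, `i ∈ S` -/
noncomputable def IS (hA : Perf p A) {ι : Type*} (g : ι → A) (S : Finset ι) : Ideal A :=
  S.sup (fun i => hA.J (g i))

theorem IS_mono (hA : Perf p A) {ι : Type*} (g : ι → A) {S T : Finset ι} (h : S ≤ T) :
    IS hA g S ≤ IS hA g T := Finset.sup_mono h

theorem good_IS (hA : Perf p A) {ι : Type*} (g : ι → A) (S : Finset ι) :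
    (∀ x, x ^ p ∈ IS hA g S → x ∈ IS hA g S) ∧ Good p A (A ⧸ IS hA g S) := by
  classical
  induction S using Finset.induction_on with
  | empty =>
    have h0 : IS hA g ∅ = ⊥ := Finset.sup_empty
    rw [h0]
    constructor
    · intro x hx
      rw [Ideal.mem_bot] at hx ⊢
      exact hA.eq_zero_of_pow_p hx
    · exact (good_of_flat (p := p) A).of_linearEquiv
        (Submodule.quotEquivOfEqBot (⊥ : Ideal A) rfl).symm
  | insert i S hi ih =>
    have : IS hA g (insert i S) = IS hA g S ⊔ hA.J (g i) := by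
      rw [IS, Finset.sup_insert, sup_comm]; rfl
    rw [this]
    exact good_step hA _ ih.1 ih.2 _

theorem isZero_pt_of_isColimit {J D : Type*} [Category J] [Category D] [HasZeroMorphisms D]
    {F : J ⥤ D} {c : Cocone F} (hc : IsColimit c) (h : ∀ j, IsZero (F.obj j)) : IsZero c.pt := by
  rw [IsZero.iff_id_eq_zero]
  apply hc.hom_ext
  intro j
  exact (h j).eq_of_src _ _

section Colim
variable {A : Type u} [CommRing A] {ι : Type u} [SemilatticeSup ι] [OrderBot ι]
  (K : ι → Ideal A) (hK : Monotone K)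

/-- the directed system of quotients `A ⧸ K i` -/
noncomputable def quotFunctor : ι ⥤ ModuleCat.{u} A where
  obj i := ModuleCat.of A (A ⧸ K i)
  map {i j} h := ModuleCat.ofHom (Submodule.mapQ (K i) (K j) LinearMap.id (hK (leOfHom h)))
  map_id i := by
    refine ModuleCat.hom_ext (Submodule.linearMap_qext _ (LinearMap.ext fun x => ?_))
    rfl
  map_comp f g := by
    refine ModuleCat.hom_ext (Submodule.linearMap_qext _ (LinearMap.ext fun x => ?_))
    rfl

/-- the cocone with point `A ⧸ I` -/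
noncomputable def quotCocone (I : Ideal A) (hI : ∀ i, K i ≤ I) : Cocone (quotFunctor K hK) where
  pt := ModuleCat.of A (A ⧸ I)
  ι :=
    { app := fun i => ModuleCat.ofHom (Submodule.mapQ (K i) I LinearMap.id (hI i))
      naturality := fun i j f => by
        refine ModuleCat.hom_ext (Submodule.linearMap_qext _ (LinearMap.ext fun x => ?_))
        rfl }

/-- it is a colimit when `I` is the union of the `K i`. -/
noncomputable def quotIsColimit (I : Ideal A) (hI : ∀ i, K i ≤ I)
    (hsup : ∀ x ∈ I, ∃ i, x ∈ K i) : IsColimit (quotCocone K hK I hI) where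
  desc s := ModuleCat.ofHom (Submodule.liftQ I ((s.ι.app ⊥).hom ∘ₗ (K ⊥).mkQ) (by
    intro x hx
    obtain ⟨i, hi⟩ := hsup x hx
    have hw := s.w (homOfLE (bot_le : (⊥ : ι) ≤ i))
    have h1 : (s.ι.app ⊥).hom ((K ⊥).mkQ x) = (s.ι.app i).hom ((K i).mkQ x) := by
      rw [← hw]
      rfl
    show (s.ι.app ⊥).hom ((K ⊥).mkQ x) = 0
    rw [h1]
    have h0 : ((K i).mkQ x : ↑((quotFunctor K hK).obj i)) = 0 :=
      (Submodule.Quotient.mk_eq_zero _).mpr hi
    rw [h0]
    exact (s.ι.app i).hom.map_zero))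
  fac s j := by
    refine ModuleCat.hom_ext (Submodule.linearMap_qext _ (LinearMap.ext fun x => ?_))
    have hw := s.w (homOfLE (bot_le : (⊥ : ι) ≤ j))
    show (s.ι.app ⊥).hom ((K ⊥).mkQ x) = (s.ι.app j).hom ((K j).mkQ x)
    rw [← hw]
    rfl
  uniq s m hm := by
    refine ModuleCat.hom_ext (Submodule.linearMap_qext _ (LinearMap.ext fun x => ?_))
    have := hm ⊥
    show m.hom (I.mkQ x) = (s.ι.app ⊥).hom ((K ⊥).mkQ x)
    rw [← this]
    rfl

include hK in
theorem isZero_tor_quot_of_directed (C : ModuleCat.{u} A) (n : ℕ) (I : Ideal A)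
    (hI : ∀ i, K i ≤ I) (hsup : ∀ x ∈ I, ∃ i, x ∈ K i)
    (h : ∀ i, IsZero (T n C (ModuleCat.of A (A ⧸ K i)))) :
    IsZero (T n C (ModuleCat.of A (A ⧸ I))) := by
  have := Groth.Agent.Helper1.TorFilt2.main C n ι
  have hc := isColimitOfPreserves ((Tor (ModuleCat.{u} A) n).obj C) (quotIsColimit K hK I hI hsup)
  exact isZero_pt_of_isColimit hc h

end Colim

variable {p : ℕ} [hp : Fact p.Prime] {A : Type u} [CommRing A]

/-- the surjective case -/
theorem good_quot_of_perf (hA : Perf p A) (I : Ideal A) (hq : Perf p (A ⧸ I)) :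
    Good p A (A ⧸ I) := by
  intro C _ _ hC n hn
  classical
  let g : ↥I → A := Subtype.val
  refine isZero_tor_quot_of_directed (ι := Finset ↥I) (fun S => IS hA g S)
    (fun S T h => IS_mono hA g h) _ n I ?_ ?_ ?_
  · intro S
    exact Finset.sup_le fun i _ => hA.J_le_of_quotient I hq i.1 i.2
  · intro x hx
    refine ⟨{⟨x, hx⟩}, ?_⟩
    have : IS hA g {⟨x, hx⟩} = hA.J x := Finset.sup_singleton
    rw [this]
    exact hA.self_mem_J x
  · intro S
    exact (good_IS hA g S).2 C hC n hn

/-- reduction to the surjective case through a flat perfect `A`-algebra `A'` mapping onto `B` -/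
theorem good_of_flat_cover (hA : Perf p A) (A' : Type u) [CommRing A'] [Algebra A A']
    [Module.Flat A A'] (hA' : Perf p A') (B : Type u) [CommRing B] [Algebra A B] [Algebra A' B]
    [IsScalarTower A A' B] (hB : Perf p B) (hsurj : Function.Surjective (algebraMap A' B)) :
    Good p A B := by
  let I : Ideal A' := LinearMap.ker (Algebra.linearMap A' B)
  have hI : ∀ x, x ^ p ∈ I → x ∈ I := by
    intro x hx
    rw [LinearMap.mem_ker, Algebra.linearMap_apply] at hx ⊢
    rw [map_pow] at hx
    exact hB.eq_zero_of_pow_p hx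
  have hq : Perf p (A' ⧸ I) := hA'.quotient I hI
  have h1 : Good p A' (A' ⧸ I) := good_quot_of_perf hA' I hq
  have h2 : Good p A' B :=
    h1.of_linearEquiv ((Algebra.linearMap A' B).quotKerEquivOfSurjective hsurj)
  exact good_trans hA hA' B (good_of_flat (p := p) A') h2

/-- every perfect algebra over a perfect ring is good. -/
theorem good_of_perf [CharP A p] (hA : Perf p A) (B : Type u) [CommRing B] [Algebra A B]
    (hB : Perf p B) : Good p A B := by
  by_cases hBt : Subsingleton B
  · exact good_of_flat (p := p) B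
  · have : Nontrivial B := not_subsingleton_iff_nontrivial.mp hBt
    have : CharP B p := (CharP.charP_iff_prime_eq_zero hp.out).mpr hB.p0
    let _ : Algebra (ZMod p) A := ZMod.algebra _ _
    let _ : Algebra (ZMod p) B := ZMod.algebra _ _
    let f : A →ₐ[ZMod p] B :=
      { algebraMap A B with
        commutes' := fun r => by
          have : (algebraMap A B).comp (algebraMap (ZMod p) A) = algebraMap (ZMod p) B :=
            RingHom.ext_zmod _ _
          exact congrArg (fun g => g r) this }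
    let μ : A ⊗[ZMod p] B →ₐ[ZMod p] B := Algebra.TensorProduct.productMap f (AlgHom.id _ B)
    let _ : Algebra (A ⊗[ZMod p] B) B := μ.toRingHom.toAlgebra
    have hμ : ∀ t, algebraMap (A ⊗[ZMod p] B) B t = μ t := fun t => rfl
    have : IsScalarTower A (A ⊗[ZMod p] B) B := IsScalarTower.of_algebraMap_eq (fun a => by
      rw [hμ]
      show algebraMap A B a = μ (a ⊗ₜ 1)
      rw [Algebra.TensorProduct.productMap_apply_tmul]
      simp [f])
    have hA' : Perf p (A ⊗[ZMod p] B) := perf_tensor (perf_zmod p) hA hB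
    refine good_of_flat_cover hA (A ⊗[ZMod p] B) hA' B hB ?_
    intro b
    refine ⟨1 ⊗ₜ b, ?_⟩
    rw [hμ, Algebra.TensorProduct.productMap_apply_tmul]
    simp

/-- **Tor-independence of perfect rings.** -/
theorem main (p : ℕ) [Fact p.Prime] (A B C : Type u) [CommRing A] [CommRing B] [CommRing C]
    [CharP A p] [Algebra A B] [Algebra A C]
    (hA : Function.Bijective fun a : A => a ^ p) (hB : Function.Bijective fun b : B => b ^ p)
    (hC : Function.Bijective fun c : C => c ^ p) (i : ℕ) (hi : 0 < i) :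
    IsZero (T i (ModuleCat.of A B) (ModuleCat.of A C)) := by
  have hA' : Perf p A := ⟨CharP.cast_eq_zero A p, hA⟩
  have hB' : Perf p B := ⟨by rw [← map_natCast (algebraMap A B), CharP.cast_eq_zero A p, map_zero], hB⟩
  have hC' : Perf p C := ⟨by rw [← map_natCast (algebraMap A C), CharP.cast_eq_zero A p, map_zero], hC⟩
  exact (Groth.Agent.Helper1.TorBal.isZero_tor_symm i _ _).mp (good_of_perf hA' B hB' C hC' i hi)

end Groth.Agent.Helper1.PerfTor
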