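import Mathlib
import Groth.Prelude.Def_KRR
import Groth.Agent.Lib.Helper1.KPull1

/-!
# `K₀` of a subclass which becomes everything after twisting (helper1)

Abstract form of the comparison `K₀(regular bundles) ≅ K₀(all bundles)` on a projective space:
`P₀ ⊆ P₁` object properties of an abelian category, `T` an exact endofunctor preserving both, a
"Koszul relation" `[F] = ∑ d_p [T^{p+1} F]` in both `K₀`, and every object of `P₁` lands in `P₀`
after enough twists.
-/

set_option backward.isDefEq.respectTransparency.types false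
set_option synthInstance.maxHeartbeats 400000
set_option maxHeartbeats 1000000
set_option autoImplicit false
set_option linter.unusedSectionVars false
set_option linter.style.haveILetI false
set_option linter.unusedVariables false

universe v' u'
open CategoryTheory CategoryTheory.Limits
open Groth.Agent.Helper1.KPull

namespace Groth.Agent.Helper1.RegK

section Abstract
variable {C : Type u'} [Category.{v'} C] [Abelian C]

theorem mapSub_cl' (P Q : ObjectProperty C) (h : ∀ X, P X → Q ((𝟭 C).obj X)) (M : C) (hM : P M) :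
    SGA6.mapSub (𝟭 C) P Q h (KZero.clSub P M) = KZero.clSub Q M := by
  rw [clSub_of P M hM, clSub_of Q M (h M hM)]
  simp [SGA6.mapSub, SGA6.objMap]

/-- iterates of an endofunctor -/
def Tm (T : C ⥤ C) : ℕ → (C ⥤ C)
  | 0 => 𝟭 C
  | m + 1 => Tm T m ⋙ T

theorem Tm_obj_T (T : C ⥤ C) (m : ℕ) (X : C) :
    (Tm T m).obj (T.obj X) = (Tm T (m + 1)).obj X := by
  induction m with
  | zero => rfl
  | succ m ih =>
    change T.obj ((Tm T m).obj (T.obj X)) = T.obj ((Tm T (m + 1)).obj X)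
    rw [ih]

theorem Tm_add (T : C ⥤ C) (p m : ℕ) (X : C) :
    (Tm T m).obj ((Tm T p).obj X) = (Tm T (p + m)).obj X := by
  induction m with
  | zero => rfl
  | succ m ih =>
    change T.obj ((Tm T m).obj ((Tm T p).obj X)) = T.obj ((Tm T (p + m)).obj X)
    rw [ih]

theorem Tm_mem (P : ObjectProperty C) (T : C ⥤ C) (hTP : ∀ X, P X → P (T.obj X)) (m : ℕ) (X : C)
    (hX : P X) : P ((Tm T m).obj X) := by
  induction m with
  | zero => exact hX
  | succ m ih => exact hTP _ ih

instance Tm_pzm (T : C ⥤ C) [T.PreservesZeroMorphisms] :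
    ∀ m : ℕ, (Tm T m).PreservesZeroMorphisms
  | 0 => by
    unfold Tm
    infer_instance
  | m + 1 => by
    haveI := Tm_pzm T m
    unfold Tm
    infer_instance

theorem Tm_exact (T : C ⥤ C) [T.PreservesZeroMorphisms]
    (hTex : ∀ S : ShortComplex C, S.ShortExact → (S.map T).ShortExact) (m : ℕ)
    (S : ShortComplex C) (hS : S.ShortExact) : (S.map (Tm T m)).ShortExact := by
  induction m with
  | zero => exact hS
  | succ m ih => exact hTex _ ih

theorem rel_convert (P : ObjectProperty C) (T : C ⥤ C) (N : ℕ) (c : ℕ → ℤ) (hc : c 0 = 1) (F : C)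
    (h : ∑ p ∈ Finset.range (N + 1), c p • KZero.clSub P ((Tm T p).obj F) = 0) :
    KZero.clSub P F =
      ∑ p ∈ Finset.range N, (-(c (p + 1))) • KZero.clSub P ((Tm T (p + 1)).obj F) := by
  have h' : ∑ p ∈ Finset.range N, c (p + 1) • KZero.clSub P ((Tm T (p + 1)).obj F) +
      KZero.clSub P F = 0 := by
    rw [Finset.sum_range_succ', hc, one_smul] at h
    exact h
  rw [eq_neg_of_add_eq_zero_right h', ← Finset.sum_neg_distrib]
  refine Finset.sum_congr rfl (fun p _ => ?_)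
  rw [neg_smul]

/-- the hypotheses of the comparison -/
structure Hyp (P₀ P₁ : ObjectProperty C) (T : C ⥤ C) [T.PreservesZeroMorphisms] (N : ℕ)
    (d : ℕ → ℤ) : Prop where
  le : ∀ X, P₀ X → P₁ X
  ex : ∀ S : ShortComplex C, S.ShortExact → (S.map T).ShortExact
  t0 : ∀ X, P₀ X → P₀ (T.obj X)
  t1 : ∀ X, P₁ X → P₁ (T.obj X)
  k0 : ∀ F, P₀ F → KZero.clSub P₀ F =
    ∑ p ∈ Finset.range N, d p • KZero.clSub P₀ ((Tm T (p + 1)).obj F)
  k1 : ∀ F, P₁ F → KZero.clSub P₁ F =
    ∑ p ∈ Finset.range N, d p • KZero.clSub P₁ ((Tm T (p + 1)).obj F)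
  r : ∀ F, P₁ F → ∃ m₀ : ℕ, ∀ m : ℕ, m₀ ≤ m → P₀ ((Tm T m).obj F)

variable {P₀ P₁ : ObjectProperty C} {T : C ⥤ C} [T.PreservesZeroMorphisms] {N : ℕ} {d : ℕ → ℤ}

/-- the inverse of the twist on `K₀(P₀)` -/
noncomputable def kappa (H : Hyp P₀ P₁ T N d) : KZero.K0sub P₀ →+ KZero.K0sub P₀ :=
  k0Lift P₀ (fun F => ∑ p ∈ Finset.range N, d p • KZero.clSub P₀ ((Tm T p).obj F))
    (fun S hS h1 h2 h3 => by
      rw [← Finset.sum_add_distrib]
      refine Finset.sum_congr rfl (fun p _ => ?_)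
      rw [← smul_add]
      congr 1
      exact clSub_ses P₀ (S.map (Tm T p)) (Tm_exact T H.ex p S hS) (Tm_mem P₀ T H.t0 p _ h1)
        (Tm_mem P₀ T H.t0 p _ h2) (Tm_mem P₀ T H.t0 p _ h3))

variable (H : Hyp P₀ P₁ T N d)

theorem kappa_cl (F : C) (hF : P₀ F) :
    kappa H (KZero.clSub P₀ F) =
      ∑ p ∈ Finset.range N, d p • KZero.clSub P₀ ((Tm T p).obj F) :=
  k0Lift_clSub P₀ _ _ F hF

theorem kappa_T (F : C) (hF : P₀ F) :
    kappa H (KZero.clSub P₀ (T.obj F)) = KZero.clSub P₀ F := by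
  rw [kappa_cl H (T.obj F) (H.t0 F hF), H.k0 F hF]
  refine Finset.sum_congr rfl (fun p _ => ?_)
  rw [Tm_obj_T]

/-- `m` twists suffice to bring `F` into `P₀` -/
def Valid (P₀ : ObjectProperty C) (T : C ⥤ C) (F : C) (m : ℕ) : Prop :=
  ∀ m' : ℕ, m ≤ m' → P₀ ((Tm T m').obj F)

theorem Valid.mono {F : C} {m m' : ℕ} (h : Valid P₀ T F m) (hm : m ≤ m') : Valid P₀ T F m' :=
  fun k hk => h k (le_trans hm hk)

/-- the candidate value of the inverse on `[F]`, computed with `m` twists -/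
noncomputable def psiFun (F : C) (m : ℕ) : KZero.K0sub P₀ :=
  (⇑(kappa H))^[m] (KZero.clSub P₀ ((Tm T m).obj F))

theorem psiFun_succ (F : C) (m : ℕ) (hm : Valid P₀ T F m) :
    psiFun H F (m + 1) = psiFun H F m := by
  unfold psiFun
  rw [Function.iterate_succ_apply]
  congr 1
  exact kappa_T H _ (hm m le_rfl)

theorem psiFun_add (F : C) (m : ℕ) (hm : Valid P₀ T F m) (k : ℕ) :
    psiFun H F (m + k) = psiFun H F m := by
  induction k with
  | zero => rfl
  | succ k ih =>
    have e : m + (k + 1) = (m + k) + 1 := rfl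
    rw [e, psiFun_succ H F (m + k) (hm.mono (Nat.le_add_right m k)), ih]

theorem psiFun_le (F : C) (m m' : ℕ) (hm : Valid P₀ T F m) (hmm : m ≤ m') :
    psiFun H F m' = psiFun H F m := by
  obtain ⟨k, rfl⟩ := Nat.exists_eq_add_of_le hmm
  exact psiFun_add H F m hm k

theorem psiFun_indep (F : C) (m m' : ℕ) (hm : Valid P₀ T F m) (hm' : Valid P₀ T F m') :
    psiFun H F m = psiFun H F m' :=
  (psiFun_le H F m (max m m') hm (le_max_left m m')).symm.trans
    (psiFun_le H F m' (max m m') hm' (le_max_right m m'))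

open Classical in
/-- the value of the inverse on `[F]` -/
noncomputable def psiObj (F : C) : KZero.K0sub P₀ :=
  if h : ∃ m, Valid P₀ T F m then psiFun H F (Classical.choose h) else 0

theorem psiObj_eq (F : C) (m : ℕ) (hm : Valid P₀ T F m) : psiObj H F = psiFun H F m := by
  unfold psiObj
  have hex : ∃ m, Valid P₀ T F m := ⟨m, hm⟩
  rw [dif_pos hex]
  exact psiFun_indep H F _ _ (Classical.choose_spec hex) hm

/-- the inverse map -/
noncomputable def psi : KZero.K0sub P₁ →+ KZero.K0sub P₀ :=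
  k0Lift P₁ (psiObj H) (fun S hS h1 h2 h3 => by
    obtain ⟨m1, hm1⟩ := H.r _ h1
    obtain ⟨m2, hm2⟩ := H.r _ h2
    obtain ⟨m3, hm3⟩ := H.r _ h3
    have v1 : Valid P₀ T S.X₁ (max m1 (max m2 m3)) :=
      fun k hk => hm1 k (le_trans (le_max_left _ _) hk)
    have v2 : Valid P₀ T S.X₂ (max m1 (max m2 m3)) :=
      fun k hk => hm2 k (le_trans (le_trans (le_max_left _ _) (le_max_right _ _)) hk)
    have v3 : Valid P₀ T S.X₃ (max m1 (max m2 m3)) :=
      fun k hk => hm3 k (le_trans (le_trans (le_max_right _ _) (le_max_right _ _)) hk)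
    rw [psiObj_eq H _ _ v1, psiObj_eq H _ _ v2, psiObj_eq H _ _ v3]
    unfold psiFun
    rw [← iterate_map_add]
    congr 1
    exact clSub_ses P₀ (S.map (Tm T _)) (Tm_exact T H.ex _ S hS) (v1 _ le_rfl) (v2 _ le_rfl)
      (v3 _ le_rfl))

theorem psi_cl (F : C) (hF : P₁ F) (m : ℕ) (hm : Valid P₀ T F m) :
    psi H (KZero.clSub P₁ F) = psiFun H F m := by
  unfold psi
  rw [k0Lift_clSub P₁ _ _ F hF]
  exact psiObj_eq H F m hm

theorem psi_comp (x : KZero.K0sub P₀) : psi H (SGA6.mapSub (𝟭 C) P₀ P₁ H.le x) = x := by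
  have h : (psi H).comp (SGA6.mapSub (𝟭 C) P₀ P₁ H.le) = AddMonoidHom.id _ := by
    apply k0_hom_ext P₀
    intro M hM
    rw [AddMonoidHom.comp_apply, mapSub_cl' P₀ P₁ H.le M hM,
      psi_cl H M (H.le M hM) 0 (fun k _ => Tm_mem P₀ T H.t0 k M hM)]
    rfl
  exact DFunLike.congr_fun h x

theorem cl_mem_range (m : ℕ) : ∀ F : C, P₁ F → Valid P₀ T F m →
    KZero.clSub P₁ F ∈ (SGA6.mapSub (𝟭 C) P₀ P₁ H.le).range := by
  induction m with
  | zero =>
    intro F hF hv
    have h0 : P₀ F := hv 0 le_rfl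
    exact AddMonoidHom.mem_range.2 ⟨KZero.clSub P₀ F, mapSub_cl' P₀ P₁ H.le F h0⟩
  | succ m ih =>
    intro F hF hv
    rw [H.k1 F hF]
    refine AddSubgroup.sum_mem _ (fun p _ => AddSubgroup.zsmul_mem _
      (ih _ (Tm_mem P₁ T H.t1 (p + 1) F hF) ?_) _)
    intro k hk
    rw [Tm_add]
    exact hv _ (by omega)

theorem surj : Function.Surjective (SGA6.mapSub (𝟭 C) P₀ P₁ H.le) := by
  intro y
  have h : QuotientAddGroup.mk' (SGA6.mapSub (𝟭 C) P₀ P₁ H.le).range = 0 := by
    apply k0_hom_ext P₁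
    intro M hM
    obtain ⟨m, hm⟩ := H.r M hM
    rw [AddMonoidHom.zero_apply]
    exact (QuotientAddGroup.eq_zero_iff _).2 (cl_mem_range H m M hM hm)
  have hy := DFunLike.congr_fun h y
  rw [AddMonoidHom.zero_apply] at hy
  exact AddMonoidHom.mem_range.1 ((QuotientAddGroup.eq_zero_iff y).1 hy)

theorem bijective : Function.Bijective (SGA6.mapSub (𝟭 C) P₀ P₁ H.le) :=
  ⟨Function.LeftInverse.injective (g := psi H) (psi_comp H), surj H⟩

end Abstract

end Groth.Agent.Helper1.RegK
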