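import Mathlib
import Groth.Agent.Lib.Helper8.ABS15

/-!
# Finite modules over Noetherian rings with regular localisations have finite projective dimension
(no finiteness of the Krull dimension) (helper1)
-/

set_option backward.isDefEq.respectTransparency.types false
set_option synthInstance.maxHeartbeats 400000
set_option maxHeartbeats 1000000
set_option autoImplicit false

universe u
open CategoryTheory CategoryTheory.Limits

namespace Groth.Agent.Helper1.RegPd

variable {R : Type u} [CommRing R] [IsNoetherianRing R]

/-- the locus of primes where the localisation has projective dimension `≤ n` -/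
def pdLocus (M : ModuleCat.{u} R) (n : ℕ) : Set (PrimeSpectrum R) :=
  {p | HasProjectiveDimensionLE (M.localizedModule p.asIdeal.primeCompl) n}

theorem isOpen_pdLocus (n : ℕ) :
    ∀ (M : ModuleCat.{u} R) [Module.Finite R M], IsOpen (pdLocus M n) := by
  induction n with
  | zero =>
    intro M _
    have hfp : Module.FinitePresentation R M := Module.finitePresentation_of_finite R M
    have h0 : pdLocus M 0 = Module.freeLocus R M := by
      ext p
      rw [Module.mem_freeLocus_of_isLocalization p (Localization.AtPrime p.asIdeal)
        (M.localizedModule p.asIdeal.primeCompl)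
        (M.localizedModuleMkLinearMap p.asIdeal.primeCompl)]
      show HasProjectiveDimensionLE (M.localizedModule p.asIdeal.primeCompl) 0 ↔ _
      rw [← projective_iff_hasProjectiveDimensionLE_zero]
      constructor
      · intro h
        haveI : Module.Projective (Localization.AtPrime p.asIdeal)
            (M.localizedModule p.asIdeal.primeCompl) :=
          (IsProjective.iff_projective _).2 h
        haveI : Module.Finite (Localization.AtPrime p.asIdeal)
            (M.localizedModule p.asIdeal.primeCompl) :=
          Module.Finite.of_isLocalizedModule p.asIdeal.primeCompl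
            (M.localizedModuleMkLinearMap p.asIdeal.primeCompl)
        exact Module.free_of_flat_of_isLocalRing
      · intro h
        have hproj : Module.Projective (Localization.AtPrime p.asIdeal)
            (M.localizedModule p.asIdeal.primeCompl) := Module.Projective.of_free
        exact (IsProjective.iff_projective (M.localizedModule p.asIdeal.primeCompl)).1 hproj
    rw [h0]
    exact Module.isOpen_freeLocus
  | succ n ih =>
    intro M _
    rcases Module.exists_finite_presentation R M with ⟨P, _, _, _, _, f, surjf⟩
    let S := f.shortComplexKer
    have S_exact := LinearMap.shortExact_shortComplexKer surjf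
    have proj := ModuleCat.projective_of_categoryTheory_projective S.X₂
    have Sp_exact (p : PrimeSpectrum R) :
        (S.map (ModuleCat.localizedModuleFunctor p.asIdeal.primeCompl)).ShortExact :=
      S_exact.map_of_exact (ModuleCat.localizedModuleFunctor p.asIdeal.primeCompl)
    have projp (p : PrimeSpectrum R) :
        Projective (S.map (ModuleCat.localizedModuleFunctor p.asIdeal.primeCompl)).X₂ :=
      (ModuleCat.localizedModuleFunctor.{u} p.asIdeal.primeCompl).projective_obj_of_projective proj
    have hK : pdLocus M (n + 1) = pdLocus (ModuleCat.of R (LinearMap.ker f)) n := by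
      ext p
      exact (Sp_exact p).hasProjectiveDimensionLT_X₃_iff n (projp p)
    rw [hK]
    exact ih (ModuleCat.of R (LinearMap.ker f))

theorem pdLocus_mono (M : ModuleCat.{u} R) {m n : ℕ} (h : m ≤ n) :
    pdLocus M m ⊆ pdLocus M n := by
  intro p hp
  have hp' : HasProjectiveDimensionLT (M.localizedModule p.asIdeal.primeCompl) (m + 1) := hp
  exact hasProjectiveDimensionLT_of_ge _ (m + 1) (n + 1) (by omega)

/-- **Finite projective dimension** of finite modules over a Noetherian ring all of whose
localisations are regular (the Krull dimension may be infinite). -/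
theorem exists_pdLT'
    (hreg : ∀ p : PrimeSpectrum R, IsRegularLocalRing (Localization.AtPrime p.asIdeal))
    (M : ModuleCat.{u} R) [Module.Finite R M] :
    ∃ d : ℕ, HasProjectiveDimensionLT M (d + 1) := by
  have hcov : (Set.univ : Set (PrimeSpectrum R)) ⊆ ⋃ n, pdLocus M n := by
    intro p _
    haveI := hreg p
    haveI : Module.Finite (Localization.AtPrime p.asIdeal)
        (M.localizedModule p.asIdeal.primeCompl) :=
      Module.Finite.of_isLocalizedModule p.asIdeal.primeCompl
        (M.localizedModuleMkLinearMap p.asIdeal.primeCompl)
    obtain ⟨N, -, hN⟩ := Groth.Agent.Helper8.ABS.exists_hasProjectiveDimensionLT_of_regular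
      (Localization.AtPrime p.asIdeal) (M.localizedModule p.asIdeal.primeCompl)
    exact Set.mem_iUnion.2 ⟨N, hN⟩
  obtain ⟨d, hd⟩ := isCompact_univ.elim_directed_cover
    (fun n => pdLocus M n)
    (fun n => isOpen_pdLocus n M) hcov
    (fun i j => ⟨max i j, pdLocus_mono _ (le_max_left i j), pdLocus_mono _ (le_max_right i j)⟩)
  have h : HasProjectiveDimensionLE M d :=
    (M.hasProjectiveDimensionLE_iff_forall_primeSpectrum d).2
      (fun p => hd (Set.mem_univ p))
  exact ⟨d, h⟩

theorem exists_pdLT
    (hreg : ∀ p : PrimeSpectrum R, IsRegularLocalRing (Localization.AtPrime p.asIdeal))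
    (M : Type u) [AddCommGroup M] [Module R M] [Module.Finite R M] :
    ∃ d : ℕ, HasProjectiveDimensionLT (ModuleCat.of R M) (d + 1) :=
  exists_pdLT' hreg (ModuleCat.of R M)

end Groth.Agent.Helper1.RegPd
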