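import Mathlib
import Groth.Prelude.Def_KRR
import Groth.Agent.Lib.Helper1.RegPd
import Groth.Agent.Lib.Helper1.Dv28
import Groth.Agent.Lib.Helper1.CohACC
import Groth.Agent.Lib.Helper1.CohAbel
import Groth.Agent.Lib.Helper1.FinPush
import Groth.Agent.Lib.Lead.FLF6
import Groth.Agent.Lib.Helper5.Perf.LocalCoh
import Groth.Agent.Lib.Helper3.ResK0B

/-!
# The resolution theorem on regular Noetherian schemes (helper1)

On a Noetherian scheme with regular local rings and enough locally frees,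
`K₀(vector bundles) → K₀(coherent)` is bijective (S3746).  The categorical resolution theorem is
helper3's `ResK0A/ResK0B`; here we supply the scheme-theoretic input, working section-wise over
affine opens with projective dimension of the modules of sections.
-/

set_option backward.isDefEq.respectTransparency.types false
set_option synthInstance.maxHeartbeats 400000
set_option maxHeartbeats 1000000
set_option autoImplicit false
set_option linter.unusedSectionVars false
set_option linter.style.haveILetI false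
set_option linter.unusedVariables false

universe u
open CategoryTheory CategoryTheory.Limits AlgebraicGeometry TopologicalSpace Opposite

namespace Groth.Agent.Helper1.ResSch

open Groth.Agent.Helper1.CohACC Groth.Agent.Helper1.QcExt

variable {X : Scheme.{u}}

/-- the module of sections over `U` has projective dimension `< n` -/
def PdLT (M : X.Modules) (U : X.Opens) (n : ℕ) : Prop :=
  HasProjectiveDimensionLT (ModuleCat.of Γ(X, U) Γ(M, U)) n

theorem sec_zero (S : ShortComplex X.Modules) (U : X.Opens) :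
    (appL S.g U).comp (appL S.f U) = 0 :=
  LinearMap.ext fun x => app_zero S U x

theorem sec_shortExact {S : ShortComplex X.Modules} (hS : S.ShortExact)
    (hq : S.X₁.IsQuasicoherent) {U : X.Opens} (hU : IsAffineOpen U) :
    (ModuleCat.shortComplexOfCompEqZero (appL S.f U) (appL S.g U) (sec_zero S U)).ShortExact := by
  haveI := hq
  refine ModuleCat.shortComplex_shortExact _ ?_ ?_ ?_
  · intro y
    constructor
    · intro hy
      obtain ⟨x, hx⟩ := app_exact hS U y hy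
      exact ⟨x, hx⟩
    · rintro ⟨x, rfl⟩
      exact app_zero S U x
  · exact app_injective hS U
  · exact app_surjective hS U hU

theorem pd_X₁ {S : ShortComplex X.Modules} (hS : S.ShortExact)
    (hq : S.X₁.IsQuasicoherent) {U : X.Opens} (hU : IsAffineOpen U) (n : ℕ)
    (h₂ : PdLT S.X₂ U n) (h₃ : PdLT S.X₃ U (n + 1)) : PdLT S.X₁ U n :=
  (sec_shortExact hS hq hU).hasProjectiveDimensionLT_X₁ n h₂ h₃

theorem pd_X₂ {S : ShortComplex X.Modules} (hS : S.ShortExact)
    (hq : S.X₁.IsQuasicoherent) {U : X.Opens} (hU : IsAffineOpen U) (n : ℕ)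
    (h₁ : PdLT S.X₁ U n) (h₃ : PdLT S.X₃ U n) : PdLT S.X₂ U n :=
  (sec_shortExact hS hq hU).hasProjectiveDimensionLT_X₂ n h₁ h₃

theorem appL_bijective {M N : X.Modules} (e : M ≅ N) (U : X.Opens) :
    Function.Bijective (appL e.hom U) := by
  have : IsIso (e.hom.app U) := inferInstance
  exact (ConcreteCategory.isIso_iff_bijective _).1 this

theorem pd_of_iso {M N : X.Modules} (e : M ≅ N) (U : X.Opens) (n : ℕ) (h : PdLT M U n) :
    PdLT N U n := by
  let e' : Γ(M, U) ≃ₗ[Γ(X, U)] Γ(N, U) :=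
    LinearEquiv.ofBijective (appL e.hom U) (appL_bijective e U)
  haveI : HasProjectiveDimensionLT (ModuleCat.of Γ(X, U) Γ(M, U)) n := h
  exact hasProjectiveDimensionLT_of_iso e'.toModuleIso n

theorem pd_of_flf {M : X.Modules} (hM : FlatMod.IsFinLocFree M) {U : X.Opens}
    (hU : IsAffineOpen U) (n : ℕ) (hn : 1 ≤ n) : PdLT M U n := by
  haveI := Groth.Agent.Lead.FLF.isQuasicoherent_of_isFinLocFree M hM
  obtain ⟨-, hp⟩ := (Groth.Agent.Lead.FLF.isFinLocFree_iff_affineOpens M).1 hM U hU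
  haveI : Projective (ModuleCat.of Γ(X, U) Γ(M, U)) := (IsProjective.iff_projective _).1 hp
  exact hasProjectiveDimensionLT_of_ge _ 1 n hn

theorem flf_of_pd {M : X.Modules} (hM : Coh.IsCoh M)
    (h : ∀ x : X, ∃ U : X.Opens, IsAffineOpen U ∧ x ∈ U ∧ PdLT M U 1) :
    FlatMod.IsFinLocFree M := by
  haveI : M.IsQuasicoherent := hM.1
  refine Groth.Agent.Lead.FLF.isFinLocFree_of_affine_nhds M (fun x => ?_)
  obtain ⟨U, hU, hxU, hp⟩ := h x
  refine ⟨U, hU, hxU, FinPush.finite_sections M hM hU, ?_⟩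
  have hp' : HasProjectiveDimensionLT (ModuleCat.of Γ(X, U) Γ(M, U)) 1 := hp
  exact (IsProjective.iff_projective _).2 (projective_iff_hasProjectiveDimensionLT_one.2 hp')

theorem exists_affine_nhd (x : X) : ∃ U : X.Opens, IsAffineOpen U ∧ x ∈ U := by
  obtain ⟨_, ⟨W, hW, rfl⟩, hxW, -⟩ :=
    X.isBasis_affineOpens.exists_subset_of_mem_open (Set.mem_univ x) isOpen_univ
  exact ⟨W, hW, hxW⟩

theorem coh_X₁ [IsNoetherian X] {S : ShortComplex X.Modules} (hS : S.ShortExact)
    (h2 : Coh.IsCoh S.X₂) (h3 : Coh.IsCoh S.X₃) : Coh.IsCoh S.X₁ := by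
  haveI := hS.mono_f
  haveI : S.X₂.IsQuasicoherent := h2.1
  haveI : S.X₃.IsQuasicoherent := h3.1
  exact FtLocal.isCoh_of_mono S.f h2 (QcAbel.isQuasicoherent_left hS.exact)

theorem flf_ext [IsNoetherian X] {S : ShortComplex X.Modules} (hS : S.ShortExact)
    (h1 : FlatMod.IsFinLocFree S.X₁) (h3 : FlatMod.IsFinLocFree S.X₃) :
    FlatMod.IsFinLocFree S.X₂ := by
  have c1 := Groth.Agent.Lib.Helper5.LocalCoh.isCoh_of_isFinLocFree _ h1
  have c3 := Groth.Agent.Lib.Helper5.LocalCoh.isCoh_of_isFinLocFree _ h3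
  have c2 : Coh.IsCoh S.X₂ := Dv.isCoh_mid hS c1 c3
  refine flf_of_pd c2 (fun x => ?_)
  obtain ⟨U, hU, hxU⟩ := exists_affine_nhd x
  exact ⟨U, hU, hxU, pd_X₂ hS c1.1 hU 1 (pd_of_flf h1 hU 1 le_rfl) (pd_of_flf h3 hU 1 le_rfl)⟩

theorem flf_ker [IsNoetherian X] {S : ShortComplex X.Modules} (hS : S.ShortExact)
    (h2 : FlatMod.IsFinLocFree S.X₂) (h3 : FlatMod.IsFinLocFree S.X₃) :
    FlatMod.IsFinLocFree S.X₁ := by
  have c2 := Groth.Agent.Lib.Helper5.LocalCoh.isCoh_of_isFinLocFree _ h2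
  have c3 := Groth.Agent.Lib.Helper5.LocalCoh.isCoh_of_isFinLocFree _ h3
  have c1 : Coh.IsCoh S.X₁ := coh_X₁ hS c2 c3
  refine flf_of_pd c1 (fun x => ?_)
  obtain ⟨U, hU, hxU⟩ := exists_affine_nhd x
  exact ⟨U, hU, hxU, pd_X₁ hS c1.1 hU 1 (pd_of_flf h2 hU 1 le_rfl)
    (pd_of_flf h3 hU (1 + 1) (by omega))⟩

theorem coh_pullback [IsNoetherian X] {A B D : X.Modules} (u : A ⟶ B) (v : D ⟶ B)
    (hA : Coh.IsCoh A) (hB : Coh.IsCoh B) (hD : Coh.IsCoh D) : Coh.IsCoh (pullback u v) := by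
  have hAD : Coh.IsCoh (A ⊞ D) :=
    Dv.isCoh_mid (ShortComplex.Splitting.ofHasBinaryBiproduct A D).shortExact hA hD
  have hK : Coh.IsCoh (kernel (biprod.desc u (-v))) := FtLocal.isCoh_kernel hAD hB _
  have e : kernel (biprod.desc u (-v)) ≅ pullback u v :=
    IsLimit.conePointUniqueUpToIso (kernelIsKernel _)
      (Abelian.PullbackToBiproductIsKernel.isLimitPullbackToBiproduct u v)
  exact Groth.Agent.Lib.Helper5.LocalCoh.isCoh_of_iso e hK

theorem h2' [IsNoetherian X] (hX : KRR.HasEnoughLocFree X) (A B D : X.Modules) (u : A ⟶ B)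
    (v : D ⟶ B) (hu : Epi u) (hA : Coh.IsCoh A) (hB : Coh.IsCoh B) (hD : Coh.IsCoh D) :
    ∃ (L : X.Modules) (u' : L ⟶ D) (v' : L ⟶ A),
      FlatMod.IsFinLocFree L ∧ Epi u' ∧ u' ≫ v = v' ≫ u := by
  obtain ⟨E, p, hE, hp⟩ := hX (pullback u v) (coh_pullback u v hA hB hD)
  haveI := hp
  haveI := hu
  refine ⟨E, p ≫ pullback.snd u v, p ≫ pullback.fst u v, hE, epi_comp _ _, ?_⟩
  rw [Category.assoc, Category.assoc, pullback.condition]

open Groth.Agent.Helper3.ResK0B in
theorem K_isCoh [IsNoetherian X] {A : X.Modules} (R : ResData (KRR.vbP X) A)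
    (hA : Coh.IsCoh A) : ∀ i, Coh.IsCoh (R.K i)
  | 0 => Groth.Agent.Lib.Helper5.LocalCoh.isCoh_of_iso R.e.symm hA
  | (i + 1) => by
      have h := coh_X₁ (R.se i)
        (Groth.Agent.Lib.Helper5.LocalCoh.isCoh_of_isFinLocFree _ (R.hL i)) (K_isCoh R hA i)
      exact h

open Groth.Agent.Helper3.ResK0B in
theorem K_pd [IsNoetherian X] {A : X.Modules} (R : ResData (KRR.vbP X) A)
    (hA : Coh.IsCoh A) {U : X.Opens} (hU : IsAffineOpen U) (d : ℕ) (hd : PdLT A U (d + 1)) :
    ∀ i, i ≤ d → PdLT (R.K i) U (d - i + 1)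
  | 0, _ => pd_of_iso R.e.symm U _ hd
  | (i + 1), hi => by
      have h3 := K_pd R hA hU d hd i (by omega)
      have hq : (R.K (i + 1)).IsQuasicoherent := (K_isCoh R hA (i + 1)).1
      have e : d - i = (d - (i + 1)) + 1 := by omega
      rw [e] at h3
      have h2 : PdLT (R.L i) U (d - (i + 1) + 1) := pd_of_flf (R.hL i) hU _ (by omega)
      have h := pd_X₁ (R.se i) hq hU (d - (i + 1) + 1) h2 h3
      exact h

theorem pd_affine [IsNoetherian X] (hreg : ∀ x : X, IsRegularLocalRing (X.presheaf.stalk x))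
    (A : X.Modules) (hA : Coh.IsCoh A) {U : X.Opens} (hU : IsAffineOpen U) :
    ∃ d : ℕ, PdLT A U (d + 1) := by
  haveI : IsNoetherianRing Γ(X, U) := IsLocallyNoetherian.component_noetherian ⟨U, hU⟩
  haveI : Module.Finite Γ(X, U) Γ(A, U) := FinPush.finite_sections A hA hU
  have hregU : ∀ p : PrimeSpectrum Γ(X, U),
      IsRegularLocalRing (Localization.AtPrime p.asIdeal) := by
    intro p
    let e2 : X.presheaf.stalk (hU.fromSpec p) ≃+* (Spec Γ(X, U)).presheaf.stalk p :=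
      (asIso (hU.fromSpec.stalkMap p)).commRingCatIsoToRingEquiv
    let e1 : Localization.AtPrime p.asIdeal ≃+* (Spec Γ(X, U)).presheaf.stalk p :=
      (StructureSheaf.stalkIso Γ(X, U) p).toRingEquiv
    haveI := hreg (hU.fromSpec p)
    exact IsRegularLocalRing.of_ringEquiv (e2.trans e1.symm)
  exact RegPd.exists_pdLT hregU Γ(A, U)

theorem exists_d [IsNoetherian X] (hreg : ∀ x : X, IsRegularLocalRing (X.presheaf.stalk x))
    (A : X.Modules) (hA : Coh.IsCoh A) :
    ∃ d : ℕ, ∀ x : X, ∃ U : X.Opens, IsAffineOpen U ∧ x ∈ U ∧ PdLT A U (d + 1) := by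
  classical
  have key : ∀ U : X.affineOpens, ∃ d : ℕ, PdLT A U.1 (d + 1) :=
    fun U => pd_affine hreg A hA U.2
  choose dU hdU using key
  have hcov : (Set.univ : Set X) ⊆ ⋃ U : X.affineOpens, (U.1 : Set X) := by
    intro x _
    obtain ⟨W, hW, hxW⟩ := exists_affine_nhd x
    exact Set.mem_iUnion.2 ⟨⟨W, hW⟩, hxW⟩
  obtain ⟨t, ht⟩ := isCompact_univ.elim_finite_subcover
    (fun U : X.affineOpens => (U.1 : Set X)) (fun U => U.1.isOpen) hcov
  refine ⟨t.sup dU, fun x => ?_⟩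
  have hx := ht (Set.mem_univ x)
  simp only [Set.mem_iUnion] at hx
  obtain ⟨U, hUt, hxU⟩ := hx
  refine ⟨U.1, U.2, hxU, ?_⟩
  haveI : HasProjectiveDimensionLT (ModuleCat.of Γ(X, U.1) Γ(A, U.1)) (dU U + 1) := hdU U
  exact hasProjectiveDimensionLT_of_ge _ (dU U + 1) (t.sup dU + 1)
    (Nat.succ_le_succ (Finset.le_sup hUt))

/-- **S3746** -/
theorem main (X : Scheme.{u}) [IsNoetherian X]
    (hreg : ∀ x : X, IsRegularLocalRing (X.presheaf.stalk x)) (hX : KRR.HasEnoughLocFree X)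
    (h : ∀ M : X.Modules, FlatMod.IsFinLocFree M → Coh.IsCoh M) :
    Function.Bijective
      (SGA6.mapSub (𝟭 X.Modules) (KRR.vbP X) (fun M : X.Modules => Coh.IsCoh M) h) := by
  have H : Groth.Agent.Helper3.ResK0A.Hyp (KRR.vbP X) (fun M : X.Modules => Coh.IsCoh M) :=
    { iso₀ := fun e h => Groth.Agent.Lead.FLF.isFinLocFree_of_iso e h
      hle := h
      hext₀ := fun S hS h1 h3 => flf_ext hS h1 h3
      hext₁ := fun S hS h1 h3 => Dv.isCoh_mid hS h1 h3
      h1₀ := fun S hS h2 h3 => flf_ker hS h2 h3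
      h1₁ := fun S hS h2 h3 => coh_X₁ hS h2 h3
      h2 := fun A B D u v hu hA hB hD => h2' hX A B D u v hu hA hB hD }
  refine H.main (fun A hA => ?_)
  obtain ⟨d, hd⟩ := exists_d hreg A hA
  refine ⟨d, Groth.Agent.Helper3.ResK0B.good_of_forall H d hA (fun R => ?_)⟩
  refine flf_of_pd (K_isCoh R hA d) (fun x => ?_)
  obtain ⟨U, hU, hxU, hp⟩ := hd x
  refine ⟨U, hU, hxU, ?_⟩
  have h1 := K_pd R hA hU d hp d le_rfl
  rw [Nat.sub_self] at h1
  exact h1

end Groth.Agent.Helper1.ResSch
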