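import Mathlib
import Groth.Prelude.Def_KRR
import Groth.Agent.Lib.Helper1.RegK1
import Groth.Agent.Lib.Helper1.EulerK
import Groth.Agent.Lib.Helper1.Euler3
import Groth.Agent.Lib.Helper1.ResSch
import Groth.Agent.Lib.Helper1.ProjNoeth
import Groth.Agent.Lib.Helper1.InvInv2
import Groth.Agent.Lib.Helper4.KrrM
import Groth.Agent.Lib.Helper4.KosB1
import Groth.Agent.Lib.Helper4.KosC1
import Groth.Agent.Lib.Helper4.ClBridge2
import Groth.Agent.Lib.Helper5.Perf.ConePerf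
import Groth.Agent.Lib.Helper5.Perf.RpushOpen
import Groth.Agent.Lib.Helper5.Perf.Pull
import Groth.Agent.Lib.Helper5.Perf.LocalCoh
import Groth.Agent.Lib.Helper5.LTen.Flf
import Groth.Agent.Lib.Lead.FLF1

/-!
# `K₀` of regular bundles on `P^n_Y` equals `K₀` of all bundles (helper1, S3758)

The Koszul complex on `P^n_ℤ`, pulled back to `P^n_Y` and tensored with a bundle `F`, gives the
relation `∑ (-1)^p C(n+1,p) [F(p)] = 0` in `K₀` of bundles and in `K₀` of regular bundles; the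
abstract comparison of `RegK1` then applies.
-/

set_option backward.isDefEq.respectTransparency.types false
set_option synthInstance.maxHeartbeats 400000
set_option maxHeartbeats 1000000
set_option autoImplicit false
set_option linter.unusedSectionVars false
set_option linter.style.haveILetI false
set_option linter.unusedVariables false

universe u
open CategoryTheory CategoryTheory.Limits AlgebraicGeometry
open Groth.Agent.Helper1.KPull Groth.Agent.Lib.Helper4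

namespace Groth.Agent.Helper1.RegK

section Coprod
variable {C : Type*} [Category C]

theorem nonempty_sigmaSuccIso [Preadditive C] [HasBinaryBiproducts C] [HasFiniteCoproducts C]
    (F : C) (r : ℕ) :
    Nonempty ((∐ fun _ : Fin (r + 1) => F) ≅ F ⊞ (∐ fun _ : Fin r => F)) := by
  let f : Fin (r + 1) → C := fun _ => F
  let c₁ : Cofan (fun i : Fin r => f i.succ) :=
    Cofan.mk (∐ fun _ : Fin r => F) (Sigma.ι (fun _ : Fin r => F))
  have t₁ : IsColimit c₁ := coproductIsCoproduct (fun _ : Fin r => F)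
  let c₂ : BinaryCofan (f 0) c₁.pt :=
    BinaryCofan.mk (coprod.inl : F ⟶ F ⨿ (∐ fun _ : Fin r => F)) coprod.inr
  have t₂ : IsColimit c₂ := coprodIsCoprod F (∐ fun _ : Fin r => F)
  have t := extendCofanIsColimit f t₁ t₂
  have e1 : (∐ fun _ : Fin (r + 1) => F) ≅ F ⨿ (∐ fun _ : Fin r => F) :=
    (coproductIsCoproduct f).coconePointUniqueUpToIso t
  exact ⟨e1 ≪≫ (biprod.isoCoprod F _).symm⟩

theorem isZero_sigma_fin_zero [HasZeroMorphisms C] [HasFiniteCoproducts C] (F : C) :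
    IsZero (∐ fun _ : Fin 0 => F) := by
  rw [IsZero.iff_id_eq_zero]
  apply Sigma.hom_ext
  intro i
  exact i.elim0

theorem telescope {G : Type*} [AddCommGroup G] (w : ℕ → G) (m : ℕ) :
    ∑ p ∈ Finset.range m, (-1 : ℤ) ^ p • (w p + w (p + 1)) = w 0 - (-1 : ℤ) ^ m • w m := by
  induction m with
  | zero => simp
  | succ m ih =>
    rw [Finset.sum_range_succ, ih, pow_succ, smul_add, mul_neg_one, neg_smul]
    abel

end Coprod

section Flf
variable {X : Scheme.{u}}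

theorem qc_of_flf (M : X.Modules) (h : FlatMod.IsFinLocFree M) : Coh.IsQCoh M :=
  (Groth.Agent.Lib.Helper5.LocalCoh.isCoh_of_isFinLocFree M h).1

theorem flf_coprod (A : X.Modules) (hA : FlatMod.IsFinLocFree A) (r : ℕ) :
    FlatMod.IsFinLocFree (∐ fun _ : Fin r => A) := by
  induction r with
  | zero =>
    exact Groth.Agent.Lib.Helper5.RpushOpen.isFinLocFree_of_isZero _ (isZero_sigma_fin_zero A)
  | succ r ih =>
    obtain ⟨e⟩ := nonempty_sigmaSuccIso A r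
    exact Groth.Agent.Lead.FLF.isFinLocFree_of_iso e.symm
      (Groth.Agent.Lib.Helper5.ConePerf.isFinLocFree_biprod A _ hA ih)

end Flf

section PZ
variable (n : ℕ)

theorem isNoetherian_PZ : AlgebraicGeometry.IsNoetherian (CohB1.ProjSpace n (ULift.{u} ℤ)) := by
  haveI : IsNoetherianRing (ULift.{u} ℤ) :=
    isNoetherianRing_of_ringEquiv ℤ ULift.ringEquiv.symm
  have h := Groth.Agent.Helper1.ProjNoeth.isNoetherian_proj (CohB1.polyGrading n (ULift.{u} ℤ))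
  exact h

/-- the terms of the Koszul complex on `P^n_ℤ` -/
noncomputable abbrev KK (p : ℤ) : (CohB1.ProjSpace n (ULift.{u} ℤ)).Modules :=
  (KosB1.kosz n (ULift.{u} ℤ) 0).X p

/-- its differentials -/
noncomputable abbrev dd (p : ℤ) : KK.{u} n p ⟶ KK.{u} n (p + 1) :=
  (KosB1.kosz n (ULift.{u} ℤ) 0).d p (p + 1)

theorem dd_comp (p : ℤ) : dd.{u} n p ≫ dd.{u} n (p + 1) = 0 :=
  HomologicalComplex.d_comp_d _ _ _ _

theorem dd_exact (p : ℤ) :
    (ShortComplex.mk (dd.{u} n p) (dd.{u} n (p + 1)) (dd_comp.{u} n p)).Exact := by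
  have h := KosB1.kosz_exactAt n (ULift.{u} ℤ) 0 (p + 1)
  rw [HomologicalComplex.exactAt_iff' _ p (p + 1) (p + 1 + 1) (by simp) (by simp)] at h
  exact h

/-- the cycles -/
noncomputable abbrev ZZ (p : ℤ) : (CohB1.ProjSpace n (ULift.{u} ℤ)).Modules :=
  kernel (dd.{u} n p)

/-- the short exact sequences `Z^p → K^p → Z^{p+1}` -/
noncomputable abbrev SZ (p : ℤ) : ShortComplex (CohB1.ProjSpace n (ULift.{u} ℤ)).Modules :=
  KosC1.sesZ (KK.{u} n) (dd.{u} n) (dd_comp.{u} n) p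

theorem SZ_shortExact (p : ℤ) : (SZ.{u} n p).ShortExact :=
  KosC1.sesZ_shortExact (KK.{u} n) (dd.{u} n) (dd_comp.{u} n) (dd_exact.{u} n) p

theorem flf_tw (q : ℤ) : FlatMod.IsFinLocFree (Twist.twistProjSpace n (ULift.{u} ℤ) q) :=
  Groth.Agent.Helper1.InvInv2.isFinLocFree_of_isInvertible
    (ClBridge2.isInvertible_twist n (ULift.{u} ℤ) q)

theorem flf_KK (p : ℤ) : FlatMod.IsFinLocFree (KK.{u} n p) := by
  by_cases hp : p < 0 ∨ (n : ℤ) + 1 < p
  · exact Groth.Agent.Lib.Helper5.RpushOpen.isFinLocFree_of_isZero _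
      (KosB1.kosz_isZero n _ 0 p hp)
  · push Not at hp
    obtain ⟨i, rfl⟩ := Int.eq_ofNat_of_zero_le hp.1
    obtain ⟨e⟩ := KosB1.kosz_X_iso n (ULift.{u} ℤ) 0 i
    exact Groth.Agent.Lead.FLF.isFinLocFree_of_iso e.symm (flf_coprod _ (flf_tw n _) _)

theorem isZero_ZZ_of_isZero (p : ℤ) (h : IsZero (KK.{u} n p)) : IsZero (ZZ.{u} n p) :=
  IsZero.of_mono (kernel.ι (dd.{u} n p)) h

theorem isZero_ZZ_succ (p : ℤ) (h : IsZero (KK.{u} n p)) : IsZero (ZZ.{u} n (p + 1)) := by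
  have hex := dd_exact.{u} n p
  haveI : Mono (dd.{u} n (p + 1)) := hex.mono_g (h.eq_of_src _ _)
  exact isZero_kernel_of_mono (dd.{u} n (p + 1))

theorem isZero_ZZ_zero : IsZero (ZZ.{u} n 0) := by
  have h := isZero_ZZ_succ.{u} n (-1) (KosB1.kosz_isZero n _ 0 (-1) (Or.inl (by norm_num)))
  have e : ((-1 : ℤ) + 1) = 0 := by norm_num
  rwa [e] at h

theorem flf_ZZ_aux : ∀ (k : ℕ) (p : ℤ), (n : ℤ) + 2 ≤ p + k →
    FlatMod.IsFinLocFree (ZZ.{u} n p) := by
  haveI := isNoetherian_PZ.{u} n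
  intro k
  induction k with
  | zero =>
    intro p hp
    exact Groth.Agent.Lib.Helper5.RpushOpen.isFinLocFree_of_isZero _
      (isZero_ZZ_of_isZero n p (KosB1.kosz_isZero n _ 0 p (Or.inr (by push_cast at hp; omega))))
  | succ k ih =>
    intro p hp
    have h3 : FlatMod.IsFinLocFree (ZZ.{u} n (p + 1)) :=
      ih (p + 1) (by push_cast at hp ⊢; omega)
    exact Groth.Agent.Helper1.ResSch.flf_ker (SZ_shortExact.{u} n p) (flf_KK n p) h3

theorem flf_ZZ (p : ℤ) : FlatMod.IsFinLocFree (ZZ.{u} n p) :=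
  flf_ZZ_aux n (Int.toNat ((n : ℤ) + 2 - p)) p (by
    have := Int.self_le_toNat ((n : ℤ) + 2 - p)
    omega)

end PZ

section Geo
variable (n : ℕ) (Y : Scheme.{u})

/-- the projection `P^n_Y ⟶ P^n_ℤ` -/
noncomputable abbrev fstY : KRR.PY n Y ⟶ CohB1.ProjSpace n (ULift.{u} ℤ) :=
  pullback.fst (CohB1.ProjSpace.toSpec n (ULift.{u} ℤ)) (specULiftZIsTerminal.from Y)

/-- `E ↦ F ⊗ pr^* E` -/
noncomputable abbrev GF (F : (KRR.PY n Y).Modules)
    (E : (CohB1.ProjSpace n (ULift.{u} ℤ)).Modules) : (KRR.PY n Y).Modules :=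
  ((DCoh.tensorBi (X := KRR.PY n Y)).obj F).obj ((Scheme.Modules.pullback (fstY n Y)).obj E)

/-- the same on short complexes -/
noncomputable abbrev GS (F : (KRR.PY n Y).Modules)
    (S : ShortComplex (CohB1.ProjSpace n (ULift.{u} ℤ)).Modules) :
    ShortComplex (KRR.PY n Y).Modules :=
  (S.map (Scheme.Modules.pullback (fstY n Y))).map ((DCoh.tensorBi (X := KRR.PY n Y)).obj F)

theorem GS_shortExact (F : (KRR.PY n Y).Modules) (hF : FlatMod.IsFinLocFree F)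
    (S : ShortComplex (CohB1.ProjSpace n (ULift.{u} ℤ)).Modules) (hS : S.ShortExact)
    (h3 : FlatMod.IsFinLocFree S.X₃) : (GS n Y F S).ShortExact :=
  Groth.Agent.Helper1.Euler.shortExact_tensor F hF _
    (KPull.shortExact_pullback (fstY n Y) S hS h3)

theorem GF_flf (F : (KRR.PY n Y).Modules) (hF : FlatMod.IsFinLocFree F)
    (E : (CohB1.ProjSpace n (ULift.{u} ℤ)).Modules) (hE : FlatMod.IsFinLocFree E) :
    FlatMod.IsFinLocFree (GF n Y F E) :=
  Groth.Agent.Lib.Helper5.LTenFlf.isFinLocFree_tensor F _ hF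
    (Groth.Agent.Lib.Helper5.PerfPull.isFinLocFree_pullback (fstY n Y) E hE)

theorem GF_isZero (F : (KRR.PY n Y).Modules)
    (E : (CohB1.ProjSpace n (ULift.{u} ℤ)).Modules) (hE : IsZero E) : IsZero (GF n Y F E) :=
  ((DCoh.tensorBi (X := KRR.PY n Y)).obj F).map_isZero
    ((Scheme.Modules.pullback (fstY n Y)).map_isZero hE)

/-- functoriality on isomorphisms -/
noncomputable def GF_iso (F : (KRR.PY n Y).Modules)
    {E E' : (CohB1.ProjSpace n (ULift.{u} ℤ)).Modules} (e : E ≅ E') :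
    GF n Y F E ≅ GF n Y F E' :=
  ((DCoh.tensorBi (X := KRR.PY n Y)).obj F).mapIso
    ((Scheme.Modules.pullback (fstY n Y)).mapIso e)

theorem isRegSheaf_of_isZero (M : (KRR.PY n Y).Modules) (hM : IsZero M) :
    KRR.IsRegSheaf n Y M := by
  intro i hi
  exact (Coh.RpushAb (KRR.pr n Y) i).map_isZero
    ((SheafOfModules.toSheaf (KRR.PY n Y).ringCatSheaf).map_isZero
      ((KrrM.twFun n Y (-(i : ℤ))).map_isZero hM))

theorem reg_tw1 (M : (KRR.PY n Y).Modules) (hM : FlatMod.IsFinLocFree M)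
    (h : KRR.IsRegSheaf n Y M) : KRR.IsRegSheaf n Y (KRR.twF n Y 1 M) := by
  haveI : M.IsQuasicoherent := qc_of_flf M hM
  have h1 := KrrC.s19428 n Y M h 1
  rwa [Nat.cast_one] at h1

/-- the closure properties of a class of bundles on `P^n_Y` used below -/
structure Good (P : ObjectProperty (KRR.PY n Y).Modules) : Prop where
  flf : ∀ M, P M → FlatMod.IsFinLocFree M
  iso : ∀ (M N : (KRR.PY n Y).Modules), (M ≅ N) → P M → P N
  zero : ∀ M, IsZero M → P M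
  ext : ∀ S : ShortComplex (KRR.PY n Y).Modules, S.ShortExact → P S.X₁ → P S.X₃ →
    FlatMod.IsFinLocFree S.X₂ → P S.X₂
  coker : ∀ S : ShortComplex (KRR.PY n Y).Modules, S.ShortExact → P S.X₁ → P S.X₂ →
    FlatMod.IsFinLocFree S.X₃ → P S.X₃
  tw : ∀ M (m : ℕ), P M → P (KRR.twF n Y (m : ℤ) M)
  tw1 : ∀ M, P M → P (KRR.twF n Y 1 M)

theorem good_flf : Good n Y (fun M => FlatMod.IsFinLocFree M) where
  flf := fun M h => h
  iso := fun M N e h => Groth.Agent.Lead.FLF.isFinLocFree_of_iso e h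
  zero := fun M h => Groth.Agent.Lib.Helper5.RpushOpen.isFinLocFree_of_isZero M h
  ext := fun S _ _ _ h => h
  coker := fun S _ _ _ h => h
  tw := fun M m h => KrrF.isFinLocFree_twF n Y (m : ℤ) M h
  tw1 := fun M h => KrrF.isFinLocFree_twF n Y 1 M h

theorem good_reg :
    Good n Y (fun M => FlatMod.IsFinLocFree M ∧ KRR.IsRegSheaf n Y M) where
  flf := fun M h => h.1
  iso := fun M N e h => ⟨Groth.Agent.Lead.FLF.isFinLocFree_of_iso e h.1,
    KrrJ.isRegSheaf_of_iso n Y e h.2⟩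
  zero := fun M h => ⟨Groth.Agent.Lib.Helper5.RpushOpen.isFinLocFree_of_isZero M h,
    isRegSheaf_of_isZero n Y M h⟩
  ext := fun S hS h1 h3 h2 => ⟨h2, KrrH.s19431 n Y S hS (qc_of_flf _ h1.1) (qc_of_flf _ h2)
    (qc_of_flf _ h3.1) h1.2 h3.2⟩
  coker := fun S hS h1 h2 h3 => ⟨h3, KrrH.s19432 n Y S hS (qc_of_flf _ h1.1) (qc_of_flf _ h2.1)
    (qc_of_flf _ h3) h2.2 (reg_tw1 n Y _ h1.1 h1.2)⟩
  tw := fun M m h => ⟨KrrF.isFinLocFree_twF n Y (m : ℤ) M h.1, by
    haveI : M.IsQuasicoherent := qc_of_flf M h.1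
    exact KrrC.s19428 n Y M h.2 m⟩
  tw1 := fun M h => ⟨KrrF.isFinLocFree_twF n Y 1 M h.1, reg_tw1 n Y M h.1 h.2⟩

end Geo

section Rel
variable {n : ℕ} {Y : Scheme.{u}} {P : ObjectProperty (KRR.PY n Y).Modules}
  (hP : Good n Y P) (F : (KRR.PY n Y).Modules) (hF : P F)
include hP hF

theorem mem_GF_tw (i : ℕ) :
    P (GF n Y F (Twist.twistProjSpace n (ULift.{u} ℤ) (i : ℤ))) :=
  hP.iso _ _ (KrrA.tensorModComm (Twist.twistOver n Y (i : ℤ)) F) (hP.tw F i hF)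

theorem cl_GF_tw (i : ℕ) :
    KZero.clSub P (GF n Y F (Twist.twistProjSpace n (ULift.{u} ℤ) (i : ℤ))) =
      KZero.clSub P (KRR.twF n Y (i : ℤ) F) :=
  (Groth.Agent.Helper1.EulerK.cl_iso P (KrrA.tensorModComm (Twist.twistOver n Y (i : ℤ)) F)
    (hP.tw F i hF) (mem_GF_tw hP F hF i) (hP.zero _ (isZero_zero _))).symm

theorem coprod_GF (A : (CohB1.ProjSpace n (ULift.{u} ℤ)).Modules)
    (hA : FlatMod.IsFinLocFree A) (hPA : P (GF n Y F A)) (r : ℕ) :
    P (GF n Y F (∐ fun _ : Fin r => A)) ∧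
      KZero.clSub P (GF n Y F (∐ fun _ : Fin r => A)) =
        (r : ℤ) • KZero.clSub P (GF n Y F A) := by
  have hFf := hP.flf F hF
  induction r with
  | zero =>
    have hz : IsZero (GF n Y F (∐ fun _ : Fin 0 => A)) :=
      GF_isZero n Y F _ (isZero_sigma_fin_zero A)
    refine ⟨hP.zero _ hz, ?_⟩
    rw [Groth.Agent.Helper1.EulerK.cl_zero_of_isZero P hz (hP.zero _ hz), Nat.cast_zero,
      zero_smul]
  | succ r ih =>
    obtain ⟨hm, hc⟩ := ih
    obtain ⟨e⟩ := nonempty_sigmaSuccIso A r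
    have hB : FlatMod.IsFinLocFree (∐ fun _ : Fin r => A) := flf_coprod A hA r
    have hS := (ShortComplex.Splitting.ofHasBinaryBiproduct A (∐ fun _ : Fin r => A)).shortExact
    have hGS := GS_shortExact n Y F hFf _ hS hB
    have hm2 : P (GF n Y F (A ⊞ ∐ fun _ : Fin r => A)) :=
      hP.ext _ hGS hPA hm (GF_flf n Y F hFf _
        (Groth.Agent.Lib.Helper5.ConePerf.isFinLocFree_biprod A _ hA hB))
    have hc2 : KZero.clSub P (GF n Y F (A ⊞ ∐ fun _ : Fin r => A)) =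
        KZero.clSub P (GF n Y F A) + KZero.clSub P (GF n Y F (∐ fun _ : Fin r => A)) :=
      clSub_ses P _ hGS hPA hm2 hm
    have e' := GF_iso n Y F e
    have hm3 : P (GF n Y F (∐ fun _ : Fin (r + 1) => A)) := hP.iso _ _ e'.symm hm2
    refine ⟨hm3, ?_⟩
    rw [Groth.Agent.Helper1.EulerK.cl_iso P e' hm3 hm2 (hP.zero _ (isZero_zero _)), hc2, hc]
    push_cast
    rw [add_smul, one_smul, add_comm]

theorem mem_cl_KK (i : ℕ) :
    P (GF n Y F (KK.{u} n (i : ℤ))) ∧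
      KZero.clSub P (GF n Y F (KK.{u} n (i : ℤ))) =
        ((Nat.choose (n + 1) i : ℕ) : ℤ) • KZero.clSub P (KRR.twF n Y (i : ℤ) F) := by
  obtain ⟨e⟩ := KosB1.kosz_X_iso n (ULift.{u} ℤ) 0 i
  rw [zero_add] at e
  obtain ⟨hm, hc⟩ := coprod_GF hP F hF _ (flf_tw n (i : ℤ)) (mem_GF_tw hP F hF i)
    (Nat.choose (n + 1) i)
  have e' := GF_iso n Y F e
  have hm2 : P (GF n Y F (KK.{u} n (i : ℤ))) := hP.iso _ _ e'.symm hm
  refine ⟨hm2, ?_⟩
  rw [Groth.Agent.Helper1.EulerK.cl_iso P e' hm2 hm (hP.zero _ (isZero_zero _)), hc,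
    cl_GF_tw hP F hF i]

theorem mem_ZZ (p : ℕ) : P (GF n Y F (ZZ.{u} n (p : ℤ))) := by
  have hFf := hP.flf F hF
  induction p with
  | zero =>
    rw [Nat.cast_zero]
    exact hP.zero _ (GF_isZero n Y F _ (isZero_ZZ_zero n))
  | succ p ih =>
    have hGS := GS_shortExact n Y F hFf _ (SZ_shortExact.{u} n (p : ℤ))
      (flf_ZZ n ((p : ℤ) + 1))
    have h3 := hP.coker _ hGS ih (mem_cl_KK hP F hF p).1
      (GF_flf n Y F hFf _ (flf_ZZ n ((p : ℤ) + 1)))
    have hc : ((p + 1 : ℕ) : ℤ) = (p : ℤ) + 1 := Nat.cast_succ p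
    rw [hc]
    exact h3

/-- the classes of the twisted cycles -/
noncomputable def wcl (p : ℕ) : KZero.K0sub P := KZero.clSub P (GF n Y F (ZZ.{u} n (p : ℤ)))

theorem cl_KK_eq (p : ℕ) :
    KZero.clSub P (GF n Y F (KK.{u} n (p : ℤ))) = wcl (P := P) F p + wcl (P := P) F (p + 1) := by
  have hFf := hP.flf F hF
  have hGS := GS_shortExact n Y F hFf _ (SZ_shortExact.{u} n (p : ℤ))
    (flf_ZZ n ((p : ℤ) + 1))
  have hm3 := mem_ZZ hP F hF (p + 1)
  have hc : ((p + 1 : ℕ) : ℤ) = (p : ℤ) + 1 := Nat.cast_succ p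
  unfold wcl
  rw [hc] at hm3 ⊢
  exact clSub_ses P _ hGS (mem_ZZ hP F hF p) (mem_cl_KK hP F hF p).1 hm3

theorem alt_sum_KK :
    ∑ p ∈ Finset.range (n + 2), (-1 : ℤ) ^ p • KZero.clSub P (GF n Y F (KK.{u} n (p : ℤ))) =
      0 := by
  have h1 : ∑ p ∈ Finset.range (n + 2),
      (-1 : ℤ) ^ p • KZero.clSub P (GF n Y F (KK.{u} n (p : ℤ))) =
      ∑ p ∈ Finset.range (n + 2), (-1 : ℤ) ^ p • (wcl (P := P) F p + wcl (P := P) F (p + 1)) :=
    Finset.sum_congr rfl (fun p _ => by rw [cl_KK_eq hP F hF p])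
  rw [h1, telescope (wcl (P := P) F) (n + 2)]
  have hz0 : IsZero (GF n Y F (ZZ.{u} n ((0 : ℕ) : ℤ))) := by
    rw [Nat.cast_zero]
    exact GF_isZero n Y F _ (isZero_ZZ_zero n)
  have hz1 : IsZero (GF n Y F (ZZ.{u} n ((n + 2 : ℕ) : ℤ))) :=
    GF_isZero n Y F _ (isZero_ZZ_of_isZero n _
      (KosB1.kosz_isZero n _ 0 _ (Or.inr (by push_cast; omega))))
  have z0 : wcl (P := P) F 0 = 0 :=
    Groth.Agent.Helper1.EulerK.cl_zero_of_isZero P hz0 (hP.zero _ hz0)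
  have z1 : wcl (P := P) F (n + 2) = 0 :=
    Groth.Agent.Helper1.EulerK.cl_zero_of_isZero P hz1 (hP.zero _ hz1)
  rw [z0, z1, smul_zero, sub_zero]

theorem koszul_rel :
    ∑ p ∈ Finset.range (n + 1 + 1), ((-1 : ℤ) ^ p * ((Nat.choose (n + 1) p : ℕ) : ℤ)) •
      KZero.clSub P (KRR.twF n Y (p : ℤ) F) = 0 := by
  refine Eq.trans ?_ (alt_sum_KK hP F hF)
  refine Finset.sum_congr rfl (fun p _ => ?_)
  rw [(mem_cl_KK hP F hF p).2, smul_smul]

end Rel

section Main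
variable (n : ℕ) (Y : Scheme.{u})

instance : (KrrM.twFun n Y 1).PreservesZeroMorphisms := inferInstance

theorem tm_iso : ∀ (p : ℕ) (F : (KRR.PY n Y).Modules),
    Nonempty ((Tm (KrrM.twFun n Y 1) p).obj F ≅ KRR.twF n Y (p : ℤ) F)
  | 0, F => by
    obtain ⟨e⟩ := KrrM.nonempty_twF_zero n Y F ((0 : ℕ) : ℤ) Nat.cast_zero
    exact ⟨e.symm⟩
  | p + 1, F => by
    obtain ⟨e1⟩ := tm_iso p F
    obtain ⟨e2⟩ := KrrJ.nonempty_twF_tensor_iso n Y F 1 (p : ℤ) ((p + 1 : ℕ) : ℤ)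
      (by push_cast; ring)
    exact ⟨(KrrM.twFun n Y 1).mapIso e1 ≪≫
      (KrrM.twFun n Y 1).mapIso (KrrA.tensorModComm (Twist.twistOver n Y (p : ℤ)) F) ≪≫
      e2 ≪≫ KrrA.tensorModComm _ _⟩

theorem k_rel {P : ObjectProperty (KRR.PY n Y).Modules} (hP : Good n Y P)
    (F : (KRR.PY n Y).Modules) (hF : P F) :
    KZero.clSub P F = ∑ p ∈ Finset.range (n + 1),
      (-((-1 : ℤ) ^ (p + 1) * ((Nat.choose (n + 1) (p + 1) : ℕ) : ℤ))) •
        KZero.clSub P ((Tm (KrrM.twFun n Y 1) (p + 1)).obj F) := by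
  apply rel_convert P (KrrM.twFun n Y 1) (n + 1)
    (fun p => (-1 : ℤ) ^ p * ((Nat.choose (n + 1) p : ℕ) : ℤ)) (by simp) F
  refine Eq.trans ?_ (koszul_rel hP F hF)
  refine Finset.sum_congr rfl (fun p _ => ?_)
  obtain ⟨e⟩ := tm_iso n Y p F
  rw [Groth.Agent.Helper1.EulerK.cl_iso P e (Tm_mem P _ hP.tw1 p F hF) (hP.tw F p hF)
    (hP.zero _ (isZero_zero _))]

theorem hyp [AlgebraicGeometry.IsNoetherian Y] :
    Hyp (fun M : (KRR.PY n Y).Modules => FlatMod.IsFinLocFree M ∧ KRR.IsRegSheaf n Y M)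
      (fun M : (KRR.PY n Y).Modules => FlatMod.IsFinLocFree M) (KrrM.twFun n Y 1) (n + 1)
      (fun p => -((-1 : ℤ) ^ (p + 1) * ((Nat.choose (n + 1) (p + 1) : ℕ) : ℤ))) where
  le := fun M h => h.1
  ex := fun S hS => KrrM.twFun_shortExact n Y hS 1
  t0 := (good_reg n Y).tw1
  t1 := (good_flf n Y).tw1
  k0 := fun F hF => k_rel n Y (good_reg n Y) F hF
  k1 := fun F hF => k_rel n Y (good_flf n Y) F hF
  r := fun F hF => by
    obtain ⟨m₀, hm⟩ := KrrF.exists_isRegSheaf_twF n Y F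
      (Groth.Agent.Lib.Helper5.LocalCoh.isCoh_of_isFinLocFree F hF)
    refine ⟨m₀, fun m hmm => ⟨Tm_mem _ _ (good_flf n Y).tw1 m F hF, ?_⟩⟩
    obtain ⟨e⟩ := tm_iso n Y m F
    exact KrrJ.isRegSheaf_of_iso n Y e.symm (hm m hmm)

theorem main [AlgebraicGeometry.IsNoetherian Y]
    (h : ∀ M : (KRR.PY n Y).Modules,
      FlatMod.IsFinLocFree M ∧ KRR.IsRegSheaf n Y M → FlatMod.IsFinLocFree M) :
    Function.Bijective (SGA6.mapSub (𝟭 (KRR.PY n Y).Modules)
      (fun M : (KRR.PY n Y).Modules => FlatMod.IsFinLocFree M ∧ KRR.IsRegSheaf n Y M)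
      (KRR.vbP (KRR.PY n Y)) h) :=
  bijective (hyp n Y)

end Main

end Groth.Agent.Helper1.RegK
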