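import Mathlib
import Groth.Prelude.Def_KRR
import Groth.Agent.Lib.Helper1.RegK2
import Groth.Agent.Lib.Helper1.H1Surj
import Groth.Agent.Lib.Helper1.AffPushEpi

/-!
# The push-forward `p_K : K(P^n_Y) → K(Y)` (helper1, S3798)
-/

set_option backward.isDefEq.respectTransparency.types false
set_option synthInstance.maxHeartbeats 400000
set_option maxHeartbeats 1000000
set_option autoImplicit false
set_option linter.unusedSectionVars false
set_option linter.style.haveILetI false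
set_option linter.unusedVariables false

universe v u
open CategoryTheory CategoryTheory.Limits AlgebraicGeometry
open Groth.Agent.Helper1.KPull Groth.Agent.Lib.Helper4

namespace Groth.Agent.Helper1.RegK

section Push
variable (n : ℕ) (Y : Scheme.{u})

/-- the regular bundles -/
abbrev P0 : ObjectProperty (KRR.PY n Y).Modules :=
  fun M => FlatMod.IsFinLocFree M ∧ KRR.IsRegSheaf n Y M

theorem epi_push_of_reg (S : ShortComplex (KRR.PY n Y).Modules) (hS : S.ShortExact)
    (hq1 : S.X₁.IsQuasicoherent) (hreg : KRR.IsRegSheaf n Y S.X₁) :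
    Epi ((Scheme.Modules.pushforward (KRR.pr n Y)).map S.g) := by
  haveI := hq1
  apply Groth.Agent.Helper1.AffPushEpi.epi_of_surjective_on_affine
  intro W hW
  have hreg' := hreg
  rw [KrrC.isRegSheaf_iff] at hreg'
  have hH1 : Subsingleton (Coh.HHon (KRR.PY n Y) S.X₁ ((KRR.pr n Y) ⁻¹ᵁ W) 1) :=
    KrrB.subsingleton_HHon_of_chart n Y W hW S.X₁ 1
      (KrrD.subsingleton_HH_of_reg n Γ(Y, W) _ (hreg' W hW) 1 le_rfl)
  have hSU := hS.map_of_exact (Scheme.Modules.restrictFunctor ((KRR.pr n Y) ⁻¹ᵁ W).ι)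
  have h := Groth.Agent.Helper1.H1Surj.app_top_surjective_of_H1 hSU hH1
  have key : ∀ U' : (KRR.PY n Y).Opens, U' = ((KRR.pr n Y) ⁻¹ᵁ W).ι ''ᵁ ⊤ →
      Function.Surjective (S.g.app U') := by
    rintro _ rfl
    exact h
  exact key _ (Scheme.Opens.ι_image_top _).symm

theorem push_shortExact_of_reg (S : ShortComplex (KRR.PY n Y).Modules) (hS : S.ShortExact)
    (hq1 : S.X₁.IsQuasicoherent) (hreg : KRR.IsRegSheaf n Y S.X₁) :
    (S.map (Scheme.Modules.pushforward (KRR.pr n Y))).ShortExact := by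
  haveI := hS.mono_f
  haveI : Mono (S.map (Scheme.Modules.pushforward (KRR.pr n Y))).f :=
    (inferInstance : Mono ((Scheme.Modules.pushforward (KRR.pr n Y)).map S.f))
  haveI : Epi (S.map (Scheme.Modules.pushforward (KRR.pr n Y))).g :=
    epi_push_of_reg n Y S hS hq1 hreg
  have hex : (S.map (Scheme.Modules.pushforward (KRR.pr n Y))).Exact :=
    hS.exact.map_of_mono_of_preservesKernel (Scheme.Modules.pushforward (KRR.pr n Y))
      hS.mono_f inferInstance
  exact { exact := hex }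

/-- `[F] ↦ [p_* F]` on `K₀` of the regular bundles -/
noncomputable def pushK [AlgebraicGeometry.IsNoetherian Y] :
    KZero.K0sub (P0 n Y) →+ SGA6.Kvb Y :=
  k0Lift (P0 n Y) (fun F => KRR.cl Y ((Scheme.Modules.pushforward (KRR.pr n Y)).obj F))
    (fun S hS h1 h2 h3 => clSub_ses (KRR.vbP Y)
      (S.map (Scheme.Modules.pushforward (KRR.pr n Y)))
      (push_shortExact_of_reg n Y S hS (qc_of_flf _ h1.1) h1.2)
      (KrrE.s3756 n Y _ h1.1 h1.2) (KrrE.s3756 n Y _ h2.1 h2.2) (KrrE.s3756 n Y _ h3.1 h3.2))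

theorem pushK_cl [AlgebraicGeometry.IsNoetherian Y] (F : (KRR.PY n Y).Modules) (hF : P0 n Y F) :
    pushK n Y (KZero.clSub (P0 n Y) F) =
      KRR.cl Y ((Scheme.Modules.pushforward (KRR.pr n Y)).obj F) := by
  unfold pushK
  exact k0Lift_clSub (P0 n Y) _ _ F hF

/-- the comparison map of S3758 -/
noncomputable abbrev Phi0 : KZero.K0sub (P0 n Y) →+ SGA6.Kvb (KRR.PY n Y) :=
  SGA6.mapSub (𝟭 (KRR.PY n Y).Modules) (P0 n Y) (KRR.vbP (KRR.PY n Y)) (fun M h => h.1)

theorem Phi0_bijective [AlgebraicGeometry.IsNoetherian Y] : Function.Bijective (Phi0 n Y) :=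
  main n Y _

theorem Phi0_cl (F : (KRR.PY n Y).Modules) (hF : P0 n Y F) :
    Phi0 n Y (KZero.clSub (P0 n Y) F) = KRR.cl (KRR.PY n Y) F :=
  mapSub_cl' (P0 n Y) (KRR.vbP (KRR.PY n Y)) (fun M h => h.1) F hF

variable {KP : Type v} {KY : Type v} [CommRing KP] [CommRing KY]
  (φP : SGA6.Kvb (KRR.PY n Y) →+ KP) (φY : SGA6.Kvb Y →+ KY)

/-- the push-forward on the models -/
noncomputable def gPr [AlgebraicGeometry.IsNoetherian Y] (hP : Function.Bijective φP) :
    KP →+ KY :=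
  ((φY.comp (pushK n Y)).comp
    (AddEquiv.ofBijective (Phi0 n Y) (Phi0_bijective n Y)).symm.toAddMonoidHom).comp
    (AddEquiv.ofBijective φP hP).symm.toAddMonoidHom

theorem gPr_spec [AlgebraicGeometry.IsNoetherian Y] (hP : Function.Bijective φP) :
    KRR.IsPushPr n Y φP φY (gPr n Y φP φY hP) := by
  intro F hF hreg
  change φY (pushK n Y ((AddEquiv.ofBijective (Phi0 n Y) (Phi0_bijective n Y)).symm
    ((AddEquiv.ofBijective φP hP).symm (φP (KRR.cl (KRR.PY n Y) F))))) = _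
  have h1 : (AddEquiv.ofBijective φP hP).symm (φP (KRR.cl (KRR.PY n Y) F)) =
      KRR.cl (KRR.PY n Y) F :=
    (AddEquiv.ofBijective φP hP).symm_apply_apply (KRR.cl (KRR.PY n Y) F)
  have h2 : (AddEquiv.ofBijective (Phi0 n Y) (Phi0_bijective n Y)).symm
      (KRR.cl (KRR.PY n Y) F) = KZero.clSub (P0 n Y) F := by
    rw [AddEquiv.symm_apply_eq]
    exact (Phi0_cl n Y F ⟨hF, hreg⟩).symm
  rw [h1, h2, pushK_cl n Y F ⟨hF, hreg⟩]

theorem s3798 [AlgebraicGeometry.IsNoetherian Y] (hP : Function.Bijective φP) :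
    ∃! g : KP →+ KY, KRR.IsPushPr n Y φP φY g := by
  refine ⟨gPr n Y φP φY hP, gPr_spec n Y φP φY hP, ?_⟩
  intro g hg
  have h2 : (g.comp φP).comp (Phi0 n Y) = ((gPr n Y φP φY hP).comp φP).comp (Phi0 n Y) := by
    apply k0_hom_ext (P0 n Y)
    intro M hM
    change g (φP (Phi0 n Y (KZero.clSub (P0 n Y) M))) =
      gPr n Y φP φY hP (φP (Phi0 n Y (KZero.clSub (P0 n Y) M)))
    rw [Phi0_cl n Y M hM, hg M hM.1 hM.2, gPr_spec n Y φP φY hP M hM.1 hM.2]
  ext x
  obtain ⟨y, rfl⟩ := hP.2 x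
  obtain ⟨z, rfl⟩ := (Phi0_bijective n Y).2 y
  exact DFunLike.congr_fun h2 z

end Push

end Groth.Agent.Helper1.RegK
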