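import Mathlib
import Groth.Prelude.Def_KRR
import Groth.Agent.Lib.Helper1.RegK3
import Groth.Agent.Lib.Helper1.HH0
import Groth.Agent.Lib.Helper4.ChartU
import Groth.Agent.Lib.Lead.ParaF1

/-!
# `p_K` on bundles all of whose non-negative twists are `p_*`-acyclic (helper1)

The class `PA` of finite locally free modules `G` on `P^n_Y` with `R^i p_* G(k) = 0` for `i ≥ 1`,
`k ≥ 0` contains the regular bundles and the `O(d)`, `d ≥ -n`; `K₀(regular) → K₀(PA)` is bijective,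
so `p_K [G] = [p_* G]` for every `G` in `PA`.
-/

set_option backward.isDefEq.respectTransparency.types false
set_option synthInstance.maxHeartbeats 400000
set_option maxHeartbeats 1000000
set_option autoImplicit false
set_option linter.unusedSectionVars false
set_option linter.style.haveILetI false
set_option linter.unusedVariables false

universe v u
open CategoryTheory CategoryTheory.Limits AlgebraicGeometry
open Groth.Agent.Helper1.KPull Groth.Agent.Lib.Helper4 Groth.Agent.Helper1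

namespace Groth.Agent.Helper1.RegK

section Acyc
variable (n : ℕ) (Y : Scheme.{u})

/-- acyclic for `p_*` -/
def Acyc (G : (KRR.PY n Y).Modules) : Prop :=
  ∀ i : ℕ, 1 ≤ i → IsZero ((Coh.RpushAb (KRR.pr n Y) i).obj (Coh.toAb G))

theorem acyc_iso {G G' : (KRR.PY n Y).Modules} (e : G ≅ G') (h : Acyc n Y G) : Acyc n Y G' :=
  fun i hi => (h i hi).of_iso ((Coh.RpushAb (KRR.pr n Y) i).mapIso
    ((SheafOfModules.toSheaf (KRR.PY n Y).ringCatSheaf).mapIso e.symm))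

theorem acyc_zero (G : (KRR.PY n Y).Modules) (hG : IsZero G) : Acyc n Y G :=
  fun i hi => (Coh.RpushAb (KRR.pr n Y) i).map_isZero
    ((SheafOfModules.toSheaf (KRR.PY n Y).ringCatSheaf).map_isZero hG)

theorem acyc_chart (G : (KRR.PY n Y).Modules) [G.IsQuasicoherent] (h : Acyc n Y G) (i : ℕ)
    (hi : 1 ≤ i) (W : Y.Opens) (hW : IsAffineOpen W) :
    Subsingleton (Coh.HH (CohB1.ProjSpace n Γ(Y, W)) (G.restrict (KrrB.jW n Y W hW)) i) :=
  (KrrD.isZero_rpushAb_iff n Y G i).1 (h i hi) W hW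

theorem acyc_X₂ (S : ShortComplex (KRR.PY n Y).Modules) (hS : S.ShortExact)
    (q1 : S.X₁.IsQuasicoherent) (q2 : S.X₂.IsQuasicoherent) (q3 : S.X₃.IsQuasicoherent)
    (h1 : Acyc n Y S.X₁) (h3 : Acyc n Y S.X₃) : Acyc n Y S.X₂ := by
  haveI := q1
  haveI := q2
  haveI := q3
  intro i hi
  rw [KrrD.isZero_rpushAb_iff]
  intro W hW
  exact KrrH.subsingleton_X₂ Γ(Y, W) (X := CohB1.ProjSpace n Γ(Y, W))
    (KrrH.restrict_shortExact n Y hS W hW) i
    (acyc_chart n Y S.X₁ h1 i hi W hW) (acyc_chart n Y S.X₃ h3 i hi W hW)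

theorem acyc_X₃ (S : ShortComplex (KRR.PY n Y).Modules) (hS : S.ShortExact)
    (q1 : S.X₁.IsQuasicoherent) (q2 : S.X₂.IsQuasicoherent) (q3 : S.X₃.IsQuasicoherent)
    (h1 : Acyc n Y S.X₁) (h2 : Acyc n Y S.X₂) : Acyc n Y S.X₃ := by
  haveI := q1
  haveI := q2
  haveI := q3
  intro i hi
  rw [KrrD.isZero_rpushAb_iff]
  intro W hW
  exact SerreVan.subsingleton_X₃ Γ(Y, W) (X := CohB1.ProjSpace n Γ(Y, W))
    (KrrH.restrict_shortExact n Y hS W hW) i
    (acyc_chart n Y S.X₂ h2 i hi W hW) (acyc_chart n Y S.X₁ h1 (i + 1) (by omega) W hW)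

/-- the bundles all of whose non-negative twists are acyclic -/
def PA : ObjectProperty (KRR.PY n Y).Modules :=
  fun G => FlatMod.IsFinLocFree G ∧ ∀ k : ℕ, Acyc n Y (KRR.twF n Y (k : ℤ) G)

theorem nonempty_twF_twF (M : (KRR.PY n Y).Modules) (a b c : ℤ) (hc : c = a + b) :
    Nonempty (KRR.twF n Y a (KRR.twF n Y b M) ≅ KRR.twF n Y c M) := by
  obtain ⟨e2⟩ := KrrJ.nonempty_twF_tensor_iso n Y M a b c hc
  exact ⟨(KrrM.twFun n Y a).mapIso (KrrA.tensorModComm (Twist.twistOver n Y b) M) ≪≫ e2 ≪≫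
    KrrA.tensorModComm _ _⟩

theorem qc_tw (M : (KRR.PY n Y).Modules) (hM : FlatMod.IsFinLocFree M) (d : ℤ) :
    (KRR.twF n Y d M).IsQuasicoherent :=
  qc_of_flf _ (KrrF.isFinLocFree_twF n Y d M hM)

theorem good_PA : Good n Y (PA n Y) where
  flf := fun M h => h.1
  iso := fun M N e h => ⟨Groth.Agent.Lead.FLF.isFinLocFree_of_iso e h.1,
    fun k => acyc_iso n Y ((KrrM.twFun n Y (k : ℤ)).mapIso e) (h.2 k)⟩
  zero := fun M h => ⟨Groth.Agent.Lib.Helper5.RpushOpen.isFinLocFree_of_isZero M h,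
    fun k => acyc_zero n Y _ ((KrrM.twFun n Y (k : ℤ)).map_isZero h)⟩
  ext := fun S hS h1 h3 h2 => ⟨h2, fun k => acyc_X₂ n Y (S.map (KrrM.twFun n Y (k : ℤ)))
    (KrrM.twFun_shortExact n Y hS (k : ℤ)) (qc_tw n Y _ h1.1 k) (qc_tw n Y _ h2 k)
    (qc_tw n Y _ h3.1 k) (h1.2 k) (h3.2 k)⟩
  coker := fun S hS h1 h2 h3 => ⟨h3, fun k => acyc_X₃ n Y (S.map (KrrM.twFun n Y (k : ℤ)))
    (KrrM.twFun_shortExact n Y hS (k : ℤ)) (qc_tw n Y _ h1.1 k) (qc_tw n Y _ h2.1 k)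
    (qc_tw n Y _ h3 k) (h1.2 k) (h2.2 k)⟩
  tw := fun M m h => ⟨KrrF.isFinLocFree_twF n Y (m : ℤ) M h.1, fun k => by
    obtain ⟨e⟩ := nonempty_twF_twF n Y M (k : ℤ) (m : ℤ) ((k + m : ℕ) : ℤ) (by push_cast; ring)
    exact acyc_iso n Y e.symm (h.2 (k + m))⟩
  tw1 := fun M h => ⟨KrrF.isFinLocFree_twF n Y 1 M h.1, fun k => by
    obtain ⟨e⟩ := nonempty_twF_twF n Y M (k : ℤ) 1 ((k + 1 : ℕ) : ℤ) (by push_cast; ring)
    exact acyc_iso n Y e.symm (h.2 (k + 1))⟩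

theorem acyc_self (G : (KRR.PY n Y).Modules) (h : PA n Y G) : Acyc n Y G := by
  obtain ⟨e⟩ := KrrM.nonempty_twF_zero n Y G ((0 : ℕ) : ℤ) Nat.cast_zero
  exact acyc_iso n Y e (h.2 0)

theorem P0_le_PA (M : (KRR.PY n Y).Modules) (h : P0 n Y M) : PA n Y M :=
  ⟨h.1, fun k i hi => by
    haveI : M.IsQuasicoherent := qc_of_flf M h.1
    haveI : (KRR.twF n Y (k : ℤ) M).IsQuasicoherent := qc_tw n Y M h.1 k
    exact KrrD.isZero_rpushAb_of_isRegSheaf n Y _ (KrrC.s19428 n Y M h.2 k) i hi⟩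

theorem epi_push_of_H1 (S : ShortComplex (KRR.PY n Y).Modules) (hS : S.ShortExact)
    (hq1 : S.X₁.IsQuasicoherent)
    (hH : ∀ (W : Y.Opens) (hW : IsAffineOpen W), Subsingleton
      (Coh.HH (CohB1.ProjSpace n Γ(Y, W)) (S.X₁.restrict (KrrB.jW n Y W hW)) 1)) :
    Epi ((Scheme.Modules.pushforward (KRR.pr n Y)).map S.g) := by
  haveI := hq1
  apply Groth.Agent.Helper1.AffPushEpi.epi_of_surjective_on_affine
  intro W hW
  have hH1 : Subsingleton (Coh.HHon (KRR.PY n Y) S.X₁ ((KRR.pr n Y) ⁻¹ᵁ W) 1) :=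
    KrrB.subsingleton_HHon_of_chart n Y W hW S.X₁ 1 (hH W hW)
  have hSU := hS.map_of_exact (Scheme.Modules.restrictFunctor ((KRR.pr n Y) ⁻¹ᵁ W).ι)
  have h := Groth.Agent.Helper1.H1Surj.app_top_surjective_of_H1 hSU hH1
  have key : ∀ U' : (KRR.PY n Y).Opens, U' = ((KRR.pr n Y) ⁻¹ᵁ W).ι ''ᵁ ⊤ →
      Function.Surjective (S.g.app U') := by
    rintro _ rfl
    exact h
  exact key _ (Scheme.Opens.ι_image_top _).symm

theorem push_shortExact_of_H1 (S : ShortComplex (KRR.PY n Y).Modules) (hS : S.ShortExact)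
    (hq1 : S.X₁.IsQuasicoherent)
    (hH : ∀ (W : Y.Opens) (hW : IsAffineOpen W), Subsingleton
      (Coh.HH (CohB1.ProjSpace n Γ(Y, W)) (S.X₁.restrict (KrrB.jW n Y W hW)) 1)) :
    (S.map (Scheme.Modules.pushforward (KRR.pr n Y))).ShortExact := by
  haveI := hS.mono_f
  haveI : Mono (S.map (Scheme.Modules.pushforward (KRR.pr n Y))).f :=
    (inferInstance : Mono ((Scheme.Modules.pushforward (KRR.pr n Y)).map S.f))
  haveI : Epi (S.map (Scheme.Modules.pushforward (KRR.pr n Y))).g :=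
    epi_push_of_H1 n Y S hS hq1 hH
  have hex : (S.map (Scheme.Modules.pushforward (KRR.pr n Y))).Exact :=
    hS.exact.map_of_mono_of_preservesKernel (Scheme.Modules.pushforward (KRR.pr n Y))
      hS.mono_f inferInstance
  exact { exact := hex }

theorem flf_push_of_PA [AlgebraicGeometry.IsNoetherian Y] (G : (KRR.PY n Y).Modules)
    (h : PA n Y G) :
    FlatMod.IsFinLocFree ((Scheme.Modules.pushforward (KRR.pr n Y)).obj G) := by
  have hGc := Groth.Agent.Lib.Helper5.LocalCoh.isCoh_of_isFinLocFree G h.1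
  haveI : G.IsQuasicoherent := hGc.1
  have hfl := Groth.Agent.Lib.Helper5.LpullLib.isFlatOver_of_isFinLocFree (KRR.pr n Y) G h.1
  apply KrrE.isFinLocFree_push_of_vanishing (KRR.pr n Y) G hGc hfl
  intro V q hq
  apply KrrB.subsingleton_HHon_of_chart n Y V.1 V.2 G q
  exact acyc_chart n Y G (acyc_self n Y G h) q hq V.1 V.2

/-- `[G] ↦ [p_* G]` on `K₀(PA)` -/
noncomputable def pushA [AlgebraicGeometry.IsNoetherian Y] :
    KZero.K0sub (PA n Y) →+ SGA6.Kvb Y :=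
  k0Lift (PA n Y) (fun F => KRR.cl Y ((Scheme.Modules.pushforward (KRR.pr n Y)).obj F))
    (fun S hS h1 h2 h3 => clSub_ses (KRR.vbP Y)
      (S.map (Scheme.Modules.pushforward (KRR.pr n Y)))
      (push_shortExact_of_H1 n Y S hS (qc_of_flf _ h1.1) (fun W hW => by
        haveI : S.X₁.IsQuasicoherent := qc_of_flf _ h1.1
        exact acyc_chart n Y S.X₁ (acyc_self n Y _ h1) 1 le_rfl W hW))
      (flf_push_of_PA n Y _ h1) (flf_push_of_PA n Y _ h2) (flf_push_of_PA n Y _ h3))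

theorem pushA_cl [AlgebraicGeometry.IsNoetherian Y] (F : (KRR.PY n Y).Modules) (hF : PA n Y F) :
    pushA n Y (KZero.clSub (PA n Y) F) =
      KRR.cl Y ((Scheme.Modules.pushforward (KRR.pr n Y)).obj F) := by
  unfold pushA
  exact k0Lift_clSub (PA n Y) _ _ F hF

theorem hypA [AlgebraicGeometry.IsNoetherian Y] :
    Hyp (P0 n Y) (PA n Y) (KrrM.twFun n Y 1) (n + 1)
      (fun p => -((-1 : ℤ) ^ (p + 1) * ((Nat.choose (n + 1) (p + 1) : ℕ) : ℤ))) where
  le := P0_le_PA n Y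
  ex := fun S hS => KrrM.twFun_shortExact n Y hS 1
  t0 := (good_reg n Y).tw1
  t1 := (good_PA n Y).tw1
  k0 := fun F hF => k_rel n Y (good_reg n Y) F hF
  k1 := fun F hF => k_rel n Y (good_PA n Y) F hF
  r := fun F hF => by
    obtain ⟨m₀, hm⟩ := KrrF.exists_isRegSheaf_twF n Y F
      (Groth.Agent.Lib.Helper5.LocalCoh.isCoh_of_isFinLocFree F hF.1)
    refine ⟨m₀, fun m hmm => ⟨Tm_mem _ _ (good_flf n Y).tw1 m F hF.1, ?_⟩⟩
    obtain ⟨e⟩ := tm_iso n Y m F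
    exact KrrJ.isRegSheaf_of_iso n Y e.symm (hm m hmm)

variable {KP : Type v} {KY : Type v} [CommRing KP] [CommRing KY]
  (φP : SGA6.Kvb (KRR.PY n Y) →+ KP) (φY : SGA6.Kvb Y →+ KY)

/-- `p_K [G] = [p_* G]` for `G` in `PA` -/
theorem pushPr_eq_of_PA [AlgebraicGeometry.IsNoetherian Y] (g : KP →+ KY)
    (hg : KRR.IsPushPr n Y φP φY g) (G : (KRR.PY n Y).Modules) (hG : PA n Y G) :
    g (φP (KRR.cl (KRR.PY n Y) G)) =
      φY (KRR.cl Y ((Scheme.Modules.pushforward (KRR.pr n Y)).obj G)) := by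
  have hsurj : Function.Surjective (SGA6.mapSub (𝟭 (KRR.PY n Y).Modules) (P0 n Y) (PA n Y)
      (P0_le_PA n Y)) := (bijective (hypA n Y)).2
  have h : ((g.comp φP).comp (SGA6.mapSub (𝟭 (KRR.PY n Y).Modules) (PA n Y)
      (KRR.vbP (KRR.PY n Y)) (fun M h => h.1))).comp
        (SGA6.mapSub (𝟭 (KRR.PY n Y).Modules) (P0 n Y) (PA n Y) (P0_le_PA n Y)) =
      (φY.comp (pushA n Y)).comp
        (SGA6.mapSub (𝟭 (KRR.PY n Y).Modules) (P0 n Y) (PA n Y) (P0_le_PA n Y)) := by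
    apply k0_hom_ext (P0 n Y)
    intro M hM
    change g (φP (SGA6.mapSub (𝟭 (KRR.PY n Y).Modules) (PA n Y) (KRR.vbP (KRR.PY n Y))
      (fun M h => h.1) (SGA6.mapSub (𝟭 (KRR.PY n Y).Modules) (P0 n Y) (PA n Y) (P0_le_PA n Y)
        (KZero.clSub (P0 n Y) M)))) =
      φY (pushA n Y (SGA6.mapSub (𝟭 (KRR.PY n Y).Modules) (P0 n Y) (PA n Y) (P0_le_PA n Y)
        (KZero.clSub (P0 n Y) M)))
    rw [mapSub_cl' (P0 n Y) (PA n Y) (P0_le_PA n Y) M hM,
      mapSub_cl' (PA n Y) (KRR.vbP (KRR.PY n Y)) (fun M h => h.1) M (P0_le_PA n Y M hM),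
      pushA_cl n Y M (P0_le_PA n Y M hM)]
    exact hg M hM.1 hM.2
  obtain ⟨z, hz⟩ := hsurj (KZero.clSub (PA n Y) G)
  have h2 := DFunLike.congr_fun h z
  change g (φP (SGA6.mapSub (𝟭 (KRR.PY n Y).Modules) (PA n Y) (KRR.vbP (KRR.PY n Y))
      (fun M h => h.1) (SGA6.mapSub (𝟭 (KRR.PY n Y).Modules) (P0 n Y) (PA n Y) (P0_le_PA n Y) z))) =
    φY (pushA n Y (SGA6.mapSub (𝟭 (KRR.PY n Y).Modules) (P0 n Y) (PA n Y) (P0_le_PA n Y) z)) at h2
  rw [hz, mapSub_cl' (PA n Y) (KRR.vbP (KRR.PY n Y)) (fun M h => h.1) G hG,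
    pushA_cl n Y G hG] at h2
  exact h2

end Acyc

section Members
variable (n : ℕ) (Y : Scheme.{u})

theorem flf_O : FlatMod.IsFinLocFree (Coh.structureModule (KRR.PY n Y)) :=
  InvInv2.isFinLocFree_of_isInvertible Groth.Agent.Lead.ParaF.isInvertible_unit

/-- the chart of `O(d) ⊗ O` -/
theorem nonempty_chart_tw_O (d : ℤ) (W : Y.Opens) (hW : IsAffineOpen W) :
    Nonempty (CohB1.tensorMod ((Coh.structureModule (KRR.PY n Y)).restrict (KrrB.jW n Y W hW))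
      (Twist.twistProjSpace n Γ(Y, W) d) ≅ Twist.twistProjSpace n Γ(Y, W) d) := by
  have eU : (Coh.structureModule (KRR.PY n Y)).restrict (KrrB.jW n Y W hW) ≅
      Coh.structureModule (CohB1.ProjSpace n Γ(Y, W)) :=
    (Scheme.Modules.restrictFunctorIsoPullback (KrrB.jW n Y W hW)).app _ ≪≫
      PullSec.unitIso (KrrB.jW n Y W hW)
  obtain ⟨e1⟩ := TwistAmpleOpen.nonempty_tensorMod_unit_iso (Twist.twistProjSpace n Γ(Y, W) d)
  exact ⟨Groth.Agent.Lead.TilT.tensorModCongr eU (Iso.refl _) ≪≫ e1⟩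

theorem acyc_tw_O (d : ℤ) (hd : -(n : ℤ) ≤ d) :
    Acyc n Y (KRR.twF n Y d (Coh.structureModule (KRR.PY n Y))) := by
  intro i hi
  haveI : (Coh.structureModule (KRR.PY n Y)).IsQuasicoherent := inferInstance
  rw [KrrB.isZero_rpushAb_twF_iff]
  intro W hW
  obtain ⟨e⟩ := nonempty_chart_tw_O n Y d W hW
  refine Dv.subsingleton_HH_of_iso e i ?_
  exact Groth.Agent.S0844.result Γ(Y, W) n d i (fun h => by omega) (fun h => by omega)

theorem PA_tw_O (d : ℤ) (hd : -(n : ℤ) ≤ d) :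
    PA n Y (KRR.twF n Y d (Coh.structureModule (KRR.PY n Y))) :=
  ⟨KrrF.isFinLocFree_twF n Y d _ (flf_O n Y), fun k => by
    obtain ⟨e⟩ := nonempty_twF_twF n Y (Coh.structureModule (KRR.PY n Y)) (k : ℤ) d
      ((k : ℤ) + d) rfl
    exact acyc_iso n Y e.symm (acyc_tw_O n Y _ (by omega))⟩

/-- `p_* O(d) = 0` for `-n ≤ d < 0` -/
theorem isZero_push_tw_O (d : ℤ) (hd : -(n : ℤ) ≤ d) (hd0 : d < 0) :
    IsZero ((Scheme.Modules.pushforward (KRR.pr n Y)).obj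
      (KRR.twF n Y d (Coh.structureModule (KRR.PY n Y)))) := by
  haveI : (Coh.structureModule (KRR.PY n Y)).IsQuasicoherent := inferInstance
  haveI : (KRR.twF n Y d (Coh.structureModule (KRR.PY n Y))).IsQuasicoherent :=
    qc_tw n Y _ (flf_O n Y) d
  apply KrrL.isZero_of_locally
  intro U x hx
  obtain ⟨_, ⟨W, hW, rfl⟩, hxW, hWU⟩ :=
    Y.isBasis_affineOpens.exists_subset_of_mem_open hx U.isOpen
  refine ⟨W, hWU, hxW, ?_⟩
  obtain ⟨e⟩ := nonempty_chart_tw_O n Y d W hW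
  have h0 : Subsingleton (Coh.HH (CohB1.ProjSpace n Γ(Y, W))
      ((KRR.twF n Y d (Coh.structureModule (KRR.PY n Y))).restrict (KrrB.jW n Y W hW)) 0) := by
    refine Dv.subsingleton_HH_of_iso
      (KrrB.chartTw n Y W hW d (Coh.structureModule (KRR.PY n Y))) 0 ?_
    refine Dv.subsingleton_HH_of_iso e 0 ?_
    exact Groth.Agent.S0844.result Γ(Y, W) n d 0 (fun h => by omega) (fun h => by omega)
  have h1 : Subsingleton (Coh.HHon (KRR.PY n Y)
      (KRR.twF n Y d (Coh.structureModule (KRR.PY n Y))) ((KRR.pr n Y) ⁻¹ᵁ W) 0) :=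
    KrrB.subsingleton_HHon_of_chart n Y W hW _ 0 h0
  haveI := h1
  have h2 : Subsingleton Γ((KRR.twF n Y d (Coh.structureModule (KRR.PY n Y))).restrict
      ((KRR.pr n Y) ⁻¹ᵁ W).ι, ⊤) :=
    (Groth.Agent.Helper1.HH0.equiv _ _).symm.toEquiv.subsingleton
  have key : ∀ V : (KRR.PY n Y).Opens, V = ((KRR.pr n Y) ⁻¹ᵁ W).ι ''ᵁ ⊤ →
      Subsingleton Γ(KRR.twF n Y d (Coh.structureModule (KRR.PY n Y)), V) := by
    rintro _ rfl
    exact h2
  exact key _ (Scheme.Opens.ι_image_top _).symm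

end Members

end Groth.Agent.Helper1.RegK
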