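import Mathlib
import Groth.Prelude.Def_KRR
import Groth.Agent.Lib.Helper1.RegK5

/-!
# `p_K [O(-i)] = 0` (`1 ≤ i ≤ n`) and `p_K [O(m)] = C(n+m, m)` on `P^n_Y` (helper1, S3761, S3760)
-/

set_option backward.isDefEq.respectTransparency.types false
set_option synthInstance.maxHeartbeats 400000
set_option maxHeartbeats 1000000
set_option autoImplicit false
set_option linter.unusedSectionVars false
set_option linter.style.haveILetI false
set_option linter.unusedVariables false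

universe v u
open CategoryTheory CategoryTheory.Limits AlgebraicGeometry
open Groth.Agent.Helper1.KPull Groth.Agent.Lib.Helper4 Groth.Agent.Helper1

namespace Groth.Agent.Helper1.RegK

section Alg

/-- the `(n+1)`-st difference of `x ↦ C(x, n)` vanishes -/
theorem binom_id (n q : ℕ) :
    ∑ p ∈ Finset.range (n + 2), ((-1 : ℤ) ^ p * ((Nat.choose (n + 1) p : ℕ) : ℤ)) *
      ((Nat.choose (q + p) n : ℕ) : ℤ) = 0 := by
  let f : ℕ → ℤ := fun x => ((x.choose n : ℕ) : ℤ)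
  have h1 : (fwdDiff (1 : ℕ))^[n] f = fun x => ((x.choose 0 : ℕ) : ℤ) := fwdDiff_iter_choose 0 n
  have h2 : (fwdDiff (1 : ℕ))^[n + 1] f q = 0 := by
    rw [Function.iterate_succ_apply', h1]
    simp [fwdDiff]
  rw [fwdDiff_iter_eq_sum_shift] at h2
  have h3 : (-1 : ℤ) ^ (n + 1) * ∑ k ∈ Finset.range (n + 1 + 1),
      ((-1 : ℤ) ^ (n + 1 - k) * ((n + 1).choose k : ℤ)) • f (q + k • 1) = 0 := by
    rw [h2, mul_zero]
  rw [Finset.mul_sum] at h3
  refine Eq.trans ?_ h3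
  refine Finset.sum_congr rfl (fun k hk => ?_)
  have hk' : k ≤ n + 1 := by
    have := Finset.mem_range.1 hk
    omega
  have e1 : (-1 : ℤ) ^ (n + 1) * (-1 : ℤ) ^ (n + 1 - k) = (-1 : ℤ) ^ k := by
    rw [← pow_add]
    have : n + 1 + (n + 1 - k) = 2 * (n + 1 - k) + k := by omega
    rw [this, pow_add, pow_mul]
    norm_num
  rw [smul_eq_mul, smul_eq_mul, mul_one, ← mul_assoc, ← mul_assoc, e1]

variable {G : Type*} [AddCommGroup G]

/-- solving the Koszul recurrence -/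
theorem seq_solve (e : G) (B : ℕ → G) (n : ℕ) (h0 : ∀ q, q < n → B q = 0) (hn : B n = e)
    (hrec : ∀ q : ℕ, ∑ p ∈ Finset.range (n + 2),
      ((-1 : ℤ) ^ p * ((Nat.choose (n + 1) p : ℕ) : ℤ)) • B (q + p) = 0) :
    ∀ q : ℕ, B q = ((Nat.choose q n : ℕ) : ℤ) • e := by
  intro q
  induction q using Nat.strong_induction_on with
  | _ q ih =>
    rcases lt_trichotomy q n with hq | hq | hq
    · rw [h0 q hq, Nat.choose_eq_zero_of_lt hq, Nat.cast_zero, zero_smul]
    · subst hq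
      rw [hn, Nat.choose_self, Nat.cast_one, one_smul]
    · obtain ⟨q', rfl⟩ : ∃ q', q = q' + (n + 1) := ⟨q - (n + 1), by omega⟩
      have hr := hrec q'
      rw [Finset.sum_range_succ] at hr
      have h1 : ∑ p ∈ Finset.range (n + 1),
          ((-1 : ℤ) ^ p * ((Nat.choose (n + 1) p : ℕ) : ℤ)) • B (q' + p) =
          (∑ p ∈ Finset.range (n + 1), ((-1 : ℤ) ^ p * ((Nat.choose (n + 1) p : ℕ) : ℤ)) *
            ((Nat.choose (q' + p) n : ℕ) : ℤ)) • e := by
        rw [Finset.sum_smul]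
        refine Finset.sum_congr rfl (fun p hp => ?_)
        have hp' := Finset.mem_range.1 hp
        rw [ih (q' + p) (by omega), smul_smul]
      have hb := binom_id n q'
      rw [Finset.sum_range_succ] at hb
      have hb' : ∑ p ∈ Finset.range (n + 1), ((-1 : ℤ) ^ p * ((Nat.choose (n + 1) p : ℕ) : ℤ)) *
          ((Nat.choose (q' + p) n : ℕ) : ℤ) =
          -(((-1 : ℤ) ^ (n + 1) * ((Nat.choose (n + 1) (n + 1) : ℕ) : ℤ)) *
            ((Nat.choose (q' + (n + 1)) n : ℕ) : ℤ)) := eq_neg_of_add_eq_zero_left hb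
      rw [h1, hb', Nat.choose_self, Nat.cast_one, mul_one] at hr
      have hc : (-1 : ℤ) ^ (n + 1) * (-1 : ℤ) ^ (n + 1) = 1 := by
        rw [← pow_add]
        exact Even.neg_one_pow ⟨n + 1, rfl⟩
      have hr2 : (-1 : ℤ) ^ (n + 1) • (B (q' + (n + 1)) -
          ((Nat.choose (q' + (n + 1)) n : ℕ) : ℤ) • e) = 0 := by
        rw [smul_sub, smul_smul, sub_eq_add_neg, ← neg_smul, add_comm]
        exact hr
      have hr3 := congrArg (fun x => (-1 : ℤ) ^ (n + 1) • x) hr2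
      simp only [smul_smul, hc, one_smul, smul_zero] at hr3
      exact sub_eq_zero.1 hr3

end Alg

section Main
variable (n : ℕ) (Y : Scheme.{u})

/-- the classes `[p_* O(q - n)]` -/
noncomputable def Bq (q : ℕ) : SGA6.Kvb Y :=
  KRR.cl Y ((Scheme.Modules.pushforward (KRR.pr n Y)).obj
    (KRR.twF n Y ((q : ℤ) - n) (Coh.structureModule (KRR.PY n Y))))

theorem Bq_lt (q : ℕ) (hq : q < n) : Bq n Y q = 0 := by
  have hz := isZero_push_tw_O n Y ((q : ℤ) - n) (by omega) (by omega)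
  exact Groth.Agent.Helper1.EulerK.cl_zero_of_isZero (KRR.vbP Y) hz
    (Groth.Agent.Lib.Helper5.RpushOpen.isFinLocFree_of_isZero _ hz)

theorem Bq_n [AlgebraicGeometry.IsNoetherian Y] :
    Bq n Y n = KRR.cl Y (Coh.structureModule Y) := by
  obtain ⟨e0⟩ := KrrM.nonempty_twF_zero n Y (Coh.structureModule (KRR.PY n Y)) ((n : ℤ) - n)
    (sub_self _)
  haveI := ChartU.isIso_unit_structure' (KRR.pr n Y)
    (fun U hU => ChartU.bijective_pr_app n Y U hU)
  let e : Coh.structureModule Y ≅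
      (Scheme.Modules.pushforward (KRR.pr n Y)).obj (Coh.structureModule (KRR.PY n Y)) :=
    asIso ((Scheme.Modules.pullbackPushforwardAdjunction (KRR.pr n Y)).unit.app
      (SheafOfModules.unit Y.ringCatSheaf)) ≪≫
      (Scheme.Modules.pushforward (KRR.pr n Y)).mapIso (PullSec.unitIso (KRR.pr n Y))
  have hflf : FlatMod.IsFinLocFree (Coh.structureModule Y) :=
    InvInv2.isFinLocFree_of_isInvertible Groth.Agent.Lead.ParaF.isInvertible_unit
  have e2 := e ≪≫ (Scheme.Modules.pushforward (KRR.pr n Y)).mapIso e0.symm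
  unfold Bq
  exact (Groth.Agent.Helper1.EulerK.cl_iso (KRR.vbP Y) e2 hflf
    (Groth.Agent.Lead.FLF.isFinLocFree_of_iso e2 hflf)
    (Groth.Agent.Lib.Helper5.RpushOpen.isFinLocFree_of_isZero _ (isZero_zero _))).symm

theorem Bq_rec [AlgebraicGeometry.IsNoetherian Y] (q : ℕ) :
    ∑ p ∈ Finset.range (n + 2),
      ((-1 : ℤ) ^ p * ((Nat.choose (n + 1) p : ℕ) : ℤ)) • Bq n Y (q + p) = 0 := by
  have hF : PA n Y (KRR.twF n Y ((q : ℤ) - n) (Coh.structureModule (KRR.PY n Y))) :=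
    PA_tw_O n Y _ (by omega)
  have hk := koszul_rel (good_PA n Y) _ hF
  have hk2 := congrArg (pushA n Y) hk
  rw [map_sum, map_zero] at hk2
  refine Eq.trans ?_ hk2
  refine Finset.sum_congr rfl (fun p _ => ?_)
  rw [map_zsmul, pushA_cl n Y _ ((good_PA n Y).tw _ p hF)]
  congr 1
  obtain ⟨e⟩ := nonempty_twF_twF n Y (Coh.structureModule (KRR.PY n Y)) (p : ℤ) ((q : ℤ) - n)
    (((q + p : ℕ) : ℤ) - n) (by push_cast; ring)
  have hPA2 : PA n Y (KRR.twF n Y (((q + p : ℕ) : ℤ) - n) (Coh.structureModule (KRR.PY n Y))) :=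
    PA_tw_O n Y _ (by push_cast; omega)
  unfold Bq
  exact (Groth.Agent.Helper1.EulerK.cl_iso (KRR.vbP Y)
    ((Scheme.Modules.pushforward (KRR.pr n Y)).mapIso e)
    (flf_push_of_PA n Y _ ((good_PA n Y).tw _ p hF)) (flf_push_of_PA n Y _ hPA2)
    (Groth.Agent.Lib.Helper5.RpushOpen.isFinLocFree_of_isZero _ (isZero_zero _))).symm

theorem Bq_eq [AlgebraicGeometry.IsNoetherian Y] (q : ℕ) :
    Bq n Y q = ((Nat.choose q n : ℕ) : ℤ) • KRR.cl Y (Coh.structureModule Y) :=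
  seq_solve (KRR.cl Y (Coh.structureModule Y)) (Bq n Y) n (Bq_lt n Y) (Bq_n n Y) (Bq_rec n Y) q

variable {KP : Type v} {KY : Type v} [CommRing KP] [CommRing KY]
  (φP : SGA6.Kvb (KRR.PY n Y) →+ KP) (φY : SGA6.Kvb Y →+ KY)

theorem s3761 [AlgebraicGeometry.IsNoetherian Y] (g : KP →+ KY)
    (hg : KRR.IsPushPr n Y φP φY g) (i : ℕ) (hi : 1 ≤ i) (hin : i ≤ n) :
    g (φP (KRR.cl (KRR.PY n Y)
      (KRR.twF n Y (-(i : ℤ)) (Coh.structureModule (KRR.PY n Y))))) = 0 := by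
  have hd : -(n : ℤ) ≤ -(i : ℤ) := by omega
  have hd0 : -(i : ℤ) < 0 := by omega
  rw [pushPr_eq_of_PA n Y φP φY g hg _ (PA_tw_O n Y _ hd)]
  have hz := isZero_push_tw_O n Y _ hd hd0
  have h0 : KRR.cl Y ((Scheme.Modules.pushforward (KRR.pr n Y)).obj
      (KRR.twF n Y (-(i : ℤ)) (Coh.structureModule (KRR.PY n Y)))) = 0 :=
    Groth.Agent.Helper1.EulerK.cl_zero_of_isZero (KRR.vbP Y) hz
      (Groth.Agent.Lib.Helper5.RpushOpen.isFinLocFree_of_isZero _ hz)
  rw [h0, map_zero]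

theorem s3760 [AlgebraicGeometry.IsNoetherian Y] (g : KP →+ KY)
    (hg : KRR.IsPushPr n Y φP φY g)
    (h1 : φY (KRR.cl Y (Coh.structureModule Y)) = 1) (m : ℕ) :
    g (φP (KRR.cl (KRR.PY n Y)
      (KRR.twF n Y (m : ℤ) (Coh.structureModule (KRR.PY n Y))))) =
      (Nat.choose (n + m) m : KY) := by
  rw [pushPr_eq_of_PA n Y φP φY g hg _ (PA_tw_O n Y _ (by omega))]
  have hB := Bq_eq n Y (m + n)
  unfold Bq at hB
  have hidx : ((m + n : ℕ) : ℤ) - n = (m : ℤ) := by push_cast; ring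
  rw [hidx] at hB
  rw [hB, map_zsmul, h1, zsmul_one, Int.cast_natCast, Nat.add_comm m n, Nat.choose_symm_add]

end Main

end Groth.Agent.Helper1.RegK
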