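import Mathlib
import Groth.Prelude.Def_KRR
import Groth.Agent.Lib.Helper1.RegK6
import Groth.Agent.Lib.Helper7.AmpleCons.ProperModel

/-!
# `K(P^n_Y)` is generated by the classes `[O(-k) ⊗ p^* T]`, `0 ≤ k ≤ n` (helper1)

Through the canonical resolution of a regular bundle (helper4's `KrrM`) and the generation of
`K(P^n_Y)` by the regular bundles (`RegK2.main`).
-/

set_option backward.isDefEq.respectTransparency.types false
set_option synthInstance.maxHeartbeats 400000
set_option maxHeartbeats 1000000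
set_option autoImplicit false
set_option linter.unusedSectionVars false
set_option linter.style.haveILetI false
set_option linter.unusedVariables false

universe v u
open CategoryTheory CategoryTheory.Limits AlgebraicGeometry
open Groth.Agent.Helper1.KPull Groth.Agent.Lib.Helper4

namespace Groth.Agent.Helper1.RegK

section Gen
variable (n : ℕ) (Y : Scheme.{u})

theorem isNoetherian_PY [AlgebraicGeometry.IsNoetherian Y] :
    AlgebraicGeometry.IsNoetherian (KRR.PY n Y) :=
  Groth.Agent.Helper7.AmpleCons.isNoetherian_of_finiteType (KRR.pr n Y)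

/-- all the stages of the canonical resolution of a regular bundle are bundles -/
theorem flf_stage [AlgebraicGeometry.IsNoetherian Y] (s₀ : KrrM.Stage n Y)
    (h0 : FlatMod.IsFinLocFree s₀.G) :
    ∀ k : ℕ, FlatMod.IsFinLocFree (KrrM.stage n Y s₀ k).G := by
  haveI := isNoetherian_PY n Y
  intro k
  induction k with
  | zero => exact h0
  | succ k ih =>
    haveI := KrrM.epi_cou n Y (KrrM.stage n Y s₀ k)
    have hS := SerreFin.kerSeq_shortExact (KrrM.cou n Y (KrrM.stage n Y s₀ k).G)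
    have hp : FlatMod.IsFinLocFree
        ((Scheme.Modules.pushforward (KRR.pr n Y)).obj (KrrM.stage n Y s₀ k).G) :=
      KrrE.s3756 n Y _ ih (KrrM.stage n Y s₀ k).reg
    have h2 : FlatMod.IsFinLocFree ((Scheme.Modules.pullback (KRR.pr n Y)).obj
        ((Scheme.Modules.pushforward (KRR.pr n Y)).obj (KrrM.stage n Y s₀ k).G)) :=
      Groth.Agent.Lib.Helper5.PerfPull.isFinLocFree_pullback (KRR.pr n Y) _ hp
    have hK : FlatMod.IsFinLocFree (KrrL.Kof n Y (KrrM.stage n Y s₀ k).G) :=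
      Groth.Agent.Helper1.ResSch.flf_ker hS h2 ih
    have h3 := KrrF.isFinLocFree_twF n Y 1 _ hK
    rw [KrrM.stage_succ_G n Y s₀ k]
    exact h3

/-- an additive map on `K(P^n_Y)` vanishing on the classes `[O(-k) ⊗ p^* T]` vanishes -/
theorem gen_zero [AlgebraicGeometry.IsNoetherian Y] {G : Type*} [AddCommGroup G]
    (c : SGA6.Kvb (KRR.PY n Y) →+ G)
    (h : ∀ (k : ℕ) (T : Y.Modules), k ≤ n → FlatMod.IsFinLocFree T →
      c (KRR.cl (KRR.PY n Y) (KRR.twF n Y (-(k : ℤ))
        ((Scheme.Modules.pullback (KRR.pr n Y)).obj T))) = 0) : c = 0 := by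
  have hreg : ∀ F : (KRR.PY n Y).Modules, P0 n Y F → c (KRR.cl (KRR.PY n Y) F) = 0 := by
    intro F hF
    let s₀ : KrrM.Stage n Y := ⟨F, qc_of_flf F hF.1, hF.2⟩
    have hG := flf_stage n Y s₀ hF.1
    have hT : ∀ k, FlatMod.IsFinLocFree
        ((Scheme.Modules.pushforward (KRR.pr n Y)).obj (KrrM.stage n Y s₀ k).G) := fun k =>
      KrrE.s3756 n Y _ (hG k) (KrrM.stage n Y s₀ k).reg
    have hX : ∀ k, FlatMod.IsFinLocFree (KrrM.Xk n Y s₀ k) := fun k =>
      KrrF.isFinLocFree_twF n Y _ _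
        (Groth.Agent.Lib.Helper5.PerfPull.isFinLocFree_pullback (KRR.pr n Y) _ (hT k))
    have hZ : ∀ k, FlatMod.IsFinLocFree (KrrM.Zk n Y s₀ k) := fun k =>
      KrrF.isFinLocFree_twF n Y _ _ (hG k)
    have key : ∀ m k : ℕ, k + m = n + 1 →
        c (KRR.cl (KRR.PY n Y) (KrrM.Zk n Y s₀ k)) = 0 := by
      intro m
      induction m with
      | zero =>
        intro k hk
        have hz : IsZero (KrrM.Zk n Y s₀ k) :=
          (KrrM.twFun n Y (-(k : ℤ))).map_isZero (KrrM.isZero_stage_G n Y s₀ k (by omega))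
        have hc : KRR.cl (KRR.PY n Y) (KrrM.Zk n Y s₀ k) = 0 :=
          Groth.Agent.Helper1.EulerK.cl_zero_of_isZero (KRR.vbP (KRR.PY n Y)) hz (hZ k)
        rw [hc, map_zero]
      | succ m ih =>
        intro k hk
        have hse := KrrM.shortExact_k n Y s₀ k
        have hrel : KRR.cl (KRR.PY n Y) (KrrM.Xk n Y s₀ k) =
            KRR.cl (KRR.PY n Y) (KrrM.Zk n Y s₀ (k + 1)) +
              KRR.cl (KRR.PY n Y) (KrrM.Zk n Y s₀ k) :=
          clSub_ses (KRR.vbP (KRR.PY n Y)) _ hse (hZ (k + 1)) (hX k) (hZ k)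
        have hXz : c (KRR.cl (KRR.PY n Y) (KrrM.Xk n Y s₀ k)) = 0 :=
          h k ((Scheme.Modules.pushforward (KRR.pr n Y)).obj (KrrM.stage n Y s₀ k).G)
            (by omega) (hT k)
        have hZz := ih (k + 1) (by omega)
        have h3 : c (KRR.cl (KRR.PY n Y) (KrrM.Xk n Y s₀ k)) =
            c (KRR.cl (KRR.PY n Y) (KrrM.Zk n Y s₀ (k + 1))) +
              c (KRR.cl (KRR.PY n Y) (KrrM.Zk n Y s₀ k)) := by
          rw [hrel, map_add]
        rw [hXz, hZz, zero_add] at h3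
        exact h3.symm
    obtain ⟨e0⟩ := KrrM.nonempty_twF_zero n Y F (-((0 : ℕ) : ℤ)) (by simp)
    have hfin := key (n + 1) 0 (by omega)
    have hcl : KRR.cl (KRR.PY n Y) (KrrM.Zk n Y s₀ 0) = KRR.cl (KRR.PY n Y) F :=
      Groth.Agent.Helper1.EulerK.cl_iso (KRR.vbP (KRR.PY n Y)) e0 (hZ 0) hF.1
        (Groth.Agent.Lib.Helper5.RpushOpen.isFinLocFree_of_isZero _ (isZero_zero _))
    rw [← hcl]
    exact hfin
  have h2 : c.comp (Phi0 n Y) = (0 : SGA6.Kvb (KRR.PY n Y) →+ G).comp (Phi0 n Y) := by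
    apply k0_hom_ext (P0 n Y)
    intro M hM
    change c (Phi0 n Y (KZero.clSub (P0 n Y) M)) = 0
    rw [Phi0_cl n Y M hM]
    exact hreg M hM
  refine AddMonoidHom.ext (fun x => ?_)
  obtain ⟨z, rfl⟩ := (Phi0_bijective n Y).2 x
  exact DFunLike.congr_fun h2 z

/-- two additive maps on `K(P^n_Y)` agreeing on the classes `[O(-k) ⊗ p^* T]` are equal -/
theorem gen_hom_ext [AlgebraicGeometry.IsNoetherian Y] {G : Type*} [AddCommGroup G]
    (a b : SGA6.Kvb (KRR.PY n Y) →+ G)
    (h : ∀ (k : ℕ) (T : Y.Modules), k ≤ n → FlatMod.IsFinLocFree T →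
      a (KRR.cl (KRR.PY n Y) (KRR.twF n Y (-(k : ℤ))
        ((Scheme.Modules.pullback (KRR.pr n Y)).obj T))) =
      b (KRR.cl (KRR.PY n Y) (KRR.twF n Y (-(k : ℤ))
        ((Scheme.Modules.pullback (KRR.pr n Y)).obj T)))) : a = b := by
  have := gen_zero n Y (a - b) (fun k T hk hT => by
    rw [AddMonoidHom.sub_apply, h k T hk hT, sub_self])
  exact sub_eq_zero.mp this

end Gen

end Groth.Agent.Helper1.RegK
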