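import Mathlib
import Groth.Prelude.Def_KRR
import Groth.Agent.Lib.Helper1.RegK7
import Groth.Agent.Lib.Helper3.ProjCovOver
import Groth.Agent.Lib.Helper4.TwistBC1
import Groth.Agent.Lib.Helper1.ResSch
import Groth.Agent.Lib.Helper5.PnSm.Chart
import Groth.Agent.S4991
import Groth.Agent.S4402
import Groth.Agent.Lib.Helper4.SerreFin
import Groth.Agent.Lib.Helper1.TwistAmpleOpen
import Groth.Agent.Lib.Helper1.PullSec

/-!
# `K₀(Coh P^n_k)` is generated by the classes of `O, O(-1), …, O(-n)` (helper1)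

Through the generation of `K(P^n_Y)` by the classes `[O(-k) ⊗ p^* T]` (`RegK7`), for `Y = Spec k`,
the comparison `P^n_k ≅ P^n_ℤ ×_ℤ Spec k` and `K⁰ = K₀` on the regular scheme `P^n_k`.
-/

set_option backward.isDefEq.respectTransparency.types false
set_option synthInstance.maxHeartbeats 400000
set_option maxHeartbeats 1000000
set_option autoImplicit false
set_option linter.unusedSectionVars false
set_option linter.style.haveILetI false
set_option linter.unusedVariables false

universe u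
open CategoryTheory CategoryTheory.Limits AlgebraicGeometry
open Groth.Agent.Helper1.KPull Groth.Agent.Lib.Helper4
open ZeroObject

namespace Groth.Agent.Helper1.PnK0

section General

theorem flf_unit (X : Scheme.{u}) : FlatMod.IsFinLocFree (Coh.structureModule X) :=
  Groth.Agent.Helper1.InvInv2.isFinLocFree_of_isInvertible Groth.Agent.Lead.ParaF.isInvertible_unit

theorem flf_zero (X : Scheme.{u}) : FlatMod.IsFinLocFree (0 : X.Modules) :=
  Groth.Agent.Lib.Helper5.RpushOpen.isFinLocFree_of_isZero _ (isZero_zero _)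

variable {X : Scheme.{u}}

/-- the class of a finite sum of copies of a bundle -/
theorem cl_coprod (A : X.Modules) (hA : FlatMod.IsFinLocFree A) (r : ℕ) :
    KRR.cl X (∐ fun _ : Fin r => A) = (r : ℤ) • KRR.cl X A := by
  induction r with
  | zero =>
    have hz : IsZero (∐ fun _ : Fin 0 => A) := RegK.isZero_sigma_fin_zero A
    have h0 : KRR.cl X (∐ fun _ : Fin 0 => A) = 0 :=
      Groth.Agent.Helper1.EulerK.cl_zero_of_isZero (KRR.vbP X) hz
        (Groth.Agent.Lib.Helper5.RpushOpen.isFinLocFree_of_isZero _ hz)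
    rw [h0, Nat.cast_zero, zero_smul]
  | succ r ih =>
    obtain ⟨e⟩ := RegK.nonempty_sigmaSuccIso A r
    have hB : FlatMod.IsFinLocFree (∐ fun _ : Fin r => A) := RegK.flf_coprod A hA r
    have hS := (ShortComplex.Splitting.ofHasBinaryBiproduct A (∐ fun _ : Fin r => A)).shortExact
    have hAB : FlatMod.IsFinLocFree (A ⊞ ∐ fun _ : Fin r => A) :=
      Groth.Agent.Lib.Helper5.ConePerf.isFinLocFree_biprod A _ hA hB
    have hc2 : KRR.cl X (A ⊞ ∐ fun _ : Fin r => A) =
        KRR.cl X A + KRR.cl X (∐ fun _ : Fin r => A) :=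
      clSub_ses (KRR.vbP X) _ hS hA hAB hB
    have hc1 : KRR.cl X (∐ fun _ : Fin (r + 1) => A) = KRR.cl X (A ⊞ ∐ fun _ : Fin r => A) :=
      Groth.Agent.Helper1.EulerK.cl_iso (KRR.vbP X) e (RegK.flf_coprod A hA (r + 1)) hAB
        (flf_zero X)
    rw [hc1, hc2, ih]
    push_cast
    rw [add_smul, one_smul, add_comm]

/-- a module is the pullback along `f` of its pullback along a retraction of `f` -/
noncomputable def pullInvIso {A B : Scheme.{u}} (f : A ⟶ B) (g : B ⟶ A) (h : f ≫ g = 𝟙 A)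
    (E : A.Modules) :
    E ≅ (Scheme.Modules.pullback f).obj ((Scheme.Modules.pullback g).obj E) :=
  ((Scheme.Modules.pullbackComp f g).app E ≪≫ (Scheme.Modules.pullbackCongr h).app E ≪≫
    (Scheme.Modules.pullbackId A).app E).symm

end General

section Field
variable (k : Type u) [Field k]

/-- the local rings of the spectrum of a field are regular -/
theorem isRegularLocalRing_stalk_spec_field (y : Spec (CommRingCat.of k)) :
    IsRegularLocalRing ((Spec (CommRingCat.of k)).presheaf.stalk y) := by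
  haveI : (PrimeSpectrum.asIdeal y).IsPrime := PrimeSpectrum.isPrime y
  haveI : IsRegularLocalRing (Localization.AtPrime (PrimeSpectrum.asIdeal y)) :=
    IsRegularRing.isRegularLocalRing_localization (PrimeSpectrum.asIdeal y)
  exact IsRegularLocalRing.of_ringEquiv (StructureSheaf.stalkIso k y).toRingEquiv

/-- a bundle on the spectrum of a field has the class of a free module -/
theorem cl_field (T : (Spec (CommRingCat.of k)).Modules) (hT : FlatMod.IsFinLocFree T) :
    ∃ r : ℕ, KRR.cl (Spec (CommRingCat.of k)) T =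
      (r : ℤ) • KRR.cl (Spec (CommRingCat.of k))
        (Coh.structureModule (Spec (CommRingCat.of k))) := by
  let Y : Scheme.{u} := Spec (CommRingCat.of k)
  have x : Y := (show PrimeSpectrum k from default)
  obtain ⟨U, r, hxU, ⟨e⟩⟩ := hT x
  have hU : U = ⊤ := by
    refine top_unique (fun y _ => ?_)
    have hyx : y = x := @Subsingleton.elim _ (inferInstance : Subsingleton (PrimeSpectrum k)) y x
    rw [hyx]
    exact hxU
  subst hU
  let j := (⊤ : Y.Opens).ι
  let i := Y.topIso.inv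
  have e1 : (Scheme.Modules.pullback j).obj T ≅ FlatMod.freeMod (↑(⊤ : Y.Opens)) r :=
    ((Scheme.Modules.restrictFunctorIsoPullback j).app T).symm ≪≫ e
  have e2 : T ≅ (Scheme.Modules.pullback i).obj (FlatMod.freeMod (↑(⊤ : Y.Opens)) r) :=
    pullInvIso i j (Scheme.toIso_inv_ι Y) T ≪≫ (Scheme.Modules.pullback i).mapIso e1
  have hO := flf_unit (↑(⊤ : Y.Opens) : Scheme.{u})
  have hfree : FlatMod.IsFinLocFree (FlatMod.freeMod (↑(⊤ : Y.Opens)) r) :=
    RegK.flf_coprod _ hO r
  have hpf := Groth.Agent.Lib.Helper5.PerfPull.isFinLocFree_pullback i _ hfree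
  have h1 : KRR.cl Y T =
      KRR.cl Y ((Scheme.Modules.pullback i).obj (FlatMod.freeMod (↑(⊤ : Y.Opens)) r)) :=
    Groth.Agent.Helper1.EulerK.cl_iso (KRR.vbP Y) e2 hT hpf (flf_zero Y)
  have h2 : KRR.cl Y ((Scheme.Modules.pullback i).obj (FlatMod.freeMod (↑(⊤ : Y.Opens)) r)) =
      pullK i (KRR.cl _ (FlatMod.freeMod (↑(⊤ : Y.Opens)) r)) := (pullK_cl i _ hfree).symm
  have h3 : KRR.cl (↑(⊤ : Y.Opens) : Scheme.{u}) (FlatMod.freeMod (↑(⊤ : Y.Opens)) r) =
      (r : ℤ) • KRR.cl _ (Coh.structureModule _) := cl_coprod _ hO r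
  have h4 : pullK i (KRR.cl _ (Coh.structureModule (↑(⊤ : Y.Opens) : Scheme.{u}))) =
      KRR.cl Y (Coh.structureModule Y) := by
    rw [pullK_cl i _ hO]
    exact Groth.Agent.Helper1.EulerK.cl_iso (KRR.vbP Y) (Groth.Agent.Helper1.PullSec.unitIso i)
      (Groth.Agent.Lib.Helper5.PerfPull.isFinLocFree_pullback i _ hO) (flf_unit Y) (flf_zero Y)
  refine ⟨r, ?_⟩
  change KRR.cl Y T = (r : ℤ) • KRR.cl Y (Coh.structureModule Y)
  rw [h1, h2, h3, map_zsmul, h4]

end Field

section Main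
variable (n : ℕ) (k : Type u) [Field k]

/-- the base `Spec k` -/
noncomputable abbrev Yk : Scheme.{u} := Spec (CommRingCat.of k)

/-- `P^n_k` as a `Proj` -/
noncomputable abbrev Xk : Scheme.{u} := CohB1.ProjSpace n k

/-- `P^n_k` as a base change of `P^n_ℤ` -/
noncomputable abbrev Pk : Scheme.{u} := KRR.PY n (Yk k)

/-- the comparison of the two -/
noncomputable abbrev θk : Xk n k ≅ Pk n k := Groth.Agent.Helper3.ProjCovOver.thetaIso n k

theorem flf_twist (d : ℤ) : FlatMod.IsFinLocFree (Twist.twistProjSpace n k d) :=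
  Groth.Agent.Helper1.InvInv2.isFinLocFree_of_isInvertible (ClBridge2.isInvertible_twist n k d)

theorem flf_twistOver (Y : Scheme.{u}) (d : ℤ) : FlatMod.IsFinLocFree (Twist.twistOver n Y d) := by
  unfold Twist.twistOver
  exact Groth.Agent.Lib.Helper5.PerfPull.isFinLocFree_pullback _ _ (RegK.flf_tw n d)

theorem coh_of_flf {X : Scheme.{u}} (M : X.Modules) (hM : FlatMod.IsFinLocFree M) : Coh.IsCoh M :=
  Groth.Agent.Lib.Helper5.LocalCoh.isCoh_of_isFinLocFree M hM

/-- `T ↦ θ^*(O(-j) ⊗ p^* T)` -/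
noncomputable abbrev Psi (j : ℕ) (T : (Yk k).Modules) : (Xk n k).Modules :=
  (Scheme.Modules.pullback (θk n k).hom).obj
    (((DCoh.tensorBi (X := Pk n k)).obj (Twist.twistOver n (Yk k) (-(j : ℤ)))).obj
      ((Scheme.Modules.pullback (KRR.pr n (Yk k))).obj T))

theorem flf_Psi (j : ℕ) (T : (Yk k).Modules) (hT : FlatMod.IsFinLocFree T) :
    FlatMod.IsFinLocFree (Psi n k j T) :=
  Groth.Agent.Lib.Helper5.PerfPull.isFinLocFree_pullback _ _
    (Groth.Agent.Lib.Helper5.LTenFlf.isFinLocFree_tensor _ _ (flf_twistOver n _ _)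
      (Groth.Agent.Lib.Helper5.PerfPull.isFinLocFree_pullback _ _ hT))

theorem Psi_ses (j : ℕ) (S : ShortComplex (Yk k).Modules) (hS : S.ShortExact)
    (h3 : FlatMod.IsFinLocFree S.X₃) :
    (((S.map (Scheme.Modules.pullback (KRR.pr n (Yk k)))).map
      ((DCoh.tensorBi (X := Pk n k)).obj (Twist.twistOver n (Yk k) (-(j : ℤ))))).map
        (Scheme.Modules.pullback (θk n k).hom)).ShortExact := by
  have h1 := KPull.shortExact_pullback (KRR.pr n (Yk k)) S hS h3
  have h2 := Groth.Agent.Helper1.Euler.shortExact_tensor (Twist.twistOver n (Yk k) (-(j : ℤ)))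
    (flf_twistOver n _ _) _ h1
  exact KPull.shortExact_pullback (θk n k).hom _ h2
    (Groth.Agent.Lib.Helper5.LTenFlf.isFinLocFree_tensor _ _ (flf_twistOver n _ _)
      (Groth.Agent.Lib.Helper5.PerfPull.isFinLocFree_pullback _ _ h3))

/-- `[T] ↦ [θ^*(O(-j) ⊗ p^* T)]` -/
noncomputable def psi (j : ℕ) : SGA6.Kvb (Yk k) →+ SGA6.Kcoh (Xk n k) :=
  k0Lift (KRR.vbP (Yk k))
    (fun T => KZero.clSub (fun M : (Xk n k).Modules => Coh.IsCoh M) (Psi n k j T))
    (fun S hS h1 h2 h3 => clSub_ses (fun M : (Xk n k).Modules => Coh.IsCoh M) _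
      (Psi_ses n k j S hS h3) (coh_of_flf _ (flf_Psi n k j _ h1))
      (coh_of_flf _ (flf_Psi n k j _ h2)) (coh_of_flf _ (flf_Psi n k j _ h3)))

theorem psi_cl (j : ℕ) (T : (Yk k).Modules) (hT : FlatMod.IsFinLocFree T) :
    psi n k j (KRR.cl (Yk k) T) =
      KZero.clSub (fun M : (Xk n k).Modules => Coh.IsCoh M) (Psi n k j T) := by
  unfold psi
  exact k0Lift_clSub (KRR.vbP (Yk k)) _ _ T hT

theorem theta_fst : (θk n k).hom ≫ RegK.fstY n (Yk k) =
    Proj.map (Groth.Agent.Helper1.HProjLoc.polyMap n (Groth.Agent.Helper3.ProjCovOver.rhoZ k))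
      (Groth.Agent.Helper1.HProjLoc.hirr_polyMap n (Groth.Agent.Helper3.ProjCovOver.rhoZ k)) :=
  (Groth.Agent.Helper3.ProjCovOver.isPullback_over n k).isoPullback_hom_fst

theorem nonempty_Psi_unit (j : ℕ) :
    Nonempty (Psi n k j (Coh.structureModule (Yk k)) ≅ Twist.twistProjSpace n k (-(j : ℤ))) := by
  let L := Twist.twistOver n (Yk k) (-(j : ℤ))
  let OP := Coh.structureModule (Pk n k)
  have a1 : (Scheme.Modules.pullback (KRR.pr n (Yk k))).obj (Coh.structureModule (Yk k)) ≅ OP :=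
    Groth.Agent.Helper1.PullSec.unitIso (KRR.pr n (Yk k))
  have a2 : ((DCoh.tensorBi (X := Pk n k)).obj L).obj
      ((Scheme.Modules.pullback (KRR.pr n (Yk k))).obj (Coh.structureModule (Yk k))) ≅
      ((DCoh.tensorBi (X := Pk n k)).obj L).obj OP :=
    ((DCoh.tensorBi (X := Pk n k)).obj L).mapIso a1
  obtain ⟨a3⟩ := Groth.Agent.Helper1.TwistAmpleOpen.nonempty_tensorMod_unit_iso L
  have a4 : ((DCoh.tensorBi (X := Pk n k)).obj L).obj OP ≅ L :=
    KrrA.tensorModComm L OP ≪≫ a3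
  have a5 : (Scheme.Modules.pullback (θk n k).hom).obj L ≅
      (Scheme.Modules.pullback (Proj.map
        (Groth.Agent.Helper1.HProjLoc.polyMap n (Groth.Agent.Helper3.ProjCovOver.rhoZ k))
        (Groth.Agent.Helper1.HProjLoc.hirr_polyMap n (Groth.Agent.Helper3.ProjCovOver.rhoZ k)))).obj
          (Twist.twistProjSpace n (ULift.{u} ℤ) (-(j : ℤ))) :=
    (Scheme.Modules.pullbackComp (θk n k).hom (RegK.fstY n (Yk k))).app
        (Twist.twistProjSpace n (ULift.{u} ℤ) (-(j : ℤ))) ≪≫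
      (Scheme.Modules.pullbackCongr (theta_fst n k)).app _
  obtain ⟨a6⟩ := TwistBC1.twist_bc n (Groth.Agent.Helper3.ProjCovOver.rhoZ k) (-(j : ℤ))
  exact ⟨(Scheme.Modules.pullback (θk n k).hom).mapIso (a2 ≪≫ a4) ≪≫ a5 ≪≫ a6⟩

/-- the classes `[O(-i)]` -/
noncomputable def gcl (i : Fin (n + 1)) : SGA6.Kcoh (Xk n k) :=
  KZero.clSub (fun M : (Xk n k).Modules => Coh.IsCoh M)
    (Twist.twistProjSpace n k (-((i : ℕ) : ℤ)))

/-- the comparison map of S14429 -/
noncomputable def PhiH : (Fin (n + 1) → ℤ) →+ SGA6.Kcoh (Xk n k) where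
  toFun a := ∑ i : Fin (n + 1), a i • gcl n k i
  map_zero' := by simp
  map_add' a b := by simp [add_smul, Finset.sum_add_distrib]

theorem gcl_mem (i : Fin (n + 1)) : gcl n k i ∈ (PhiH n k).range := by
  refine ⟨Pi.single i 1, ?_⟩
  change ∑ i' : Fin (n + 1), (Pi.single i (1 : ℤ) : Fin (n + 1) → ℤ) i' • gcl n k i' = _
  rw [Finset.sum_eq_single i]
  · rw [Pi.single_eq_same, one_smul]
  · intro b _ hb
    rw [Pi.single_eq_of_ne hb, zero_smul]
  · intro h
    exact absurd (Finset.mem_univ i) h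

/-- `K⁰(P^n_k) ⟶ K₀(P^n_k)` -/
noncomputable def delta : SGA6.Kvb (Xk n k) →+ SGA6.Kcoh (Xk n k) :=
  SGA6.mapSub (𝟭 (Xk n k).Modules) (KRR.vbP (Xk n k))
    (fun M : (Xk n k).Modules => Coh.IsCoh M) (fun M hM => coh_of_flf M hM)

theorem delta_cl (E : (Xk n k).Modules) (hE : FlatMod.IsFinLocFree E) :
    delta n k (KRR.cl (Xk n k) E) =
      KZero.clSub (fun M : (Xk n k).Modules => Coh.IsCoh M) E :=
  RegK.mapSub_cl' (KRR.vbP (Xk n k)) (fun M : (Xk n k).Modules => Coh.IsCoh M)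
    (fun M hM => coh_of_flf M hM) E hE

theorem hreg (x : Xk n k) : IsRegularLocalRing ((Xk n k).presheaf.stalk x) := by
  haveI : Smooth (CohB1.ProjSpace.toSpec n k) := Groth.Agent.Lib.Helper5.PnSm.smooth_toSpec n k
  have h := Groth.Agent.S4991.result (CohB1.ProjSpace.toSpec n k) x ⟨⊤, trivial, inferInstance⟩
  exact h.2 (isRegularLocalRing_stalk_spec_field k _)

theorem hEnough : KRR.HasEnoughLocFree (Xk n k) := by
  intro F hF
  obtain ⟨n₀, h⟩ := Groth.Agent.S4402.result (CohB1.polyGrading n k) (SerreFin.sX n k)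
    (SerreFin.sX_mem n k) (SerreFin.irrelevant_eq n k) F hF.1 hF.2
  obtain ⟨r, p, hp⟩ := h n₀ le_rfl
  exact ⟨_, p, RegK.flf_coprod _ (flf_twist n k _) r, hp⟩

theorem gen_vanish :
    ((QuotientAddGroup.mk' (PhiH n k).range).comp
      ((delta n k).comp (pullK (θk n k).hom))) = 0 := by
  apply RegK.gen_zero n (Yk k)
  intro j T hj hT
  have hM : FlatMod.IsFinLocFree (KRR.twF n (Yk k) (-(j : ℤ))
      ((Scheme.Modules.pullback (KRR.pr n (Yk k))).obj T)) :=
    KrrF.isFinLocFree_twF n (Yk k) _ _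
      (Groth.Agent.Lib.Helper5.PerfPull.isFinLocFree_pullback _ _ hT)
  change QuotientAddGroup.mk' (PhiH n k).range (delta n k (pullK (θk n k).hom
    (KRR.cl (Pk n k) (KRR.twF n (Yk k) (-(j : ℤ))
      ((Scheme.Modules.pullback (KRR.pr n (Yk k))).obj T))))) = 0
  rw [pullK_cl (θk n k).hom _ hM,
    delta_cl n k _ (Groth.Agent.Lib.Helper5.PerfPull.isFinLocFree_pullback _ _ hM)]
  have h1 : KZero.clSub (fun M : (Xk n k).Modules => Coh.IsCoh M)
      ((Scheme.Modules.pullback (θk n k).hom).obj (KRR.twF n (Yk k) (-(j : ℤ))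
        ((Scheme.Modules.pullback (KRR.pr n (Yk k))).obj T))) =
      psi n k j (KRR.cl (Yk k) T) := (psi_cl n k j T hT).symm
  obtain ⟨r, hr⟩ := cl_field k T hT
  rw [h1, hr, map_zsmul, psi_cl n k j _ (flf_unit _)]
  obtain ⟨e⟩ := nonempty_Psi_unit n k j
  have h2 : KZero.clSub (fun M : (Xk n k).Modules => Coh.IsCoh M)
      (Psi n k j (Coh.structureModule (Yk k))) = gcl n k ⟨j, by omega⟩ :=
    Groth.Agent.Helper1.EulerK.cl_iso (fun M : (Xk n k).Modules => Coh.IsCoh M) e
      (coh_of_flf _ (flf_Psi n k j _ (flf_unit _))) (SerreFin.isCoh_twist n k _)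
      (coh_of_flf _ (flf_zero _))
  rw [h2, QuotientAddGroup.mk'_apply, QuotientAddGroup.eq_zero_iff]
  exact (PhiH n k).range.zsmul_mem (gcl_mem n k _) r

/-- every class of `K₀(Coh P^n_k)` is a combination of the `[O(-i)]` -/
theorem surj (x : SGA6.Kcoh (Xk n k)) : x ∈ (PhiH n k).range := by
  haveI : AlgebraicGeometry.IsNoetherian (Xk n k) :=
    Groth.Agent.Helper1.ProjNoeth.isNoetherian_proj (CohB1.polyGrading n k)
  have hbij : Function.Bijective (delta n k) :=
    Groth.Agent.Helper1.ResSch.main (Xk n k) (hreg n k) (hEnough n k)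
      (fun M hM => coh_of_flf M hM)
  obtain ⟨y, rfl⟩ := hbij.2 x
  have h0 : (QuotientAddGroup.mk' (PhiH n k).range).comp (delta n k) = 0 := by
    apply k0_hom_ext (KRR.vbP (Xk n k))
    intro E hE
    change QuotientAddGroup.mk' (PhiH n k).range (delta n k (KRR.cl (Xk n k) E)) = 0
    have hE' := Groth.Agent.Lib.Helper5.PerfPull.isFinLocFree_pullback (θk n k).inv E hE
    have e := pullInvIso (θk n k).hom (θk n k).inv (θk n k).hom_inv_id E
    have h1 : KRR.cl (Xk n k) E = pullK (θk n k).hom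
        (KRR.cl (Pk n k) ((Scheme.Modules.pullback (θk n k).inv).obj E)) := by
      rw [pullK_cl _ _ hE']
      exact Groth.Agent.Helper1.EulerK.cl_iso (KRR.vbP (Xk n k)) e hE
        (Groth.Agent.Lib.Helper5.PerfPull.isFinLocFree_pullback _ _ hE') (flf_zero _)
    rw [h1]
    exact DFunLike.congr_fun (gen_vanish n k) _
  have h := DFunLike.congr_fun h0 y
  change QuotientAddGroup.mk' (PhiH n k).range (delta n k y) = 0 at h
  rw [QuotientAddGroup.mk'_apply, QuotientAddGroup.eq_zero_iff] at h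
  exact h

end Main

end Groth.Agent.Helper1.PnK0
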