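import Mathlib
import Groth.Prelude.Def_KRR
import Groth.Agent.Lib.Helper1.PnK0a
import Groth.Agent.Lib.Helper4.PnX1
import Groth.Agent.Lib.Helper1.Euler3
import Groth.Agent.Lib.Helper1.VA5
import Groth.Agent.Lib.Helper1.TwistTens

/-!
# `K₀(Coh P^n_k)` is free on the classes of `O, O(-1), …, O(-n)` (helper1)

Independence through the twisted Euler characteristics `[F] ↦ χ(F(j))`, `0 ≤ j ≤ n`, whose matrix
on the classes `[O(-i)]` is unitriangular.
-/

set_option backward.isDefEq.respectTransparency.types false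
set_option synthInstance.maxHeartbeats 400000
set_option maxHeartbeats 1000000
set_option autoImplicit false
set_option linter.unusedSectionVars false
set_option linter.style.haveILetI false
set_option linter.unusedVariables false

universe u
open CategoryTheory CategoryTheory.Limits AlgebraicGeometry
open Groth.Agent.Helper1.KPull Groth.Agent.Lib.Helper4
open ZeroObject

namespace Groth.Agent.Helper1.PnK0

section Inj
variable (n : ℕ) (k : Type u) [Field k]

theorem chi_add (j : ℕ) (S : ShortComplex (Xk n k).Modules) (hS : S.ShortExact)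
    (h1 : Coh.IsCoh S.X₁) (h2 : Coh.IsCoh S.X₂) (h3 : Coh.IsCoh S.X₃) :
    Curv2.euler k (Xk n k)
        (((DCoh.tensorBi (X := Xk n k)).obj (Twist.twistProjSpace n k (j : ℤ))).obj S.X₂) =
      Curv2.euler k (Xk n k)
        (((DCoh.tensorBi (X := Xk n k)).obj (Twist.twistProjSpace n k (j : ℤ))).obj S.X₁) +
      Curv2.euler k (Xk n k)
        (((DCoh.tensorBi (X := Xk n k)).obj (Twist.twistProjSpace n k (j : ℤ))).obj S.X₃) := by
  haveI : IsProper (CohB1.ProjSpace n k ↘ Spec (CommRingCat.of k)) := VA5.isProper_toSpec n k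
  have hS' := Groth.Agent.Helper1.Euler.shortExact_tensor (Twist.twistProjSpace n k (j : ℤ))
    (flf_twist n k (j : ℤ)) S hS
  have hc := SerreFin.isCoh_twist n k (j : ℤ)
  have c1 : Coh.IsCoh (S.map ((DCoh.tensorBi (X := Xk n k)).obj
      (Twist.twistProjSpace n k (j : ℤ)))).X₁ :=
    Groth.Agent.Helper1.Euler.isCoh_tensor _ _ hc h1
  have c2 : Coh.IsCoh (S.map ((DCoh.tensorBi (X := Xk n k)).obj
      (Twist.twistProjSpace n k (j : ℤ)))).X₂ :=
    Groth.Agent.Helper1.Euler.isCoh_tensor _ _ hc h2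
  have c3 : Coh.IsCoh (S.map ((DCoh.tensorBi (X := Xk n k)).obj
      (Twist.twistProjSpace n k (j : ℤ)))).X₃ :=
    Groth.Agent.Helper1.Euler.isCoh_tensor _ _ hc h3
  exact Groth.Agent.Helper1.Euler.euler_additive k (Xk n k)
    (S.map ((DCoh.tensorBi (X := Xk n k)).obj (Twist.twistProjSpace n k (j : ℤ)))) hS' c1 c2 c3

/-- `[F] ↦ χ(O(j) ⊗ F)` -/
noncomputable def chiTw (j : ℕ) : SGA6.Kcoh (Xk n k) →+ ℤ :=
  k0Lift (fun M : (Xk n k).Modules => Coh.IsCoh M)
    (fun F => Curv2.euler k (Xk n k)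
      (((DCoh.tensorBi (X := Xk n k)).obj (Twist.twistProjSpace n k (j : ℤ))).obj F))
    (fun S hS h1 h2 h3 => chi_add n k j S hS h1 h2 h3)

theorem chiTw_cl (j : ℕ) (F : (Xk n k).Modules) (hF : Coh.IsCoh F) :
    chiTw n k j (KZero.clSub (fun M : (Xk n k).Modules => Coh.IsCoh M) F) =
      Curv2.euler k (Xk n k)
        (((DCoh.tensorBi (X := Xk n k)).obj (Twist.twistProjSpace n k (j : ℤ))).obj F) := by
  unfold chiTw
  exact k0Lift_clSub (fun M : (Xk n k).Modules => Coh.IsCoh M) _ _ F hF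

theorem euler_tw_nonneg (m : ℕ) :
    Curv2.euler k (Xk n k) (Twist.twistProjSpace n k (m : ℤ)) = ((m + n).choose n : ℤ) := by
  unfold Curv2.euler
  rw [finsum_eq_single _ 0]
  · rw [pow_zero, one_mul, PnX1.fr_H0 k n m]
  · intro q hq
    rw [PnX1.fr_zero k n (m : ℤ) q (fun h => hq h.1) (fun h => by omega), Nat.cast_zero, mul_zero]

theorem euler_tw_neg (d : ℤ) (h1 : -(n : ℤ) ≤ d) (h2 : d < 0) :
    Curv2.euler k (Xk n k) (Twist.twistProjSpace n k d) = 0 := by
  unfold Curv2.euler
  rw [finsum_eq_single _ 0]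
  · rw [PnX1.fr_zero k n d 0 (fun h => by omega) (fun h => by omega), Nat.cast_zero, mul_zero]
  · intro q hq
    rw [PnX1.fr_zero k n d q (fun h => hq h.1) (fun h => by omega), Nat.cast_zero, mul_zero]

theorem chiTw_gcl (j : ℕ) (i : Fin (n + 1)) :
    chiTw n k j (gcl n k i) =
      if (i : ℕ) ≤ j then (((j - (i : ℕ)) + n).choose n : ℤ) else 0 := by
  have hi := i.isLt
  unfold gcl
  rw [chiTw_cl n k j _ (SerreFin.isCoh_twist n k _)]
  obtain ⟨e⟩ := (Groth.Agent.Helper1.TwistTens.twist_package (CohB1.polyGrading n k)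
    (SerreFin.hcov1 n k)).2.1 (j : ℤ) (-((i : ℕ) : ℤ))
  have hE : Curv2.euler k (Xk n k)
      (((DCoh.tensorBi (X := Xk n k)).obj (Twist.twistProjSpace n k (j : ℤ))).obj
        (Twist.twistProjSpace n k (-((i : ℕ) : ℤ)))) =
      Curv2.euler k (Xk n k) (Twist.twistProjSpace n k ((j : ℤ) + -((i : ℕ) : ℤ))) :=
    Groth.Agent.Helper1.Euler.euler_iso k (Xk n k) e
  rw [hE]
  by_cases h : (i : ℕ) ≤ j
  · rw [if_pos h]
    have hd : (j : ℤ) + -((i : ℕ) : ℤ) = ((j - (i : ℕ) : ℕ) : ℤ) := by omega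
    rw [hd, euler_tw_nonneg]
  · rw [if_neg h]
    exact euler_tw_neg n k _ (by omega) (by omega)

theorem inj : Function.Injective (PhiH n k) := by
  rw [injective_iff_map_eq_zero]
  intro a ha
  have hχ : ∀ j : Fin (n + 1), ∑ i : Fin (n + 1), a i *
      (if (i : ℕ) ≤ (j : ℕ) then ((((j : ℕ) - (i : ℕ)) + n).choose n : ℤ) else 0) = 0 := by
    intro j
    have h := congrArg (chiTw n k j) ha
    rw [map_zero] at h
    change chiTw n k j (∑ i : Fin (n + 1), a i • gcl n k i) = 0 at h
    rw [map_sum] at h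
    refine Eq.trans (Finset.sum_congr rfl (fun i _ => ?_)) h
    rw [map_zsmul, chiTw_gcl n k j i, smul_eq_mul]
  have key : ∀ (m : ℕ) (hm : m < n + 1), a ⟨m, hm⟩ = 0 := by
    intro m
    induction m using Nat.strong_induction_on with
    | _ m ih =>
      intro hm
      have hj := hχ ⟨m, hm⟩
      rw [Finset.sum_eq_single (⟨m, hm⟩ : Fin (n + 1))] at hj
      · simpa using hj
      · intro i _ hne
        have hne' : (i : ℕ) ≠ m := fun h => hne (Fin.ext h)
        rcases lt_or_gt_of_ne hne' with h | h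
        · have h0 : a i = 0 := ih i h i.isLt
          rw [h0, zero_mul]
        · have hnot : ¬ ((i : ℕ) ≤ ((⟨m, hm⟩ : Fin (n + 1)) : ℕ)) := by
            simp only [not_le]
            exact h
          rw [if_neg hnot, mul_zero]
      · intro h
        exact absurd (Finset.mem_univ _) h
  funext i
  exact key i i.isLt

/-- **S14429** -/
theorem main : Function.Bijective (fun a : Fin (n + 1) → ℤ =>
    ∑ i : Fin (n + 1), a i • KZero.clSub (fun M : (CohB1.ProjSpace n k).Modules => Coh.IsCoh M)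
      (Twist.twistProjSpace n k (-((i : ℕ) : ℤ)))) := by
  change Function.Bijective (⇑(PhiH n k))
  exact ⟨inj n k, fun x => surj n k x⟩

end Inj

end Groth.Agent.Helper1.PnK0
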