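import Mathlib
import Groth.Prelude.Def_KRR
import Groth.Agent.Lib.Helper1.RegK3
import Groth.Agent.Lib.Helper1.ProjF4
import Groth.Agent.Lib.Helper1.ProjSerre

/-!
# The projection formula `p_K (x · p^K y) = p_K x · y` for `P^n_Y ⟶ Y` (helper1, S3762)
-/

set_option backward.isDefEq.respectTransparency.types false
set_option synthInstance.maxHeartbeats 400000
set_option maxHeartbeats 1000000
set_option autoImplicit false
set_option linter.unusedSectionVars false
set_option linter.style.haveILetI false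
set_option linter.unusedVariables false

universe v u
open CategoryTheory CategoryTheory.Limits AlgebraicGeometry
open Groth.Agent.Helper1.KPull Groth.Agent.Lib.Helper4

namespace Groth.Agent.Helper1.RegK

section Proj
variable (n : ℕ) (Y : Scheme.{u})

/-- a regular module tensored with the pullback of a bundle on the base is regular -/
theorem isRegSheaf_tensor_pullback (F : (KRR.PY n Y).Modules) (hreg : KRR.IsRegSheaf n Y F)
    (E : Y.Modules) (hE : FlatMod.IsFinLocFree E) :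
    KRR.IsRegSheaf n Y (CohB1.tensorMod F ((Scheme.Modules.pullback (KRR.pr n Y)).obj E)) := by
  haveI : HasInjectiveResolutions (KRR.PY n Y).Modules := inferInstance
  intro i hi
  have h0 := hreg i hi
  obtain ⟨e1⟩ := Groth.Agent.Helper1.RpushComp.nonempty_iso (KRR.pr n Y)
    (KRR.twF n Y (-(i : ℤ)) F) i
  have h1 : IsZero ((Coh.Rpush (KRR.pr n Y) i).obj (KRR.twF n Y (-(i : ℤ)) F)) :=
    Groth.Agent.Helper1.RpushComp.isZero_of_toAb _ (h0.of_iso e1)
  obtain ⟨e2⟩ := Groth.Agent.Helper1.ProjF.nonempty_projFormula_right (KRR.pr n Y) E hE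
    (KRR.twF n Y (-(i : ℤ)) F) i
  have h2 : IsZero ((Coh.Rpush (KRR.pr n Y) i).obj (CohB1.tensorMod (KRR.twF n Y (-(i : ℤ)) F)
      ((Scheme.Modules.pullback (KRR.pr n Y)).obj E))) :=
    ((Groth.Agent.Helper1.ProjF.tensR E).map_isZero h1).of_iso e2.symm
  obtain ⟨e3⟩ := Groth.Agent.Helper1.RpushComp.nonempty_iso (KRR.pr n Y)
    (CohB1.tensorMod (KRR.twF n Y (-(i : ℤ)) F) ((Scheme.Modules.pullback (KRR.pr n Y)).obj E)) i
  have h3 : IsZero ((Coh.RpushAb (KRR.pr n Y) i).obj (Coh.toAb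
      (CohB1.tensorMod (KRR.twF n Y (-(i : ℤ)) F)
        ((Scheme.Modules.pullback (KRR.pr n Y)).obj E)))) :=
    ((SheafOfModules.toSheaf Y.ringCatSheaf).map_isZero h2).of_iso e3.symm
  have ea : KRR.twF n Y (-(i : ℤ))
      (CohB1.tensorMod F ((Scheme.Modules.pullback (KRR.pr n Y)).obj E)) ≅
      CohB1.tensorMod (KRR.twF n Y (-(i : ℤ)) F) ((Scheme.Modules.pullback (KRR.pr n Y)).obj E) :=
    (Groth.Agent.Helper1.ProjSerre.tensorModAssoc (Twist.twistOver n Y (-(i : ℤ))) F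
      ((Scheme.Modules.pullback (KRR.pr n Y)).obj E)).symm
  exact h3.of_iso ((Coh.RpushAb (KRR.pr n Y) i).mapIso
    ((SheafOfModules.toSheaf (KRR.PY n Y).ringCatSheaf).mapIso ea))

variable {KP : Type v} {KY : Type v} [CommRing KP] [LambdaRing.LambdaOps KP]
  [CommRing KY] [LambdaRing.LambdaOps KY]
  (PP : LambdaRing.PosStructure KP) (φP : SGA6.Kvb (KRR.PY n Y) →+ KP)
  (hKP : KRR.IsModel (KRR.PY n Y) KP PP φP)
  (PYs : LambdaRing.PosStructure KY) (φY : SGA6.Kvb Y →+ KY) (hKY : KRR.IsModel Y KY PYs φY)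
  (g : KP →+ KY) (hg : KRR.IsPushPr n Y φP φY g) (q : KY →+ KP)
  (hq : KRR.IsPull (KRR.pr n Y) φY φP q)

include hKP hKY hg hq in
theorem proj_gen [AlgebraicGeometry.IsNoetherian Y] (F : (KRR.PY n Y).Modules) (hF : P0 n Y F)
    (E : Y.Modules) (hE : FlatMod.IsFinLocFree E) :
    g (φP (KRR.cl (KRR.PY n Y) F) * q (φY (KRR.cl Y E))) =
      g (φP (KRR.cl (KRR.PY n Y) F)) * φY (KRR.cl Y E) := by
  have hpE : FlatMod.IsFinLocFree ((Scheme.Modules.pullback (KRR.pr n Y)).obj E) :=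
    Groth.Agent.Lib.Helper5.PerfPull.isFinLocFree_pullback (KRR.pr n Y) E hE
  have hT : FlatMod.IsFinLocFree
      (((DCoh.tensorBi (X := KRR.PY n Y)).obj F).obj
        ((Scheme.Modules.pullback (KRR.pr n Y)).obj E)) :=
    Groth.Agent.Lib.Helper5.LTenFlf.isFinLocFree_tensor F _ hF.1 hpE
  have hTr := isRegSheaf_tensor_pullback n Y F hF.2 E hE
  have hpF : FlatMod.IsFinLocFree ((Scheme.Modules.pushforward (KRR.pr n Y)).obj F) :=
    KrrE.s3756 n Y F hF.1 hF.2
  haveI := Groth.Agent.Helper1.ProjF.isIso_projHom (KRR.pr n Y) E hE F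
  have e := asIso (Groth.Agent.Helper1.ProjF.projHom (KRR.pr n Y) E F)
  have hTE : FlatMod.IsFinLocFree
      (((DCoh.tensorBi (X := Y)).obj ((Scheme.Modules.pushforward (KRR.pr n Y)).obj F)).obj E) :=
    Groth.Agent.Lib.Helper5.LTenFlf.isFinLocFree_tensor _ E hpF hE
  have hcl : KRR.cl Y (((DCoh.tensorBi (X := Y)).obj
      ((Scheme.Modules.pushforward (KRR.pr n Y)).obj F)).obj E) =
      KRR.cl Y ((Scheme.Modules.pushforward (KRR.pr n Y)).obj
        (((DCoh.tensorBi (X := KRR.PY n Y)).obj F).obj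
          ((Scheme.Modules.pullback (KRR.pr n Y)).obj E))) :=
    Groth.Agent.Helper1.EulerK.cl_iso (KRR.vbP Y) e hTE
      (Groth.Agent.Lead.FLF.isFinLocFree_of_iso e hTE)
      (Groth.Agent.Lib.Helper5.RpushOpen.isFinLocFree_of_isZero _ (isZero_zero _))
  rw [hq E hE, hKP.map_mul F _ hF.1 hpE, hg _ hT hTr, ← hcl, ← hKY.map_mul _ E hpF hE,
    hg F hF.1 hF.2]

include hKP hKY hg hq in
theorem s3762 [AlgebraicGeometry.IsNoetherian Y] (x : KP) (y : KY) :
    g (x * q y) = g x * y := by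
  -- additivity in `y`
  have step2 : ∀ (F : (KRR.PY n Y).Modules), P0 n Y F → ∀ y : KY,
      g (φP (KRR.cl (KRR.PY n Y) F) * q y) = g (φP (KRR.cl (KRR.PY n Y) F)) * y := by
    intro F hF y
    have h : (g.comp ((AddMonoidHom.mulLeft (φP (KRR.cl (KRR.PY n Y) F))).comp q)).comp φY =
        (AddMonoidHom.mulLeft (g (φP (KRR.cl (KRR.PY n Y) F)))).comp φY := by
      apply k0_hom_ext (fun M : Y.Modules => FlatMod.IsFinLocFree M)
      intro E hE
      exact proj_gen n Y PP φP hKP PYs φY hKY g hg q hq F hF E hE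
    obtain ⟨a, rfl⟩ := hKY.bijective.2 y
    exact DFunLike.congr_fun h a
  -- additivity in `x`
  have h : ((g.comp (AddMonoidHom.mulRight (q y))).comp φP).comp (Phi0 n Y) =
      (((AddMonoidHom.mulRight y).comp g).comp φP).comp (Phi0 n Y) := by
    apply k0_hom_ext (P0 n Y)
    intro M hM
    change g (φP (Phi0 n Y (KZero.clSub (P0 n Y) M)) * q y) =
      g (φP (Phi0 n Y (KZero.clSub (P0 n Y) M))) * y
    rw [Phi0_cl n Y M hM]
    exact step2 M hM y
  obtain ⟨a, rfl⟩ := hKP.bijective.2 x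
  obtain ⟨z, rfl⟩ := (Phi0_bijective n Y).2 a
  exact DFunLike.congr_fun h z

end Proj

end Groth.Agent.Helper1.RegK
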