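import Mathlib
import Groth.Prelude.Def_KRR
import Groth.Agent.Lib.Helper1.RegK7
import Groth.Agent.Lib.Helper1.RegK4
import Groth.Agent.Lib.Lead.PullTensorAll

/-!
# Base change for `p_K` along `P^n_{Y₁} ⟶ P^n_Y` (helper1, S3800)

Checked on the generators `[O(-k) ⊗ p^* T]` of `K(P^n_Y)`.
-/

set_option backward.isDefEq.respectTransparency.types false
set_option synthInstance.maxHeartbeats 400000
set_option maxHeartbeats 1000000
set_option autoImplicit false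
set_option linter.unusedSectionVars false
set_option linter.style.haveILetI false
set_option linter.unusedVariables false

universe v u
open CategoryTheory CategoryTheory.Limits AlgebraicGeometry
open Groth.Agent.Helper1.KPull Groth.Agent.Lib.Helper4

namespace Groth.Agent.Helper1.RegK

section PushGen
variable (n : ℕ) (Y : Scheme.{u})

variable {KP : Type v} {KY : Type v} [CommRing KP] [LambdaRing.LambdaOps KP]
  [CommRing KY] [LambdaRing.LambdaOps KY]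
  (PP : LambdaRing.PosStructure KP) (φP : SGA6.Kvb (KRR.PY n Y) →+ KP)
  (hKP : KRR.IsModel (KRR.PY n Y) KP PP φP)
  (PYs : LambdaRing.PosStructure KY) (φY : SGA6.Kvb Y →+ KY) (hKY : KRR.IsModel Y KY PYs φY)
  (g : KP →+ KY) (hg : KRR.IsPushPr n Y φP φY g)

theorem twF_eq (d : ℤ) (M : (KRR.PY n Y).Modules) :
    KRR.twF n Y d M = CohB1.tensorMod (Twist.twistOver n Y d) M := rfl

theorem tb_eq (A M : (KRR.PY n Y).Modules) :
    ((DCoh.tensorBi (X := KRR.PY n Y)).obj A).obj M = CohB1.tensorMod A M := rfl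

theorem iso_gen (d : ℤ) (M : (KRR.PY n Y).Modules) :
    Nonempty (CohB1.tensorMod (CohB1.tensorMod (Twist.twistOver n Y d) (Coh.structureModule (KRR.PY n Y))) M ≅
      CohB1.tensorMod (Twist.twistOver n Y d) M) := by
  obtain ⟨e1⟩ := Groth.Agent.Helper1.TwistAmpleOpen.nonempty_tensorMod_unit_iso
    (Twist.twistOver n Y d)
  exact ⟨Groth.Agent.Lead.TilT.tensorModCongr
      (KrrA.tensorModComm (Twist.twistOver n Y d)
        (Coh.structureModule (KRR.PY n Y)) ≪≫ e1)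
      (Iso.refl _)⟩

theorem iso_gen' (d : ℤ) (M : (KRR.PY n Y).Modules) :
    Nonempty (((DCoh.tensorBi (X := KRR.PY n Y)).obj (KRR.twF n Y d (Coh.structureModule (KRR.PY n Y)))).obj M ≅
      KRR.twF n Y d M) := by
  rw [tb_eq, twF_eq, twF_eq]
  exact iso_gen n Y d M

include hKP hKY hg in
theorem push_gen [AlgebraicGeometry.IsNoetherian Y] (k : ℕ) (hk : k ≤ n) (T : Y.Modules)
    (hT : FlatMod.IsFinLocFree T) :
    g (φP (KRR.cl (KRR.PY n Y) (KRR.twF n Y (-(k : ℤ))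
      ((Scheme.Modules.pullback (KRR.pr n Y)).obj T)))) =
      if k = 0 then φY (KRR.cl Y T) else 0 := by
  let q : KY →+ KP := KPull.gK (KRR.pr n Y) φP φY hKY.bijective
  have hq : KRR.IsPull (KRR.pr n Y) φY φP q :=
    KPull.gK_spec (KRR.pr n Y) φP φY hKY.bijective
  have hO : FlatMod.IsFinLocFree (Coh.structureModule (KRR.PY n Y)) := flf_O n Y
  have hOd : FlatMod.IsFinLocFree
      (KRR.twF n Y (-(k : ℤ)) (Coh.structureModule (KRR.PY n Y))) :=
    KrrF.isFinLocFree_twF n Y _ _ hO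
  have hpT : FlatMod.IsFinLocFree ((Scheme.Modules.pullback (KRR.pr n Y)).obj T) :=
    Groth.Agent.Lib.Helper5.PerfPull.isFinLocFree_pullback (KRR.pr n Y) T hT
  have hG : FlatMod.IsFinLocFree
      (KRR.twF n Y (-(k : ℤ)) ((Scheme.Modules.pullback (KRR.pr n Y)).obj T)) :=
    KrrF.isFinLocFree_twF n Y _ _ hpT
  have hGG : FlatMod.IsFinLocFree
      (((DCoh.tensorBi (X := KRR.PY n Y)).obj (KRR.twF n Y (-(k : ℤ)) (Coh.structureModule (KRR.PY n Y)))).obj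
        ((Scheme.Modules.pullback (KRR.pr n Y)).obj T)) :=
    Groth.Agent.Lib.Helper5.LTenFlf.isFinLocFree_tensor _ _ hOd hpT
  have hm := hKP.map_mul _ _ hOd hpT
  obtain ⟨e⟩ := iso_gen' n Y (-(k : ℤ)) ((Scheme.Modules.pullback (KRR.pr n Y)).obj T)
  have hcl : KRR.cl (KRR.PY n Y) (((DCoh.tensorBi (X := KRR.PY n Y)).obj
      (KRR.twF n Y (-(k : ℤ)) (Coh.structureModule (KRR.PY n Y)))).obj
        ((Scheme.Modules.pullback (KRR.pr n Y)).obj T)) =
      KRR.cl (KRR.PY n Y) (KRR.twF n Y (-(k : ℤ))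
        ((Scheme.Modules.pullback (KRR.pr n Y)).obj T)) :=
    Groth.Agent.Helper1.EulerK.cl_iso (KRR.vbP (KRR.PY n Y)) e hGG hG
      (Groth.Agent.Lib.Helper5.RpushOpen.isFinLocFree_of_isZero _ (isZero_zero _))
  have hmul : φP (KRR.cl (KRR.PY n Y) (KRR.twF n Y (-(k : ℤ))
      ((Scheme.Modules.pullback (KRR.pr n Y)).obj T))) =
      φP (KRR.cl (KRR.PY n Y) (KRR.twF n Y (-(k : ℤ))
        (Coh.structureModule (KRR.PY n Y)))) * q (φY (KRR.cl Y T)) := by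
    rw [hq T hT, hm, hcl]
  rw [hmul, s3762 n Y PP φP hKP PYs φY hKY g hg q hq]
  by_cases h0 : k = 0
  · subst h0
    rw [if_pos rfl]
    have h1 := s3760 n Y φP φY g hg hKY.map_one 0
    have hcast : (-((0 : ℕ) : ℤ)) = ((0 : ℕ) : ℤ) := by simp
    rw [hcast, h1]
    simp
  · rw [if_neg h0, s3761 n Y φP φY g hg k (by omega) hk, zero_mul]

end PushGen

section PullGen
variable (n : ℕ) {Y Y₁ : Scheme.{u}} (φ : Y₁ ⟶ Y)

theorem psm_fst : KRR.projSpaceMap n φ ≫ fstY n Y = fstY n Y₁ := by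
  unfold KRR.projSpaceMap
  exact (pullback.lift_fst _ _ _).trans (Category.comp_id _)

theorem psm_snd : KRR.projSpaceMap n φ ≫ KRR.pr n Y = KRR.pr n Y₁ ≫ φ := by
  unfold KRR.projSpaceMap
  exact pullback.lift_snd _ _ _

/-- `ψ^* (O(d) ⊗ p^* T) ≅ O(d) ⊗ p₁^* φ^* T` -/
theorem pull_gen (d : ℤ) (T : Y.Modules) :
    Nonempty ((Scheme.Modules.pullback (KRR.projSpaceMap n φ)).obj
        (KRR.twF n Y d ((Scheme.Modules.pullback (KRR.pr n Y)).obj T)) ≅
      KRR.twF n Y₁ d ((Scheme.Modules.pullback (KRR.pr n Y₁)).obj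
        ((Scheme.Modules.pullback φ).obj T))) := by
  obtain ⟨e0⟩ := Groth.Agent.Lead.PullTensorAll.nonempty_pullback_tensor_iso
    (KRR.projSpaceMap n φ) (Twist.twistOver n Y d)
    ((Scheme.Modules.pullback (KRR.pr n Y)).obj T)
  let e1 : (Scheme.Modules.pullback (KRR.projSpaceMap n φ)).obj (Twist.twistOver n Y d) ≅
      Twist.twistOver n Y₁ d :=
    (Scheme.Modules.pullbackComp (KRR.projSpaceMap n φ) (fstY n Y)).app
        (Twist.twistProjSpace n (ULift.{u} ℤ) d) ≪≫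
      (Scheme.Modules.pullbackCongr (psm_fst n φ)).app (Twist.twistProjSpace n (ULift.{u} ℤ) d)
  let e2 : (Scheme.Modules.pullback (KRR.projSpaceMap n φ)).obj
        ((Scheme.Modules.pullback (KRR.pr n Y)).obj T) ≅
      (Scheme.Modules.pullback (KRR.pr n Y₁)).obj ((Scheme.Modules.pullback φ).obj T) :=
    (Scheme.Modules.pullbackComp (KRR.projSpaceMap n φ) (KRR.pr n Y)).app T ≪≫
      (Scheme.Modules.pullbackCongr (psm_snd n φ)).app T ≪≫
      ((Scheme.Modules.pullbackComp (KRR.pr n Y₁) φ).app T).symm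
  exact ⟨e0 ≪≫ Groth.Agent.Lead.TilT.tensorModCongr e1 e2⟩

end PullGen

section Main

theorem s3800 (n : ℕ) {Y Y₁ : Scheme.{u}} [AlgebraicGeometry.IsNoetherian Y]
    [AlgebraicGeometry.IsNoetherian Y₁]
    (φ : Y₁ ⟶ Y)
    (KP : Type v) [CommRing KP] [LambdaRing.LambdaOps KP] (PP : LambdaRing.PosStructure KP) (φP : SGA6.Kvb (KRR.PY n Y) →+ KP) (hKP : KRR.IsModel (KRR.PY n Y) KP PP φP)
    (KY : Type v) [CommRing KY] [LambdaRing.LambdaOps KY] (PY : LambdaRing.PosStructure KY) (φY : SGA6.Kvb Y →+ KY) (hKY : KRR.IsModel Y KY PY φY)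
    (KP₁ : Type v) [CommRing KP₁] [LambdaRing.LambdaOps KP₁] (PP₁ : LambdaRing.PosStructure KP₁) (φP₁ : SGA6.Kvb (KRR.PY n Y₁) →+ KP₁) (hKP₁ : KRR.IsModel (KRR.PY n Y₁) KP₁ PP₁ φP₁)
    (KY₁ : Type v) [CommRing KY₁] [LambdaRing.LambdaOps KY₁] (PY₁ : LambdaRing.PosStructure KY₁) (φY₁ : SGA6.Kvb Y₁ →+ KY₁) (hKY₁ : KRR.IsModel Y₁ KY₁ PY₁ φY₁)
    (gφ : KY →+ KY₁) (hgφ : KRR.IsPull φ φY φY₁ gφ)
    (gψ : KP →+ KP₁) (hgψ : KRR.IsPull (KRR.projSpaceMap n φ) φP φP₁ gψ)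
    (b : KP →+ KY) (hb : KRR.IsPushPr n Y φP φY b) (b₁ : KP₁ →+ KY₁) (hb₁ : KRR.IsPushPr n Y₁ φP₁ φY₁ b₁)
    (z : KP) : gφ (b z) = b₁ (gψ z) := by
  have h : (gφ.comp b).comp φP = (b₁.comp gψ).comp φP := by
    apply gen_hom_ext n Y
    intro k T hk hT
    change gφ (b (φP (KRR.cl (KRR.PY n Y) (KRR.twF n Y (-(k : ℤ))
        ((Scheme.Modules.pullback (KRR.pr n Y)).obj T))))) =
      b₁ (gψ (φP (KRR.cl (KRR.PY n Y) (KRR.twF n Y (-(k : ℤ))
        ((Scheme.Modules.pullback (KRR.pr n Y)).obj T)))))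
    have hpT : FlatMod.IsFinLocFree ((Scheme.Modules.pullback (KRR.pr n Y)).obj T) :=
      Groth.Agent.Lib.Helper5.PerfPull.isFinLocFree_pullback (KRR.pr n Y) T hT
    have hG : FlatMod.IsFinLocFree
        (KRR.twF n Y (-(k : ℤ)) ((Scheme.Modules.pullback (KRR.pr n Y)).obj T)) :=
      KrrF.isFinLocFree_twF n Y _ _ hpT
    have hφT : FlatMod.IsFinLocFree ((Scheme.Modules.pullback φ).obj T) :=
      Groth.Agent.Lib.Helper5.PerfPull.isFinLocFree_pullback φ T hT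
    have hG1 : FlatMod.IsFinLocFree (KRR.twF n Y₁ (-(k : ℤ))
        ((Scheme.Modules.pullback (KRR.pr n Y₁)).obj ((Scheme.Modules.pullback φ).obj T))) :=
      KrrF.isFinLocFree_twF n Y₁ _ _
        (Groth.Agent.Lib.Helper5.PerfPull.isFinLocFree_pullback (KRR.pr n Y₁) _ hφT)
    obtain ⟨e⟩ := pull_gen n φ (-(k : ℤ)) T
    have hcl : KRR.cl (KRR.PY n Y₁) ((Scheme.Modules.pullback (KRR.projSpaceMap n φ)).obj
        (KRR.twF n Y (-(k : ℤ)) ((Scheme.Modules.pullback (KRR.pr n Y)).obj T))) =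
        KRR.cl (KRR.PY n Y₁) (KRR.twF n Y₁ (-(k : ℤ))
          ((Scheme.Modules.pullback (KRR.pr n Y₁)).obj ((Scheme.Modules.pullback φ).obj T))) :=
      Groth.Agent.Helper1.EulerK.cl_iso (KRR.vbP (KRR.PY n Y₁)) e
        (Groth.Agent.Lib.Helper5.PerfPull.isFinLocFree_pullback (KRR.projSpaceMap n φ) _ hG) hG1
        (Groth.Agent.Lib.Helper5.RpushOpen.isFinLocFree_of_isZero _ (isZero_zero _))
    rw [push_gen n Y PP φP hKP PY φY hKY b hb k hk T hT, hgψ _ hG, hcl,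
      push_gen n Y₁ PP₁ φP₁ hKP₁ PY₁ φY₁ hKY₁ b₁ hb₁ k hk _ hφT]
    by_cases h0 : k = 0
    · rw [if_pos h0, if_pos h0, hgφ T hT]
    · rw [if_neg h0, if_neg h0, map_zero]
  obtain ⟨w, rfl⟩ := hKP.bijective.2 z
  exact DFunLike.congr_fun h w

end Main

end Groth.Agent.Helper1.RegK
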