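import Mathlib
import Groth.Prelude.Def_KRR
import Groth.Agent.Lib.Helper1.RegK8
import Groth.Agent.Lib.Lead.BCU4
import Groth.Agent.Lib.Helper1.PFrame3

/-!
# The unit `T ⟶ f_* f^* T` at a finite locally free module (helper1)

It is an isomorphism as soon as `O_S → f_* O_X` is bijective on affine opens.
-/

set_option backward.isDefEq.respectTransparency.types false
set_option synthInstance.maxHeartbeats 400000
set_option maxHeartbeats 1000000
set_option autoImplicit false
set_option linter.unusedSectionVars false
set_option linter.style.haveILetI false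
set_option linter.unusedVariables false

universe v u
open CategoryTheory CategoryTheory.Limits AlgebraicGeometry TopologicalSpace Opposite

namespace Groth.Agent.Helper1.RegK

open Groth.Agent.Helper1.QcCech Groth.Agent.Helper1.PFrame Groth.Agent.Helper1.PullSec

section UnitIso
variable {X S : Scheme.{u}} (f : X ⟶ S)

theorem σ_sum' (M : S.Modules) (W : S.Opens) {ι : Type*} (s : Finset ι)
    (m : ι → Γ(M, W)) : σ f M W (∑ i ∈ s, m i) = ∑ i ∈ s, σ f M W (m i) := map_sum _ _ _

theorem bijective_unit_app {m : ℕ} (T : S.Modules) (W V : S.Opens) (hVW : V ≤ W)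
    (a : Fin m → Γ(T, W)) (ha : IsFrame T W a) (hfV : Function.Bijective (f.app V)) :
    Function.Bijective
      (((Scheme.Modules.pullbackPushforwardAdjunction f).unit.app T).app V) := by
  have hB := (ha.isBasisOn.res hVW).bijective_self
  have hB' := (((ha.pullback f).isBasisOn).res (f.preimage_mono hVW)).bijective_self
  have hF : Function.Bijective
      (fun (r : Fin m → Γ(S, V)) (i : Fin m) => (f.app V).hom (r i)) := by
    constructor
    · intro r r' h
      funext i
      exact hfV.1 (congrFun h i)
    · intro r'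
      choose r hr using fun i => hfV.2 (r' i)
      exact ⟨r, funext hr⟩
  have hcomp : ∀ r : Fin m → Γ(S, V),
      σ f T V (∑ i, r i • res T hVW (a i)) =
        ∑ i, (f.app V).hom (r i) • res _ (f.preimage_mono hVW) (σ f T W (a i)) := by
    intro r
    rw [σ_sum']
    refine Finset.sum_congr rfl (fun i _ => ?_)
    rw [σ_smul, ← σ_res]
  have h1 : Function.Bijective ((fun t => σ f T V t) ∘
      (fun r : Fin m → Γ(S, V) => ∑ i, r i • res T hVW (a i))) := by
    have h2 : ((fun t => σ f T V t) ∘
        (fun r : Fin m → Γ(S, V) => ∑ i, r i • res T hVW (a i))) =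
        (fun r' : Fin m → Γ(X, f ⁻¹ᵁ V) =>
          ∑ i, r' i • res _ (f.preimage_mono hVW) (σ f T W (a i))) ∘
        (fun (r : Fin m → Γ(S, V)) (i : Fin m) => (f.app V).hom (r i)) := by
      funext r
      exact hcomp r
    rw [h2]
    exact hB'.comp hF
  exact (Function.Bijective.of_comp_iff _ hB).mp h1

theorem isIso_unit_of_flf
    (hf : ∀ U : S.Opens, IsAffineOpen U → Function.Bijective (f.app U))
    (T : S.Modules) (hT : FlatMod.IsFinLocFree T) :
    IsIso ((Scheme.Modules.pullbackPushforwardAdjunction f).unit.app T) := by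
  refine Groth.Agent.Lead.BCU.isIso_of_bijective_nhds _ ?_
  intro U x hx
  obtain ⟨W, m, a, hxW, ha⟩ := exists_isFrame hT x
  obtain ⟨_, ⟨V, hV, rfl⟩, hxV, hVUW⟩ := S.isBasis_affineOpens.exists_subset_of_mem_open
    (show x ∈ (U ⊓ W : S.Opens) from ⟨hx, hxW⟩) (U ⊓ W).2
  have hVU : V ≤ U := fun y hy => (hVUW hy).1
  have hVW : V ≤ W := fun y hy => (hVUW hy).2
  exact ⟨V, hVU, hxV, bijective_unit_app f T W V hVW a ha (hf V hV)⟩

end UnitIso

end Groth.Agent.Helper1.RegK
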