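import Mathlib
import Groth.Prelude.Def_KRR
import Groth.Agent.Lib.Helper1.RegK9

/-!
# One-degree vanishing of `R^i p_*` on `P^n_Y`, and pull-back along `P^n_{Y₁} ⟶ P^n_Y` (helper1)
-/

set_option backward.isDefEq.respectTransparency.types false
set_option synthInstance.maxHeartbeats 400000
set_option maxHeartbeats 1000000
set_option autoImplicit false
set_option linter.unusedSectionVars false
set_option linter.style.haveILetI false
set_option linter.unusedVariables false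

universe v u
open CategoryTheory CategoryTheory.Limits AlgebraicGeometry
open Groth.Agent.Helper1.KPull Groth.Agent.Lib.Helper4 Groth.Agent.Helper1

namespace Groth.Agent.Helper1.RegK

section Van
variable (n : ℕ) (Y : Scheme.{u})

/-- `R^i p_* G = 0` -/
def Van (i : ℕ) (G : (KRR.PY n Y).Modules) : Prop :=
  IsZero ((Coh.RpushAb (KRR.pr n Y) i).obj (Coh.toAb G))

theorem van_iso {G G' : (KRR.PY n Y).Modules} (e : G ≅ G') (i : ℕ) (h : Van n Y i G) :
    Van n Y i G' :=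
  h.of_iso ((Coh.RpushAb (KRR.pr n Y) i).mapIso
    ((SheafOfModules.toSheaf (KRR.PY n Y).ringCatSheaf).mapIso e.symm))

theorem van_of_isZero (G : (KRR.PY n Y).Modules) (hG : IsZero G) (i : ℕ) : Van n Y i G :=
  (Coh.RpushAb (KRR.pr n Y) i).map_isZero
    ((SheafOfModules.toSheaf (KRR.PY n Y).ringCatSheaf).map_isZero hG)

theorem van_chart (G : (KRR.PY n Y).Modules) [G.IsQuasicoherent] (i : ℕ) (h : Van n Y i G)
    (W : Y.Opens) (hW : IsAffineOpen W) :
    Subsingleton (Coh.HH (CohB1.ProjSpace n Γ(Y, W)) (G.restrict (KrrB.jW n Y W hW)) i) :=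
  (KrrD.isZero_rpushAb_iff n Y G i).1 h W hW

theorem van_X₃ (S : ShortComplex (KRR.PY n Y).Modules) (hS : S.ShortExact)
    (q1 : S.X₁.IsQuasicoherent) (q2 : S.X₂.IsQuasicoherent) (q3 : S.X₃.IsQuasicoherent)
    (i : ℕ) (h2 : Van n Y i S.X₂) (h1 : Van n Y (i + 1) S.X₁) : Van n Y i S.X₃ := by
  haveI := q1
  haveI := q2
  haveI := q3
  unfold Van
  rw [KrrD.isZero_rpushAb_iff]
  intro W hW
  exact SerreVan.subsingleton_X₃ Γ(Y, W) (X := CohB1.ProjSpace n Γ(Y, W))
    (KrrH.restrict_shortExact n Y hS W hW) i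
    (van_chart n Y S.X₂ i h2 W hW) (van_chart n Y S.X₁ (i + 1) h1 W hW)

theorem van_tensor_pullback (M : (KRR.PY n Y).Modules) (i : ℕ) (h0 : Van n Y i M)
    (E : Y.Modules) (hE : FlatMod.IsFinLocFree E) :
    Van n Y i (CohB1.tensorMod M ((Scheme.Modules.pullback (KRR.pr n Y)).obj E)) := by
  haveI : HasInjectiveResolutions (KRR.PY n Y).Modules := inferInstance
  obtain ⟨e1⟩ := Groth.Agent.Helper1.RpushComp.nonempty_iso (KRR.pr n Y) M i
  have h1 : IsZero ((Coh.Rpush (KRR.pr n Y) i).obj M) :=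
    Groth.Agent.Helper1.RpushComp.isZero_of_toAb _ (h0.of_iso e1)
  obtain ⟨e2⟩ := Groth.Agent.Helper1.ProjF.nonempty_projFormula_right (KRR.pr n Y) E hE M i
  have h2 : IsZero ((Coh.Rpush (KRR.pr n Y) i).obj (CohB1.tensorMod M
      ((Scheme.Modules.pullback (KRR.pr n Y)).obj E))) :=
    ((Groth.Agent.Helper1.ProjF.tensR E).map_isZero h1).of_iso e2.symm
  obtain ⟨e3⟩ := Groth.Agent.Helper1.RpushComp.nonempty_iso (KRR.pr n Y)
    (CohB1.tensorMod M ((Scheme.Modules.pullback (KRR.pr n Y)).obj E)) i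
  exact ((SheafOfModules.toSheaf Y.ringCatSheaf).map_isZero h2).of_iso e3.symm

theorem van_zero_of_push (G : (KRR.PY n Y).Modules)
    (h : IsZero ((Scheme.Modules.pushforward (KRR.pr n Y)).obj G)) : Van n Y 0 G := by
  haveI : HasInjectiveResolutions (KRR.PY n Y).Modules := inferInstance
  obtain ⟨e1⟩ := Groth.Agent.Helper1.RpushComp.nonempty_iso (KRR.pr n Y) G 0
  have h1 : IsZero ((Coh.Rpush (KRR.pr n Y) 0).obj G) :=
    h.of_iso ((Functor.rightDerivedZeroIsoSelf (Scheme.Modules.pushforward (KRR.pr n Y))).app G)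
  exact ((SheafOfModules.toSheaf Y.ringCatSheaf).map_isZero h1).of_iso e1.symm

theorem push_isZero_of_van (G : (KRR.PY n Y).Modules) (h : Van n Y 0 G) :
    IsZero ((Scheme.Modules.pushforward (KRR.pr n Y)).obj G) := by
  haveI : HasInjectiveResolutions (KRR.PY n Y).Modules := inferInstance
  obtain ⟨e1⟩ := Groth.Agent.Helper1.RpushComp.nonempty_iso (KRR.pr n Y) G 0
  have h1 : IsZero ((Coh.Rpush (KRR.pr n Y) 0).obj G) :=
    Groth.Agent.Helper1.RpushComp.isZero_of_toAb _ (h.of_iso e1)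
  exact h1.of_iso
    ((Functor.rightDerivedZeroIsoSelf (Scheme.Modules.pushforward (KRR.pr n Y))).app G).symm

theorem van_tw_O (d : ℤ) (hd : -(n : ℤ) ≤ d) (hd0 : d < 0) (i : ℕ) :
    Van n Y i (KRR.twF n Y d (Coh.structureModule (KRR.PY n Y))) := by
  by_cases hi : i = 0
  · subst hi
    exact van_zero_of_push n Y _ (isZero_push_tw_O n Y d hd hd0)
  · exact acyc_tw_O n Y d hd i (by omega)

theorem van_tw_pullback (d : ℤ) (hd : -(n : ℤ) ≤ d) (hd0 : d < 0) (T : Y.Modules)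
    (hT : FlatMod.IsFinLocFree T) (i : ℕ) :
    Van n Y i (KRR.twF n Y d ((Scheme.Modules.pullback (KRR.pr n Y)).obj T)) := by
  have h1 := van_tensor_pullback n Y _ i (van_tw_O n Y d hd hd0 i) T hT
  obtain ⟨e⟩ := iso_gen' n Y d ((Scheme.Modules.pullback (KRR.pr n Y)).obj T)
  exact van_iso n Y e i h1

end Van

section PullIso
variable (n : ℕ) {Y Y₁ : Scheme.{u}} (φ : Y₁ ⟶ Y)

/-- `ψ^* O_{P^n_Y}(d) ≅ O_{P^n_{Y₁}}(d)` -/
noncomputable def pullTwistIso (d : ℤ) :
    (Scheme.Modules.pullback (KRR.projSpaceMap n φ)).obj (Twist.twistOver n Y d) ≅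
      Twist.twistOver n Y₁ d :=
  (Scheme.Modules.pullbackComp (KRR.projSpaceMap n φ) (fstY n Y)).app
      (Twist.twistProjSpace n (ULift.{u} ℤ) d) ≪≫
    (Scheme.Modules.pullbackCongr (psm_fst n φ)).app (Twist.twistProjSpace n (ULift.{u} ℤ) d)

/-- `ψ^* p^* T ≅ p₁^* φ^* T` -/
noncomputable def pullBaseIso (T : Y.Modules) :
    (Scheme.Modules.pullback (KRR.projSpaceMap n φ)).obj
        ((Scheme.Modules.pullback (KRR.pr n Y)).obj T) ≅
      (Scheme.Modules.pullback (KRR.pr n Y₁)).obj ((Scheme.Modules.pullback φ).obj T) :=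
  (Scheme.Modules.pullbackComp (KRR.projSpaceMap n φ) (KRR.pr n Y)).app T ≪≫
    (Scheme.Modules.pullbackCongr (psm_snd n φ)).app T ≪≫
    ((Scheme.Modules.pullbackComp (KRR.pr n Y₁) φ).app T).symm

/-- `ψ^* (M(d)) ≅ (ψ^* M)(d)` -/
theorem pull_tw (d : ℤ) (M : (KRR.PY n Y).Modules) :
    Nonempty ((Scheme.Modules.pullback (KRR.projSpaceMap n φ)).obj (KRR.twF n Y d M) ≅
      KRR.twF n Y₁ d ((Scheme.Modules.pullback (KRR.projSpaceMap n φ)).obj M)) := by
  obtain ⟨e0⟩ := Groth.Agent.Lead.PullTensorAll.nonempty_pullback_tensor_iso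
    (KRR.projSpaceMap n φ) (Twist.twistOver n Y d) M
  exact ⟨e0 ≪≫ Groth.Agent.Lead.TilT.tensorModCongr (pullTwistIso n φ d) (Iso.refl _)⟩

end PullIso

end Groth.Agent.Helper1.RegK
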