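import Mathlib
import Groth.Prelude.Def_KRR
import Groth.Agent.Lib.Helper1.RegK10

/-!
# Base change for the direct image of a regular bundle on `P^n_Y` (helper1, S3770)
-/

set_option backward.isDefEq.respectTransparency.types false
set_option synthInstance.maxHeartbeats 400000
set_option maxHeartbeats 1000000
set_option autoImplicit false
set_option linter.unusedSectionVars false
set_option linter.style.haveILetI false
set_option linter.unusedVariables false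

universe v u
open CategoryTheory CategoryTheory.Limits AlgebraicGeometry
open Groth.Agent.Helper1.KPull Groth.Agent.Lib.Helper4 Groth.Agent.Helper1

namespace Groth.Agent.Helper1.RegK

section Chain
variable (n : ℕ) {Y Y₁ : Scheme.{u}} (φ : Y₁ ⟶ Y) (s₀ : KrrM.Stage n Y)

/-- the counit sequence of the `k`-th stage of the canonical resolution -/
noncomputable abbrev Sk (k : ℕ) : ShortComplex (KRR.PY n Y).Modules :=
  ShortComplex.mk (kernel.ι (KrrM.cou n Y (KrrM.stage n Y s₀ k).G))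
    (KrrM.cou n Y (KrrM.stage n Y s₀ k).G) (kernel.condition _)

theorem Sk_shortExact (k : ℕ) : (Sk n s₀ k).ShortExact := by
  haveI := KrrM.epi_cou n Y (KrrM.stage n Y s₀ k)
  exact SerreFin.kerSeq_shortExact _

theorem flf_push_stage [AlgebraicGeometry.IsNoetherian Y] (h0 : FlatMod.IsFinLocFree s₀.G)
    (k : ℕ) : FlatMod.IsFinLocFree
      ((Scheme.Modules.pushforward (KRR.pr n Y)).obj (KrrM.stage n Y s₀ k).G) :=
  KrrE.s3756 n Y _ (flf_stage n Y s₀ h0 k) (KrrM.stage n Y s₀ k).reg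

theorem flf_Sk [AlgebraicGeometry.IsNoetherian Y] (h0 : FlatMod.IsFinLocFree s₀.G) (k : ℕ) :
    FlatMod.IsFinLocFree (Sk n s₀ k).X₁ ∧ FlatMod.IsFinLocFree (Sk n s₀ k).X₂ ∧
      FlatMod.IsFinLocFree (Sk n s₀ k).X₃ := by
  haveI := isNoetherian_PY n Y
  have hG := flf_stage n Y s₀ h0 k
  have h2 : FlatMod.IsFinLocFree ((Scheme.Modules.pullback (KRR.pr n Y)).obj
      ((Scheme.Modules.pushforward (KRR.pr n Y)).obj (KrrM.stage n Y s₀ k).G)) :=
    Groth.Agent.Lib.Helper5.PerfPull.isFinLocFree_pullback (KRR.pr n Y) _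
      (flf_push_stage n s₀ h0 k)
  exact ⟨Groth.Agent.Helper1.ResSch.flf_ker (Sk_shortExact n s₀ k) h2 hG, h2, hG⟩

/-- the pulled back counit sequences -/
noncomputable abbrev Sk' (k : ℕ) : ShortComplex (KRR.PY n Y₁).Modules :=
  (Sk n s₀ k).map (Scheme.Modules.pullback (KRR.projSpaceMap n φ))

theorem Sk'_shortExact [AlgebraicGeometry.IsNoetherian Y] (h0 : FlatMod.IsFinLocFree s₀.G)
    (k : ℕ) : (Sk' n φ s₀ k).ShortExact :=
  KPull.shortExact_pullback (KRR.projSpaceMap n φ) (Sk n s₀ k) (Sk_shortExact n s₀ k)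
    (flf_Sk n s₀ h0 k).2.2

theorem flf_Sk' [AlgebraicGeometry.IsNoetherian Y] (h0 : FlatMod.IsFinLocFree s₀.G) (k : ℕ) :
    FlatMod.IsFinLocFree (Sk' n φ s₀ k).X₁ ∧ FlatMod.IsFinLocFree (Sk' n φ s₀ k).X₂ ∧
      FlatMod.IsFinLocFree (Sk' n φ s₀ k).X₃ :=
  ⟨Groth.Agent.Lib.Helper5.PerfPull.isFinLocFree_pullback (KRR.projSpaceMap n φ) _
      (flf_Sk n s₀ h0 k).1,
    Groth.Agent.Lib.Helper5.PerfPull.isFinLocFree_pullback (KRR.projSpaceMap n φ) _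
      (flf_Sk n s₀ h0 k).2.1,
    Groth.Agent.Lib.Helper5.PerfPull.isFinLocFree_pullback (KRR.projSpaceMap n φ) _
      (flf_Sk n s₀ h0 k).2.2⟩

/-- the pull-backs of all the stages are regular -/
theorem reg_pull_stage [AlgebraicGeometry.IsNoetherian Y] (h0 : FlatMod.IsFinLocFree s₀.G) :
    ∀ m k : ℕ, k + m = n + 1 → KRR.IsRegSheaf n Y₁
      ((Scheme.Modules.pullback (KRR.projSpaceMap n φ)).obj (KrrM.stage n Y s₀ k).G) := by
  intro m
  induction m with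
  | zero =>
    intro k hk
    exact isRegSheaf_of_isZero n Y₁ _
      ((Scheme.Modules.pullback (KRR.projSpaceMap n φ)).map_isZero
        (KrrM.isZero_stage_G n Y s₀ k (by omega)))
  | succ m ih =>
    intro k hk
    have hS := Sk'_shortExact n φ s₀ h0 k
    obtain ⟨f1, f2, f3⟩ := flf_Sk' n φ s₀ h0 k
    have hφT : FlatMod.IsFinLocFree ((Scheme.Modules.pullback φ).obj
        ((Scheme.Modules.pushforward (KRR.pr n Y)).obj (KrrM.stage n Y s₀ k).G)) :=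
      Groth.Agent.Lib.Helper5.PerfPull.isFinLocFree_pullback φ _ (flf_push_stage n s₀ h0 k)
    haveI : ((Scheme.Modules.pullback φ).obj
        ((Scheme.Modules.pushforward (KRR.pr n Y)).obj
          (KrrM.stage n Y s₀ k).G)).IsQuasicoherent := qc_of_flf _ hφT
    have hreg₂ : KRR.IsRegSheaf n Y₁ (Sk' n φ s₀ k).X₂ :=
      KrrJ.isRegSheaf_of_iso n Y₁ (pullBaseIso n φ _).symm (KrrI.isRegSheaf_pullback n Y₁ _)
    obtain ⟨e⟩ := pull_tw n φ 1 (KrrL.Kof n Y (KrrM.stage n Y s₀ k).G)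
    have hreg₁ : KRR.IsRegSheaf n Y₁ (KRR.twF n Y₁ 1 (Sk' n φ s₀ k).X₁) :=
      KrrJ.isRegSheaf_of_iso n Y₁ e (ih (k + 1) (by omega))
    exact KrrH.s19432 n Y₁ (Sk' n φ s₀ k) hS (qc_of_flf _ f1) (qc_of_flf _ f2) (qc_of_flf _ f3)
      hreg₂ hreg₁

/-- the descending chain of vanishings -/
theorem van_chain [AlgebraicGeometry.IsNoetherian Y] (h0 : FlatMod.IsFinLocFree s₀.G) :
    ∀ m k : ℕ, k + m = n →
      Van n Y₁ k (KRR.twF n Y₁ (-(k : ℤ)) (Sk' n φ s₀ k).X₁) := by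
  intro m
  induction m with
  | zero =>
    intro k hk
    have hk' : k = n := by omega
    have hz : IsZero (KrrL.Kof n Y (KrrM.stage n Y s₀ k).G) := by
      rw [hk']
      exact KrrM.isZero_Kof_stage n Y s₀
    exact van_of_isZero n Y₁ _ ((KrrM.twFun n Y₁ (-(k : ℤ))).map_isZero
      ((Scheme.Modules.pullback (KRR.projSpaceMap n φ)).map_isZero hz)) k
  | succ m ih =>
    intro k hk
    have hS := Sk'_shortExact n φ s₀ h0 (k + 1)
    have hS2 := KrrM.twFun_shortExact n Y₁ hS (-((k + 1 : ℕ) : ℤ))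
    obtain ⟨f1, f2, f3⟩ := flf_Sk' n φ s₀ h0 (k + 1)
    have q1 := qc_tw n Y₁ _ f1 (-((k + 1 : ℕ) : ℤ))
    have q2 := qc_tw n Y₁ _ f2 (-((k + 1 : ℕ) : ℤ))
    have q3 := qc_tw n Y₁ _ f3 (-((k + 1 : ℕ) : ℤ))
    have h1 : Van n Y₁ (k + 1)
        (KRR.twF n Y₁ (-((k + 1 : ℕ) : ℤ)) (Sk' n φ s₀ (k + 1)).X₁) := ih (k + 1) (by omega)
    have hφT : FlatMod.IsFinLocFree ((Scheme.Modules.pullback φ).obj
        ((Scheme.Modules.pushforward (KRR.pr n Y)).obj (KrrM.stage n Y s₀ (k + 1)).G)) :=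
      Groth.Agent.Lib.Helper5.PerfPull.isFinLocFree_pullback φ _
        (flf_push_stage n s₀ h0 (k + 1))
    have h2 : Van n Y₁ k
        (KRR.twF n Y₁ (-((k + 1 : ℕ) : ℤ)) (Sk' n φ s₀ (k + 1)).X₂) :=
      van_iso n Y₁ ((KrrM.twFun n Y₁ (-((k + 1 : ℕ) : ℤ))).mapIso (pullBaseIso n φ _).symm) k
        (van_tw_pullback n Y₁ (-((k + 1 : ℕ) : ℤ)) (by push_cast; omega) (by push_cast; omega)
          _ hφT k)
    have h3 := van_X₃ n Y₁ ((Sk' n φ s₀ (k + 1)).map (KrrM.twFun n Y₁ (-((k + 1 : ℕ) : ℤ))))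
      hS2 q1 q2 q3 k h2 h1
    obtain ⟨e1⟩ := pull_tw n φ 1 (KrrL.Kof n Y (KrrM.stage n Y s₀ k).G)
    obtain ⟨e2⟩ := nonempty_twF_twF n Y₁ (Sk' n φ s₀ k).X₁ (-((k + 1 : ℕ) : ℤ)) 1 (-(k : ℤ))
      (by push_cast; ring)
    exact van_iso n Y₁ ((KrrM.twFun n Y₁ (-((k + 1 : ℕ) : ℤ))).mapIso e1 ≪≫ e2) k h3

theorem push_pull_Kof_isZero [AlgebraicGeometry.IsNoetherian Y]
    (h0 : FlatMod.IsFinLocFree s₀.G) :
    IsZero ((Scheme.Modules.pushforward (KRR.pr n Y₁)).obj (Sk' n φ s₀ 0).X₁) := by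
  have h := van_chain n φ s₀ h0 n 0 (by omega)
  obtain ⟨e⟩ := KrrM.nonempty_twF_zero n Y₁ (Sk' n φ s₀ 0).X₁ (-((0 : ℕ) : ℤ)) (by simp)
  exact push_isZero_of_van n Y₁ _ (van_iso n Y₁ e 0 h)

theorem van_one_pull_Kof [AlgebraicGeometry.IsNoetherian Y] (h0 : FlatMod.IsFinLocFree s₀.G) :
    Van n Y₁ 1 (Sk' n φ s₀ 0).X₁ := by
  have hreg := reg_pull_stage n φ s₀ h0 n 1 (by omega)
  obtain ⟨e1⟩ := pull_tw n φ 1 (KrrL.Kof n Y (KrrM.stage n Y s₀ 0).G)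
  have hreg' : KRR.IsRegSheaf n Y₁ (KRR.twF n Y₁ 1 (Sk' n φ s₀ 0).X₁) :=
    KrrJ.isRegSheaf_of_iso n Y₁ e1 hreg
  have h1 := hreg' 1 le_rfl
  obtain ⟨e2⟩ := nonempty_twF_twF n Y₁ (Sk' n φ s₀ 0).X₁ (-((1 : ℕ) : ℤ)) 1 0 (by simp)
  obtain ⟨e3⟩ := KrrM.nonempty_twF_zero n Y₁ (Sk' n φ s₀ 0).X₁ 0 rfl
  exact van_iso n Y₁ (e2 ≪≫ e3) 1 h1

end Chain

section Main

theorem s3770 (n : ℕ) {Y Y₁ : Scheme.{u}} [AlgebraicGeometry.IsNoetherian Y]
    [AlgebraicGeometry.IsNoetherian Y₁] (φ : Y₁ ⟶ Y)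
    (hsq : KRR.projSpaceMap n φ ≫ KRR.pr n Y = KRR.pr n Y₁ ≫ φ)
    (F : (KRR.PY n Y).Modules) (hF : FlatMod.IsFinLocFree F) (hreg : KRR.IsRegSheaf n Y F) :
    KRR.IsRegSheaf n Y₁ ((Scheme.Modules.pullback (KRR.projSpaceMap n φ)).obj F) ∧
      IsIso (KRR.bcMap n φ hsq F) := by
  let s₀ : KrrM.Stage n Y := ⟨F, qc_of_flf F hF, hreg⟩
  have h0 : FlatMod.IsFinLocFree s₀.G := hF
  refine ⟨reg_pull_stage n φ s₀ h0 (n + 1) 0 (by omega), ?_⟩
  have hS := Sk'_shortExact n φ s₀ h0 0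
  obtain ⟨f1, f2, f3⟩ := flf_Sk' n φ s₀ h0 0
  have hv1 := van_one_pull_Kof n φ s₀ h0
  haveI : (Sk' n φ s₀ 0).X₁.IsQuasicoherent := qc_of_flf _ f1
  have hSE := push_shortExact_of_H1 n Y₁ (Sk' n φ s₀ 0) hS (qc_of_flf _ f1)
    (fun W hW => van_chart n Y₁ _ 1 hv1 W hW)
  have hz := push_pull_Kof_isZero n φ s₀ h0
  have hiso : IsIso ((Scheme.Modules.pushforward (KRR.pr n Y₁)).map
      ((Scheme.Modules.pullback (KRR.projSpaceMap n φ)).map
        ((Scheme.Modules.pullbackPushforwardAdjunction (KRR.pr n Y)).counit.app F))) :=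
    hSE.isIso_g_iff.2 hz
  have hφT : FlatMod.IsFinLocFree ((Scheme.Modules.pullback φ).obj
      ((Scheme.Modules.pushforward (KRR.pr n Y)).obj F)) :=
    Groth.Agent.Lib.Helper5.PerfPull.isFinLocFree_pullback φ _ (KrrE.s3756 n Y F hF hreg)
  haveI hunit := isIso_unit_of_flf (KRR.pr n Y₁)
    (fun U hU => ChartU.bijective_pr_app n Y₁ U hU) _ hφT
  haveI := hiso
  unfold KRR.bcMap
  rw [Adjunction.homEquiv_unit, Functor.map_comp, Functor.map_comp, Functor.map_comp]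
  infer_instance

end Main

end Groth.Agent.Helper1.RegK
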