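import Mathlib
import Groth.Prelude.Def_KRR
import Groth.Agent.Lib.Helper1.PnK0b
import Groth.Agent.Lib.Helper1.RegK11
import Groth.Agent.Lib.Helper4.Seesaw2
import Groth.Agent.Lib.Lead.PnUniq
import Groth.Agent.Lib.Helper4.PnFlat1
import Groth.Agent.Lib.Helper1.ProjSpaceLib

/-!
# The Picard group of `P^r_Y` over a connected Noetherian base (helper1)

Every invertible module on `P^r_Y` is `p^* L' ⊗ O(n)`: the degree on the fibres (which are
projective spaces over the residue fields) is locally constant, by the lifting of a fibrewise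
trivialization to a neighbourhood (helper4's seesaw without reducedness), and the seesaw theorem
descends the twist of degree zero on the fibres to the base.
-/

set_option backward.isDefEq.respectTransparency.types false
set_option synthInstance.maxHeartbeats 400000
set_option maxHeartbeats 1000000
set_option autoImplicit false
set_option linter.unusedSectionVars false
set_option linter.style.haveILetI false
set_option linter.unusedVariables false

universe u
open CategoryTheory CategoryTheory.Limits AlgebraicGeometry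
open Groth.Agent.Lib.Helper4
open ZeroObject

namespace Groth.Agent.Helper1.PicPn

open Groth.Agent.Helper1.PnK0 Groth.Agent.Helper1.RegK

section General

/-- modules with isomorphic pullbacks along an isomorphism are isomorphic -/
noncomputable def isoOfPullbackIso {A B : Scheme.{u}} (e : A ≅ B) {M N : B.Modules}
    (h : (Scheme.Modules.pullback e.hom).obj M ≅ (Scheme.Modules.pullback e.hom).obj N) : M ≅ N :=
  pullInvIso e.inv e.hom e.inv_hom_id M ≪≫ (Scheme.Modules.pullback e.inv).mapIso h ≪≫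
    (pullInvIso e.inv e.hom e.inv_hom_id N).symm

variable {X : Scheme.{u}}

/-- `A ⊗ B ≅ O` and `B ⊗ C ≅ O` give `A ≅ C` -/
theorem cancel (A B C : X.Modules)
    (h1 : CohB1.tensorMod A B ≅ Coh.structureModule X)
    (h2 : CohB1.tensorMod B C ≅ Coh.structureModule X) : Nonempty (A ≅ C) := by
  obtain ⟨uA⟩ := TwistAmpleOpen.nonempty_tensorMod_unit_iso A
  obtain ⟨uC⟩ := TwistAmpleOpen.nonempty_tensorMod_unit_iso C
  exact ⟨uA.symm ≪≫ KrrA.tensorModComm _ _ ≪≫
    Groth.Agent.Lead.TilT.tensorModCongr (Iso.refl A) h2.symm ≪≫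
    (ProjSerre.tensorModAssoc A B C).symm ≪≫
    Groth.Agent.Lead.TilT.tensorModCongr h1 (Iso.refl C) ≪≫ uC⟩

/-- `(A ⊗ B) ⊗ C ≅ A` when `B ⊗ C ≅ O` -/
theorem absorb (A B C : X.Modules) (h : CohB1.tensorMod B C ≅ Coh.structureModule X) :
    Nonempty (CohB1.tensorMod (CohB1.tensorMod A B) C ≅ A) := by
  obtain ⟨uA⟩ := TwistAmpleOpen.nonempty_tensorMod_unit_iso A
  exact ⟨ProjSerre.tensorModAssoc A B C ≪≫
    Groth.Agent.Lead.TilT.tensorModCongr (Iso.refl A) h ≪≫
    KrrA.tensorModComm _ _ ≪≫ uA⟩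

end General

section Tw
variable (r : ℕ) (Y : Scheme.{u})

theorem tw_add (a b c : ℤ) (h : a + b = c) :
    Nonempty (CohB1.tensorMod (Twist.twistOver r Y a) (Twist.twistOver r Y b) ≅
      Twist.twistOver r Y c) := by
  subst h
  exact KrrJ.nonempty_twistOver_add r Y a b

theorem tw_inv (a b : ℤ) (h : a + b = 0) :
    Nonempty (CohB1.tensorMod (Twist.twistOver r Y a) (Twist.twistOver r Y b) ≅
      Coh.structureModule (KRR.PY r Y)) := by
  obtain ⟨e⟩ := tw_add r Y a b 0 h
  obtain ⟨e0⟩ := KrrM.nonempty_twistOver_zero r Y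
  exact ⟨e ≪≫ e0⟩

/-- the base change square of projective spaces -/
theorem isPullback_psm {Y Y₁ : Scheme.{u}} (φ : Y₁ ⟶ Y) :
    IsPullback (KRR.projSpaceMap r φ) (KRR.pr r Y₁) (KRR.pr r Y) φ := by
  have t : IsPullback (fstY r Y) (KRR.pr r Y) (CohB1.ProjSpace.toSpec r (ULift.{u} ℤ))
      (specULiftZIsTerminal.from Y) := IsPullback.of_hasPullback _ _
  have s : IsPullback (KRR.projSpaceMap r φ ≫ fstY r Y) (KRR.pr r Y₁)
      (CohB1.ProjSpace.toSpec r (ULift.{u} ℤ)) (φ ≫ specULiftZIsTerminal.from Y) := by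
    rw [psm_fst r φ, show φ ≫ specULiftZIsTerminal.from Y = specULiftZIsTerminal.from Y₁ from
      specULiftZIsTerminal.hom_ext _ _]
    exact IsPullback.of_hasPullback _ _
  exact IsPullback.of_right s (psm_snd r φ) t

/-- `O(d)` is trivial on `P^0` -/
theorem twist_trivial_zero (R : Type u) [CommRing R] [IsDomain R] (d : ℤ) :
    Nonempty (Twist.twistProjSpace 0 R d ≅ Coh.structureModule (CohB1.ProjSpace 0 R)) := by
  have h := Groth.Agent.Lead.PnPoly.isGen_tt 0 R d 0
  have htop : (⊤ : (Proj (CohB1.polyGrading 0 R)).Opens) ≤ Groth.Agent.Lead.PnPoly.U 0 R 0 := by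
    rw [← Groth.Agent.Lib.Helper6.ProjChart.cover 0 R]
    exact iSup_le fun i => le_of_eq (by rw [Subsingleton.elim i 0])
  exact Seesaw1.nonempty_iso_of_isGen_top (h.res htop)

end Tw

section Fibre
variable (r : ℕ) (Y : Scheme.{u}) (y : Y)

/-- the inclusion of the residue field point -/
noncomputable abbrev φy : Yk (Y.residueField y) ⟶ Y := Y.fromSpecResidueField y

/-- the fibre of `P^r_Y → Y` at `y` is `P^r_{κ(y)}` -/
noncomputable def Θ : Xk r (Y.residueField y) ≅ (KRR.pr r Y).fiber y :=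
  θk r (Y.residueField y) ≪≫ (isPullback_psm r (φy Y y)).isoPullback

theorem Θ_ι : (Θ r Y y).hom ≫ (KRR.pr r Y).fiberι y =
    (θk r (Y.residueField y)).hom ≫ KRR.projSpaceMap r (φy Y y) := by
  have h := (isPullback_psm r (φy Y y)).isoPullback_hom_fst
  change ((θk r (Y.residueField y)).hom ≫ (isPullback_psm r (φy Y y)).isoPullback.hom) ≫
    pullback.fst (KRR.pr r Y) (φy Y y) = _
  rw [Category.assoc, h]

theorem Θ_snd : (Θ r Y y).hom ≫ (KRR.pr r Y).fiberToSpecResidueField y =
    CohB1.ProjSpace.toSpec r (Y.residueField y) := by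
  have h := (isPullback_psm r (φy Y y)).isoPullback_hom_snd
  have h2 : (θk r (Y.residueField y)).hom ≫ KRR.pr r (Yk (Y.residueField y)) =
      CohB1.ProjSpace.toSpec r (Y.residueField y) :=
    (Groth.Agent.Helper3.ProjCovOver.isPullback_over r (Y.residueField y)).isoPullback_hom_snd
  change ((θk r (Y.residueField y)).hom ≫ (isPullback_psm r (φy Y y)).isoPullback.hom) ≫
    pullback.snd (KRR.pr r Y) (φy Y y) = _
  rw [Category.assoc, h, h2]

/-- the restriction of `O(d)` to the fibre is `O(d)` -/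
theorem Theta_tw (d : ℤ) :
    Nonempty ((Scheme.Modules.pullback (Θ r Y y).hom).obj
        ((Scheme.Modules.pullback ((KRR.pr r Y).fiberι y)).obj (Twist.twistOver r Y d)) ≅
      Twist.twistProjSpace r (Y.residueField y) d) := by
  have hcomp : ((Θ r Y y).hom ≫ (KRR.pr r Y).fiberι y) ≫ fstY r Y =
      Proj.map (HProjLoc.polyMap r (Groth.Agent.Helper3.ProjCovOver.rhoZ (Y.residueField y)))
        (HProjLoc.hirr_polyMap r (Groth.Agent.Helper3.ProjCovOver.rhoZ (Y.residueField y))) := by
    rw [Θ_ι, Category.assoc, psm_fst]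
    exact theta_fst r (Y.residueField y)
  obtain ⟨a6⟩ := TwistBC1.twist_bc r (Groth.Agent.Helper3.ProjCovOver.rhoZ (Y.residueField y)) d
  exact ⟨(Scheme.Modules.pullbackComp (Θ r Y y).hom ((KRR.pr r Y).fiberι y)).app _ ≪≫
    (Scheme.Modules.pullbackComp ((Θ r Y y).hom ≫ (KRR.pr r Y).fiberι y) (fstY r Y)).app
      (Twist.twistProjSpace r (ULift.{u} ℤ) d) ≪≫
    (Scheme.Modules.pullbackCongr hcomp).app _ ≪≫ a6⟩

/-- every invertible module on the fibre is the restriction of a twist -/
theorem fibre_pic (N : ((KRR.pr r Y).fiber y).Modules) (hN : PicF.IsInvertible N) :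
    ∃ d : ℤ, Nonempty (N ≅
      (Scheme.Modules.pullback ((KRR.pr r Y).fiberι y)).obj (Twist.twistOver r Y d)) := by
  obtain ⟨d, ⟨e⟩⟩ := Groth.Agent.Lead.PnMain.exists_iso_twist r (Y.residueField y) _
    (PullGen.isInvertible_pullback (Θ r Y y).hom hN)
  obtain ⟨e'⟩ := Theta_tw r Y y d
  exact ⟨d, ⟨isoOfPullbackIso (Θ r Y y) (e ≪≫ e'.symm)⟩⟩

/-- the degree on the fibre is well defined when `r ≥ 1` -/
theorem fibre_uniq (hr : 1 ≤ r) (a b : ℤ)
    (e : (Scheme.Modules.pullback ((KRR.pr r Y).fiberι y)).obj (Twist.twistOver r Y a) ≅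
      (Scheme.Modules.pullback ((KRR.pr r Y).fiberι y)).obj (Twist.twistOver r Y b)) : a = b := by
  obtain ⟨ea⟩ := Theta_tw r Y y a
  obtain ⟨eb⟩ := Theta_tw r Y y b
  exact Groth.Agent.Lead.PnUniq.twist_iso_unique (R := (Y.residueField y)) hr a b
    (ea.symm ≪≫ (Scheme.Modules.pullback (Θ r Y y).hom).mapIso e ≪≫ eb)

/-- for `r = 0` every invertible module on the fibre is trivial -/
theorem fibre_trivial_zero (N : ((KRR.pr 0 Y).fiber y).Modules) (hN : PicF.IsInvertible N) :
    Nonempty (N ≅ Coh.structureModule ((KRR.pr 0 Y).fiber y)) := by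
  obtain ⟨d, ⟨e⟩⟩ := Groth.Agent.Lead.PnMain.exists_iso_twist 0 (Y.residueField y) _
    (PullGen.isInvertible_pullback (Θ 0 Y y).hom hN)
  obtain ⟨e'⟩ := twist_trivial_zero (Y.residueField y) d
  exact ⟨isoOfPullbackIso (Θ 0 Y y) (e ≪≫ e' ≪≫ (PullSec.unitIso (Θ 0 Y y).hom).symm)⟩

/-- global functions on the fibre -/
theorem h0 : Module.finrank (Y.residueField y) Γ((KRR.pr r Y).fiber y, ⊤) = 1 := by
  rw [Algebra.finrank_eq_one_iff_bijective_algebraMap]
  have h2 : ((KRR.pr r Y).fiberToSpecResidueField y).appTop ≫ (Θ r Y y).hom.appTop =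
      (CohB1.ProjSpace.toSpec r (Y.residueField y)).appTop := by
    have := congrArg Scheme.Hom.appTop (Θ_snd r Y y)
    rw [Scheme.Hom.comp_appTop] at this
    exact this
  haveI i1 : IsIso (Θ r Y y).hom.appTop := by
    show IsIso ((Θ r Y y).hom.app ⊤); infer_instance
  haveI i2 : IsIso (((KRR.pr r Y).fiberToSpecResidueField y).appTop ≫ (Θ r Y y).hom.appTop) := by
    rw [h2]
    exact ProjSpaceLib.isIso_toSpec_appTop' r (Y.residueField y)
  have h1 : IsIso ((KRR.pr r Y).fiberToSpecResidueField y).appTop :=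
    IsIso.of_isIso_comp_right _ (Θ r Y y).hom.appTop
  have hb1 : Function.Bijective ((KRR.pr r Y).fiberToSpecResidueField y).appTop.hom :=
    (ConcreteCategory.isIso_iff_bijective _).1 h1
  have hb2 : Function.Bijective (Scheme.ΓSpecIso (Y.residueField y)).inv.hom :=
    (ConcreteCategory.isIso_iff_bijective _).1 inferInstance
  have halg : (algebraMap (Y.residueField y) Γ((KRR.pr r Y).fiber y, ⊤)) =
      (((KRR.pr r Y).fiberToSpecResidueField y).appTop.hom.comp
        (Scheme.ΓSpecIso (Y.residueField y)).inv.hom) := rfl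
  rw [halg, RingHom.coe_comp]
  exact hb1.comp hb2

/-- `H¹` of the structure sheaf of the fibre vanishes -/
theorem hH1 : Subsingleton (Coh.HH ((KRR.pr r Y).fiber y)
    (Coh.structureModule ((KRR.pr r Y).fiber y)) 1) := by
  haveI : (Coh.structureModule (CohB1.ProjSpace r (Y.residueField y))).IsQuasicoherent :=
    Groth.Agent.Helper1.IdealModL.isQuasicoherent_structureModule
  have h1 := PnC7.s0023 r (Y.residueField y) 1 Nat.one_pos
  have h2 := RpTw.subsingleton_HH_pullback_of_iso (Θ r Y y).symm (Coh.structureModule _) 1 h1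
  exact Dv.subsingleton_HH_of_iso (PullSec.unitIso (Θ r Y y).symm.hom).symm 1 h2

end Fibre

end Groth.Agent.Helper1.PicPn
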