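import Mathlib
import Groth.Prelude.Def_KRR
import Groth.Agent.Lib.Helper1.PicPn1

/-!
# The Picard group of `P^r_Y` over a connected Noetherian base: main theorem (helper1)
-/

set_option backward.isDefEq.respectTransparency.types false
set_option synthInstance.maxHeartbeats 400000
set_option maxHeartbeats 1000000
set_option autoImplicit false
set_option linter.unusedSectionVars false
set_option linter.style.haveILetI false
set_option linter.unusedVariables false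

universe u
open CategoryTheory CategoryTheory.Limits AlgebraicGeometry
open Groth.Agent.Lib.Helper4
open ZeroObject

namespace Groth.Agent.Helper1.PicPn

open Groth.Agent.Helper1.PnK0 Groth.Agent.Helper1.RegK

section Main
variable (r : ℕ) (Y : Scheme.{u})

/-- `L ⊗ O(-d)` is trivial on the fibre at `y` -/
abbrev Pred (L : (KRR.PY r Y).Modules) (y : Y) (d : ℤ) : Prop :=
  Nonempty (CohIII.fiberMod (KRR.pr r Y) (CohB1.tensorMod L (Twist.twistOver r Y (-d))) y ≅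
    Coh.structureModule ((KRR.pr r Y).fiber y))

/-- if `L` restricts to `O(d)` on the fibre then `L ⊗ O(e)` is trivial there, for `d + e = 0` -/
theorem fib_tensor_tw (L : (KRR.PY r Y).Modules) (y : Y) (d e : ℤ) (hde : d + e = 0)
    (h : (Scheme.Modules.pullback ((KRR.pr r Y).fiberι y)).obj L ≅
      (Scheme.Modules.pullback ((KRR.pr r Y).fiberι y)).obj (Twist.twistOver r Y d)) :
    Nonempty ((Scheme.Modules.pullback ((KRR.pr r Y).fiberι y)).obj
        (CohB1.tensorMod L (Twist.twistOver r Y e)) ≅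
      Coh.structureModule ((KRR.pr r Y).fiber y)) := by
  obtain ⟨s1⟩ := Groth.Agent.Lead.PullTensorAll.nonempty_pullback_tensor_iso
    ((KRR.pr r Y).fiberι y) L (Twist.twistOver r Y e)
  obtain ⟨s3⟩ := Groth.Agent.Lead.PullTensorAll.nonempty_pullback_tensor_iso
    ((KRR.pr r Y).fiberι y) (Twist.twistOver r Y d) (Twist.twistOver r Y e)
  obtain ⟨s4⟩ := tw_inv r Y d e hde
  exact ⟨s1 ≪≫ Groth.Agent.Lead.TilT.tensorModCongr h (Iso.refl _) ≪≫ s3.symm ≪≫
    (Scheme.Modules.pullback ((KRR.pr r Y).fiberι y)).mapIso s4 ≪≫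
    PullSec.unitIso ((KRR.pr r Y).fiberι y)⟩

/-- on each fibre some twist of `L` is trivial -/
theorem exists_d (L : (KRR.PY r Y).Modules) (hL : PicF.IsInvertible L) (y : Y) :
    ∃ d : ℤ, Pred r Y L y d := by
  obtain ⟨d, ⟨e⟩⟩ := fibre_pic r Y y _ (PullGen.isInvertible_pullback ((KRR.pr r Y).fiberι y) hL)
  exact ⟨d, fib_tensor_tw r Y L y d (-d) (add_neg_cancel d) e⟩

/-- if `L ⊗ O(-d)` is trivial on the fibre then `L` restricts to `O(d)` there -/
theorem pred_iso (L : (KRR.PY r Y).Modules) (y : Y) (d : ℤ) (h : Pred r Y L y d) :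
    Nonempty ((Scheme.Modules.pullback ((KRR.pr r Y).fiberι y)).obj L ≅
      (Scheme.Modules.pullback ((KRR.pr r Y).fiberι y)).obj (Twist.twistOver r Y d)) := by
  obtain ⟨τ⟩ := h
  obtain ⟨s1⟩ := Groth.Agent.Lead.PullTensorAll.nonempty_pullback_tensor_iso
    ((KRR.pr r Y).fiberι y) L (Twist.twistOver r Y (-d))
  obtain ⟨s3⟩ := Groth.Agent.Lead.PullTensorAll.nonempty_pullback_tensor_iso
    ((KRR.pr r Y).fiberι y) (Twist.twistOver r Y (-d)) (Twist.twistOver r Y d)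
  obtain ⟨s4⟩ := tw_inv r Y (-d) d (neg_add_cancel d)
  exact cancel _ _ _ (s1.symm ≪≫ τ)
    (s3.symm ≪≫ (Scheme.Modules.pullback ((KRR.pr r Y).fiberι y)).mapIso s4 ≪≫
      PullSec.unitIso ((KRR.pr r Y).fiberι y))

/-- the degree on a fibre is unique when `r ≥ 1` -/
theorem pred_uniq (hr : 1 ≤ r) (L : (KRR.PY r Y).Modules) (y : Y) (d d' : ℤ)
    (h : Pred r Y L y d) (h' : Pred r Y L y d') : d = d' := by
  obtain ⟨e⟩ := pred_iso r Y L y d h
  obtain ⟨e'⟩ := pred_iso r Y L y d' h'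
  exact fibre_uniq r Y y hr d d' (e.symm ≪≫ e')

variable [AlgebraicGeometry.IsNoetherian Y]

/-- triviality of `L ⊗ O(-d)` on the fibres is an open condition -/
theorem pred_open (L : (KRR.PY r Y).Modules) (hL : PicF.IsInvertible L) (y : Y) (d : ℤ)
    (h : Pred r Y L y d) : ∃ U : Y.Opens, y ∈ U ∧ ∀ y' : Y, y' ∈ U → Pred r Y L y' d := by
  obtain ⟨τ⟩ := h
  have hM : PicF.IsInvertible (CohB1.tensorMod L (Twist.twistOver r Y (-d))) :=
    TwForm.isInvertible_tensorMod hL (KrrJ.isInvertible_twistOver r Y _)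
  obtain ⟨U, s, hyU, hgen, -⟩ := Seesaw2.exists_isGen_near_fibre_of_h1 (KRR.pr r Y) _ hM y
    (h0 r Y y) τ (Seesaw2.subsingleton_fiberH_of_trivial (KRR.pr r Y) _ y 1 τ (hH1 r Y y))
  refine ⟨U, hyU, fun y' hy' => ?_⟩
  have h3 := PullGen.isGen_σ ((KRR.pr r Y).fiberι y') hgen
  have htop : (⊤ : ((KRR.pr r Y).fiber y').Opens) ≤
      ((KRR.pr r Y).fiberι y') ⁻¹ᵁ ((KRR.pr r Y) ⁻¹ᵁ U) := by
    intro x _
    have hx : (KRR.pr r Y).fiberι y' x ∈ (KRR.pr r Y) ⁻¹' {y'} := by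
      rw [← Scheme.Hom.range_fiberι]
      exact Set.mem_range_self x
    change (KRR.pr r Y) ((KRR.pr r Y).fiberι y' x) ∈ U
    rw [show (KRR.pr r Y) ((KRR.pr r Y).fiberι y' x) = y' from hx]
    exact hy'
  exact Seesaw1.nonempty_iso_of_isGen_top (h3.res htop)

variable [ConnectedSpace Y]

/-- a global degree -/
theorem exists_n (L : (KRR.PY r Y).Modules) (hL : PicF.IsInvertible L) :
    ∃ n : ℤ, ∀ y : Y, Pred r Y L y n := by
  rcases Nat.eq_zero_or_pos r with hr0 | hpos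
  · subst hr0
    exact ⟨0, fun y => fibre_trivial_zero Y y _
      (PullGen.isInvertible_pullback _
        (TwForm.isInvertible_tensorMod hL (KrrJ.isInvertible_twistOver 0 Y _)))⟩
  · choose d hd using exists_d r Y L hL
    have hlc : IsLocallyConstant d := by
      rw [IsLocallyConstant.iff_exists_open]
      intro y
      obtain ⟨U, hyU, hU⟩ := pred_open r Y L hL y (d y) (hd y)
      exact ⟨U.1, U.2, hyU, fun y' hy' =>
        pred_uniq r Y hpos L y' (d y') (d y) (hd y') (hU y' hy')⟩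
    obtain ⟨y₀⟩ : Nonempty Y := inferInstance
    refine ⟨d y₀, fun y => ?_⟩
    rw [← hlc.apply_eq_of_preconnectedSpace y y₀]
    exact hd y

/-- **existence**: `L ≅ p^* L' ⊗ O(n)` -/
theorem existence (L : (KRR.PY r Y).Modules) (hL : PicF.IsInvertible L) :
    ∃ (L' : Y.Modules) (n : ℤ), PicF.IsInvertible L' ∧
      Nonempty (L ≅ CohB1.tensorMod
        ((Scheme.Modules.pullback (CohB1.ProjSpaceOver.toBase r Y)).obj L')
        (Twist.twistOver r Y n)) := by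
  obtain ⟨n, hn⟩ := exists_n r Y L hL
  have hM : PicF.IsInvertible (CohB1.tensorMod L (Twist.twistOver r Y (-n))) :=
    TwForm.isInvertible_tensorMod hL (KrrJ.isInvertible_twistOver r Y _)
  obtain ⟨hinv, hiso⟩ := Seesaw2.seesaw_of_h1 (KRR.pr r Y) (h0 r Y)
    (CohB1.tensorMod L (Twist.twistOver r Y (-n))) hM hn (hH1 r Y)
  haveI := hiso
  have ε : (Scheme.Modules.pullback (KRR.pr r Y)).obj
      ((Scheme.Modules.pushforward (KRR.pr r Y)).obj
        (CohB1.tensorMod L (Twist.twistOver r Y (-n)))) ≅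
      CohB1.tensorMod L (Twist.twistOver r Y (-n)) :=
    asIso ((Scheme.Modules.pullbackPushforwardAdjunction (KRR.pr r Y)).counit.app
      (CohB1.tensorMod L (Twist.twistOver r Y (-n))))
  obtain ⟨t⟩ := tw_inv r Y (-n) n (neg_add_cancel n)
  obtain ⟨a⟩ := absorb L (Twist.twistOver r Y (-n)) (Twist.twistOver r Y n) t
  exact ⟨(Scheme.Modules.pushforward (KRR.pr r Y)).obj
      (CohB1.tensorMod L (Twist.twistOver r Y (-n))), n, hinv,
    ⟨a.symm ≪≫ Groth.Agent.Lead.TilT.tensorModCongr ε.symm (Iso.refl _)⟩⟩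

omit [AlgebraicGeometry.IsNoetherian Y] [ConnectedSpace Y] in
/-- from `L ≅ p^* L' ⊗ O(n)` to `p^* L' ≅ L ⊗ O(-n)` -/
theorem baseIso (L : (KRR.PY r Y).Modules) (L' : Y.Modules) (n : ℤ)
    (e : L ≅ CohB1.tensorMod ((Scheme.Modules.pullback (KRR.pr r Y)).obj L')
      (Twist.twistOver r Y n)) :
    Nonempty ((Scheme.Modules.pullback (KRR.pr r Y)).obj L' ≅
      CohB1.tensorMod L (Twist.twistOver r Y (-n))) := by
  obtain ⟨t⟩ := tw_inv r Y n (-n) (add_neg_cancel n)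
  obtain ⟨a⟩ := absorb ((Scheme.Modules.pullback (KRR.pr r Y)).obj L') (Twist.twistOver r Y n)
    (Twist.twistOver r Y (-n)) t
  exact ⟨a.symm ≪≫ Groth.Agent.Lead.TilT.tensorModCongr e.symm (Iso.refl _)⟩

/-- **uniqueness** for `r ≥ 1` -/
theorem uniqueness (hr : 1 ≤ r) (L : (KRR.PY r Y).Modules) (L₁ L₂ : Y.Modules) (n₁ n₂ : ℤ)
    (h₁ : PicF.IsInvertible L₁) (h₂ : PicF.IsInvertible L₂)
    (e₁ : L ≅ CohB1.tensorMod ((Scheme.Modules.pullback (KRR.pr r Y)).obj L₁)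
      (Twist.twistOver r Y n₁))
    (e₂ : L ≅ CohB1.tensorMod ((Scheme.Modules.pullback (KRR.pr r Y)).obj L₂)
      (Twist.twistOver r Y n₂)) :
    n₁ = n₂ ∧ Nonempty (L₁ ≅ L₂) := by
  obtain ⟨b₁⟩ := baseIso r Y L L₁ n₁ e₁
  obtain ⟨b₂⟩ := baseIso r Y L L₂ n₂ e₂
  obtain ⟨y₀⟩ : Nonempty Y := inferInstance
  have hn : n₁ = n₂ := pred_uniq r Y hr L y₀ n₁ n₂
    (Seesaw1.trivial_on_fibre (KRR.pr r Y) L₁ h₁ _ b₁ y₀)
    (Seesaw1.trivial_on_fibre (KRR.pr r Y) L₂ h₂ _ b₂ y₀)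
  refine ⟨hn, ?_⟩
  subst hn
  haveI i1 := isIso_unit_of_flf (KRR.pr r Y) (fun U hU => ChartU.bijective_pr_app r Y U hU) L₁
    (InvInv2.isFinLocFree_of_isInvertible h₁)
  haveI i2 := isIso_unit_of_flf (KRR.pr r Y) (fun U hU => ChartU.bijective_pr_app r Y U hU) L₂
    (InvInv2.isFinLocFree_of_isInvertible h₂)
  have u1 : L₁ ≅ (Scheme.Modules.pushforward (KRR.pr r Y)).obj
      ((Scheme.Modules.pullback (KRR.pr r Y)).obj L₁) :=
    asIso ((Scheme.Modules.pullbackPushforwardAdjunction (KRR.pr r Y)).unit.app L₁)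
  have u2 : L₂ ≅ (Scheme.Modules.pushforward (KRR.pr r Y)).obj
      ((Scheme.Modules.pullback (KRR.pr r Y)).obj L₂) :=
    asIso ((Scheme.Modules.pullbackPushforwardAdjunction (KRR.pr r Y)).unit.app L₂)
  exact ⟨u1 ≪≫ (Scheme.Modules.pushforward (KRR.pr r Y)).mapIso (b₁ ≪≫ b₂.symm) ≪≫ u2.symm⟩

/-- **S5676** -/
theorem main (L : (CohB1.ProjSpaceOver r Y).Modules) (hL : PicF.IsInvertible L) :
    (∃ (L' : Y.Modules) (n : ℤ), PicF.IsInvertible L' ∧
      Nonempty (L ≅ CohB1.tensorMod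
        ((Scheme.Modules.pullback (CohB1.ProjSpaceOver.toBase r Y)).obj L')
        (Twist.twistOver r Y n))) ∧
    (1 ≤ r → ∀ (L₁ L₂ : Y.Modules) (n₁ n₂ : ℤ), PicF.IsInvertible L₁ → PicF.IsInvertible L₂ →
      Nonempty (L ≅ CohB1.tensorMod
        ((Scheme.Modules.pullback (CohB1.ProjSpaceOver.toBase r Y)).obj L₁)
        (Twist.twistOver r Y n₁)) →
      Nonempty (L ≅ CohB1.tensorMod
        ((Scheme.Modules.pullback (CohB1.ProjSpaceOver.toBase r Y)).obj L₂)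
        (Twist.twistOver r Y n₂)) →
      n₁ = n₂ ∧ Nonempty (L₁ ≅ L₂)) :=
  ⟨existence r Y L hL, fun hr L₁ L₂ n₁ n₂ h₁ h₂ ⟨e₁⟩ ⟨e₂⟩ =>
    uniqueness r Y hr L L₁ L₂ n₁ n₂ h₁ h₂ e₁ e₂⟩

end Main

end Groth.Agent.Helper1.PicPn
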