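import Mathlib
import Groth.Prelude.Def_KRR
import Groth.Agent.Lib.Helper1.PicPn2
import Groth.Agent.Lib.Helper7.StalkLim.Spread
import Groth.Agent.Lib.Helper7.FGSub2
import Groth.Agent.Lib.Helper7.GenStage.Main
import Groth.Agent.Lib.Lead.LimFitt

/-!
# The Picard group of `P^r_S` over an arbitrary base: general lemmas (helper1)

Functions on `P^r_S` over any open of the base, generators of a restriction along an open
immersion, the local generator over a locally Noetherian base, fibrewise triviality from a local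
generator, and uniqueness of the decomposition `p^* L ⊗ O(n)`.
-/

set_option backward.isDefEq.respectTransparency.types false
set_option synthInstance.maxHeartbeats 400000
set_option maxHeartbeats 1000000
set_option autoImplicit false
set_option linter.unusedSectionVars false
set_option linter.style.haveILetI false
set_option linter.unusedVariables false

universe u
open CategoryTheory CategoryTheory.Limits AlgebraicGeometry TopologicalSpace Opposite
open Groth.Agent.Lib.Helper4
open ZeroObject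

namespace Groth.Agent.Helper1.PicGen

open Groth.Agent.Helper1.PnK0 Groth.Agent.Helper1.RegK Groth.Agent.Helper1.PicPn
open Groth.Agent.Helper1.LGen Groth.Agent.Helper1.QcCech Groth.Agent.Helper1.SubSh

section Gen

/-- a free generator of the restriction along an open immersion is a free generator over the
image -/
theorem isGen_of_restrict {X' X : Scheme.{u}} (ι : X' ⟶ X) [IsOpenImmersion ι] (M : X.Modules)
    (W' : X'.Opens) (a : Γ(M.restrict ι, W')) (ha : IsGen (M.restrict ι) W' a) :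
    IsGen M (ι ''ᵁ W') (show Γ(M, ι ''ᵁ W') from a) := by
  intro V hV
  obtain ⟨V', rfl⟩ : ∃ V' : X'.Opens, V = ι ''ᵁ V' :=
    ⟨ι ⁻¹ᵁ V, (image_preimage_eq_of_le ι (hV.trans (ι.image_le_opensRange W'))).symm⟩
  have hV' : V' ≤ W' := (Scheme.Hom.image_le_image_iff ι V' W').1 hV
  have h1 := ha V' hV'
  have hb2 : Function.Bijective ((ι.appIso V').hom.hom) :=
    (ConcreteCategory.isIso_iff_bijective (ι.appIso V').hom).1 inferInstance
  have key : (fun r : Γ(X, ι ''ᵁ V') => r • res M hV (show Γ(M, ι ''ᵁ W') from a)) =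
      (fun r' : Γ(X', V') => (show Γ(M, ι ''ᵁ V') from r' • res (M.restrict ι) hV' a)) ∘
        (fun r => (ι.appIso V').hom.hom r) := by
    funext r
    calc r • res M hV (show Γ(M, ι ''ᵁ W') from a)
        = (ι.appIso V').inv.hom ((ι.appIso V').hom.hom r) •
            res M hV (show Γ(M, ι ''ᵁ W') from a) := by
          congr 1
          exact (congr($((ι.appIso V').hom_inv_id) r)).symm
      _ = _ := rfl
  rw [key]
  exact h1.comp hb2

end Gen

section Pr
variable (r : ℕ) (Y : Scheme.{u})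

/-- `Γ(V, O_Y) → Γ(p⁻¹V, O_P)` is bijective for every open `V` of the base -/
theorem bijective_pr_app_all (V : Y.Opens) : Function.Bijective ((KRR.pr r Y).app V) := by
  let M0 : Y.Modules := SheafOfModules.unit Y.ringCatSheaf
  let N0 : Y.Modules := (Scheme.Modules.pushforward (KRR.pr r Y)).obj
        (SheafOfModules.unit (KRR.PY r Y).ringCatSheaf)
  let φ : M0 ⟶ N0 :=
    SheafOfModules.unitToPushforwardObjUnit (KRR.pr r Y).toRingCatSheafHom
  have h2 : IsIso φ := by
    refine Groth.Agent.Lead.BCU.isIso_of_bijective_nhds φ ?_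
    intro U x hx
    obtain ⟨_, ⟨W, hW, rfl⟩, hxW, hWU⟩ := Y.isBasis_affineOpens.exists_subset_of_mem_open
      hx U.2
    exact ⟨W, hWU, hxW, ChartU.bijective_pr_app r Y W hW⟩
  have h3 : IsIso (Scheme.Modules.Hom.app φ V) :=
    (Scheme.Modules.Hom.isIso_iff_isIso_app (φ := φ)).1 h2 V
  have h4 : Function.Bijective (Scheme.Modules.Hom.app φ V) :=
    (ConcreteCategory.isIso_iff_bijective _).1 h3
  exact h4

/-- fibrewise triviality from a generator over the preimage of a neighbourhood -/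
theorem pred_of_gen (L : (KRR.PY r Y).Modules) (d : ℤ) (U : Y.Opens)
    (s : Γ(CohB1.tensorMod L (Twist.twistOver r Y (-d)), (KRR.pr r Y) ⁻¹ᵁ U))
    (hgen : IsGen (CohB1.tensorMod L (Twist.twistOver r Y (-d))) ((KRR.pr r Y) ⁻¹ᵁ U) s)
    (y' : Y) (hy' : y' ∈ U) : Pred r Y L y' d := by
  have h3 := PullGen.isGen_σ ((KRR.pr r Y).fiberι y') hgen
  have htop : (⊤ : ((KRR.pr r Y).fiber y').Opens) ≤
      ((KRR.pr r Y).fiberι y') ⁻¹ᵁ ((KRR.pr r Y) ⁻¹ᵁ U) := by
    intro x _
    have hx : (KRR.pr r Y).fiberι y' x ∈ (KRR.pr r Y) ⁻¹' {y'} := by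
      rw [← Scheme.Hom.range_fiberι]
      exact Set.mem_range_self x
    change (KRR.pr r Y) ((KRR.pr r Y).fiberι y' x) ∈ U
    rw [show (KRR.pr r Y) ((KRR.pr r Y).fiberι y' x) = y' from hx]
    exact hy'
  exact Seesaw1.nonempty_iso_of_isGen_top (h3.res htop)

/-- over a locally Noetherian base, some twist of an invertible module has a free generator over
the preimage of a neighbourhood of any given point -/
theorem locGen_noeth [IsLocallyNoetherian Y] (N : (KRR.PY r Y).Modules)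
    (hN : PicF.IsInvertible N) (t : Y) :
    ∃ (d : ℤ) (U : Y.Opens)
      (b : Γ(CohB1.tensorMod N (Twist.twistOver r Y (-d)), (KRR.pr r Y) ⁻¹ᵁ U)),
      t ∈ U ∧ IsGen (CohB1.tensorMod N (Twist.twistOver r Y (-d))) ((KRR.pr r Y) ⁻¹ᵁ U) b := by
  obtain ⟨d, ⟨τ⟩⟩ := exists_d r Y N hN t
  have hM : PicF.IsInvertible (CohB1.tensorMod N (Twist.twistOver r Y (-d))) :=
    TwForm.isInvertible_tensorMod hN (KrrJ.isInvertible_twistOver r Y _)
  obtain ⟨U, s, hyU, hgen, -⟩ := Seesaw2.exists_isGen_near_fibre_of_h1 (KRR.pr r Y) _ hM t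
    (h0 r Y t) τ (Seesaw2.subsingleton_fiberH_of_trivial (KRR.pr r Y) _ t 1 τ (hH1 r Y t))
  exact ⟨d, U, s, hyU, hgen⟩

/-- **uniqueness** for `r ≥ 1`, over any nonempty base -/
theorem uniqueness' [Nonempty Y] (hr : 1 ≤ r) (L : (KRR.PY r Y).Modules) (L₁ L₂ : Y.Modules)
    (n₁ n₂ : ℤ) (h₁ : PicF.IsInvertible L₁) (h₂ : PicF.IsInvertible L₂)
    (e₁ : L ≅ CohB1.tensorMod ((Scheme.Modules.pullback (KRR.pr r Y)).obj L₁)
      (Twist.twistOver r Y n₁))
    (e₂ : L ≅ CohB1.tensorMod ((Scheme.Modules.pullback (KRR.pr r Y)).obj L₂)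
      (Twist.twistOver r Y n₂)) :
    n₁ = n₂ ∧ Nonempty (L₁ ≅ L₂) := by
  obtain ⟨b₁⟩ := baseIso r Y L L₁ n₁ e₁
  obtain ⟨b₂⟩ := baseIso r Y L L₂ n₂ e₂
  obtain ⟨y₀⟩ : Nonempty Y := inferInstance
  have hn : n₁ = n₂ := pred_uniq r Y hr L y₀ n₁ n₂
    (Seesaw1.trivial_on_fibre (KRR.pr r Y) L₁ h₁ _ b₁ y₀)
    (Seesaw1.trivial_on_fibre (KRR.pr r Y) L₂ h₂ _ b₂ y₀)
  refine ⟨hn, ?_⟩
  subst hn
  haveI i1 := isIso_unit_of_flf (KRR.pr r Y) (fun U hU => ChartU.bijective_pr_app r Y U hU) L₁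
    (InvInv2.isFinLocFree_of_isInvertible h₁)
  haveI i2 := isIso_unit_of_flf (KRR.pr r Y) (fun U hU => ChartU.bijective_pr_app r Y U hU) L₂
    (InvInv2.isFinLocFree_of_isInvertible h₂)
  have u1 : L₁ ≅ (Scheme.Modules.pushforward (KRR.pr r Y)).obj
      ((Scheme.Modules.pullback (KRR.pr r Y)).obj L₁) :=
    asIso ((Scheme.Modules.pullbackPushforwardAdjunction (KRR.pr r Y)).unit.app L₁)
  have u2 : L₂ ≅ (Scheme.Modules.pushforward (KRR.pr r Y)).obj
      ((Scheme.Modules.pullback (KRR.pr r Y)).obj L₂) :=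
    asIso ((Scheme.Modules.pullbackPushforwardAdjunction (KRR.pr r Y)).unit.app L₂)
  exact ⟨u1 ≪≫ (Scheme.Modules.pushforward (KRR.pr r Y)).mapIso (b₁ ≪≫ b₂.symm) ≪≫ u2.symm⟩

end Pr

end Groth.Agent.Helper1.PicGen
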