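import Mathlib
import Groth.Prelude.Def_KRR
import Groth.Agent.Lib.Helper1.PicGen1

/-!
# The Picard group of `P^r_S` over an arbitrary base: local generators by Noetherian
approximation (helper1)

An invertible module on `P^r_S` descends, over an affine open `Spec A` of `S`, to an invertible
module on `P^r` over a finitely generated subring of `A`; there a twist has a free generator over
the preimage of a neighbourhood (cohomology and base change), which is pulled back.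
-/

set_option backward.isDefEq.respectTransparency.types false
set_option synthInstance.maxHeartbeats 400000
set_option maxHeartbeats 2000000
set_option autoImplicit false
set_option linter.unusedSectionVars false
set_option linter.style.haveILetI false
set_option linter.unusedVariables false

universe u
open CategoryTheory CategoryTheory.Limits AlgebraicGeometry TopologicalSpace Opposite
open Groth.Agent.Lib.Helper4
open ZeroObject

namespace Groth.Agent.Helper1.PicGen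

open Groth.Agent.Helper1.PnK0 Groth.Agent.Helper1.RegK Groth.Agent.Helper1.PicPn
open Groth.Agent.Helper1.LGen Groth.Agent.Helper1.QcCech Groth.Agent.Helper1.SubSh
open Groth.Agent.Helper7 Groth.Agent.Helper7.LimBC Groth.Agent.Helper7.GenStage
open Groth.Agent.Helper7.ConsMod

section Approx
variable (r : ℕ) (S : Scheme.{u})

/-- some twist of an invertible module on `P^r_S` has a free generator over the preimage of a
neighbourhood of any given point of the base -/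
theorem locGen (N : (KRR.PY r S).Modules) (hN : PicF.IsInvertible N) (s : S) :
    ∃ (d : ℤ) (U : S.Opens)
      (b : Γ(CohB1.tensorMod N (Twist.twistOver r S (-d)), (KRR.pr r S) ⁻¹ᵁ U)),
      s ∈ U ∧ IsGen (CohB1.tensorMod N (Twist.twistOver r S (-d))) ((KRR.pr r S) ⁻¹ᵁ U) b := by
  obtain ⟨U₀, hU₀, hsU₀⟩ : ∃ U₀ : S.Opens, IsAffineOpen U₀ ∧ s ∈ U₀ := by
    obtain ⟨_, ⟨V, hV, rfl⟩, h, -⟩ := S.isBasis_affineOpens.exists_subset_of_mem_open
      (show s ∈ (⊤ : S.Opens) from trivial) (⊤ : S.Opens).2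
    exact ⟨V, hV, h⟩
  let π := KRR.pr r S
  let A : Type u := Γ(S, U₀)
  let D := FGSub.specDiag A
  let c := FGSub.specCone A
  obtain ⟨hc⟩ := FGSub.isLimit_specCone A
  let i₀ : (FGSub.Idx A)ᵒᵖ := op ⟨⊥, Subalgebra.fg_bot⟩
  let P₀ : Scheme.{u} := ↑(π ⁻¹ᵁ U₀)
  let ι₀ : P₀ ⟶ KRR.PY r S := (π ⁻¹ᵁ U₀).ι
  let π₀ : P₀ ⟶ ↑U₀ := π ∣_ U₀
  let g : P₀ ⟶ c.pt := π₀ ≫ hU₀.isoSpec.hom
  let D₀ : Scheme.{u} := D.obj i₀
  let a : KRR.PY r D₀ ⟶ D₀ := KRR.pr r D₀
  let qY : P₀ ⟶ KRR.PY r D₀ := pullback.lift (ι₀ ≫ fstY r S) (g ≫ c.π.app i₀)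
    (specULiftZIsTerminal.hom_ext _ _)
  have hq1 : qY ≫ fstY r D₀ = ι₀ ≫ fstY r S := pullback.lift_fst _ _ _
  have hq2 : qY ≫ a = g ≫ c.π.app i₀ := pullback.lift_snd _ _ _
  have sq1 : IsPullback ι₀ π₀ π U₀.ι := (isPullback_morphismRestrict π U₀).flip
  have sq2 : IsPullback (fstY r S) π (CohB1.ProjSpace.toSpec r (ULift.{u} ℤ))
      (specULiftZIsTerminal.from S) := IsPullback.of_hasPullback _ _
  have sq3 := sq1.paste_horiz sq2
  have sq4 : IsPullback (U₀.ι ≫ specULiftZIsTerminal.from S) hU₀.isoSpec.hom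
      (𝟙 (Spec (CommRingCat.of (ULift.{u} ℤ)))) (specULiftZIsTerminal.from c.pt) :=
    IsPullback.of_vert_isIso ⟨specULiftZIsTerminal.hom_ext _ _⟩
  have sq5 := sq3.paste_vert sq4
  rw [Category.comp_id] at sq5
  have tq : IsPullback (fstY r D₀) a (CohB1.ProjSpace.toSpec r (ULift.{u} ℤ))
      (specULiftZIsTerminal.from D₀) := IsPullback.of_hasPullback _ _
  have big : IsPullback (qY ≫ fstY r D₀) g (CohB1.ProjSpace.toSpec r (ULift.{u} ℤ))
      (c.π.app i₀ ≫ specULiftZIsTerminal.from D₀) := by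
    rw [hq1, show c.π.app i₀ ≫ specULiftZIsTerminal.from D₀ = specULiftZIsTerminal.from c.pt from
      specULiftZIsTerminal.hom_ext _ _]
    exact sq5
  have hY : IsPullback qY g a (c.π.app i₀) := IsPullback.of_right big hq2 tq
  -- the module to descend
  let N₀ : P₀.Modules := (Scheme.Modules.pullback ι₀).obj N
  have hN₀ : PicF.IsInvertible N₀ := PullGen.isInvertible_pullback ι₀ hN
  haveI : N₀.IsQuasicoherent := InvQc.isQuasicoherent_of_isInvertible N₀ hN₀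
  have hN₀fp : CohB1.IsFP N₀ :=
    StalkLim.isFP_of_isFinLocFreeOfRank N₀ (StalkLim.isFinLocFreeOfRank_one hN₀)
  have hI : ∀ {i j : (FGSub.Idx A)ᵒᵖ} (f : i ⟶ j), IsAffineHom (D.map f) :=
    fun f => inferInstance
  haveI : CompactSpace ↥(KRR.PY r D₀) := QuasiCompact.compactSpace_of_compactSpace a
  haveI : QuasiSeparatedSpace ↥(KRR.PY r D₀) := quasiSeparatedSpace_of_quasiSeparated a
  obtain ⟨j, Gj, hGjqc, hGjfp, ⟨e⟩⟩ := exists_descend_bc D c hc i₀ a hY N₀ hN₀fp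
  haveI := hGjqc
  have h1 : FlatMod.IsFinLocFreeOfRank 1
      ((Scheme.Modules.pullback (bcπ (D := D) (c := c) (a := a) hY j)).obj Gj) :=
    StalkLim.isFinLocFreeOfRank_of_iso e.symm (StalkLim.isFinLocFreeOfRank_one hN₀)
  haveI : ∀ (j k : Over i₀) (u : j ⟶ k), IsAffineHom ((bcDiagram D i₀ a).map u) :=
    fun _ _ u => inferInstance
  obtain ⟨k, φ, hk⟩ := (Groth.Agent.Lead.LimZ.isFinLocFreeOfRank_pullback_iff_eventually
    (bcDiagram D i₀ a) (bcCone (D := D) (c := c) (a := a) hY) (isLimitBcCone hc hY)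
    j Gj hGjfp 1).1 h1
  have hFk := StalkLim.isInvertible_of_rank_one hk
  let Nk : ((bcDiagram D i₀ a).obj k).Modules :=
    (Scheme.Modules.pullback ((bcDiagram D i₀ a).map φ)).obj Gj
  have eK : (Scheme.Modules.pullback (bcπ (D := D) (c := c) (a := a) hY k)).obj Nk ≅ N₀ :=
    (pullbackFacIso ((bcCone (D := D) (c := c) (a := a) hY).w φ) Gj).symm ≪≫ e
  -- the Noetherian stage
  let YB : Scheme.{u} := D.obj k.left
  haveI : IsLocallyNoetherian YB := by
    have hfg : (k.left.unop.1 : Subalgebra ℤ A).FG := k.left.unop.2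
    haveI : Algebra.FiniteType ℤ ↥k.left.unop.1 := (Subalgebra.fg_iff_finiteType _).1 hfg
    haveI : IsNoetherianRing ↥k.left.unop.1 := Algebra.FiniteType.isNoetherianRing ℤ _
    show IsLocallyNoetherian (Spec (CommRingCat.of ↥k.left.unop.1))
    infer_instance
  let Pk : Scheme.{u} := (bcDiagram D i₀ a).obj k
  let pk1 : Pk ⟶ KRR.PY r D₀ := pullback.fst a (D.map k.hom)
  let pk2 : Pk ⟶ YB := pullback.snd a (D.map k.hom)
  let bπ : P₀ ⟶ Pk := bcπ (D := D) (c := c) (a := a) hY k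
  have hb1 : bπ ≫ pk1 = qY := bcCone_π_fst (D := D) (c := c) (a := a) hY k
  have hb2 : bπ ≫ pk2 = g ≫ c.π.app k.left := bcCone_π_snd (D := D) (c := c) (a := a) hY k
  have hpsm := isPullback_psm r (D.map k.hom)
  let eB : KRR.PY r YB ≅ Pk := hpsm.isoPullback
  have eB_fst : eB.hom ≫ pk1 = KRR.projSpaceMap r (D.map k.hom) := hpsm.isoPullback_hom_fst
  have eB_snd : eB.hom ≫ pk2 = KRR.pr r YB := hpsm.isoPullback_hom_snd
  have e1 : KRR.projSpaceMap r (D.map k.hom) ≫ fstY r D₀ = fstY r YB := psm_fst r (D.map k.hom)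
  let NB : (KRR.PY r YB).Modules := (Scheme.Modules.pullback eB.hom).obj Nk
  have hNB : PicF.IsInvertible NB := PullGen.isInvertible_pullback _ hFk
  let Ψ : P₀ ⟶ KRR.PY r YB := bπ ≫ eB.inv
  have hΨe : Ψ ≫ eB.hom = bπ :=
    (Category.assoc bπ eB.inv eB.hom).trans
      ((congrArg (fun t => bπ ≫ t) eB.inv_hom_id).trans (Category.comp_id bπ))
  have hΨ1 : Ψ ≫ KRR.pr r YB = g ≫ c.π.app k.left := by
    rw [← eB_snd, ← hb2, ← hΨe]
    simp only [Category.assoc]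
  have hΨ2 : Ψ ≫ fstY r YB = ι₀ ≫ fstY r S := by
    rw [← e1, ← eB_fst, ← hq1, ← hb1, ← hΨe]
    simp only [Category.assoc]
  -- the local generator on the Noetherian stage
  let sU : (↑U₀ : Scheme.{u}) := ⟨s, hsU₀⟩
  let θ : (↑U₀ : Scheme.{u}) ⟶ YB := hU₀.isoSpec.hom ≫ c.π.app k.left
  obtain ⟨d, UB, b, htU, hb⟩ := locGen_noeth r YB NB hNB (θ sU)
  have hb' := PullGen.isGen_σ Ψ hb
  -- the comparison of modules
  obtain ⟨s1⟩ := Groth.Agent.Lead.PullTensorAll.nonempty_pullback_tensor_iso Ψ NB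
    (Twist.twistOver r YB (-d))
  have i1 : (Scheme.Modules.pullback Ψ).obj NB ≅ N₀ :=
    (Scheme.Modules.pullbackComp Ψ eB.hom).app Nk ≪≫
      (Scheme.Modules.pullbackCongr hΨe).app Nk ≪≫ eK
  have i2 : (Scheme.Modules.pullback Ψ).obj (Twist.twistOver r YB (-d)) ≅
      (Scheme.Modules.pullback ι₀).obj (Twist.twistOver r S (-d)) :=
    (Scheme.Modules.pullbackComp Ψ (fstY r YB)).app (Twist.twistProjSpace r (ULift.{u} ℤ) (-d)) ≪≫
      (Scheme.Modules.pullbackCongr hΨ2).app _ ≪≫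
      ((Scheme.Modules.pullbackComp ι₀ (fstY r S)).app
        (Twist.twistProjSpace r (ULift.{u} ℤ) (-d))).symm
  obtain ⟨s2⟩ := Groth.Agent.Lead.PullTensorAll.nonempty_pullback_tensor_iso ι₀ N
    (Twist.twistOver r S (-d))
  let M : (KRR.PY r S).Modules := CohB1.tensorMod N (Twist.twistOver r S (-d))
  have E : (Scheme.Modules.pullback Ψ).obj (CohB1.tensorMod NB (Twist.twistOver r YB (-d))) ≅
      M.restrict ι₀ :=
    s1 ≪≫ Groth.Agent.Lead.TilT.tensorModCongr i1 i2 ≪≫ s2.symm ≪≫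
      ((Scheme.Modules.restrictFunctorIsoPullback ι₀).app M).symm
  have hb'' := PullGen.isGen_of_iso_app E hb'
  haveI : IsOpenImmersion ι₀ := by
    show IsOpenImmersion (π ⁻¹ᵁ U₀).ι
    infer_instance
  have hG := isGen_of_restrict ι₀ M _ _ hb''
  -- the opens
  let V' : (↑U₀ : Scheme.{u}).Opens := θ ⁻¹ᵁ UB
  have hΨ1' : Ψ ≫ KRR.pr r YB = π₀ ≫ θ := by
    rw [hΨ1]
    change (π₀ ≫ hU₀.isoSpec.hom) ≫ c.π.app k.left = π₀ ≫ hU₀.isoSpec.hom ≫ c.π.app k.left
    rw [Category.assoc]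
  have hop : Ψ ⁻¹ᵁ ((KRR.pr r YB) ⁻¹ᵁ UB) = π₀ ⁻¹ᵁ V' := by
    change Ψ ⁻¹ᵁ ((KRR.pr r YB) ⁻¹ᵁ UB) = π₀ ⁻¹ᵁ (θ ⁻¹ᵁ UB)
    rw [← Scheme.Hom.comp_preimage, ← Scheme.Hom.comp_preimage, hΨ1']
  have him : ι₀ ''ᵁ (π₀ ⁻¹ᵁ V') = π ⁻¹ᵁ (U₀.ι ''ᵁ V') := image_morphismRestrict_preimage π U₀ V'
  have hle : π ⁻¹ᵁ (U₀.ι ''ᵁ V') ≤ ι₀ ''ᵁ (Ψ ⁻¹ᵁ ((KRR.pr r YB) ⁻¹ᵁ UB)) := by
    rw [hop, him]
  refine ⟨d, U₀.ι ''ᵁ V', _, ⟨sU, htU, rfl⟩, hG.res hle⟩

end Approx

end Groth.Agent.Helper1.PicGen
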