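import Mathlib
import Groth.Prelude.Def_KRR
import Groth.Agent.Lib.Helper1.PicGen2

/-!
# The Picard group of `P^r_S` over an arbitrary connected base: main theorem (helper1)
-/

set_option backward.isDefEq.respectTransparency.types false
set_option synthInstance.maxHeartbeats 400000
set_option maxHeartbeats 1000000
set_option autoImplicit false
set_option linter.unusedSectionVars false
set_option linter.style.haveILetI false
set_option linter.unusedVariables false

universe u
open CategoryTheory CategoryTheory.Limits AlgebraicGeometry TopologicalSpace Opposite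
open Groth.Agent.Lib.Helper4
open ZeroObject

namespace Groth.Agent.Helper1.PicGen

open Groth.Agent.Helper1.PnK0 Groth.Agent.Helper1.RegK Groth.Agent.Helper1.PicPn
open Groth.Agent.Helper1.LGen Groth.Agent.Helper1.QcCech Groth.Agent.Helper1.SubSh

section Main
variable (r : ℕ) (S : Scheme.{u})

/-- a global degree, for `r ≥ 1` over a connected base -/
theorem exists_n' [ConnectedSpace S] (hr : 1 ≤ r) (L : (KRR.PY r S).Modules)
    (hL : PicF.IsInvertible L) : ∃ n : ℤ, ∀ y : S, Pred r S L y n := by
  have H : ∀ y : S, ∃ (d : ℤ) (U : S.Opens), y ∈ U ∧ ∀ y' : S, y' ∈ U → Pred r S L y' d := by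
    intro y
    obtain ⟨d, U, b, hyU, hb⟩ := locGen r S L hL y
    exact ⟨d, U, hyU, fun y' hy' => pred_of_gen r S L d U b hb y' hy'⟩
  choose d U hU hd using H
  have hlc : IsLocallyConstant d := by
    rw [IsLocallyConstant.iff_exists_open]
    intro y
    exact ⟨(U y).1, (U y).2, hU y, fun y' hy' =>
      pred_uniq r S hr L y' (d y') (d y) (hd y' y' (hU y')) (hd y y' hy')⟩
  obtain ⟨y₀⟩ : Nonempty S := inferInstance
  refine ⟨d y₀, fun y => ?_⟩
  rw [← hlc.apply_eq_of_preconnectedSpace y y₀]
  exact hd y y (hU y)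

/-- **existence**: `L ≅ p^* L' ⊗ O(n)` -/
theorem existence' [ConnectedSpace S] (hr : 1 ≤ r) (L : (KRR.PY r S).Modules)
    (hL : PicF.IsInvertible L) :
    ∃ (L' : S.Modules) (n : ℤ), PicF.IsInvertible L' ∧
      Nonempty (L ≅ CohB1.tensorMod
        ((Scheme.Modules.pullback (CohB1.ProjSpaceOver.toBase r S)).obj L')
        (Twist.twistOver r S n)) := by
  obtain ⟨n, hn⟩ := exists_n' r S hr L hL
  have hloc : ∀ y : S, ∃ (U : S.Opens)
      (s : Γ(CohB1.tensorMod L (Twist.twistOver r S (-n)), (KRR.pr r S) ⁻¹ᵁ U)), y ∈ U ∧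
      IsGen (CohB1.tensorMod L (Twist.twistOver r S (-n))) ((KRR.pr r S) ⁻¹ᵁ U) s ∧
      ∀ V : S.Opens, V ≤ U → Function.Bijective ((KRR.pr r S).app V) := by
    intro y
    obtain ⟨d, U, b, hyU, hb⟩ := locGen r S L hL y
    have hdn : d = n := pred_uniq r S hr L y d n (pred_of_gen r S L d U b hb y hyU) (hn y)
    subst hdn
    exact ⟨U, b, hyU, hb, fun V _ => bijective_pr_app_all r S V⟩
  have hinv := Seesaw1.isInvertible_pushforward_of_locGen (KRR.pr r S)
    (CohB1.tensorMod L (Twist.twistOver r S (-n))) hloc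
  haveI hiso := Seesaw1.isIso_counit_of_locGen (KRR.pr r S)
    (CohB1.tensorMod L (Twist.twistOver r S (-n))) hloc
  have ε : (Scheme.Modules.pullback (KRR.pr r S)).obj
      ((Scheme.Modules.pushforward (KRR.pr r S)).obj
        (CohB1.tensorMod L (Twist.twistOver r S (-n)))) ≅
      CohB1.tensorMod L (Twist.twistOver r S (-n)) :=
    asIso ((Scheme.Modules.pullbackPushforwardAdjunction (KRR.pr r S)).counit.app
      (CohB1.tensorMod L (Twist.twistOver r S (-n))))
  obtain ⟨t⟩ := tw_inv r S (-n) n (neg_add_cancel n)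
  obtain ⟨a⟩ := absorb L (Twist.twistOver r S (-n)) (Twist.twistOver r S n) t
  exact ⟨(Scheme.Modules.pushforward (KRR.pr r S)).obj
      (CohB1.tensorMod L (Twist.twistOver r S (-n))), n, hinv,
    ⟨a.symm ≪≫ Groth.Agent.Lead.TilT.tensorModCongr ε.symm (Iso.refl _)⟩⟩

/-- **the Picard group of `P^r_S`** for a connected base `S` and `r ≥ 1` -/
theorem main' [ConnectedSpace S] (hr : 1 ≤ r) :
    (∀ N : (CohB1.ProjSpaceOver r S).Modules, PicF.IsInvertible N →
      ∃ (L : S.Modules) (d : ℤ), PicF.IsInvertible L ∧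
        Nonempty (N ≅ CohB1.tensorMod
          ((Scheme.Modules.pullback (CohB1.ProjSpaceOver.toBase r S)).obj L)
          (Twist.twistOver r S d))) ∧
    (∀ (L L' : S.Modules) (d d' : ℤ), PicF.IsInvertible L → PicF.IsInvertible L' →
      Nonempty (CohB1.tensorMod
          ((Scheme.Modules.pullback (CohB1.ProjSpaceOver.toBase r S)).obj L)
          (Twist.twistOver r S d) ≅
        CohB1.tensorMod ((Scheme.Modules.pullback (CohB1.ProjSpaceOver.toBase r S)).obj L')
          (Twist.twistOver r S d')) →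
      d = d' ∧ Nonempty (L ≅ L')) := by
  refine ⟨fun N hN => existence' r S hr N hN, fun L L' d d' hL hL' he => ?_⟩
  obtain ⟨e⟩ := he
  exact uniqueness' r S hr _ L L' d d' hL hL' (Iso.refl _) e

end Main

end Groth.Agent.Helper1.PicGen
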