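import Mathlib
import Groth.Agent.Lib.Helper1.PicGlueG

/-!
# Extending invertible modules across isolated one-dimensional Noetherian points
(helper1, PicGlueH)
-/
set_option autoImplicit false
universe u
open CategoryTheory CategoryTheory.Limits AlgebraicGeometry TopologicalSpace Opposite

namespace Groth.Agent.Helper1.PicGlue

open Groth.Agent.Helper1.QcCech Groth.Agent.Helper1.LGen Groth.Agent.Helper1
open Groth.Agent.Helper1.PullSec Groth.Agent.Helper1.TwForm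

variable {X : Scheme.{u}}

theorem resR_bijective_of_eq {O O' : X.Opens} (h : O' = O) :
    Function.Bijective (resR (le_of_eq h) : Γ(X, O) →+* Γ(X, O')) := by
  subst h
  exact ⟨fun a b hab => by rwa [resR_self, resR_self] at hab, fun b => ⟨b, resR_self _ b⟩⟩

theorem bijective_ι_app (U : X.Opens) (O : X.Opens) (hO : O ≤ U) :
    Function.Bijective (U.ι.app O).hom :=
  resR_bijective_of_eq (GenLoc.image_preimage_of_le U hO)

/-- local step of the extension: an invertible module on `U` is trivial on `U ∩ W'` for a small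
neighbourhood `W'` of an isolated one-dimensional Noetherian point of the complement -/
theorem exists_isGen_near (U : X.Opens) [QuasiCompact U.ι] (N : (↑U : Scheme.{u}).Modules)
    (hN : PicF.IsInvertible N) (x : X) (hx : x ∉ U) (Ω : X.Opens) (hxΩ : x ∈ Ω)
    (hΩ : ∀ z ∈ Ω, z ∉ U → z = x)
    [IsNoetherianRing (X.presheaf.stalk x)] (hd : ringKrullDim (X.presheaf.stalk x) ≤ 1) :
    ∃ (W' : X.Opens) (ℓ : Γ(N, U.ι ⁻¹ᵁ W')), W' ≤ Ω ∧ x ∈ W' ∧ IsGen N (U.ι ⁻¹ᵁ W') ℓ := by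
  classical
  obtain ⟨W, f, hW, hWΩ, hxW, hf⟩ := exists_local_cut U x hx Ω hxΩ hΩ hd
  have hO₁ : IsAffineOpen (U.ι ⁻¹ᵁ W) := by
    rw [← U.ι.isAffineOpen_iff_of_isOpenImmersion, U.ι.image_preimage_eq_opensRange_inf,
      Scheme.Opens.opensRange_ι, inf_comm, ← hf]
    exact hW.basicOpen f
  let F : Set (↑U : Scheme.{u}) := {z | z.1 ⤳ x}
  have hgen : {y : X | y ⤳ x}.Finite := by
    rw [← Scheme.range_fromSpecStalk]
    haveI : Finite ↥(Spec (X.presheaf.stalk x)) :=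
      finite_primeSpectrum_of_dim_le_one (X.presheaf.stalk x) hd
    exact Set.finite_range _
  have hFfin : F.Finite := hgen.preimage (Subtype.val_injective.injOn)
  have hFO₁ : F ⊆ (U.ι ⁻¹ᵁ W : (↑U : Scheme.{u}).Opens) := by
    intro z hz
    exact (show z.1 ⤳ x from hz).mem_open W.isOpen hxW
  have hanti : ∀ z ∈ F, ∀ z' ∈ F, z ⤳ z' → z = z' := by
    intro z hz z' hz' hs
    have hs1 : z.1 ⤳ z'.1 := hs.map U.ι.continuous
    have hzr : z.1 ∈ Set.range (X.fromSpecStalk x) := by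
      rw [Scheme.range_fromSpecStalk]; exact hz
    have hz'r : z'.1 ∈ Set.range (X.fromSpecStalk x) := by
      rw [Scheme.range_fromSpecStalk]; exact hz'
    obtain ⟨q, hq⟩ := hzr
    obtain ⟨q', hq'⟩ := hz'r
    have hs2 : q ⤳ q' := by
      rw [← (X.fromSpecStalk x).isEmbedding.isInducing.specializes_iff, hq, hq']
      exact hs1
    let q₀ : PrimeSpectrum (X.presheaf.stalk x) := q
    let q₀' : PrimeSpectrum (X.presheaf.stalk x) := q'
    have hle : q₀.asIdeal ≤ q₀'.asIdeal := (PrimeSpectrum.le_iff_specializes q₀ q₀').2 hs2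
    have hq'ne : q₀' ≠ IsLocalRing.closedPoint _ := by
      intro h
      have h2 : X.fromSpecStalk x q' = x := by
        change X.fromSpecStalk x q₀' = x
        rw [h]
        exact Scheme.fromSpecStalk_closedPoint
      rw [h2] at hq'
      exact hx (hq' ▸ z'.2)
    have hmin := DimOneAff.mem_minimalPrimes_of_ne_closedPoint _ hd q₀' hq'ne
    have hge : q₀'.asIdeal ≤ q₀.asIdeal := hmin.2 ⟨q₀.isPrime, bot_le⟩ hle
    have hqq : q₀ = q₀' := PrimeSpectrum.ext (le_antisymm hle hge)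
    apply Subtype.ext
    rw [← hq, ← hq']
    exact congrArg (fun r => (X.fromSpecStalk x r : X)) hqq
  obtain ⟨O', hO'O₁, g, hFO', hg⟩ := exists_isGen_of_finite N hN hO₁ F hFfin hFO₁ hanti
  have hcovF : ∀ z : F, ∃ g' : Γ(X, W), X.basicOpen g' ≤ U.ι ''ᵁ O' ∧
      z.1.1 ∈ X.basicOpen g' := by
    intro z
    have hzG : z.1.1 ∈ U.ι ''ᵁ O' := ⟨z.1, hFO' z.2, rfl⟩
    exact hW.exists_basicOpen_le (V := U.ι ''ᵁ O') ⟨z.1.1, hzG⟩ (hFO₁ z.2)
  choose gF hgF1 hgF2 using hcovF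
  haveI : Fintype F := hFfin.fintype
  let t : Finset Γ(X, W) := Finset.univ.image gF
  let p : Ideal Γ(X, W) := (hW.primeIdealOf ⟨x, hxW⟩).asIdeal
  have Mx := mem_primeIdealOf_iff hW x hxW
  obtain ⟨a, hap, ha⟩ := exists_shrink p f t (by
    intro q hq hqp hfq
    have Mq := mem_prime_iff_fromSpec hW ⟨q, hq⟩
    have hzW : hW.fromSpec ⟨q, hq⟩ ∈ W := fromSpec_mem hW ⟨q, hq⟩
    have hzf : hW.fromSpec ⟨q, hq⟩ ∈ X.basicOpen f := by
      by_contra h; exact hfq ((Mq f).2 h)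
    have hzU : hW.fromSpec ⟨q, hq⟩ ∈ U := by rw [hf] at hzf; exact hzf.2
    have hzx : hW.fromSpec ⟨q, hq⟩ ⤳ x := by
      have h1 : (⟨q, hq⟩ : PrimeSpectrum Γ(X, W)) ⤳ hW.primeIdealOf ⟨x, hxW⟩ :=
        (PrimeSpectrum.le_iff_specializes _ _).1 hqp
      have h2 := h1.map hW.fromSpec.continuous
      rwa [hW.fromSpec_primeIdealOf] at h2
    have hzF : (⟨hW.fromSpec ⟨q, hq⟩, hzU⟩ : (↑U : Scheme.{u})) ∈ F := hzx
    refine ⟨gF ⟨⟨hW.fromSpec ⟨q, hq⟩, hzU⟩, hzF⟩,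
      Finset.mem_image_of_mem _ (Finset.mem_univ _), ?_⟩
    intro hmem
    exact (Mq _).1 hmem (hgF2 ⟨⟨hW.fromSpec ⟨q, hq⟩, hzU⟩, hzF⟩))
  have hle : U.ι ⁻¹ᵁ X.basicOpen a ≤ O' := by
    intro w hw
    have hwa : w.1 ∈ X.basicOpen a := hw
    have hwW : w.1 ∈ W := X.basicOpen_le a hwa
    have Mw := mem_primeIdealOf_iff hW w.1 hwW
    have hwf : w.1 ∈ X.basicOpen f := by rw [hf]; exact ⟨hwW, w.2⟩
    obtain ⟨g', hg't, hg'q⟩ := ha (hW.primeIdealOf ⟨w.1, hwW⟩).asIdeal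
      (hW.primeIdealOf ⟨w.1, hwW⟩).isPrime
      (fun h => (Mw a).1 h hwa) (fun h => (Mw f).1 h hwf)
    have hwg' : w.1 ∈ X.basicOpen g' := by
      by_contra h; exact hg'q ((Mw g').2 h)
    obtain ⟨zF, -, rfl⟩ := Finset.mem_image.1 hg't
    obtain ⟨w', hw'O', hw'⟩ := hgF1 zF hwg'
    have hww : w' = w := Subtype.ext hw'
    rw [← hww]
    exact hw'O'
  refine ⟨X.basicOpen a, res N hle g, (X.basicOpen_le a).trans hWΩ, ?_, hg.res hle⟩
  by_contra h
  exact hap ((Mx a).2 h)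

/-- **S7669 (2)** -/
theorem main_S7669_2 (X : Scheme.{u}) (U : X.Opens) [QuasiCompact U.ι]
    (hdisc : DiscreteTopology ↥((U : Set X)ᶜ))
    (hloc : ∀ x : X, x ∉ U → IsNoetherianRing (X.presheaf.stalk x) ∧
      ringKrullDim (X.presheaf.stalk x) ≤ 1)
    (N : (↑U : Scheme.{u}).Modules) (hN : PicF.IsInvertible N) :
    ∃ L : X.Modules, PicF.IsInvertible L ∧ Nonempty (L.restrict U.ι ≅ N) := by
  classical
  have hlocal : ∀ y : X, ∃ (O : X.Opens) (ℓ : Γ(N, U.ι ⁻¹ᵁ O)), y ∈ O ∧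
      IsGen N (U.ι ⁻¹ᵁ O) ℓ ∧ (∀ z ∈ O, z ∉ U → z = y) := by
    intro y
    by_cases hy : y ∈ U
    · obtain ⟨W'', g, hyW'', hg⟩ := exists_isGen hN (⟨y, hy⟩ : (↑U : Scheme.{u}))
      have he : U.ι ⁻¹ᵁ (U.ι ''ᵁ W'') = W'' := U.ι.preimage_image_eq W''
      refine ⟨U.ι ''ᵁ W'', res N (le_of_eq he) g, ⟨⟨y, hy⟩, hyW'', rfl⟩, hg.res _, ?_⟩
      rintro z ⟨w, -, rfl⟩ hzU
      exact absurd w.2 hzU
    · have hyc : y ∈ ((U : Set X)ᶜ : Set X) := hy
      obtain ⟨t, ht, hts⟩ := isOpen_induced_iff.1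
        (isOpen_discrete ({⟨y, hyc⟩} : Set ((U : Set X)ᶜ : Set X)))
      have hyt : y ∈ t := by
        have : (⟨y, hyc⟩ : ((U : Set X)ᶜ : Set X)) ∈ Subtype.val ⁻¹' t := by
          rw [hts]; rfl
        exact this
      have hΩ : ∀ z ∈ (⟨t, ht⟩ : X.Opens), z ∉ U → z = y := by
        intro z hzt hzU
        have hz : (⟨z, hzU⟩ : ((U : Set X)ᶜ : Set X)) ∈ Subtype.val ⁻¹' t := hzt
        rw [hts] at hz
        exact congrArg Subtype.val hz
      haveI := (hloc y hy).1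
      obtain ⟨W', ℓ, hW'Ω, hyW', hℓ⟩ :=
        exists_isGen_near U N hN y hy ⟨t, ht⟩ hyt hΩ (hloc y hy).2
      exact ⟨W', ℓ, hyW', hℓ, fun z hz hzU => hΩ z (hW'Ω hz) hzU⟩
  choose O ℓ hyO hℓ hO using hlocal
  have hcov : iSup O = ⊤ := by
    apply top_le_iff.1
    intro y _
    exact Opens.mem_iSup.2 ⟨y, hyO y⟩
  have hOU : ∀ i j : X, i ≠ j → O i ⊓ O j ≤ U := by
    intro i j hij z hz
    by_contra hzU
    exact hij ((hO i z hz.1 hzU).symm.trans (hO j z hz.2 hzU))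
  obtain ⟨L, -, hL, -, e, -⟩ := descend U.ι N U (bijective_ι_app U) O hcov hOU ℓ hℓ
  exact ⟨L, hL, ⟨(Scheme.Modules.restrictFunctorIsoPullback U.ι).app L ≪≫ e⟩⟩

end Groth.Agent.Helper1.PicGlue
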