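import Mathlib
import Groth.Agent.Lib.Helper1.PicGlueJ

/-!
# Lifting invertible modules from a closed subscheme of dimension at most one along which the
ambient Noetherian scheme is topologically henselian (helper1, PicGlueL)
-/
set_option autoImplicit false
universe u
open CategoryTheory CategoryTheory.Limits AlgebraicGeometry TopologicalSpace Opposite

namespace Groth.Agent.Helper1.PicGlue

open Groth.Agent.Helper1.QcCech Groth.Agent.Helper1.LGen Groth.Agent.Helper1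
open Groth.Agent.Helper1.PullSec Groth.Agent.Helper1.TwForm

variable {X₀ X : Scheme.{u}} (i : X₀ ⟶ X) [IsClosedImmersion i] [IsNoetherian X]

set_option maxHeartbeats 1000000 in
/-- **local step** -/
theorem exists_unit_near_of_connected (hdim : topologicalKrullDim X₀ ≤ 1)
    (hb : ∀ Y : Set X, IsClosed Y → Y.Nonempty → _root_.IsConnected Y →
      (Y ∩ Set.range i.base).Nonempty ∧ _root_.IsConnected (Y ∩ Set.range i.base))
    (L : X₀.Modules) (hL : PicF.IsInvertible L)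
    (D : X₀.Opens) (ℓ : Γ(L, D)) (hℓ : IsGen L D ℓ)
    (z : X₀) (hz : IsClosed ({z} : Set X₀))
    (hDz : IsOpen ((D : Set X₀) ∪ {z})) :
    ∃ (U O' : X.Opens) (ℓz : Γ(L, i ⁻¹ᵁ U)) (g : (Γ(X, U ⊓ O'))ˣ), i z ∈ U ∧ i z ∉ O' ∧
      (∀ y : X, y ∉ O' → y ⤳ i z) ∧ (∀ z' : X₀, z' ≠ z → i z' ∈ O') ∧
      (∀ z' : X₀, i z' ∈ U → z' ∈ D ∨ z' = z) ∧
      IsGen L (i ⁻¹ᵁ U) ℓz ∧
      ∀ h : i ⁻¹ᵁ (U ⊓ O') ≤ D,
        res L (i.preimage_mono (inf_le_left : U ⊓ O' ≤ U)) ℓz =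
          (i.app (U ⊓ O')).hom (g : Γ(X, U ⊓ O')) • res L h ℓ := by
  classical
  have hemb := i.isClosedEmbedding
  haveI : NoetherianSpace X₀ := hemb.isInducing.noetherianSpace
  have hxcl : IsClosed ({i z} : Set X) := by
    have := hemb.isClosedMap _ hz
    rwa [Set.image_singleton] at this
  -- Step 1: a local generator near `z` and a punctured affine neighbourhood
  obtain ⟨W₁, ℓ₁, hzW₁, hℓ₁⟩ := exists_isGen hL z
  have hzΩ₀ : z ∈ W₁ ⊓ (⟨(D : Set X₀) ∪ {z}, hDz⟩ : X₀.Opens) := ⟨hzW₁, Or.inr rfl⟩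
  obtain ⟨W₀, h₀, hW₀, hW₀Ω, hzW₀, hh₀⟩ := exists_punctured_cut hdim z hz _ hzΩ₀
  obtain ⟨Ω₁, hΩ₁, hΩ₁eq⟩ := hemb.isInducing.isOpen_iff.1 W₀.isOpen
  have hxΩ₁ : i z ∈ (⟨Ω₁, hΩ₁⟩ : X.Opens) := by
    have : z ∈ i ⁻¹' Ω₁ := by rw [hΩ₁eq]; exact hzW₀
    exact this
  obtain ⟨W, hW, hxW, hWΩ₁⟩ := Opens.isBasis_iff_nbhd.1 X.isBasis_affineOpens hxΩ₁
  have hW' : IsAffineOpen (i ⁻¹ᵁ W) := hW.preimage i
  have hW'W₀ : i ⁻¹ᵁ W ≤ W₀ := by
    intro w hw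
    have h2 : w ∈ i ⁻¹' Ω₁ := hWΩ₁ hw
    rw [hΩ₁eq] at h2
    exact h2
  have hW'W₁ : i ⁻¹ᵁ W ≤ W₁ := hW'W₀.trans (hW₀Ω.trans inf_le_left)
  have hW'Dz : ∀ w ∈ i ⁻¹ᵁ W, w ∈ D ∨ w = z := fun w hw => (hW₀Ω (hW'W₀ hw)).2
  obtain ⟨fb, hfbdef⟩ : ∃ fb : Γ(X₀, i ⁻¹ᵁ W), fb = resR hW'W₀ h₀ := ⟨_, rfl⟩
  have hfbmem : ∀ w ∈ i ⁻¹ᵁ W, w ∈ X₀.basicOpen fb ↔ w ≠ z := by
    intro w hw
    rw [hfbdef, mem_basicOpen_resR hW'W₀ h₀ w hw]
    exact hh₀ w (hW'W₀ hw)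
  have hsurj : Function.Surjective (i.app W).hom := i.app_surjective W hW
  obtain ⟨f, hfb⟩ := hsurj fb
  have hpre : i ⁻¹ᵁ X.basicOpen f = X₀.basicOpen fb := by
    rw [← hfb]; exact Scheme.preimage_basicOpen i f
  have hfbD : X₀.basicOpen fb ≤ D := by
    intro w hw
    have hwW := X₀.basicOpen_le fb hw
    rcases hW'Dz w hwW with h | h
    · exact h
    · exact absurd h ((hfbmem w hwW).1 hw)
  -- Step 2: the transition unit on the punctured neighbourhood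
  have g1 : IsGen L (X₀.basicOpen fb) (res L hfbD ℓ) := hℓ.res _
  have g2 : IsGen L (X₀.basicOpen fb) (res L ((X₀.basicOpen_le fb).trans hW'W₁) ℓ₁) :=
    hℓ₁.res _
  obtain ⟨u, hu⟩ := IsGen.exists_unit g1 g2
  have hloc := hW'.isLocalization_basicOpen fb
  obtain ⟨⟨b, ⟨_, k, rfl⟩⟩, hk⟩ := IsLocalization.surj (Submonoid.powers fb)
    (u : Γ(X₀, X₀.basicOpen fb))
  have hk' : (u : Γ(X₀, X₀.basicOpen fb)) * resR (X₀.basicOpen_le fb) (fb ^ k) =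
      resR (X₀.basicOpen_le fb) b := hk
  obtain ⟨c, hc⟩ := hsurj b
  have hfbb : X₀.basicOpen fb ≤ X₀.basicOpen b := by
    apply (GenLoc.isUnit_res_iff b (X₀.basicOpen fb) (X₀.basicOpen_le fb)).1
    rw [← hk', map_pow]
    exact u.isUnit.mul ((X₀.toRingedSpace.isUnit_res_basicOpen fb).pow k)
  have hprec : i ⁻¹ᵁ X.basicOpen c = X₀.basicOpen b := by
    rw [← hc]; exact Scheme.preimage_basicOpen i c
  -- the unit on opens where `c` and `f` are invertible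
  have main : ∀ (O : X.Opens) (hOc : O ≤ X.basicOpen c) (hOf : O ≤ X.basicOpen f)
      (hO'fb : i ⁻¹ᵁ O ≤ X₀.basicOpen fb), ∃ g₀ : (Γ(X, O))ˣ,
      (i.app O).hom (g₀ : Γ(X, O)) = resR hO'fb (u : Γ(X₀, X₀.basicOpen fb)) := by
    intro O hOc hOf hO'fb
    have hOW : O ≤ W := hOf.trans (X.basicOpen_le f)
    have huc : IsUnit (resR hOW c) := (GenLoc.isUnit_res_iff c O hOW).2 hOc
    have huf : IsUnit (resR hOW f) := (GenLoc.isUnit_res_iff f O hOW).2 hOf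
    have hO'W' : i ⁻¹ᵁ O ≤ i ⁻¹ᵁ W := i.preimage_mono hOW
    have hF : IsUnit (resR hO'W' fb) := by
      have := huf.map (i.app O).hom
      rwa [app_resR, hfb] at this
    obtain ⟨g₀, h3⟩ : ∃ g₀ : (Γ(X, O))ˣ, (g₀ : Γ(X, O)) * resR hOW f ^ k = resR hOW c := by
      refine ⟨huc.unit * (huf.unit ^ k)⁻¹, ?_⟩
      have h4 : (huc.unit * (huf.unit ^ k)⁻¹) * huf.unit ^ k = huc.unit :=
        inv_mul_cancel_right _ _
      have h5 := congrArg Units.val h4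
      rwa [Units.val_mul, Units.val_pow_eq_pow_val, IsUnit.unit_spec, IsUnit.unit_spec] at h5
    refine ⟨g₀, ?_⟩
    apply (hF.pow k).mul_left_inj.1
    have hL : (i.app O).hom (g₀ : Γ(X, O)) * resR hO'W' fb ^ k = resR hO'W' b := by
      have h6 := congrArg (i.app O).hom h3
      rw [map_mul, map_pow, app_resR, app_resR, hfb, hc] at h6
      exact h6
    have hR : resR hO'fb (u : Γ(X₀, X₀.basicOpen fb)) * resR hO'W' fb ^ k = resR hO'W' b := by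
      have h7 := congrArg (resR hO'fb) hk'
      rw [map_mul, resR_resR, resR_resR, map_pow] at h7
      exact h7
    rw [hL, hR]
  -- Step 3: the closed set cut out by `c` and `f`
  obtain ⟨O₁, hO₁def⟩ : ∃ O₁ : X.Opens, O₁ = X.basicOpen c ⊓ X.basicOpen f := ⟨_, rfl⟩
  have hO₁c : O₁ ≤ X.basicOpen c := by rw [hO₁def]; exact inf_le_left
  have hO₁f : O₁ ≤ X.basicOpen f := by rw [hO₁def]; exact inf_le_right
  have hK : IsClosed ((O₁ : Set X)ᶜ) := O₁.isOpen.isClosed_compl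
  have hb1 : ∀ w ∈ i ⁻¹ᵁ W, w ≠ z → i w ∈ O₁ := by
    intro w hw hne
    have hwfb : w ∈ X₀.basicOpen fb := (hfbmem w hw).2 hne
    rw [hO₁def]
    constructor
    · have : w ∈ i ⁻¹ᵁ X.basicOpen c := by rw [hprec]; exact hfbb hwfb
      exact this
    · have : w ∈ i ⁻¹ᵁ X.basicOpen f := by rw [hpre]; exact hwfb
      exact this
  have hxK : i z ∉ O₁ := by
    intro h
    have h1 : z ∈ i ⁻¹ᵁ X.basicOpen f := hO₁f h
    rw [hpre] at h1
    exact (hfbmem z hxW).1 h1 rfl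
  obtain ⟨S, hSirr, hSeq⟩ := NoetherianSpace.exists_finset_irreducible
    (⟨closure ((W : Set X) ∩ (O₁ : Set X)ᶜ), isClosed_closure⟩ : Closeds X)
  have hZeq : closure ((W : Set X) ∩ (O₁ : Set X)ᶜ) = ⋃ T ∈ S, (T : Set X) := by
    have := congrArg (fun c : Closeds X => (c : Set X)) hSeq
    simp only [Closeds.coe_mk] at this
    rw [this, Closeds.coe_finset_sup, Finset.sup_set_eq_biUnion]
    rfl
  have hTK : ∀ T ∈ S, ∀ y ∈ (T : Set X), y ∉ O₁ := by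
    intro T hT y hy
    have h1 : y ∈ closure ((W : Set X) ∩ (O₁ : Set X)ᶜ) := by
      rw [hZeq]; exact Set.mem_biUnion hT hy
    exact closure_minimal Set.inter_subset_right hK h1
  -- components through `i z` meet the image of `i` only in `i z`
  have hd : ∀ T ∈ S, i z ∈ (T : Set X) → ∀ y ∈ (T : Set X), y ∈ Set.range i.base → y = i z := by
    intro T hT hxT y hyT hyr
    by_contra hne
    have hbT := hb (T : Set X) T.isClosed ⟨i z, hxT⟩ (hSirr ⟨T, hT⟩).isConnected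
    obtain ⟨y', ⟨hy'T, hy'r⟩, hy'W, hy'ne⟩ := hbT.2.2 (W : Set X) ({i z} : Set X)ᶜ W.isOpen
      hxcl.isOpen_compl
      (by
        intro y'' _
        by_cases h : y'' = i z
        · left; rw [h]; exact hxW
        · right; exact h)
      ⟨i z, ⟨hxT, ⟨z, rfl⟩⟩, hxW⟩ ⟨y, ⟨hyT, hyr⟩, hne⟩
    obtain ⟨w, rfl⟩ := hy'r
    have hwz : w ≠ z := fun h => hy'ne (by rw [h]; rfl)
    exact hTK T hT _ hy'T (hb1 w hy'W hwz)
  have he : ∀ T ∈ S, i z ∈ (T : Set X) → ∀ y ∈ (T : Set X), y ⤳ i z := by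
    intro T hT hxT y hyT
    obtain ⟨cp, hcpy, hcpcl⟩ := IsClosed.exists_closed_singleton
      (isClosed_closure (s := ({y} : Set X))) ⟨y, subset_closure rfl⟩
    have hcpT : cp ∈ (T : Set X) :=
      closure_minimal (Set.singleton_subset_iff.2 hyT) T.isClosed hcpy
    have hcpr : cp ∈ Set.range i.base := by
      obtain ⟨q, hq1, hq2⟩ := (hb {cp} hcpcl ⟨cp, rfl⟩ isConnected_singleton).1
      have : q = cp := hq1
      rw [this] at hq2
      exact hq2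
    have := hd T hT hxT cp hcpT hcpr
    rw [this] at hcpy
    exact specializes_iff_mem_closure.2 hcpy
  obtain ⟨Y', hY'mem⟩ : ∃ Y' : Set X, ∀ y, y ∈ Y' ↔ ∃ T ∈ S, i z ∈ (T : Set X) ∧ y ∈ (T : Set X) := by
    refine ⟨⋃ T ∈ S.filter (fun T : Closeds X => i z ∈ (T : Set X)), (T : Set X), fun y => ?_⟩
    constructor
    · intro hy
      obtain ⟨T, hT, hyT⟩ := Set.mem_iUnion₂.1 hy
      exact ⟨T, (Finset.mem_filter.1 hT).1, (Finset.mem_filter.1 hT).2, hyT⟩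
    · rintro ⟨T, hT, hxT, hyT⟩
      exact Set.mem_biUnion (Finset.mem_filter.2 ⟨hT, hxT⟩) hyT
  have hY'cl : IsClosed Y' := by
    have : Y' = ⋃ T ∈ S.filter (fun T : Closeds X => i z ∈ (T : Set X)), (T : Set X) := by
      ext y
      rw [hY'mem y]
      constructor
      · rintro ⟨T, hT, hxT, hyT⟩
        exact Set.mem_biUnion (Finset.mem_filter.2 ⟨hT, hxT⟩) hyT
      · intro hy
        obtain ⟨T, hT, hyT⟩ := Set.mem_iUnion₂.1 hy
        exact ⟨T, (Finset.mem_filter.1 hT).1, (Finset.mem_filter.1 hT).2, hyT⟩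
    rw [this]
    exact (S.filter (fun T : Closeds X => i z ∈ (T : Set X))).finite_toSet.isClosed_biUnion
      fun T _ => T.isClosed
  have hY''cl : IsClosed (⋃ T ∈ S.filter (fun T : Closeds X => i z ∉ (T : Set X)), (T : Set X)) :=
    (S.filter (fun T : Closeds X => i z ∉ (T : Set X))).finite_toSet.isClosed_biUnion
      fun T _ => T.isClosed
  obtain ⟨U, hUmem⟩ : ∃ U : X.Opens, ∀ y, y ∈ U ↔ y ∈ W ∧ ∀ T ∈ S, i z ∉ (T : Set X) →
      y ∉ (T : Set X) := by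
    refine ⟨W ⊓ ⟨(⋃ T ∈ S.filter (fun T : Closeds X => i z ∉ (T : Set X)), (T : Set X))ᶜ,
      hY''cl.isOpen_compl⟩, fun y => ?_⟩
    constructor
    · rintro ⟨hyW, hy⟩
      refine ⟨hyW, fun T hT hxT hyT => hy ?_⟩
      exact Set.mem_biUnion (Finset.mem_filter.2 ⟨hT, hxT⟩) hyT
    · rintro ⟨hyW, hy⟩
      refine ⟨hyW, fun hmem => ?_⟩
      obtain ⟨T, hT, hyT⟩ := Set.mem_iUnion₂.1 hmem
      exact hy T (Finset.mem_filter.1 hT).1 (Finset.mem_filter.1 hT).2 hyT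
  obtain ⟨O', hO'mem⟩ : ∃ O' : X.Opens, ∀ y, y ∈ O' ↔ y ∉ Y' :=
    ⟨⟨Y'ᶜ, hY'cl.isOpen_compl⟩, fun y => Iff.rfl⟩
  have hUO₁ : U ⊓ O' ≤ O₁ := by
    intro y hy
    by_contra hyO₁
    have hyW : y ∈ W := ((hUmem y).1 hy.1).1
    have h1 : y ∈ closure ((W : Set X) ∩ (O₁ : Set X)ᶜ) := subset_closure ⟨hyW, hyO₁⟩
    rw [hZeq] at h1
    obtain ⟨T, hT, hyT⟩ := Set.mem_iUnion₂.1 h1
    by_cases hxT : i z ∈ (T : Set X)
    · exact (hO'mem y).1 hy.2 ((hY'mem y).2 ⟨T, hT, hxT, hyT⟩)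
    · exact ((hUmem y).1 hy.1).2 T hT hxT hyT
  have hxU : i z ∈ U := (hUmem (i z)).2 ⟨hxW, fun T _ hxT hxT' => hxT hxT'⟩
  have hxY' : i z ∈ Y' := by
    have h1 : i z ∈ closure ((W : Set X) ∩ (O₁ : Set X)ᶜ) := subset_closure ⟨hxW, hxK⟩
    rw [hZeq] at h1
    obtain ⟨T, hT, hxT⟩ := Set.mem_iUnion₂.1 h1
    exact (hY'mem (i z)).2 ⟨T, hT, hxT, hxT⟩
  have hUW₁ : i ⁻¹ᵁ U ≤ W₁ := by
    intro w hw
    exact hW'W₁ ((hUmem (i w)).1 hw).1
  have hO'fb : i ⁻¹ᵁ (U ⊓ O') ≤ X₀.basicOpen fb := by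
    rw [← hpre]; exact i.preimage_mono (hUO₁.trans hO₁f)
  obtain ⟨g₀, key⟩ := main (U ⊓ O') (hUO₁.trans hO₁c) (hUO₁.trans hO₁f) hO'fb
  refine ⟨U, O', res L hUW₁ ℓ₁, g₀, hxU, fun h => (hO'mem (i z)).1 h hxY', ?_, ?_, ?_,
    hℓ₁.res hUW₁, ?_⟩
  · intro y hy
    have hyY' : y ∈ Y' := by
      by_contra h
      exact hy ((hO'mem y).2 h)
    obtain ⟨T, hT, hxT, hyT⟩ := (hY'mem y).1 hyY'
    exact he T hT hxT y hyT
  · intro z' hne
    rw [hO'mem]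
    intro hmem
    obtain ⟨T, hT, hxT, hyT⟩ := (hY'mem _).1 hmem
    have := hd T hT hxT (i z') hyT ⟨z', rfl⟩
    exact hne (hemb.injective this)
  · intro z' hz'
    exact hW'Dz z' ((hUmem (i z')).1 hz').1
  · intro h
    rw [res_res, key]
    have e1 := congrArg (res L hO'fb) hu
    rw [res_smul, res_res, res_res] at e1
    exact e1

/-- **S8550**, module form -/
theorem main_S8550_mod (hdim : topologicalKrullDim X₀ ≤ 1)
    (hb : ∀ Y : Set X, IsClosed Y → Y.Nonempty → _root_.IsConnected Y →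
      (Y ∩ Set.range i.base).Nonempty ∧ _root_.IsConnected (Y ∩ Set.range i.base))
    (L : X₀.Modules) (hL : PicF.IsInvertible L) :
    ∃ L' : X.Modules, PicF.IsInvertible L' ∧
      Nonempty ((Scheme.Modules.pullback i).obj L' ≅ L) := by
  classical
  have hemb := i.isClosedEmbedding
  haveI : NoetherianSpace X₀ := hemb.isInducing.noetherianSpace
  obtain ⟨D, ℓD, hℓD, hDfin, hDcl⟩ := exists_dense_trivialization hdim L hL
  haveI : Finite ↥((D : Set X₀)ᶜ) := hDfin.to_subtype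
  have hloc : ∀ z : ↥((D : Set X₀)ᶜ), ∃ (U O' : X.Opens) (ℓz : Γ(L, i ⁻¹ᵁ U))
      (g : (Γ(X, U ⊓ O'))ˣ), i z.1 ∈ U ∧ i z.1 ∉ O' ∧
      (∀ y : X, y ∉ O' → y ⤳ i z.1) ∧ (∀ z' : X₀, z' ≠ z.1 → i z' ∈ O') ∧
      (∀ z' : X₀, i z' ∈ U → z' ∈ D ∨ z' = z.1) ∧
      IsGen L (i ⁻¹ᵁ U) ℓz ∧
      ∀ h : i ⁻¹ᵁ (U ⊓ O') ≤ D,
        res L (i.preimage_mono (inf_le_left : U ⊓ O' ≤ U)) ℓz =
          (i.app (U ⊓ O')).hom (g : Γ(X, U ⊓ O')) • res L h ℓD := by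
    intro z
    have hzD : z.1 ∉ D := z.2
    have hopen : IsOpen ((D : Set X₀) ∪ {z.1}) := by
      have hcl : IsClosed ((D : Set X₀)ᶜ \ {z.1}) := by
        have hfin : ((D : Set X₀)ᶜ \ {z.1}).Finite := hDfin.subset Set.sdiff_subset
        have : ((D : Set X₀)ᶜ \ {z.1}) = ⋃ y ∈ ((D : Set X₀)ᶜ \ {z.1}), ({y} : Set X₀) :=
          (Set.biUnion_of_singleton _).symm
        rw [this]
        exact hfin.isClosed_biUnion fun y hy => hDcl y hy.1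
      convert hcl.isOpen_compl using 1
      ext w
      constructor
      · rintro (h | h) h'
        · exact h'.1 h
        · exact h'.2 h
      · intro h
        by_cases hw : w ∈ D
        · exact Or.inl hw
        · right
          by_contra hne
          exact h ⟨hw, hne⟩
    exact exists_unit_near_of_connected i hdim hb L hL D ℓD hℓD z.1 (hDcl z.1 hzD) hopen
  choose U O' ℓz g hxU hxO' hspec hO'others hUD hℓz hrel using hloc
  obtain ⟨V, hVmem⟩ : ∃ V : X.Opens, ∀ y, y ∈ V ↔ ∀ z, y ∈ O' z := by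
    refine ⟨⟨(⋃ z, ((O' z : Set X))ᶜ)ᶜ, (isClosed_iUnion_of_finite
      fun z => (O' z).isOpen.isClosed_compl).isOpen_compl⟩, fun y => ?_⟩
    constructor
    · intro hy z
      by_contra h
      exact hy (Set.mem_iUnion.2 ⟨z, h⟩)
    · intro hy hmem
      obtain ⟨z, hz⟩ := Set.mem_iUnion.1 hmem
      exact hz (hy z)
  have hUc : ∀ z : ↥((D : Set X₀)ᶜ), ∃ Uc : X.Opens, ∀ y, y ∈ Uc ↔
      y ∈ U z ∧ ∀ z', z' ≠ z → y ∈ O' z' := by
    intro z
    refine ⟨U z ⊓ ⟨(⋃ z' : {z' : ↥((D : Set X₀)ᶜ) // z' ≠ z}, ((O' z'.1 : Set X))ᶜ)ᶜ,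
      (isClosed_iUnion_of_finite fun z' : {z' : ↥((D : Set X₀)ᶜ) // z' ≠ z} =>
        (O' z'.1).isOpen.isClosed_compl).isOpen_compl⟩, fun y => ?_⟩
    constructor
    · rintro ⟨hyU, hy⟩
      refine ⟨hyU, fun z' hne => ?_⟩
      by_contra h
      exact hy (Set.mem_iUnion.2 ⟨⟨z', hne⟩, h⟩)
    · rintro ⟨hyU, hy⟩
      refine ⟨hyU, fun hmem => ?_⟩
      obtain ⟨z', h⟩ := Set.mem_iUnion.1 hmem
      exact h (hy z'.1 z'.2)
  choose Uc hUcmem using hUc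
  have hVD : i ⁻¹ᵁ V ≤ D := by
    intro w hw
    by_contra hwD
    exact hxO' ⟨w, hwD⟩ ((hVmem (i w)).1 hw ⟨w, hwD⟩)
  have hℓV : IsGen L (i ⁻¹ᵁ V) (res L hVD ℓD) := hℓD.res hVD
  have hUcU : ∀ z, Uc z ≤ U z := fun z y hy => ((hUcmem z y).1 hy).1
  have hUcVle : ∀ z, Uc z ⊓ V ≤ U z ⊓ O' z := fun z y hy =>
    ⟨hUcU z hy.1, (hVmem y).1 hy.2 z⟩
  refine glueOpt i L V (res L hVD ℓD) hℓV Uc ?_ ?_
    (fun z => res L (i.preimage_mono (hUcU z)) (ℓz z)) (fun z => (hℓz z).res _)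
    (fun z => rU (hUcVle z) (g z)) ?_
  · intro y
    by_cases hyV : y ∈ V
    · exact Or.inl hyV
    · right
      rw [hVmem] at hyV
      push Not at hyV
      obtain ⟨z, hz⟩ := hyV
      refine ⟨z, ?_⟩
      have hsp := hspec z y hz
      have hxUc : i z.1 ∈ Uc z := (hUcmem z _).2 ⟨hxU z, fun z' hne =>
        hO'others z' z.1 (fun h => hne (Subtype.ext h.symm))⟩
      exact hsp.mem_open (Uc z).isOpen hxUc
  · intro z z' hne y hy
    rw [hVmem]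
    intro z''
    by_cases h : z'' = z
    · rw [h]
      exact ((hUcmem z' y).1 hy.2).2 z hne
    · exact ((hUcmem z y).1 hy.1).2 z'' h
  · intro z
    have hD' : i ⁻¹ᵁ (U z ⊓ O' z) ≤ D := by
      intro w hw
      rcases hUD z w hw.1 with h | h
      · exact h
      · subst h
        exact absurd hw.2 (hxO' z)
    have e1 := congrArg (res L (i.preimage_mono (hUcVle z))) (hrel z hD')
    rw [res_smul, res_res, res_res, ← app_resR i (hUcVle z)] at e1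
    rw [res_res, res_res, rU_val]
    exact e1

/-- **S8550** -/
theorem main_S8550 (hdim : topologicalKrullDim X₀ ≤ 1)
    (hb : ∀ Y : Set X, IsClosed Y → Y.Nonempty → _root_.IsConnected Y →
      (Y ∩ Set.range i.base).Nonempty ∧ _root_.IsConnected (Y ∩ Set.range i.base))
    (c : PicF.Cl X₀) (hc : PicF.IsInvertibleCl c) :
    ∃ d : PicF.Cl X, PicF.IsInvertibleCl d ∧ PicF.pullCl i d = c := by
  obtain ⟨L, rfl, hL⟩ := hc
  obtain ⟨L', hL', ⟨e⟩⟩ := main_S8550_mod i hdim hb L hL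
  exact ⟨PicF.cl L', ⟨L', rfl, hL'⟩, Quot.sound ⟨e⟩⟩

end Groth.Agent.Helper1.PicGlue
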