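import Mathlib
import Groth.Agent.Lib.Helper1.PicGlueL

/-!
# Proper schemes over henselian local rings with fibres of dimension at most one: invertible
modules lift from the closed fibre (helper1, PicGlueM)
-/
set_option autoImplicit false
universe u
open CategoryTheory CategoryTheory.Limits AlgebraicGeometry TopologicalSpace Opposite

namespace Groth.Agent.Helper1.PicGlue

/-- connectedness of the trace on `V(I)` of connected closed subsets, from the lifting of clopen
subsets along closed immersions -/
theorem inter_connected_of_couple (A : Type u) [CommRing A] (I : Ideal A) {X : Scheme.{u}}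
    (f : X ⟶ Spec (CommRingCat.of A))
    (hcouple : ∀ (Y : Scheme.{u}) (g : Y ⟶ X), IsFinite g →
      ∀ V : Set ↥(pullback g (pullback.fst f (Spec.map (CommRingCat.ofHom (Ideal.Quotient.mk I))))),
        IsClopen V →
        ∃! U : Set ↥Y, IsClopen U ∧ (pullback.fst g (pullback.fst f
          (Spec.map (CommRingCat.ofHom (Ideal.Quotient.mk I))))).base ⁻¹' U = V)
    (Y : Set X) (hY : IsClosed Y) (hne : Y.Nonempty) (hconn : _root_.IsConnected Y) :
    _root_.IsConnected (Y ∩ f.base ⁻¹' (PrimeSpectrum.zeroLocus (I : Set A))) := by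
  classical
  let J := Scheme.IdealSheafData.vanishingIdeal (⟨Y, hY⟩ : Closeds X)
  have hrange : Set.range J.subschemeι = Y := by
    rw [J.range_subschemeι]
    simp [J]
  have hσ : Set.range (Spec.map (CommRingCat.ofHom (Ideal.Quotient.mk I))) =
      PrimeSpectrum.zeroLocus (I : Set A) := by
    have := _root_.range_comap_of_surjective _ (Ideal.Quotient.mk I)
      Ideal.Quotient.mk_surjective
    rw [Ideal.mk_ker] at this
    exact this
  have hemb := J.subschemeι.isClosedEmbedding
  -- the subscheme is connected
  haveI : PreconnectedSpace ↥J.subscheme := by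
    rw [preconnectedSpace_iff_univ]
    rw [← hemb.isInducing.isPreconnected_image, Set.image_univ, hrange]
    exact hconn.isPreconnected
  haveI : Nonempty ↥J.subscheme := by
    obtain ⟨y, hy⟩ := hne
    rw [← hrange] at hy
    obtain ⟨w, -⟩ := hy
    exact ⟨w⟩
  have hc := hcouple J.subscheme J.subschemeι inferInstance
  -- the pullback is nonempty
  haveI hPne : Nonempty ↥(pullback J.subschemeι (pullback.fst f
      (Spec.map (CommRingCat.ofHom (Ideal.Quotient.mk I))))) := by
    by_contra hemp
    rw [not_nonempty_iff] at hemp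
    obtain ⟨U, -, hU⟩ := hc ∅ isClopen_empty
    have h1 := hU ∅ ⟨isClopen_empty, Set.preimage_empty⟩
    have h2 := hU Set.univ ⟨isClopen_univ, Set.eq_empty_of_isEmpty _⟩
    have h3 : (∅ : Set ↥J.subscheme) = Set.univ := h1.trans h2.symm
    exact Set.empty_ne_univ h3
  haveI : PreconnectedSpace ↥(pullback J.subschemeι (pullback.fst f
      (Spec.map (CommRingCat.ofHom (Ideal.Quotient.mk I))))) := by
    rw [preconnectedSpace_iff_clopen]
    intro V hV
    obtain ⟨U, ⟨hUcl, hUV⟩, -⟩ := hc V hV
    rcases isClopen_iff.1 hUcl with h | h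
    · left; rw [← hUV, h, Set.preimage_empty]
    · right; rw [← hUV, h, Set.preimage_univ]
  haveI : ConnectedSpace ↥(pullback J.subschemeι (pullback.fst f
      (Spec.map (CommRingCat.ofHom (Ideal.Quotient.mk I))))) :=
    { toPreconnectedSpace := inferInstance, toNonempty := inferInstance }
  have hr := isConnected_range (pullback.fst J.subschemeι (pullback.fst f
      (Spec.map (CommRingCat.ofHom (Ideal.Quotient.mk I)))) ≫ J.subschemeι).continuous
  have hr2 : Set.range (pullback.fst J.subschemeι (pullback.fst f
      (Spec.map (CommRingCat.ofHom (Ideal.Quotient.mk I)))) ≫ J.subschemeι) =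
      Y ∩ f.base ⁻¹' (PrimeSpectrum.zeroLocus (I : Set A)) := by
    rw [Scheme.Pullback.range_fst_comp, hrange, Scheme.Pullback.range_fst, hσ]
  rw [← hr2]
  exact hr

/-- **S3501**, assuming the lifting of clopen subsets along finite morphisms -/
theorem main_S3501 (A : Type u) [CommRing A] [IsNoetherianRing A] [IsLocalRing A]
    (X : Scheme.{u}) (f : X ⟶ Spec (CommRingCat.of A)) [IsProper f]
    (hcouple : ∀ (Y : Scheme.{u}) (g : Y ⟶ X), IsFinite g →
      ∀ V : Set ↥(pullback g (pullback.fst f (Spec.map (CommRingCat.ofHom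
        (Ideal.Quotient.mk (IsLocalRing.maximalIdeal A)))))),
        IsClopen V →
        ∃! U : Set ↥Y, IsClopen U ∧ (pullback.fst g (pullback.fst f
          (Spec.map (CommRingCat.ofHom (Ideal.Quotient.mk (IsLocalRing.maximalIdeal A)))))).base ⁻¹' U
            = V)
    (hrel : ∀ s : Spec (CommRingCat.of A),
      topologicalKrullDim ↥(pullback f ((Spec (CommRingCat.of A)).fromSpecResidueField s)) ≤ 1)
    (X₀' : Scheme.{u}) (i : X₀' ⟶ X) [IsClosedImmersion i]
    (hi : Set.range i.base = f.base ⁻¹' {IsLocalRing.closedPoint A})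
    (c : PicF.Cl X₀') (hc : PicF.IsInvertibleCl c) :
    ∃ d : PicF.Cl X, PicF.IsInvertibleCl d ∧ PicF.pullCl i d = c := by
  classical
  haveI : IsLocallyNoetherian X := LocallyOfFiniteType.isLocallyNoetherian f
  haveI : CompactSpace X := QuasiCompact.compactSpace_of_compactSpace f
  haveI : IsNoetherian X := {}
  have hzl : PrimeSpectrum.zeroLocus ((IsLocalRing.maximalIdeal A : Ideal A) : Set A) =
      {IsLocalRing.closedPoint A} := by
    ext y
    rw [PrimeSpectrum.mem_zeroLocus, Set.mem_singleton_iff]
    constructor
    · intro h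
      apply PrimeSpectrum.ext
      exact ((IsLocalRing.maximalIdeal.isMaximal A).eq_of_le y.isPrime.ne_top h).symm
    · rintro rfl
      exact le_rfl
  -- dimension of `X₀'`
  have hdim : topologicalKrullDim X₀' ≤ 1 := by
    let e1 := i.isClosedEmbedding.isEmbedding.toHomeomorph
    let e2 := Homeomorph.setCongr hi
    let e3 := (f.fiberHomeo (IsLocalRing.closedPoint A)).symm
    have h1 : topologicalKrullDim X₀' ≤
        topologicalKrullDim ↥(f.fiber (IsLocalRing.closedPoint A)) :=
      ((e1.trans e2).trans e3).isInducing.topologicalKrullDim_le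
    exact h1.trans (hrel (IsLocalRing.closedPoint A))
  refine main_S8550 i hdim ?_ c hc
  intro Y hY hne hconn
  have h := inter_connected_of_couple A (IsLocalRing.maximalIdeal A) f hcouple Y hY hne hconn
  rw [hzl] at h
  have h' : _root_.IsConnected (Y ∩ Set.range i.base) := by
    rw [hi]; exact h
  exact ⟨h'.nonempty, h'⟩

end Groth.Agent.Helper1.PicGlue
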