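import Mathlib
import Groth.Agent.Lib.Helper1.PicGlueK
import Groth.Agent.Lib.Helper4.Japanese2

/-!
# Invertible modules on the normalisation of an integral proper curve are pulled back
(helper1, PicGlueN)
-/
set_option autoImplicit false
universe u
open CategoryTheory CategoryTheory.Limits AlgebraicGeometry TopologicalSpace Opposite

namespace Groth.Agent.Helper1.PicGlue

/-- **S15026** -/
theorem main_S15026 (k : Type u) [Field k] (X : Scheme.{u}) [X.Over (Spec (CommRingCat.of k))]
    [IsIntegral X] [IsProper (X ↘ Spec (CommRingCat.of k))] (hdim : topologicalKrullDim X = 1)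
    [QuasiCompact (X.fromSpecStalk (genericPoint X))]
    [QuasiSeparated (X.fromSpecStalk (genericPoint X))]
    (N : (Curv2.normalization X).Modules) (hN : PicF.IsInvertible N) :
    ∃ L : X.Modules, PicF.IsInvertible L ∧
      Nonempty ((Scheme.Modules.pullback (Curv2.normalizationι X)).obj L ≅ N) := by
  obtain ⟨hfin, -, ⟨V, hVne, hViso⟩, -, -⟩ :=
    Groth.Agent.Lib.Helper4.Japanese2.S1585_main k X
  haveI := hfin
  haveI : IsLocallyNoetherian X :=
    LocallyOfFiniteType.isLocallyNoetherian (X ↘ Spec (CommRingCat.of k))
  haveI : CompactSpace X :=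
    QuasiCompact.compactSpace_of_compactSpace (X ↘ Spec (CommRingCat.of k))
  haveI : IsNoetherian X := {}
  have hVd : Dense (V : Set X) := V.isOpen.dense hVne
  haveI := hViso
  exact main_S7688 (Curv2.normalizationι X) hdim.le V hVd inferInstance N hN

end Groth.Agent.Helper1.PicGlue
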