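import Mathlib
import Groth.Agent.Lib.Helper1.PicV7

/-!
# Lifting torsion line bundles from the generic fibre to a regular model (helper1)
-/

set_option autoImplicit false
set_option backward.isDefEq.respectTransparency.types false
universe u
open CategoryTheory CategoryTheory.Limits AlgebraicGeometry TopologicalSpace Opposite IsLocalRing
open Groth.Agent.Helper1

namespace Groth.Agent.Helper1.PicV

open Groth.Agent.Lead.PicCalc Groth.Agent.Lead.IdM Groth.Agent.Helper1.QcCech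
open Groth.Agent.Helper1.LGen Groth.Agent.Helper1.SpFib

section Cor

variable (R : Type u) [CommRing R] [IsDomain R] [IsDiscreteValuationRing R]
  (X : Over (Spec (CommRingCat.of R)))
  (hreg : ∀ x : X.left, IsRegularLocalRing (X.left.presheaf.stalk x))
  [Flat X.hom] {n : ℕ} (Γ : Fin n → ArSurf.VertComp R X)
  (hinj : Function.Injective fun i => Set.range (Γ i).ι.base)
  (hcov : ∀ x : X.left, X.hom.base x = closedPoint R → ∃ i, x ∈ Set.range (Γ i).ι.base)
  [IsLocallyNoetherian X.left] [CompactSpace X.left] (hp : IsProper X.hom)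
  (hconn : _root_.IsConnected {x : X.left | X.hom.base x = closedPoint R})
  (hsurj : ∀ h : Γ(X.left, ⊤), ∃ r : R, (show Γ(X.left, ⊤) from Coh.toGlobal X.hom r) = h)
  {C : Scheme.{u}} (f : C ⟶ Spec (CommRingCat.of (FractionRing R))) (g : C ⟶ X.left)
  (hg : IsPullback g f X.hom (Spec.map (CommRingCat.ofHom (algebraMap R (FractionRing R)))))
  (L : Fin n → X.left.Modules)
  (hL : ∀ j, ClSub.IsInverseOf (L j) (ClSub.idealMod (Γ j).ι.ker))

include hg in
/-- twisting by a vertical divisor: class, pullback and degrees -/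
theorem twist_props (M : X.left.Modules) (hM : PicF.IsInvertible M) (N : C.Modules)
    (hMN : Nonempty ((Scheme.Modules.pullback g).obj M ≅ N)) (v : Fin n → ℤ) :
    PicF.IsInvertibleCl (PicF.cl M *
      ((Ocl R X Γ L hL v : (PicF.Cl X.left)ˣ) : PicF.Cl X.left)) ∧
    PicF.pullCl g (PicF.cl M *
      ((Ocl R X Γ L hL v : (PicF.Cl X.left)ˣ) : PicF.Cl X.left)) = PicF.cl N ∧
    ∀ i, degCl R X hp (Γ i) (PicF.cl M *
      ((Ocl R X Γ L hL v : (PicF.Cl X.left)ˣ) : PicF.Cl X.left)) =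
      ArSurf.inter R X M (Γ i) + ∑ j, v j * ArSurf.inter R X (L j) (Γ i) := by
  refine ⟨isInvertibleCl_mul (isInvertibleCl_cl hM) (isInvertibleCl_Ocl R X Γ L hL _), ?_, ?_⟩
  · rw [pull_mul, pull_Ocl R X f g hg Γ L hL, mul_one]
    exact cl_eq_of_iso hMN.some
  · intro i
    rw [degCl_mul R X hp (Γ i) (isInvertibleCl_cl hM) (isInvertibleCl_Ocl R X Γ L hL _),
      degCl_Ocl R X Γ L hL hp (Γ i)]
    rfl

include hreg hinj hcov hg in
/-- two line bundles with the same restriction to the generic fibre differ by a vertical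
divisor -/
theorem exists_Ocl_of_pull_eq (M M' : X.left.Modules) (hM : PicF.IsInvertible M)
    (hM' : PicF.IsInvertible M') (N : C.Modules)
    (hMN : Nonempty ((Scheme.Modules.pullback g).obj M ≅ N))
    (hM'N : Nonempty ((Scheme.Modules.pullback g).obj M' ≅ N)) :
    ∃ c : Fin n → ℤ, PicF.cl M =
      ((Ocl R X Γ L hL c : (PicF.Cl X.left)ˣ) : PicF.Cl X.left) * PicF.cl M' := by
  obtain ⟨b', hb'inv, hb'⟩ := exists_inv_of_isInvertibleCl (isInvertibleCl_cl hM')
  have hκ : PicF.IsInvertibleCl (PicF.cl M * b') :=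
    isInvertibleCl_mul (isInvertibleCl_cl hM) hb'inv
  have hpull : PicF.pullCl g (PicF.cl M * b') = 1 := by
    have h1 : PicF.pullCl g b' * PicF.pullCl g (PicF.cl M') = 1 := by
      rw [← pull_mul, hb', pull_one]
    have h2 : PicF.pullCl g (PicF.cl M') = PicF.cl N := cl_eq_of_iso hM'N.some
    have h3 : PicF.pullCl g (PicF.cl M) = PicF.cl N := cl_eq_of_iso hMN.some
    rw [pull_mul, h3, ← h2, mul_comm]
    exact h1
  obtain ⟨c, hc⟩ := exists_Ocl_eq R X hreg Γ hinj hcov L hL f g hg _ hκ hpull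
  refine ⟨c, ?_⟩
  rw [← hc, mul_assoc, hb', mul_one]

include hreg hinj hcov hp hg hL in
/-- **S3348** -/
theorem degree_image_iff (N : C.Modules)
    (M : X.left.Modules) (hM : PicF.IsInvertible M)
    (hMN : Nonempty ((Scheme.Modules.pullback g).obj M ≅ N)) :
    (∃ v : Fin n → ℤ, ∀ i, ArSurf.inter R X M (Γ i) =
        ∑ j, ArSurf.inter R X (L j) (Γ i) * v j) ↔
      ∃ M' : X.left.Modules, PicF.IsInvertible M' ∧
        Nonempty ((Scheme.Modules.pullback g).obj M' ≅ N) ∧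
        ∀ i, ArSurf.inter R X M' (Γ i) = 0 := by
  constructor
  · rintro ⟨v, hv⟩
    obtain ⟨hκ, hpull, hdeg⟩ := twist_props R X Γ hp f g hg L hL M hM N hMN (-v)
    obtain ⟨M', hM'cl, hM'⟩ := hκ
    refine ⟨M', hM', ?_, ?_⟩
    · rw [← cl_eq_iff]
      show PicF.pullCl g (PicF.cl M') = PicF.cl N
      rw [hM'cl]
      exact hpull
    · intro i
      show degCl R X hp (Γ i) (PicF.cl M') = 0
      rw [hM'cl, hdeg i, hv i, ← Finset.sum_add_distrib]
      apply Finset.sum_eq_zero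
      intro j _
      simp only [Pi.neg_apply]
      ring
  · rintro ⟨M', hM', hM'N, hdeg'⟩
    obtain ⟨c, hc⟩ := exists_Ocl_of_pull_eq R X hreg Γ hinj hcov f g hg L hL M M' hM hM' N
      hMN hM'N
    refine ⟨c, fun i => ?_⟩
    have h4 : degCl R X hp (Γ i) (PicF.cl M) = degCl R X hp (Γ i)
        (((Ocl R X Γ L hL c : (PicF.Cl X.left)ˣ) : PicF.Cl X.left) * PicF.cl M') :=
      congrArg (degCl R X hp (Γ i)) hc
    rw [degCl_mul R X hp (Γ i) (isInvertibleCl_Ocl R X Γ L hL _) (isInvertibleCl_cl hM'),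
      degCl_Ocl R X Γ L hL hp (Γ i)] at h4
    have h5 : degCl R X hp (Γ i) (PicF.cl M') = 0 := hdeg' i
    rw [h5, add_zero] at h4
    refine h4.trans ?_
    apply Finset.sum_congr rfl
    intro j _
    ring

include hreg hinj hcov hp hconn hsurj hg hL in
/-- **S3342** -/
theorem exists_torsion_lift (h : ℕ) (hcop : Nat.Coprime h (Models.multGcd R X Γ))
    (N : C.Modules) (hNt : Nonempty (CohB1.tensorPow N h ≅ Coh.structureModule C))
    (M : X.left.Modules) (hM : PicF.IsInvertible M)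
    (hMN : Nonempty ((Scheme.Modules.pullback g).obj M ≅ N)) (v : Fin n → ℤ)
    (hv : ∀ i, ArSurf.inter R X M (Γ i) = ∑ j, ArSurf.inter R X (L j) (Γ i) * v j) :
    ∃ M' : X.left.Modules, PicF.IsInvertible M' ∧
      Nonempty (CohB1.tensorPow M' h ≅ Coh.structureModule X.left) ∧
      Nonempty ((Scheme.Modules.pullback g).obj M' ≅ N) := by
  obtain ⟨hμinv, hμpull, hμdeg⟩ := twist_props R X Γ hp f g hg L hL M hM N hMN (-v)
  obtain ⟨M₁, hM₁cl, hM₁⟩ := hμinv
  have hM₁N : Nonempty ((Scheme.Modules.pullback g).obj M₁ ≅ N) := by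
    rw [← cl_eq_iff]
    show PicF.pullCl g (PicF.cl M₁) = PicF.cl N
    rw [hM₁cl]
    exact hμpull
  have hM₁deg : ∀ i, degCl R X hp (Γ i) (PicF.cl M₁) = 0 := by
    intro i
    rw [hM₁cl, hμdeg i, hv i, ← Finset.sum_add_distrib]
    apply Finset.sum_eq_zero
    intro j _
    simp only [Pi.neg_apply]
    ring
  have hpow_inv : PicF.IsInvertibleCl (PicF.cl M₁ ^ h) :=
    isInvertibleCl_pow (isInvertibleCl_cl hM₁) h
  have hpow_pull : PicF.pullCl g (PicF.cl M₁ ^ h) = 1 := by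
    have h1 := map_pow (pullHom g) (PicF.cl M₁) h
    change PicF.pullCl g (PicF.cl M₁ ^ h) = PicF.pullCl g (PicF.cl M₁) ^ h at h1
    have h2 : PicF.pullCl g (PicF.cl M₁) = PicF.cl N := cl_eq_of_iso hM₁N.some
    rw [h1, h2, ← cl_tensorPow]
    exact cl_eq_of_iso hNt.some
  obtain ⟨c, hc⟩ := exists_Ocl_eq R X hreg Γ hinj hcov L hL f g hg _ hpow_inv hpow_pull
  have hdeg' : ∀ i, ∑ j, c j * ArSurf.inter R X (L j) (Γ i) = 0 := by
    intro i
    rw [← degCl_Ocl R X Γ L hL hp (Γ i) c, ← hc,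
      degCl_pow R X hp (Γ i) (isInvertibleCl_cl hM₁) h, hM₁deg i, mul_zero]
  obtain ⟨q, hq⟩ := (SpFib.kernel_iff R X hp hreg hconn Γ hinj hcov L hL c).1 hdeg'
  obtain ⟨k, hk⟩ := arith_rat (fun i => Models.mult R X (Γ i)) c q hq
  have hbez : (1 : ℤ) = h * Nat.gcdA h (Models.multGcd R X Γ) +
      ((Models.multGcd R X Γ : ℕ) : ℤ) * Nat.gcdB h (Models.multGcd R X Γ) := by
    have h1 := Nat.gcd_eq_gcd_ab h (Models.multGcd R X Γ)
    rw [show Nat.gcd h (Models.multGcd R X Γ) = 1 from hcop] at h1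
    exact_mod_cast h1
  obtain ⟨hκ, hκpull, -⟩ := twist_props R X Γ hp f g hg L hL M₁ hM₁ N hM₁N
    (-(fun j => Nat.gcdA h (Models.multGcd R X Γ) * c j))
  obtain ⟨M', hM'cl, hM'⟩ := hκ
  refine ⟨M', hM', ?_, ?_⟩
  · rw [← cl_eq_iff, cl_tensorPow, hM'cl, mul_pow, hc, ← Units.val_pow_eq_pow_val,
      ← Units.val_mul, ← Ocl_nsmul, ← Ocl_add]
    have h1 : Ocl R X Γ L hL (c + fun j => (h : ℤ) *
        (-(fun j => Nat.gcdA h (Models.multGcd R X Γ) * c j)) j) = 1 := by
      apply (Ocl_eq_one_iff R X hreg Γ hinj hcov L hL hp hconn hsurj _).2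
      refine ⟨Nat.gcdB h (Models.multGcd R X Γ) * k, fun i => ?_⟩
      have hki : ((Models.multGcd R X Γ : ℕ) : ℤ) * c i = k * (Models.mult R X (Γ i) : ℤ) := hk i
      simp only [Pi.add_apply, Pi.neg_apply]
      calc c i + (h : ℤ) * -(Nat.gcdA h (Models.multGcd R X Γ) * c i)
          = (1 - (h : ℤ) * Nat.gcdA h (Models.multGcd R X Γ)) * c i := by ring
        _ = (((Models.multGcd R X Γ : ℕ) : ℤ) * Nat.gcdB h (Models.multGcd R X Γ)) * c i := by
            rw [show (1 : ℤ) - (h : ℤ) * Nat.gcdA h (Models.multGcd R X Γ) =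
              ((Models.multGcd R X Γ : ℕ) : ℤ) * Nat.gcdB h (Models.multGcd R X Γ) by linarith]
        _ = Nat.gcdB h (Models.multGcd R X Γ) * (((Models.multGcd R X Γ : ℕ) : ℤ) * c i) := by
            ring
        _ = Nat.gcdB h (Models.multGcd R X Γ) * (k * (Models.mult R X (Γ i) : ℤ)) := by
            rw [hki]
        _ = Nat.gcdB h (Models.multGcd R X Γ) * k * (Models.mult R X (Γ i) : ℤ) := by ring
    rw [h1]
    rfl
  · rw [← cl_eq_iff]
    show PicF.pullCl g (PicF.cl M') = PicF.cl N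
    rw [hM'cl]
    exact hκpull

include hreg hinj hcov hp hconn hsurj hg hL in
/-- **S19924** -/
theorem torsion_lift_iff (h : ℕ)
    (N : C.Modules)
    (M : X.left.Modules) (hM : PicF.IsInvertible M)
    (hMN : Nonempty ((Scheme.Modules.pullback g).obj M ≅ N)) (a b : Fin n → ℕ)
    (hab : Nonempty (CohB1.tensorMod (CohB1.tensorPow M h) (FGA.multiTwist L a) ≅
      FGA.multiTwist L b)) :
    (∃ M' : X.left.Modules, PicF.IsInvertible M' ∧
        Nonempty (CohB1.tensorPow M' h ≅ Coh.structureModule X.left) ∧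
        Nonempty ((Scheme.Modules.pullback g).obj M' ≅ N)) ↔
      ∃ (c : Fin n → ℤ) (e : ℤ), ∀ i, ((b i : ℤ) - (a i : ℤ)) =
        (h : ℤ) * c i + e * (Models.mult R X (Γ i) : ℤ) := by
  have hab' : PicF.cl M ^ h *
      ((Ocl R X Γ L hL (fun j => (a j : ℤ)) : (PicF.Cl X.left)ˣ) : PicF.Cl X.left) =
      ((Ocl R X Γ L hL (fun j => (b j : ℤ)) : (PicF.Cl X.left)ˣ) : PicF.Cl X.left) := by
    rw [Ocl_natCast, Ocl_natCast, ← cl_tensorPow]
    exact cl_eq_of_iso hab.some
  have hpow : PicF.cl M ^ h =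
      ((Ocl R X Γ L hL (fun j => (b j : ℤ) - (a j : ℤ)) : (PicF.Cl X.left)ˣ) :
        PicF.Cl X.left) := by
    have hsub : (fun j => (b j : ℤ) - (a j : ℤ)) =
        (fun j => (b j : ℤ)) + (-(fun j => (a j : ℤ))) := by
      funext j
      simp [sub_eq_add_neg]
    rw [hsub, Ocl_add, Units.val_mul, ← hab', mul_assoc, ← Units.val_mul, ← Ocl_add,
      add_neg_cancel, Ocl_zero, Units.val_one, mul_one]
  constructor
  · rintro ⟨M', hM', hM't, hM'N⟩
    obtain ⟨c, hc⟩ := exists_Ocl_of_pull_eq R X hreg Γ hinj hcov f g hg L hL M M' hM hM' N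
      hMN hM'N
    have h1 : PicF.cl M ^ h =
        ((Ocl R X Γ L hL (fun j => (h : ℤ) * c j) : (PicF.Cl X.left)ˣ) : PicF.Cl X.left) := by
      rw [hc, mul_pow, ← cl_tensorPow M', cl_eq_of_iso hM't.some, ← Units.val_pow_eq_pow_val,
        ← Ocl_nsmul]
      exact mul_one _
    rw [hpow, Units.val_inj] at h1
    have h2 : Ocl R X Γ L hL ((fun j => (b j : ℤ) - (a j : ℤ)) -
        (fun j => (h : ℤ) * c j)) = 1 := by
      rw [Ocl_sub, div_eq_one, h1]
    obtain ⟨e, he⟩ := (Ocl_eq_one_iff R X hreg Γ hinj hcov L hL hp hconn hsurj _).1 h2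
    refine ⟨c, e, fun i => ?_⟩
    have h3 := he i
    simp only [Pi.sub_apply] at h3
    linarith
  · rintro ⟨c, e, hce⟩
    obtain ⟨hκ, hκpull, -⟩ := twist_props R X Γ hp f g hg L hL M hM N hMN (-c)
    obtain ⟨M', hM'cl, hM'⟩ := hκ
    refine ⟨M', hM', ?_, ?_⟩
    · rw [← cl_eq_iff, cl_tensorPow, hM'cl, mul_pow, hpow, ← Units.val_pow_eq_pow_val,
        ← Units.val_mul, ← Ocl_nsmul, ← Ocl_add]
      have h1 : Ocl R X Γ L hL ((fun j => (b j : ℤ) - (a j : ℤ)) +
          fun j => (h : ℤ) * (-c) j) = 1 := by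
        apply (Ocl_eq_one_iff R X hreg Γ hinj hcov L hL hp hconn hsurj _).2
        refine ⟨e, fun i => ?_⟩
        simp only [Pi.add_apply, Pi.neg_apply]
        have := hce i
        linarith
      rw [h1]
      rfl
    · rw [← cl_eq_iff]
      show PicF.pullCl g (PicF.cl M') = PicF.cl N
      rw [hM'cl]
      exact hκpull

end Cor

end Groth.Agent.Helper1.PicV
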