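import Mathlib
import Groth.Agent.Lib.Helper1.NegCfg1
import Groth.Agent.Lib.Helper1.NumSurj2
import Groth.Agent.Lib.Helper1.GenF5
import Groth.Agent.Lib.Helper1.VBP11
import Groth.Agent.Lib.Helper1.MumA
import Groth.Agent.Lib.Helper4.ClBridge4
import Groth.Agent.Lib.Helper1.NefGG1
import Groth.Agent.Lib.Helper1.Big5
import Groth.Agent.Lib.Helper1.CurveLin4
import Groth.Agent.Lib.Helper1.PicV1
import Groth.Agent.Lib.Helper1.LesBound1

/-!
# Sections and curves on smooth proper surfaces dominating the plane (helper1)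

Invertible modules meeting a nef module negatively have no sections; twisting down by a curve
which meets the module negatively does not change the space of sections; a surface on which the
"two of three cohomology groups vanish" statement holds has no integral curves of self-intersection
`< -1`.
-/

set_option backward.isDefEq.respectTransparency.types false
set_option synthInstance.maxHeartbeats 400000
set_option autoImplicit false
set_option linter.unusedSectionVars false
set_option linter.style.haveILetI false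
set_option linter.unusedVariables false
universe u
open CategoryTheory CategoryTheory.Limits AlgebraicGeometry TopologicalSpace Opposite

namespace Groth.Agent.Helper1.PlaneBl

open Groth.Agent.Helper1 Groth.Agent.Helper1.Euler Groth.Agent.Helper1.Dv
open Groth.Agent.Helper1.FinLen Groth.Agent.Helper1.TwForm Groth.Agent.Helper1.Curve
open Groth.Agent.Helper1.Snap Groth.Agent.Helper1.SnapPos Groth.Agent.Helper1.FGAInt
open Groth.Agent.Helper1.FGAPos Groth.Agent.Helper1.Kleiman
open Groth.Agent.Lib.Helper4 Groth.Agent.Helper1.CurveDual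

section Gen

variable {X : Scheme.{u}}

/-- a nonzero global section gives a nonzero morphism from the structure sheaf -/
theorem homOfSec_ne_zero (L : X.Modules) (t : Γ(L, ⊤)) (ht : t ≠ 0) :
    TwistAmple.homOfSec L t ≠ 0 := by
  intro h0
  apply ht
  have h1 := TwistAmple.homOfSec_app L t ⊤ 1
  rw [h0, Scheme.Modules.Hom.zero_app, one_smul] at h1
  have h2 : QcCech.res L (le_refl ⊤) t = t := QcCech.res_self L (le_refl ⊤) _
  exact h2.symm.trans h1.symm

end Gen

section Proper

variable (k : Type u) [Field k] (X : Scheme.{u}) [X.Over (Spec (CommRingCat.of k))]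
  [IsProper (X ↘ (Spec (CommRingCat.of k)))]

/-- globally generated invertible modules are nef -/
theorem nefS_of_gg (H : X.Modules) (hH : PicF.IsInvertible H)
    (hgg : Curv2.IsGloballyGenerated H) : NefS k X H := by
  intro C c _ hC hdimC
  haveI := hC
  letI inst : C.Over (Spec (CommRingCat.of k)) := ⟨c ≫ (X ↘ Spec (CommRingCat.of k))⟩
  haveI : IsProper (C ↘ Spec (CommRingCat.of k)) := by
    change IsProper (c ≫ (X ↘ Spec (CommRingCat.of k))); infer_instance
  have hM : PicF.IsInvertible ((Scheme.Modules.pullback c).obj H) :=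
    PullGen.isInvertible_pullback c hH
  have hMgg : Curv2.IsGloballyGenerated ((Scheme.Modules.pullback c).obj H) :=
    ClBridge4.isGloballyGenerated_pullback c hgg
  have hnz : ¬ IsZero ((Scheme.Modules.pullback c).obj H) :=
    VB.not_isZero_of_rank_pos C Nat.one_pos (Curve.isFinLocFreeOfRank_one hM)
  obtain ⟨s, hs⟩ := Big.exists_section_ne_zero hMgg hnz
  have h := Curve.deg_nonneg_of_section k C hdimC hM s hs
  have hd1 : topologicalKrullDim C ≤ ((1 : ℕ) : WithBot ℕ∞) := by
    rw [hdimC]; exact le_of_eq Nat.cast_one.symm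
  rw [NefGG.deg_eq_curveDeg k C hd1] at h
  exact h

/-- the pullback of `O(1)` along a morphism to the plane is invertible and nef -/
theorem nefS_pullback_O1 (σ : X ⟶ CohB1.ProjSpace 2 k) :
    PicF.IsInvertible ((Scheme.Modules.pullback σ).obj (Twist.twistProjSpace 2 k 1)) ∧
      NefS k X ((Scheme.Modules.pullback σ).obj (Twist.twistProjSpace 2 k 1)) := by
  have hH : PicF.IsInvertible ((Scheme.Modules.pullback σ).obj (Twist.twistProjSpace 2 k 1)) :=
    PullGen.isInvertible_pullback σ (VA5.isAmple_twistProjSpace 2 k).1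
  exact ⟨hH, nefS_of_gg k X _ hH
    (ClBridge4.isGloballyGenerated_pullback σ (MumA.gg_O1 2 k))⟩

set_option maxHeartbeats 1600000 in
/-- an invertible module of negative degree on an integral curve `E ⊆ X` has no sections on `E` -/
theorem h0_quot_twist_subsingleton (E : X.IdealSheafData) (hEi : IsIntegral E.subscheme)
    (hE1 : topologicalKrullDim (E.support : Set X) = 1) (N : X.Modules)
    (hN : PicF.IsInvertible N)
    (hneg : Curv2.euler k X (CohB1.tensorMod (ClSub.quotMod E) N) -
      Curv2.euler k X (ClSub.quotMod E) < 0) :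
    Subsingleton (Coh.HH X (CohB1.tensorMod (ClSub.quotMod E) N) 0) := by
  haveI := hEi
  letI inst : E.subscheme.Over (Spec (CommRingCat.of k)) :=
    ⟨E.subschemeι ≫ (X ↘ Spec (CommRingCat.of k))⟩
  haveI : IsProper (E.subscheme ↘ Spec (CommRingCat.of k)) := by
    change IsProper (E.subschemeι ≫ (X ↘ Spec (CommRingCat.of k))); infer_instance
  have hdimC : topologicalKrullDim E.subscheme = 1 := by
    rw [IsHomeomorph.topologicalKrullDim_eq _
      (E.subschemeι.isClosedEmbedding.isEmbedding.toHomeomorph).isHomeomorph,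
      Scheme.IdealSheafData.range_subschemeι]
    exact hE1
  have hle : topologicalKrullDim E.subscheme ≤ ((1 : ℕ) : WithBot ℕ∞) := by
    rw [hdimC]; exact le_of_eq Nat.cast_one.symm
  rw [NumSurj2.eulerForm_eq_curveDeg k X E hle N hN] at hneg
  have hPi : PicF.IsInvertible ((Scheme.Modules.pullback E.subschemeι).obj N) :=
    PullGen.isInvertible_pullback _ hN
  haveI h0 : Subsingleton (Coh.HH E.subscheme ((Scheme.Modules.pullback E.subschemeι).obj N) 0) :=
    GenF.subsingleton_H0_of_deg_neg k E.subscheme hdimC _ hPi hneg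
  obtain ⟨eu⟩ := TwistAmpleOpen.nonempty_tensorMod_unit_iso
    ((Scheme.Modules.pullback E.subschemeι).obj N)
  haveI h0' : Subsingleton (Coh.HH E.subscheme (CohB1.tensorMod (Coh.structureModule E.subscheme)
      ((Scheme.Modules.pullback E.subschemeι).obj N)) 0) :=
    (HHFin1.HHequiv k eu 0).toEquiv.subsingleton
  obtain ⟨l⟩ := VBP.nonempty_HH_equiv_push k E.subschemeι rfl
    (GenLoc.isInvertible_O (X := E.subscheme)) hN 0
  haveI h1 : Subsingleton (Coh.HH X (CohB1.tensorMod
      ((Scheme.Modules.pushforward E.subschemeι).obj (Coh.structureModule E.subscheme)) N) 0) :=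
    l.symm.toEquiv.subsingleton
  have e := NumEq.pushIso E.subschemeι
  rw [Scheme.IdealSheafData.ker_subschemeι] at e
  have e' := Groth.Agent.Lead.TilT.tensorModCongr e (Iso.refl N)
  exact (HHFin1.HHequiv k e' 0).symm.toEquiv.subsingleton

set_option maxHeartbeats 1600000 in
/-- twisting down by an integral curve meeting the module negatively keeps the sections -/
theorem finrank_h0_twist_ideal (hdim : topologicalKrullDim X = 2) (E : X.IdealSheafData)
    (hEi : IsIntegral E.subscheme) (hE1 : topologicalKrullDim (E.support : Set X) = 1)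
    (M : X.Modules) (hM : PicF.IsInvertible M)
    (hpos : 0 < FGA.intNum k X 2 ![ClSub.idealMod E, M] (Coh.structureModule X)) :
    Module.finrank k (Coh.HH X (CohB1.tensorMod M (ClSub.idealMod E)) 0) =
      Module.finrank k (Coh.HH X M 0) := by
  haveI : AlgebraicGeometry.IsNoetherian X := Euler.isNoetherian_of_proper k X
  have hd2 : topologicalKrullDim X ≤ ((2 : ℕ) : WithBot ℕ∞) := by rw [hdim]; exact le_of_eq rfl
  rw [SurfCurve.intNum_ideal_eq_neg_curveInt k X hd2 E M hM] at hpos
  have hsub : Subsingleton (Coh.HH X (CohB1.tensorMod (ClSub.quotMod E) M) 0) :=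
    h0_quot_twist_subsingleton k X E hEi hE1 M hM (by linarith)
  have hSE := TwExact.shortExact_map (TwExact.locGen_of_isInvertible M hM)
    (CurveDual.shortExact_S E)
  have hbij : Function.Bijective
      (Canon.HHlin k ((IdealModL.S E).map (TwExact.TL M)).f 0) :=
    ⟨HHFin3.HHlin_f_zero_injective k hSE,
      fun x => HHFin2.exact_f_g k hSE 0 x (@Subsingleton.elim _ hsub _ _)⟩
  have h1 : Module.finrank k (Coh.HH X (CohB1.tensorMod (ClSub.idealMod E) M) 0) =
      Module.finrank k (Coh.HH X (CohB1.tensorMod (Coh.structureModule X) M) 0) :=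
    (LinearEquiv.ofBijective _ hbij).finrank_eq
  obtain ⟨eu⟩ := TwistAmpleOpen.nonempty_tensorMod_unit_iso M
  have h2 := (HHFin1.HHequiv k eu 0).finrank_eq
  have h3 := (HHFin1.HHequiv k (TildeTens.tensorModComm M (ClSub.idealMod E)) 0).finrank_eq
  exact h3.trans (h1.trans h2)

set_option maxHeartbeats 1600000 in
/-- the Euler characteristic of the structure sheaf of an integral curve over an algebraically
closed field is at most one -/
theorem euler_quotMod_le_one [IsAlgClosed k] (C : X.IdealSheafData)
    (hCi : IsIntegral C.subscheme) (hC1 : topologicalKrullDim (C.support : Set X) = 1) :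
    Curv2.euler k X (ClSub.quotMod C) ≤ 1 := by
  haveI := hCi
  haveI : AlgebraicGeometry.IsNoetherian X := Euler.isNoetherian_of_proper k X
  letI inst : C.subscheme.Over (Spec (CommRingCat.of k)) :=
    ⟨C.subschemeι ≫ (X ↘ Spec (CommRingCat.of k))⟩
  haveI : IsProper (C.subscheme ↘ Spec (CommRingCat.of k)) := by
    change IsProper (C.subschemeι ≫ (X ↘ Spec (CommRingCat.of k))); infer_instance
  have hQc : Coh.IsCoh (ClSub.quotMod C) := CurveDual.isCoh_quotMod C
  have hd : topologicalKrullDim ↥(CohB1.support (ClSub.quotMod C)) ≤ ((1 : ℕ) : WithBot ℕ∞) :=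
    (Dv.krullDim_le_of_subset (CurveDual.support_quotMod_subset C)).trans
      (hC1.le.trans (le_of_eq Nat.cast_one.symm))
  rw [Euler.euler_eq_sum k X 2 _ (fun p hp =>
    Big.subsingleton_HH_of_dim_support_lt _ hQc 1 hd p (by omega)),
    Finset.sum_range_succ, Finset.sum_range_one]
  have e := NumEq.pushIso C.subschemeι
  rw [Scheme.IdealSheafData.ker_subschemeι] at e
  have a1 := (HHFin1.HHequiv k e 0).finrank_eq
  haveI : (Coh.structureModule C.subscheme).IsQuasicoherent :=
    InvQc.isQuasicoherent_of_isInvertible _ GenLoc.isInvertible_O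
  have a2 := (LinBridge1.lerayEquiv C.subschemeι (Coh.structureModule C.subscheme) k rfl
    0).finrank_eq
  have a3 := CurveLin.finrank_HH_zero_eq_one_of_isAlgClosed k C.subscheme
  have a4 : Module.finrank k (Coh.HH X (ClSub.quotMod C) 0) = 1 :=
    a1.symm.trans (a2.trans a3)
  have h1nn : (0 : ℤ) ≤ (Module.finrank k (Coh.HH X (ClSub.quotMod C) 1) : ℤ) :=
    Nat.cast_nonneg _
  rw [a4, pow_zero, pow_one, one_mul, neg_one_mul]
  push_cast
  linarith

end Proper

section Surf

variable (k : Type u) [Field k] (X : Scheme.{u}) [X.Over (Spec (CommRingCat.of k))]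
  [IsProper (X ↘ (Spec (CommRingCat.of k)))] [IsIntegral X]

set_option maxHeartbeats 1600000 in
/-- an invertible module meeting a nef module negatively has no sections -/
theorem h0_subsingleton_of_nef_neg (hdim : topologicalKrullDim X = 2) (H L : X.Modules)
    (hH : PicF.IsInvertible H) (hL : PicF.IsInvertible L) (hnef : NefS k X H)
    (hneg : FGA.intNum k X 2 ![L, H] (Coh.structureModule X) < 0) :
    Subsingleton (Coh.HH X L 0) := by
  haveI : AlgebraicGeometry.IsNoetherian X := Euler.isNoetherian_of_proper k X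
  have hO : PicF.IsInvertible (Coh.structureModule X) := GenLoc.isInvertible_O
  have hOc : Coh.IsCoh (Coh.structureModule X) := Dv.isCoh_structureModule X
  have hLc : Coh.IsCoh L := InvQc.isCoh_of_isInvertible _ hL
  have hz : ∀ x : Coh.HH X L 0, x = 0 := by
    intro x
    by_contra hx
    have ht : HH0.equiv X L x ≠ 0 := fun h =>
      hx ((HH0.equiv X L).injective (h.trans (map_zero _).symm))
    obtain ⟨φ, hφdef⟩ : ∃ φ : Coh.structureModule X ⟶ L,
      φ = TwistAmple.homOfSec L (HH0.equiv X L x) := ⟨_, rfl⟩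
    have hφ : φ ≠ 0 := by rw [hφdef]; exact homOfSec_ne_zero L _ ht
    have hmono : Mono φ := Curve.mono_of_ne_zero hO hL φ hφ
    have hη := Curve.genericPoint_notMem_support_cokernel hO hL φ hφ
    have hQc : Coh.IsCoh (cokernel φ) := FtLocal.isCoh_cokernel hOc hLc φ
    have hcl : IsClosed (CohB1.support (cokernel φ)) := FtGen.isClosed_support _ hQc.2
    have hne : CohB1.support (cokernel φ) ≠ Set.univ := fun he => hη (he ▸ Set.mem_univ _)
    have hdimQ := Curve.krullDim_add_one_le_of_ne_univ hcl hne
    have hd3 : topologicalKrullDim X = ((1 + 1 : ℕ) : WithBot ℕ∞) := by rw [hdim]; rfl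
    rw [hd3] at hdimQ
    have hdQ : topologicalKrullDim ↥(CohB1.support (cokernel φ)) ≤ ((1 : ℕ) : WithBot ℕ∞) :=
      SnapPos.le_of_add_one_le_succ _ 1 hdimQ
    have hS : (ShortComplex.mk φ (cokernel.π φ) (cokernel.condition φ)).ShortExact :=
      { exact := ShortComplex.exact_of_g_is_cokernel _ (cokernelIsCokernel φ)
        mono_f := hmono
        epi_g := inferInstanceAs (Epi (cokernel.π φ)) }
    have hK : KZero.clSub (PC X) L =
        KZero.clSub (PC X) (Coh.structureModule X) + KZero.clSub (PC X) (cokernel φ) :=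
      Dv.clSub_ses _ hS hOc hLc hQc
    obtain ⟨eu⟩ := TwistAmpleOpen.nonempty_tensorMod_unit_iso L
    have h3 : KZero.clSub (PC X) (CohB1.tensorMod (Coh.structureModule X) L) =
        KZero.clSub (PC X) L := Dv.clSub_iso eu.symm hLc
    have h1 : (T L hL - 1) (KZero.clSub (PC X) (Coh.structureModule X)) =
        KZero.clSub (PC X) (cokernel φ) := by
      have h2 : (T L hL - 1) (KZero.clSub (PC X) (Coh.structureModule X)) =
          T L hL (KZero.clSub (PC X) (Coh.structureModule X)) -
            KZero.clSub (PC X) (Coh.structureModule X) := rfl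
      rw [h2, T_clSub' L hL _ hOc, h3, hK]
      abel
    have hpair := SurfHodge.intNum_eq_pair k X hdim L H hL hH
    rw [h1] at hpair
    have hnn : 0 ≤ lam k X H hH 1 (KZero.clSub (PC X) (cokernel φ)) :=
      hom_nonneg_of_cycle (lam k X H hH 1) 1
        (fun y hy => lam_eq_zero k X H hH 1 y hy) _ hQc hdQ
        (fun ξ hξ => nefK_of_nefS k X H hH hnef ξ hξ)
    rw [lam_apply, pow_one] at hnn
    rw [hpair] at hneg
    exact absurd hnn (not_le.2 hneg)
  exact ⟨fun a b => (hz a).trans (hz b).symm⟩

/-- S16558 -/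
theorem s16558 (hdim : topologicalKrullDim X = 2) (σ : X ⟶ CohB1.ProjSpace 2 k)
    (L : X.Modules) (hL : PicF.IsInvertible L)
    (hLH : FGA.intNum k X 2
      ![L, ((Scheme.Modules.pullback σ).obj (Twist.twistProjSpace 2 k 1))]
      (Coh.structureModule X) < 0) :
    Subsingleton (Coh.HH X L 0) :=
  h0_subsingleton_of_nef_neg k X hdim _ L (nefS_pullback_O1 k X σ).1 hL
    (nefS_pullback_O1 k X σ).2 hLH

variable [Smooth (X ↘ (Spec (CommRingCat.of k)))]

set_option maxHeartbeats 1600000 in
/-- S16562 for a general nef module `H` -/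
theorem s16562 (hdim : topologicalKrullDim X = 2) (H L : X.Modules) (hH : PicF.IsInvertible H)
    (hL : PicF.IsInvertible L) (hnef : NefS k X H)
    (E : X.IdealSheafData) (hEi : IsIntegral E.subscheme)
    (hE1 : topologicalKrullDim (E.support : Set X) = 1)
    (hEE : FGA.intNum k X 2 ![ClSub.idealMod E, ClSub.idealMod E] (Coh.structureModule X) = -1)
    (hEH : FGA.intNum k X 2 ![L, H] (Coh.structureModule X) <
      2 * (Curv2.euler k X (CohB1.tensorMod (ClSub.quotMod E) H) -
        Curv2.euler k X (ClSub.quotMod E)))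
    (hLE : Curv2.euler k X (CohB1.tensorMod (ClSub.quotMod E) L) -
      Curv2.euler k X (ClSub.quotMod E) < -1) :
    Subsingleton (Coh.HH X L 0) := by
  haveI : AlgebraicGeometry.IsNoetherian X := Euler.isNoetherian_of_proper k X
  have hd2 : topologicalKrullDim X ≤ ((2 : ℕ) : WithBot ℕ∞) := by rw [hdim]; exact le_of_eq rfl
  have hI := SurfCurve.isInvertible_idealMod_curve k X hdim E hEi hE1
  have hLc : Coh.IsCoh L := InvQc.isCoh_of_isInvertible _ hL
  have ha := SurfCurve.intNum_ideal_eq_neg_curveInt k X hd2 E L hL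
  have hM₁ : PicF.IsInvertible (CohB1.tensorMod L (ClSub.idealMod E)) :=
    isInvertible_tensorMod hL hI
  have hM₂ : PicF.IsInvertible
      (CohB1.tensorMod (CohB1.tensorMod L (ClSub.idealMod E)) (ClSub.idealMod E)) :=
    isInvertible_tensorMod hM₁ hI
  have step1 := finrank_h0_twist_ideal k X hdim E hEi hE1 L hL (by rw [ha]; linarith)
  have ha₁ := SurfHodge.intNum_tensor_right k X hdim (ClSub.idealMod E) L (ClSub.idealMod E)
    hI hL hI
  have step2 := finrank_h0_twist_ideal k X hdim E hEi hE1 _ hM₁
    (by rw [ha₁, ha, hEE]; linarith)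
  have hMH : FGA.intNum k X 2
      ![CohB1.tensorMod (CohB1.tensorMod L (ClSub.idealMod E)) (ClSub.idealMod E), H]
      (Coh.structureModule X) < 0 := by
    rw [SurfHodge.intNum_symm k X hdim _ H hM₂ hH,
      SurfHodge.intNum_tensor_right k X hdim H _ _ hH hM₁ hI,
      SurfHodge.intNum_tensor_right k X hdim H L _ hH hL hI,
      SurfHodge.intNum_symm k X hdim H L hH hL,
      SurfHodge.intNum_symm k X hdim H (ClSub.idealMod E) hH hI,
      SurfCurve.intNum_ideal_eq_neg_curveInt k X hd2 E H hH]
    linarith
  haveI hsub := h0_subsingleton_of_nef_neg k X hdim H _ hH hM₂ hnef hMH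
  have f2 : Module.finrank k (Coh.HH X
      (CohB1.tensorMod (CohB1.tensorMod L (ClSub.idealMod E)) (ClSub.idealMod E)) 0) = 0 :=
    Module.finrank_zero_of_subsingleton
  haveI : Module.Finite k (Coh.HH X L 0) := T2Main1.t2 k X L hLc 0
  exact Module.finrank_zero_iff.1 (step1.symm.trans (step2.symm.trans f2))

set_option maxHeartbeats 1600000 in
/-- S16563 -/
theorem s16563 (hdim : topologicalKrullDim X = 2) (L : X.Modules) (hL : PicF.IsInvertible L)
    (E : X.IdealSheafData) (hEi : IsIntegral E.subscheme)
    (hE1 : topologicalKrullDim (E.support : Set X) = 1)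
    (hEE : FGA.intNum k X 2 ![ClSub.idealMod E, ClSub.idealMod E] (Coh.structureModule X) = -1)
    (s : ℕ) (hs : 1 < s)
    (hLE : Curv2.euler k X (CohB1.tensorMod (ClSub.quotMod E) L) -
      Curv2.euler k X (ClSub.quotMod E) = -(s : ℤ)) :
    Module.finrank k (Coh.HH X (CohB1.tensorMod L (ClSub.idealMod (E ^ s))) 0) =
      Module.finrank k (Coh.HH X L 0) := by
  haveI : AlgebraicGeometry.IsNoetherian X := Euler.isNoetherian_of_proper k X
  have hd2 : topologicalKrullDim X ≤ ((2 : ℕ) : WithBot ℕ∞) := by rw [hdim]; exact le_of_eq rfl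
  have hI := SurfCurve.isInvertible_idealMod_curve k X hdim E hEi hE1
  have ha : FGA.intNum k X 2 ![ClSub.idealMod E, L] (Coh.structureModule X) = (s : ℤ) := by
    rw [SurfCurve.intNum_ideal_eq_neg_curveInt k X hd2 E L hL, hLE, neg_neg]
  have key : ∀ j : ℕ, j ≤ s →
      Module.finrank k (Coh.HH X
        (CohB1.tensorMod L (CohB1.tensorPow (ClSub.idealMod E) j)) 0) =
      Module.finrank k (Coh.HH X L 0) := by
    intro j
    induction j with
    | zero =>
      intro _
      exact (HHFin1.HHequiv k (Groth.Agent.Lib.Helper5.LTenFlf.tensorUnitIso L) 0).finrank_eq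
    | succ j ih =>
      intro hj
      have hPj : PicF.IsInvertible (CohB1.tensorPow (ClSub.idealMod E) j) :=
        isInvertible_tensorPow hI j
      have hP : PicF.IsInvertible
          (CohB1.tensorMod L (CohB1.tensorPow (ClSub.idealMod E) j)) :=
        isInvertible_tensorMod hL hPj
      have hpos : 0 < FGA.intNum k X 2
          ![ClSub.idealMod E, CohB1.tensorMod L (CohB1.tensorPow (ClSub.idealMod E) j)]
          (Coh.structureModule X) := by
        rw [SurfHodge.intNum_tensor_right k X hdim _ _ _ hI hL hPj,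
          SurfHodge.intNum_pow_right k X hdim _ _ hI hI j, hEE, ha]
        have hj' : (j : ℤ) + 1 ≤ (s : ℤ) := by exact_mod_cast hj
        linarith
      have h1 := finrank_h0_twist_ideal k X hdim E hEi hE1 _ hP hpos
      have e := GenusOne.assocIso L hPj hI
      have h2 := (HHFin1.HHequiv k e 0).finrank_eq
      exact h2.symm.trans (h1.trans (ih (by omega)))
  obtain ⟨e⟩ := SpFib.nonempty_tensorPow_idealMod_iso E hI s
  have e' : CohB1.tensorMod L (ClSub.idealMod (E ^ s)) ≅
      CohB1.tensorMod L (CohB1.tensorPow (ClSub.idealMod E) s) :=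
    Groth.Agent.Lead.TilT.tensorModCongr (Iso.refl L) e.symm
  exact ((HHFin1.HHequiv k e' 0).finrank_eq).trans (key s le_rfl)

end Surf

end Groth.Agent.Helper1.PlaneBl
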