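import Mathlib
import Groth.Agent.Lib.Helper1.PlaneBl

/-!
# Integral curves of self-intersection `< -1` on surfaces satisfying the SHGH vanishing (helper1)
-/

set_option backward.isDefEq.respectTransparency.types false
set_option synthInstance.maxHeartbeats 400000
set_option autoImplicit false
set_option linter.unusedSectionVars false
set_option linter.style.haveILetI false
set_option linter.unusedVariables false
universe u
open CategoryTheory CategoryTheory.Limits AlgebraicGeometry TopologicalSpace Opposite

namespace Groth.Agent.Helper1.PlaneBl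

open Groth.Agent.Helper1 Groth.Agent.Helper1.Euler Groth.Agent.Helper1.Dv
open Groth.Agent.Helper1.FinLen Groth.Agent.Helper1.TwForm Groth.Agent.Helper1.Curve
open Groth.Agent.Helper1.Snap Groth.Agent.Helper1.SnapPos Groth.Agent.Helper1.FGAInt
open Groth.Agent.Helper1.FGAPos Groth.Agent.Helper1.Kleiman
open Groth.Agent.Lib.Helper4 Groth.Agent.Helper1.CurveDual

section Surf

variable (k : Type u) [Field k] (X : Scheme.{u}) [X.Over (Spec (CommRingCat.of k))]
  [IsProper (X ↘ (Spec (CommRingCat.of k)))]

set_option maxHeartbeats 1600000 in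
/-- on a surface, `χ = h⁰` when `H¹ = H² = 0` -/
theorem euler_eq_h0 (hd2 : topologicalKrullDim X ≤ ((2 : ℕ) : WithBot ℕ∞)) (M : X.Modules)
    (h1 : Subsingleton (Coh.HH X M 1)) (h2 : Subsingleton (Coh.HH X M 2)) :
    Curv2.euler k X M = (Module.finrank k (Coh.HH X M 0) : ℤ) := by
  haveI : AlgebraicGeometry.IsNoetherian X := Euler.isNoetherian_of_proper k X
  have e1 : Module.finrank k (Coh.HH X M 1) = 0 := Module.finrank_zero_of_subsingleton
  have e2 : Module.finrank k (Coh.HH X M 2) = 0 := Module.finrank_zero_of_subsingleton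
  rw [Euler.euler_eq_sum k X 3 M (fun p hp =>
    FGAInt.subsingleton_HH_of_dim_lt X 2 hd2 M p (by omega)),
    Finset.sum_range_succ, Finset.sum_range_succ, Finset.sum_range_one, e1, e2]
  norm_num

set_option maxHeartbeats 1600000 in
/-- the sequence `0 → O → N → O_C ⊗ N → 0` for an inverse `N` of the ideal of `C` -/
theorem inverse_ideal_facts (C : X.IdealSheafData) (hIc : Coh.IsCoh (ClSub.idealMod C))
    (N : X.Modules) (hN : PicF.IsInvertible N)
    (iN : CohB1.tensorMod (ClSub.idealMod C) N ≅ Coh.structureModule X) :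
    Curv2.euler k X N = Curv2.euler k X (Coh.structureModule X) +
        Curv2.euler k X (CohB1.tensorMod (ClSub.quotMod C) N) ∧
      Module.finrank k (Coh.HH X (Coh.structureModule X) 0) ≤
        Module.finrank k (Coh.HH X N 0) := by
  haveI : AlgebraicGeometry.IsNoetherian X := Euler.isNoetherian_of_proper k X
  have hOc : Coh.IsCoh (Coh.structureModule X) := Dv.isCoh_structureModule X
  have hQc : Coh.IsCoh (ClSub.quotMod C) := CurveDual.isCoh_quotMod C
  have hNc : Coh.IsCoh N := InvQc.isCoh_of_isInvertible _ hN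
  have hSE := TwExact.shortExact_map (TwExact.locGen_of_isInvertible N hN)
    (CurveDual.shortExact_S C)
  have hc1 : Coh.IsCoh (CohB1.tensorMod (ClSub.idealMod C) N) := Euler.isCoh_tensor _ _ hIc hNc
  have hc2 : Coh.IsCoh (CohB1.tensorMod (Coh.structureModule X) N) :=
    Euler.isCoh_tensor _ _ hOc hNc
  have hc3 : Coh.IsCoh (CohB1.tensorMod (ClSub.quotMod C) N) := Euler.isCoh_tensor _ _ hQc hNc
  have hadd := Euler.euler_additive k X _ hSE hc1 hc2 hc3
  change Curv2.euler k X (CohB1.tensorMod (Coh.structureModule X) N) =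
    Curv2.euler k X (CohB1.tensorMod (ClSub.idealMod C) N) +
      Curv2.euler k X (CohB1.tensorMod (ClSub.quotMod C) N) at hadd
  obtain ⟨eu⟩ := TwistAmpleOpen.nonempty_tensorMod_unit_iso N
  have e2 : Curv2.euler k X (CohB1.tensorMod (Coh.structureModule X) N) = Curv2.euler k X N :=
    Euler.euler_iso k X eu
  have e3 : Curv2.euler k X (CohB1.tensorMod (ClSub.idealMod C) N) =
      Curv2.euler k X (Coh.structureModule X) := Euler.euler_iso k X iN
  have hle := LesBound.finrank_X₁_zero_le k X _ hSE hc1 hc2 hc3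
  change Module.finrank k (Coh.HH X (CohB1.tensorMod (ClSub.idealMod C) N) 0) ≤
    Module.finrank k (Coh.HH X (CohB1.tensorMod (Coh.structureModule X) N) 0) at hle
  have a1 : Module.finrank k (Coh.HH X (CohB1.tensorMod (Coh.structureModule X) N) 0) =
      Module.finrank k (Coh.HH X N 0) := (HHFin1.HHequiv k eu 0).finrank_eq
  have a2 : Module.finrank k (Coh.HH X (CohB1.tensorMod (ClSub.idealMod C) N) 0) =
      Module.finrank k (Coh.HH X (Coh.structureModule X) 0) := (HHFin1.HHequiv k iN 0).finrank_eq
  refine ⟨?_, ?_⟩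
  · rw [← e2, hadd, e3]
  · rw [← a1, ← a2]
    exact hle

variable [IsIntegral X] [Smooth (X ↘ (Spec (CommRingCat.of k)))]

set_option maxHeartbeats 3200000 in
/-- S16564 -/
theorem s16564 [IsAlgClosed k] (hdim : topologicalKrullDim X = 2)
    (hconj : ∀ (M : X.Modules), PicF.IsInvertible M →
      (∀ (E : X.IdealSheafData), IsIntegral E.subscheme →
        topologicalKrullDim (E.support : Set X) = 1 →
        Subsingleton (Coh.HH E.subscheme (Coh.structureModule E.subscheme) 1) →
        FGA.intNum k X 2 ![ClSub.idealMod E, ClSub.idealMod E] (Coh.structureModule X) = -1 →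
        -1 ≤ (Curv2.euler k X (CohB1.tensorMod (ClSub.quotMod E) M) -
          Curv2.euler k X (ClSub.quotMod E))) →
      ((Subsingleton (Coh.HH X M 0) ∧ Subsingleton (Coh.HH X M 1)) ∨
        (Subsingleton (Coh.HH X M 0) ∧ Subsingleton (Coh.HH X M 2)) ∨
        (Subsingleton (Coh.HH X M 1) ∧ Subsingleton (Coh.HH X M 2))))
    (C : X.IdealSheafData) (hCi : IsIntegral C.subscheme)
    (hC1 : topologicalKrullDim (C.support : Set X) = 1) :
    -1 ≤ FGA.intNum k X 2 ![ClSub.idealMod C, ClSub.idealMod C] (Coh.structureModule X) := by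
  haveI : AlgebraicGeometry.IsNoetherian X := Euler.isNoetherian_of_proper k X
  by_contra hlt
  rw [not_le] at hlt
  have hd2 : topologicalKrullDim X ≤ ((2 : ℕ) : WithBot ℕ∞) := by rw [hdim]; exact le_of_eq rfl
  have hOi : PicF.IsInvertible (Coh.structureModule X) := GenLoc.isInvertible_O
  have hI := SurfCurve.isInvertible_idealMod_curve k X hdim C hCi hC1
  have hIc : Coh.IsCoh (ClSub.idealMod C) := InvQc.isCoh_of_isInvertible _ hI
  obtain ⟨N, hN, ⟨eN⟩⟩ := InvInv2.exists_inverse hI
  have iN : CohB1.tensorMod (ClSub.idealMod C) N ≅ Coh.structureModule X :=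
    TildeTens.tensorModComm _ _ ≪≫ eN
  -- the degree of `N` on a curve
  have hform : ∀ E : X.IdealSheafData, PicF.IsInvertible (ClSub.idealMod E) →
      Curv2.euler k X (CohB1.tensorMod (ClSub.quotMod E) N) - Curv2.euler k X (ClSub.quotMod E) =
        FGA.intNum k X 2 ![ClSub.idealMod E, ClSub.idealMod C] (Coh.structureModule X) := by
    intro E hE
    have h1 := SurfCurve.intNum_ideal_eq_neg_curveInt k X hd2 E N hN
    have h2 := SurfHodge.intNum_inverse_right k X hdim (ClSub.idealMod E) (ClSub.idealMod C) N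
      hE hI hN iN
    linarith
  -- the structure sheaf
  have h0O : Module.finrank k (Coh.HH X (Coh.structureModule X) 0) = 1 :=
    CurveLin.finrank_HH_zero_eq_one_of_isAlgClosed k X
  haveI hntO : Nontrivial (Coh.HH X (Coh.structureModule X) 0) :=
    Module.nontrivial_of_finrank_pos (R := k) (by rw [h0O]; exact Nat.one_pos)
  have hO12 : Subsingleton (Coh.HH X (Coh.structureModule X) 1) ∧
      Subsingleton (Coh.HH X (Coh.structureModule X) 2) := by
    have h := hconj (Coh.structureModule X) hOi (fun E _ _ _ _ => by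
      have e := Euler.euler_iso k X
        (Groth.Agent.Lib.Helper5.LTenFlf.tensorUnitIso (ClSub.quotMod E))
      change Curv2.euler k X (CohB1.tensorMod (ClSub.quotMod E) (Coh.structureModule X)) = _ at e
      rw [e, sub_self]
      norm_num)
    rcases h with ⟨h0, _⟩ | ⟨h0, _⟩ | h12
    · exact absurd h0 (not_subsingleton _)
    · exact absurd h0 (not_subsingleton _)
    · exact h12
  have hχO : Curv2.euler k X (Coh.structureModule X) =
      (Module.finrank k (Coh.HH X (Coh.structureModule X) 0) : ℤ) :=
    euler_eq_h0 k X hd2 _ hO12.1 hO12.2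
  rw [h0O] at hχO
  obtain ⟨hχ, h0le⟩ := inverse_ideal_facts k X C hIc N hN iN
  rw [h0O] at h0le
  haveI hntN : Nontrivial (Coh.HH X N 0) :=
    Module.nontrivial_of_finrank_pos (R := k) (lt_of_lt_of_le Nat.one_pos h0le)
  have hN12 : Subsingleton (Coh.HH X N 1) ∧ Subsingleton (Coh.HH X N 2) := by
    have h := hconj N hN (fun E hEi hE1 _ hEE => by
      have hE := SurfCurve.isInvertible_idealMod_curve k X hdim E hEi hE1
      rw [hform E hE]
      by_cases hEC : E = C
      · rw [← hEC, hEE]
      · exact le_trans (by norm_num)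
          (NegDef.intNum_distinct_nonneg k X hdim E C hEi hCi hE1 hC1 hEC))
    rcases h with ⟨h0, _⟩ | ⟨h0, _⟩ | h12
    · exact absurd h0 (not_subsingleton _)
    · exact absurd h0 (not_subsingleton _)
    · exact h12
  have hχN : Curv2.euler k X N = (Module.finrank k (Coh.HH X N 0) : ℤ) :=
    euler_eq_h0 k X hd2 N hN12.1 hN12.2
  have hCN := hform C hI
  have hχQ := euler_quotMod_le_one k X C hCi hC1
  have h0N' : (1 : ℤ) ≤ (Module.finrank k (Coh.HH X N 0) : ℤ) := by exact_mod_cast h0le
  push_cast at hχO
  linarith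

end Surf

end Groth.Agent.Helper1.PlaneBl
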