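import Mathlib
import Groth.Prelude.Def_CohB1

/-!
# Forms on projective space: common zeros (helper1)

* `eq_zero_of_compat`: a compatible family of fractions of negative degree vanishes;
* `le_height`: a prime of `k[X_0..X_n]` containing all variables has height `≥ n+1`;
* `exists_common_zero`: `m + 1 ≤ n` forms of positive degree in `n+1` variables have a common
  zero in `Proj`.
-/

set_option autoImplicit false
universe u
open MvPolynomial

namespace Groth.Agent.Helper1.PnConstA

section Poly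
variable {σ : Type*} {R : Type*} [CommRing R]

theorem eq_zero_of_compat [DecidableEq σ] (a : σ → MvPolynomial σ R) (k j : σ → ℕ)
    (ha : ∀ i, (a i).IsHomogeneous (j i)) (hjk : ∀ i, j i < k i)
    (hc : ∀ i i', a i * X i' ^ k i' = a i' * X i ^ k i) (i0 i1 : σ) (h01 : i1 ≠ i0) :
    a i0 = 0 := by
  ext m
  rw [coeff_zero]
  by_contra hm
  have hle : k i0 ≤ m i0 := by
    by_contra hlt
    push Not at hlt
    have h := congrArg (coeff (m + Finsupp.single i1 (k i1))) (hc i0 i1)
    rw [X_pow_eq_monomial, X_pow_eq_monomial, coeff_mul_monomial, coeff_mul_monomial',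
      if_neg, mul_one] at h
    · exact hm h
    · intro hle
      have := hle i0
      simp [Finsupp.single_eq_of_ne h01.symm] at this
      omega
  have hdeg := ha i0 hm
  have h1 : m i0 ≤ Finsupp.weight (1 : σ → ℕ) m := Finsupp.le_weight _ (by simp) m
  have h2 := hjk i0
  omega

end Poly

section Height
variable (k : Type*) [Field k] (n : ℕ)

/-- the substitution killing the first `j` variables -/
noncomputable def φ (j : ℕ) :
    MvPolynomial (Fin (n + 1)) k →ₐ[k] MvPolynomial (Fin (n + 1)) k :=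
  aeval (fun i : Fin (n + 1) => if i.val < j then 0 else X i)

theorem φ_X (j : ℕ) (i : Fin (n + 1)) :
    φ k n j (X i) = if i.val < j then 0 else X i := by
  unfold φ
  rw [aeval_X]

theorem φ_comp (j : ℕ) (p : MvPolynomial (Fin (n + 1)) k) :
    φ k n (j + 1) (φ k n j p) = φ k n (j + 1) p := by
  have h : (φ k n (j + 1)).comp (φ k n j) = φ k n (j + 1) := by
    apply MvPolynomial.algHom_ext
    intro i
    rw [AlgHom.comp_apply, φ_X k n j i]
    by_cases h1 : i.val < j
    · have h2 : i.val < j + 1 := by omega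
      rw [if_pos h1, map_zero, φ_X, if_pos h2]
    · rw [if_neg h1]
  exact DFunLike.congr_fun h p

/-- the chain of primes -/
noncomputable def P (j : ℕ) : Ideal (MvPolynomial (Fin (n + 1)) k) := RingHom.ker (φ k n j)

instance (j : ℕ) : (P k n j).IsPrime := RingHom.ker_isPrime _

theorem P_lt (j : ℕ) (hj : j < n + 1) : P k n j < P k n (j + 1) := by
  rw [SetLike.lt_iff_le_and_exists]
  refine ⟨fun p hp => ?_, X ⟨j, hj⟩, ?_, ?_⟩
  · rw [P, RingHom.mem_ker] at hp ⊢
    rw [← φ_comp, hp, map_zero]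
  · rw [P, RingHom.mem_ker, φ_X]
    simp
  · rw [P, RingHom.mem_ker, φ_X]
    simp [X_ne_zero]

theorem le_height_P (j : ℕ) (hj : j ≤ n + 1) : (j : ℕ∞) ≤ (P k n j).height := by
  induction j with
  | zero => simp
  | succ j ih =>
    have h1 := ih (by omega)
    have h2 := Ideal.height_add_one_le_of_lt_of_isPrime (P_lt k n j (by omega))
    calc ((j + 1 : ℕ) : ℕ∞) = (j : ℕ∞) + 1 := by push_cast; rfl
      _ ≤ (P k n j).height + 1 := by gcongr
      _ ≤ _ := h2

theorem P_top_le (𝔭 : Ideal (MvPolynomial (Fin (n + 1)) k))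
    (h : ∀ i, (X i : MvPolynomial (Fin (n + 1)) k) ∈ 𝔭) : P k n (n + 1) ≤ 𝔭 := by
  intro p hp
  rw [P, RingHom.mem_ker] at hp
  have hφ : φ k n (n + 1) = aeval (fun _ => (0 : MvPolynomial (Fin (n + 1)) k)) := by
    unfold φ
    congr 1
    funext i
    rw [if_pos i.isLt]
  rw [hφ, aeval_zero', algebraMap_eq] at hp
  have hc : constantCoeff p = 0 := C_injective (Fin (n + 1)) k (hp.trans (map_zero C).symm)
  have hmem : p ∈ Ideal.span (X '' (Set.univ : Set (Fin (n + 1))) :
      Set (MvPolynomial (Fin (n + 1)) k)) := by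
    rw [mem_ideal_span_X_image]
    intro m hm
    have hm0 : m ≠ 0 := by
      rintro rfl
      rw [mem_support_iff] at hm
      exact hm hc
    obtain ⟨i, hi⟩ : ∃ i, m i ≠ 0 := by
      by_contra hcon
      push Not at hcon
      exact hm0 (Finsupp.ext hcon)
    exact ⟨i, trivial, hi⟩
  refine (Ideal.span_le.2 ?_) hmem
  rintro _ ⟨i, -, rfl⟩
  exact h i

theorem le_height (𝔭 : Ideal (MvPolynomial (Fin (n + 1)) k))
    (h : ∀ i, (X i : MvPolynomial (Fin (n + 1)) k) ∈ 𝔭) : ((n + 1 : ℕ) : ℕ∞) ≤ 𝔭.height :=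
  (le_height_P k n (n + 1) le_rfl).trans (Ideal.height_mono (P_top_le k n 𝔭 h))

end Height

theorem exists_common_zero (k : Type u) [Field k] (n m e : ℕ) (hmn : m < n) (he : 0 < e)
    (F : Fin (m + 1) → MvPolynomial (Fin (n + 1)) k)
    (hF : ∀ i, F i ∈ CohB1.polyGrading n k e) :
    ∃ x : ProjectiveSpectrum (CohB1.polyGrading n k), ∀ i, F i ∈ x.asHomogeneousIdeal := by
  classical
  let s : Finset (MvPolynomial (Fin (n + 1)) k) := Finset.univ.image F
  have hs : s.card ≤ m + 1 := by
    refine (Finset.card_image_le).trans ?_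
    rw [Finset.card_univ, Fintype.card_fin]
  let M0 : Ideal (MvPolynomial (Fin (n + 1)) k) :=
    RingHom.ker (constantCoeff : MvPolynomial (Fin (n + 1)) k →+* k)
  haveI : M0.IsPrime := RingHom.ker_isPrime _
  have hI : Ideal.span (s : Set (MvPolynomial (Fin (n + 1)) k)) ≤ M0 := by
    rw [Ideal.span_le]
    intro p hp
    obtain ⟨i, -, rfl⟩ := Finset.mem_image.1 (Finset.mem_coe.1 hp)
    show F i ∈ RingHom.ker (constantCoeff : MvPolynomial (Fin (n + 1)) k →+* k)
    rw [RingHom.mem_ker]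
    have hh : (F i).IsHomogeneous e := (mem_homogeneousSubmodule _ _).1 (hF i)
    exact hh.coeff_eq_zero (by simpa using he.ne)
  obtain ⟨𝔭, hp, hpM⟩ := Ideal.exists_minimalPrimes_le hI
  haveI h𝔭 : 𝔭.IsPrime := hp.1.1
  have hht : 𝔭.height ≤ s.card := Ideal.height_le_card_of_mem_minimalPrimes_span_finset hp
  have h𝔮 : (𝔭.homogeneousCore (CohB1.polyGrading n k)).toIdeal.IsPrime :=
    Ideal.IsPrime.homogeneousCore h𝔭
  have hF𝔮 : ∀ i, F i ∈ 𝔭.homogeneousCore (CohB1.polyGrading n k) := fun i =>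
    Ideal.mem_homogeneousCore_of_homogeneous_of_mem ⟨e, hF i⟩
      (hp.1.2 (Ideal.subset_span (by simp [s])))
  have hirr : ¬ HomogeneousIdeal.irrelevant (CohB1.polyGrading n k) ≤
      𝔭.homogeneousCore (CohB1.polyGrading n k) := by
    intro hle
    have hX : ∀ i, (X i : MvPolynomial (Fin (n + 1)) k) ∈ 𝔭 := fun i =>
      Ideal.toIdeal_homogeneousCore_le (CohB1.polyGrading n k) 𝔭
        (hle (HomogeneousIdeal.mem_irrelevant_of_mem _ one_pos (isHomogeneous_X k i)))
    have h1 := le_height k n 𝔭 hX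
    have h2 : ((n + 1 : ℕ) : ℕ∞) ≤ ((m + 1 : ℕ) : ℕ∞) :=
      h1.trans (hht.trans (by exact_mod_cast hs))
    have h3 : n + 1 ≤ m + 1 := by exact_mod_cast h2
    omega
  exact ⟨⟨𝔭.homogeneousCore (CohB1.polyGrading n k), h𝔮, hirr⟩, hF𝔮⟩

end Groth.Agent.Helper1.PnConstA
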