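import Mathlib
import Groth.Agent.Lib.Helper1.HypPnC
import Groth.Agent.Lib.Helper1.PnConstA
import Groth.Agent.Lib.Helper1.ProjSpaceH0
import Groth.Agent.Lib.Helper1.NegVan1
import Groth.Agent.Lib.Helper1.AmpleQA
import Groth.Agent.Lib.Lead.PnMain

/-!
# Morphisms `P^n → P^m` with `m < n` are constant (helper1)
-/

set_option autoImplicit false
set_option synthInstance.maxHeartbeats 400000
universe u
open CategoryTheory CategoryTheory.Limits AlgebraicGeometry TopologicalSpace Opposite MvPolynomial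

namespace Groth.Agent.Helper1.PnConst

open Groth.Agent.Helper1.QcCech Groth.Agent.Helper1 Groth.Agent.Helper1.PullSec
open Groth.Agent.Helper1.PullGen Groth.Agent.Helper1.LGen Groth.Agent.Helper1.AmpleLib
open Groth.Agent.Helper1.ProjSpaceLib Groth.Agent.Helper1.ProjGlobal Groth.Agent.Helper1.HypPn

section NegTwist

variable (n : ℕ) (R : Type u) [CommRing R]

set_option maxHeartbeats 1600000 in
/-- sections of `O(d)`, `d < 0`, on `P^n`, `n ≥ 1`, vanish -/
theorem sect_neg_eq_zero (hn : 1 ≤ n) (d : ℤ) (hd : d < 0)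
    (s : Twist.sectN (𝒜 := CohB1.polyGrading n R) d (op ⊤)) : s = 0 := by
  classical
  haveI : Nontrivial (Fin (n + 1)) := Fin.nontrivial_iff_two_le.2 (by omega)
  have hloc : ∀ i : Fin (n + 1), ∃ (k j : ℕ) (b : MvPolynomial (Fin (n + 1)) R),
      b ∈ CohB1.polyGrading n R j ∧ (j : ℤ) = k + d ∧
        ∀ (x : ProjectiveSpectrum (CohB1.polyGrading n R))
          (hx : (X i : MvPolynomial (Fin (n + 1)) R) ∉ x.asHomogeneousIdeal),
          ((s.1 ⟨x, trivial⟩ : Twist.twistAt (CohB1.polyGrading n R) d x) :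
              Twist.Loc (CohB1.polyGrading n R) x) =
            (Localization.mk b ⟨(X i : MvPolynomial (Fin (n + 1)) R) ^ k,
              fun h => hx (x.isPrime.mem_of_pow_mem k h)⟩ :
              Twist.Loc (CohB1.polyGrading n R) x) := by
    intro i
    obtain ⟨k, j, m, hj, hm⟩ := ProjNormal.twist_sect_eq (CohB1.polyGrading n R) d
      Nat.one_pos (X_mem n R i) (Twist.resN d (homOfLE le_top).op s)
    refine ⟨k, j, m.1, m.2, ?_, fun x hx => hm ⟨x, hx⟩⟩
    rw [hj]
    push_cast
    ring
  choose k j b hb hj hs using hloc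
  have hc : ∀ i i', b i * X i' ^ k i' = b i' * X i ^ k i := by
    intro i i'
    have hXi : (X i : MvPolynomial (Fin (n + 1)) R) ^ k i ∈ CohB1.polyGrading n R (k i) := by
      have := SetLike.pow_mem_graded (k i) (X_mem n R i)
      simpa [smul_eq_mul] using this
    have hXi' : (X i' : MvPolynomial (Fin (n + 1)) R) ^ k i' ∈ CohB1.polyGrading n R (k i') := by
      have := SetLike.pow_mem_graded (k i') (X_mem n R i')
      simpa [smul_eq_mul] using this
    have hjj : j i' + k i = j i + k i' := by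
      have h1 := hj i
      have h2 := hj i'
      omega
    have he : b i * X i' ^ k i' - b i' * X i ^ k i ∈ CohB1.polyGrading n R (j i + k i') := by
      refine Submodule.sub_mem _ (SetLike.mul_mem_graded (hb i) hXi') ?_
      have := SetLike.mul_mem_graded (hb i') hXi
      rwa [hjj] at this
    obtain ⟨N, hN⟩ := exists_pow_mul_eq_zero (CohB1.polyGrading n R) (d := 1 + 1)
      (by norm_num) (SetLike.mul_mem_graded (X_mem n R i) (X_mem n R i')) he (by
        intro x hx
        have hxi : (X i : MvPolynomial (Fin (n + 1)) R) ∉ x.asHomogeneousIdeal :=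
          fun h => hx (Ideal.mul_mem_right _ _ h)
        have hxi' : (X i' : MvPolynomial (Fin (n + 1)) R) ∉ x.asHomogeneousIdeal :=
          fun h => hx (Ideal.mul_mem_left _ _ h)
        have e1 := hs i x hxi
        have e2 := hs i' x hxi'
        rw [e1, Localization.mk_eq_mk_iff, Localization.r_iff_exists] at e2
        obtain ⟨u, hu⟩ := e2
        refine ⟨u.1, u.2, ?_⟩
        simp only at hu
        rw [mul_sub, mul_comm (b i), hu]
        ring)
    rw [← sub_eq_zero]
    apply Poly.mul_X_pow_cancel (i := i) (n := N)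
    apply Poly.mul_X_pow_cancel (i := i') (n := N)
    rw [zero_mul, zero_mul, ← hN]
    ring
  have hb0 : ∀ i, b i = 0 := by
    intro i
    obtain ⟨i', hi'⟩ := exists_ne i
    exact PnConstA.eq_zero_of_compat b k j
      (fun i => (mem_homogeneousSubmodule _ _).mp (hb i))
      (fun i => by have := hj i; omega) hc i i' hi'
  have hfinal : ∀ x : ProjectiveSpectrum (CohB1.polyGrading n R),
      ((s.1 ⟨x, trivial⟩ : Twist.twistAt (CohB1.polyGrading n R) d x) :
          Twist.Loc (CohB1.polyGrading n R) x) = 0 := by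
    intro x
    obtain ⟨i, hi⟩ := exists_X_notMem n R x
    rw [hs i x hi]
    simp only [hb0 i]
    exact Localization.mk_zero _
  apply Subtype.ext
  funext x
  apply Subtype.ext
  exact hfinal x.1

end NegTwist

section Gen

variable {X : Scheme.{u}}

/-- a section generating somewhere is nonzero -/
theorem ne_zero_of_mem_genLocus (L : X.Modules) (s : Γ(L, ⊤)) (x : X)
    (hx : x ∈ CohB1.genLocus L (TwistAmple.homOfSec L s)) : s ≠ 0 := by
  rintro rfl
  obtain ⟨W, hxW, hW⟩ := (mem_genLocus_iff_isGen _ x).1 hx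
  rw [secVal_homOfSec] at hW
  have hinj := (hW W le_rfl).1
  have h10 : (1 : Γ(X, W)) = 0 := hinj (by simp only [map_zero, smul_zero])
  have h2 := congrArg (X.presheaf.germ W x hxW).hom h10
  rw [map_one, map_zero] at h2
  exact one_ne_zero h2

end Gen

section Main

variable (k : Type u) [Field k] (n m : ℕ)

set_option maxHeartbeats 1600000 in
/-- the case of a trivial pullback: the morphism is constant -/
theorem const_case (f : CohB1.ProjSpace n k ⟶ CohB1.ProjSpace m k)
    (hf : f ≫ CohB1.ProjSpace.toSpec m k = CohB1.ProjSpace.toSpec n k)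
    (θ : (Scheme.Modules.pullback f).obj (Twist.twistProjSpace m k 1) ≅
      Coh.structureModule (CohB1.ProjSpace n k))
    (hne : ∃ i, θ.hom.app ⊤ (ProjUP.pullSec f (Twist.twistProjSpace m k 1)
      (ProjUP.coord m k i)) ≠ 0) :
    ∃ q : Spec (CommRingCat.of k) ⟶ CohB1.ProjSpace m k,
      f = CohB1.ProjSpace.toSpec n k ≫ q := by
  classical
  let g := CohB1.ProjSpace.toSpec n k
  let N := Coh.structureModule (CohB1.ProjSpace n k)
  let u : Fin (m + 1) → Γ(N, ⊤) := fun i =>
    θ.hom.app ⊤ (ProjUP.pullSec f (Twist.twistProjSpace m k 1) (ProjUP.coord m k i))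
  haveI := ProjSpaceLib.isIso_toSpec_appTop' n k
  have hbij : Function.Bijective g.appTop.hom :=
    (ConcreteCategory.isIso_iff_bijective g.appTop).1 inferInstance
  have hsurj : ∀ i, ∃ c : Γ(Spec (CommRingCat.of k), ⊤),
      (show Γ(N, ⊤) from g.appTop.hom c) = u i := fun i => hbij.2 (u i)
  choose γ hγ using hsurj
  obtain ⟨i0, hi0⟩ := hne
  have hγ0 : γ i0 ≠ 0 := by
    intro h
    apply hi0
    have := hγ i0
    rw [h, map_zero] at this
    exact this.symm
  have hunit : IsUnit (γ i0) := by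
    let e : Γ(Spec (CommRingCat.of k), ⊤) ≃+* k :=
      (Scheme.ΓSpecIso (CommRingCat.of k)).commRingCatIsoToRingEquiv
    have h1 : e (γ i0) ≠ 0 := fun h => hγ0 (e.injective (by rw [h, map_zero]))
    have h2 : IsUnit (e (γ i0)) := h1.isUnit
    have h3 := h2.map e.symm
    rwa [RingEquiv.symm_apply_apply] at h3
  let γ' : Fin (m + 1) → Γ(Coh.structureModule (Spec (CommRingCat.of k)), ⊤) := fun i => γ i
  have hgen : ProjUP.GeneratedBy (Coh.structureModule (Spec (CommRingCat.of k))) γ' := by
    apply VA1.generatedBy_of_cover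
    intro x
    refine ⟨i0, ?_⟩
    rw [GenLoc.genLocus_O, GenLoc.homOfSec_fnO, Scheme.basicOpen_of_isUnit _ hunit]
    trivial
  obtain ⟨q, hq, τ, hτ⟩ := Groth.Agent.S3572.result (R := k) m
    (X := Spec (CommRingCat.of k)) (𝟙 _) (Coh.structureModule _) GenLoc.isInvertible_O γ' hgen
  refine ⟨q, ?_⟩
  refine hom_ext_of_carries m f (g ≫ q) ?_ N θ
    (compIso g q _ _ N τ (PullSec.unitIso g)) u (fun i => rfl) (fun i => ?_)
  · rw [hf, Category.assoc, hq, Category.comp_id]
  · refine Carries.comp (hτ i) ?_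
    show (PullSec.unitIso g).hom.app ⊤ (ProjUP.pullSec g _ (γ' i)) = u i
    rw [← hγ i]
    exact PullSec.unitIso_σ g ⊤ (γ i)

set_option maxHeartbeats 3200000 in
theorem main (hmn : m < n) (f : CohB1.ProjSpace n k ⟶ CohB1.ProjSpace m k)
    (hf : f ≫ CohB1.ProjSpace.toSpec m k = CohB1.ProjSpace.toSpec n k) :
    ∃ q : Spec (CommRingCat.of k) ⟶ CohB1.ProjSpace m k,
      f = CohB1.ProjSpace.toSpec n k ≫ q := by
  classical
  let L : (CohB1.ProjSpace n k).Modules :=
    (Scheme.Modules.pullback f).obj (Twist.twistProjSpace m k 1)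
  have hL : PicF.IsInvertible L := PullGen.isInvertible_pullback f (PnVA.isInvertible_O1 m k)
  let s : Fin (m + 1) → Γ(L, ⊤) := fun i =>
    ProjUP.pullSec f (Twist.twistProjSpace m k 1) (ProjUP.coord m k i)
  have hcov : ∀ x : CohB1.ProjSpace n k,
      ∃ i, x ∈ CohB1.genLocus L (TwistAmple.homOfSec L (s i)) := by
    intro x
    obtain ⟨i, hi⟩ := ProjUP8.hcov m k (f x)
    refine ⟨i, ?_⟩
    have h := ProjUP7.genLocus_pt (CohB1.polyGrading m k) (ProjUP8.tX m k) (ProjUP8.htX m k)
      (ProjUP8.hcov m k) f i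
    exact h.ge hi
  obtain ⟨d, ⟨θ⟩⟩ := Groth.Agent.Lead.PnMain.exists_iso_twist n k L hL
  obtain ⟨x0⟩ : Nonempty (CohB1.ProjSpace n k) := inferInstance
  rcases lt_trichotomy d 0 with hd | hd | hd
  · -- negative degree: no sections
    exfalso
    obtain ⟨i, hi⟩ := hcov x0
    have h0 : θ.hom.app ⊤ (s i) = 0 := sect_neg_eq_zero n k (by omega) d hd _
    have h1 := iso_inv_hom_app θ ⊤ (s i)
    rw [h0, map_zero] at h1
    exact ne_zero_of_mem_genLocus L (s i) x0 hi h1.symm
  · -- degree zero: constant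
    subst hd
    obtain ⟨e0⟩ := TwistTens.nonempty_twist_zero_iso (CohB1.polyGrading n k)
    let θ' : L ≅ Coh.structureModule (CohB1.ProjSpace n k) := θ ≪≫ e0
    refine const_case k n m f hf θ' ?_
    obtain ⟨i, hi⟩ := hcov x0
    refine ⟨i, fun h0 => ne_zero_of_mem_genLocus L (s i) x0 hi ?_⟩
    have h1 := iso_inv_hom_app θ' ⊤ (s i)
    have h2 : θ'.inv.app ⊤ (θ'.hom.app ⊤ (s i)) = θ'.inv.app ⊤ 0 :=
      congrArg (fun z => θ'.inv.app ⊤ z) h0
    exact h1.symm.trans (h2.trans (map_zero _))
  · -- positive degree: a common zero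
    exfalso
    obtain ⟨e, rfl⟩ : ∃ e : ℕ, d = e := ⟨d.toNat, (Int.toNat_of_nonneg hd.le).symm⟩
    have he : 0 < e := by exact_mod_cast hd
    have hsurj : ∀ i, ∃ F : CohB1.polyGrading n k e,
        ProjSpaceLib.globalOfEquiv n k e F = θ.hom.app ⊤ (s i) :=
      fun i => (ProjSpaceLib.globalOfEquiv n k e).surjective (θ.hom.app ⊤ (s i))
    choose F hF using hsurj
    obtain ⟨x, hx⟩ := PnConstA.exists_common_zero k n m e hmn he (fun i => (F i).1)
      (fun i => (F i).2)
    have hunit : ∀ x : ProjectiveSpectrum (CohB1.polyGrading n k),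
        ∃ g' : CohB1.polyGrading n k e,
          (g' : MvPolynomial (Fin (n + 1)) k) ∉ x.asHomogeneousIdeal := by
      intro x
      obtain ⟨i, hi⟩ := ProjSpaceLib.exists_X_notMem n k x
      have hXi : (X i : MvPolynomial (Fin (n + 1)) k) ^ e ∈ CohB1.polyGrading n k e := by
        have := SetLike.pow_mem_graded e (ProjSpaceLib.X_mem n k i)
        simpa [smul_eq_mul] using this
      exact ⟨⟨_, hXi⟩, fun h => hi (x.isPrime.mem_of_pow_mem e h)⟩
    let y : CohB1.ProjSpace n k := x
    obtain ⟨i, hi⟩ := hcov y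
    rw [← TwistAmple.genLocus_comp_iso (TwistAmple.homOfSec L (s i)) θ, NegVan.homOfSec_comp,
      ← hF i] at hi
    have h2 := TwistAmple.genLocus_globalOf (CohB1.polyGrading n k) (F i) hunit
    have hi' : y ∈ Proj.basicOpen (CohB1.polyGrading n k)
        ((F i : MvPolynomial (Fin (n + 1)) k)) := h2.le hi
    exact (Proj.mem_basicOpen _ _ _).1 hi' (hx i)

end Main

end Groth.Agent.Helper1.PnConst
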