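import Mathlib
import Groth.Agent.Lib.Helper1.HypPnC
import Groth.Agent.Lib.Helper1.AmpleQA
import Groth.Agent.Lib.Helper1.PnConstB

/-!
# Linear automorphisms of projective space (helper1)

The morphism `rA A : P^n_k ⟶ P^n_k` attached to an invertible matrix, the homomorphism
`GL_{n+1}(k) →* Aut(P^n_k / k)`, and `k`-points.
-/

set_option autoImplicit false
set_option synthInstance.maxHeartbeats 400000
universe u
open CategoryTheory CategoryTheory.Limits AlgebraicGeometry TopologicalSpace Opposite MvPolynomial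

namespace Groth.Agent.Helper1.PnAut

open Groth.Agent.Helper1.QcCech Groth.Agent.Helper1 Groth.Agent.Helper1.PullSec
open Groth.Agent.Helper1.PullGen Groth.Agent.Helper1.LGen Groth.Agent.Helper1.AmpleLib
open Groth.Agent.Helper1.ProjSpaceLib Groth.Agent.Helper1.HypPn Groth.Agent.Helper1.TwForm
open Groth.Agent.Helper1.TensGen

section Scale

variable {X : Scheme.{u}}

theorem resR_top (c : Γ(X, ⊤)) : resR (le_top : (⊤ : X.Opens) ≤ ⊤) c = c := by
  have : (homOfLE (le_top : (⊤ : X.Opens) ≤ ⊤)).op = 𝟙 _ := Subsingleton.elim _ _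
  change (X.presheaf.map (homOfLE _).op).hom c = c
  rw [this, CategoryTheory.Functor.map_id]
  rfl

/-- multiplication by a global function -/
noncomputable def scaleHom (L : X.Modules) (c : Γ(X, ⊤)) : L ⟶ L :=
  homMk L L (fun U g => resR (le_top : U ≤ ⊤) c • g)
    (fun U a b => smul_add _ a b)
    (fun U r a => smul_comm _ r a)
    (fun U V h a => by rw [res_smul, resR_resR])

theorem scaleHom_app (L : X.Modules) (c : Γ(X, ⊤)) (U : X.Opens) (g : Γ(L, U)) :
    (scaleHom L c).app U g = resR (le_top : U ≤ ⊤) c • g := rfl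

theorem scaleHom_comp (L : X.Modules) (c c' : Γ(X, ⊤)) :
    scaleHom L c ≫ scaleHom L c' = scaleHom L (c' * c) := by
  apply Scheme.Modules.hom_ext
  intro U
  ext g
  change (scaleHom L c').app U ((scaleHom L c).app U g) = (scaleHom L (c' * c)).app U g
  rw [scaleHom_app, scaleHom_app, scaleHom_app, map_mul, mul_smul]

theorem scaleHom_one (L : X.Modules) : scaleHom L 1 = 𝟙 L := by
  apply Scheme.Modules.hom_ext
  intro U
  ext g
  change (scaleHom L 1).app U g = g
  rw [scaleHom_app, map_one, one_smul]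

/-- multiplication by a global unit -/
noncomputable def scaleIso (L : X.Modules) (c : (Γ(X, ⊤))ˣ) : L ≅ L where
  hom := scaleHom L c
  inv := scaleHom L (c⁻¹ : (Γ(X, ⊤))ˣ)
  hom_inv_id := by rw [scaleHom_comp, Units.inv_mul, scaleHom_one]
  inv_hom_id := by rw [scaleHom_comp, Units.mul_inv, scaleHom_one]

end Scale

section Rep

variable {k : Type u} [Field k] {n : ℕ}

/-- `r` is the morphism attached to the module `N` with sections `u` -/
def Rep {X : Scheme.{u}} (r : X ⟶ CohB1.ProjSpace n k) (N : X.Modules)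
    (u : Fin (n + 1) → Γ(N, ⊤)) : Prop :=
  ∃ θ : (Scheme.Modules.pullback r).obj (Twist.twistProjSpace n k 1) ≅ N,
    ∀ i, Carries r (Twist.twistProjSpace n k 1) N θ (ProjUP.coord n k i) (u i)

/-- linear combinations of sections with constant coefficients -/
noncomputable def lin {X : Scheme.{u}} (q : X ⟶ Spec (CommRingCat.of k)) {N : X.Modules}
    (A : Matrix (Fin (n + 1)) (Fin (n + 1)) k) (u : Fin (n + 1) → Γ(N, ⊤)) :
    Fin (n + 1) → Γ(N, ⊤) :=
  fun i => ∑ j, ProjUP.toGlobal q (A i j) • u j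

theorem lin_lin {X : Scheme.{u}} (q : X ⟶ Spec (CommRingCat.of k)) {N : X.Modules}
    (B A : Matrix (Fin (n + 1)) (Fin (n + 1)) k) (u : Fin (n + 1) → Γ(N, ⊤)) :
    lin q B (lin q A u) = lin q (B * A) u := by
  funext i
  simp only [lin]
  simp only [Finset.smul_sum, smul_smul]
  rw [Finset.sum_comm]
  refine Finset.sum_congr rfl fun l _ => ?_
  rw [← Finset.sum_smul, Matrix.mul_apply, map_sum]
  simp only [map_mul]

theorem lin_one {X : Scheme.{u}} (q : X ⟶ Spec (CommRingCat.of k)) {N : X.Modules}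
    (u : Fin (n + 1) → Γ(N, ⊤)) : lin q (1 : Matrix (Fin (n + 1)) (Fin (n + 1)) k) u = u := by
  funext i
  simp only [lin]
  rw [Finset.sum_eq_single i]
  · rw [Matrix.one_apply_eq, map_one, one_smul]
  · intro j _ hj
    rw [Matrix.one_apply_ne hj.symm, map_zero, zero_smul]
  · intro h
    exact absurd (Finset.mem_univ i) h

theorem lin_scalar {X : Scheme.{u}} (q : X ⟶ Spec (CommRingCat.of k)) {N : X.Modules}
    (c : k) (u : Fin (n + 1) → Γ(N, ⊤)) :
    lin q (Matrix.scalar (Fin (n + 1)) c) u = fun i => ProjUP.toGlobal q c • u i := by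
  funext i
  simp only [lin]
  rw [Finset.sum_eq_single i]
  · rw [Matrix.scalar_apply, Matrix.diagonal_apply_eq]
  · intro j _ hj
    rw [Matrix.scalar_apply, Matrix.diagonal_apply_ne _ hj.symm, map_zero, zero_smul]
  · intro h
    exact absurd (Finset.mem_univ i) h

theorem Rep.ext {X : Scheme.{u}} {r r' : X ⟶ CohB1.ProjSpace n k}
    (hrr' : r ≫ CohB1.ProjSpace.toSpec n k = r' ≫ CohB1.ProjSpace.toSpec n k)
    {N : X.Modules} {u : Fin (n + 1) → Γ(N, ⊤)} (h : Rep r N u) (h' : Rep r' N u) : r = r' := by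
  obtain ⟨θ, hθ⟩ := h
  obtain ⟨θ', hθ'⟩ := h'
  exact hom_ext_of_carries n r r' hrr' N θ θ' u hθ hθ'

theorem Rep.exists {X : Scheme.{u}} (q : X ⟶ Spec (CommRingCat.of k)) (N : X.Modules)
    (hN : PicF.IsInvertible N) (u : Fin (n + 1) → Γ(N, ⊤)) (hu : ProjUP.GeneratedBy N u) :
    ∃ r : X ⟶ CohB1.ProjSpace n k, r ≫ CohB1.ProjSpace.toSpec n k = q ∧ Rep r N u := by
  obtain ⟨r, hr, τ, hτ⟩ := Groth.Agent.S3572.result (R := k) n q N hN u hu
  exact ⟨r, hr, τ, hτ⟩

theorem Rep.id : Rep (𝟙 (CohB1.ProjSpace n k)) (Twist.twistProjSpace n k 1) (ProjUP.coord n k) :=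
  ⟨(Scheme.Modules.pullbackId _).app _, fun i => Carries.id _ _⟩

theorem Rep.comp {X : Scheme.{u}} {q : X ⟶ Spec (CommRingCat.of k)}
    {r : X ⟶ CohB1.ProjSpace n k} (hr : r ≫ CohB1.ProjSpace.toSpec n k = q)
    {N : X.Modules} {u : Fin (n + 1) → Γ(N, ⊤)} (h : Rep r N u)
    {r' : CohB1.ProjSpace n k ⟶ CohB1.ProjSpace n k}
    {A : Matrix (Fin (n + 1)) (Fin (n + 1)) k}
    (h' : Rep r' (Twist.twistProjSpace n k 1)
      (lin (CohB1.ProjSpace.toSpec n k) A (ProjUP.coord n k))) :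
    Rep (r ≫ r') N (lin q A u) := by
  obtain ⟨θ, hθ⟩ := h
  obtain ⟨θ', hθ'⟩ := h'
  refine ⟨compIso r r' _ _ N θ' θ, fun i => Carries.comp (hθ' i) ?_⟩
  simp only [lin]
  refine Carries.sum _ fun j _ => ?_
  have h1 := (hθ j).smul (ProjUP.toGlobal (CohB1.ProjSpace.toSpec n k) (A i j))
  have e : r.appTop.hom (ProjUP.toGlobal (CohB1.ProjSpace.toSpec n k) (A i j)) =
      ProjUP.toGlobal q (A i j) := by
    rw [toGlobal_comp, hr]
  rw [e] at h1
  exact h1

theorem Rep.scale {X : Scheme.{u}} {r : X ⟶ CohB1.ProjSpace n k} {N : X.Modules}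
    {u : Fin (n + 1) → Γ(N, ⊤)} (h : Rep r N u) (c : (Γ(X, ⊤))ˣ) :
    Rep r N (fun i => (c : Γ(X, ⊤)) • u i) := by
  obtain ⟨θ, hθ⟩ := h
  refine ⟨θ ≪≫ scaleIso N c, fun i => ?_⟩
  show (scaleHom N c).app ⊤ (θ.hom.app ⊤ (ProjUP.pullSec r _ (ProjUP.coord n k i))) = _
  rw [(hθ i).eq, scaleHom_app, resR_top]

theorem Rep.exists_ne_zero {X : Scheme.{u}} [Nonempty X] {r : X ⟶ CohB1.ProjSpace n k}
    {N : X.Modules} {u : Fin (n + 1) → Γ(N, ⊤)} (h : Rep r N u) : ∃ i, u i ≠ 0 := by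
  obtain ⟨θ, hθ⟩ := h
  obtain ⟨x⟩ := ‹Nonempty X›
  obtain ⟨i, hi⟩ := ProjUP8.hcov n k (r x)
  refine ⟨i, fun h0 => ?_⟩
  have hg := ProjUP7.genLocus_pt (CohB1.polyGrading n k) (ProjUP8.tX n k) (ProjUP8.htX n k)
    (ProjUP8.hcov n k) r i
  have hne := PnConst.ne_zero_of_mem_genLocus _ _ x (hg.ge hi)
  apply hne
  have h1 := iso_inv_hom_app θ ⊤ (ProjUP.pullSec r _ (ProjUP.coord n k i))
  have h2 : θ.hom.app ⊤ (ProjUP.pullSec r _ (ProjUP.coord n k i)) = 0 := (hθ i).eq.trans h0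
  have h3 : θ.inv.app ⊤ (θ.hom.app ⊤ (ProjUP.pullSec r _ (ProjUP.coord n k i))) =
      θ.inv.app ⊤ 0 := congrArg (fun z => θ.inv.app ⊤ z) h2
  exact h1.symm.trans (h3.trans (map_zero _))

theorem generatedBy_lin {X : Scheme.{u}} (q : X ⟶ Spec (CommRingCat.of k)) (N : X.Modules)
    (u : Fin (n + 1) → Γ(N, ⊤)) (hu : ProjUP.GeneratedBy N u)
    (A B : Matrix (Fin (n + 1)) (Fin (n + 1)) k) (hBA : B * A = 1) :
    ProjUP.GeneratedBy N (lin q A u) := by
  intro x
  rw [eq_top_iff, ← hu x, Submodule.span_le]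
  rintro _ ⟨l, rfl⟩
  have h1 : u l = ∑ i, ProjUP.toGlobal q (B l i) • lin q A u i := by
    have := congrFun (lin_lin q B A u) l
    rw [hBA, lin_one] at this
    exact this.symm
  show (N.presheaf.germ ⊤ x trivial).hom (u l) ∈ _
  rw [h1, map_sum]
  refine Submodule.sum_mem _ fun i _ => ?_
  rw [ProjUP4.germ_smul']
  exact Submodule.smul_mem _ _ (Submodule.subset_span ⟨i, rfl⟩)

end Rep

section GLin

variable (k : Type u) [Field k] (n : ℕ)

theorem generatedBy_coord :
    ProjUP.GeneratedBy (Twist.twistProjSpace n k 1) (ProjUP.coord n k) := by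
  apply VA1.generatedBy_of_cover
  intro x
  obtain ⟨j, hj⟩ := ProjUP8.hcov n k x
  refine ⟨j, ?_⟩
  have hg := ProjUP7.genLocus_T (CohB1.polyGrading n k) (ProjUP8.tX n k) (ProjUP8.htX n k)
    (ProjUP8.hcov n k) j
  exact hg.ge hj

theorem exists_rA (A : Matrix.GeneralLinearGroup (Fin (n + 1)) k) :
    ∃ r : CohB1.ProjSpace n k ⟶ CohB1.ProjSpace n k,
      r ≫ CohB1.ProjSpace.toSpec n k = CohB1.ProjSpace.toSpec n k ∧
        Rep r (Twist.twistProjSpace n k 1)
          (lin (CohB1.ProjSpace.toSpec n k) A.1 (ProjUP.coord n k)) :=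
  Rep.exists _ _ (PnVA.isInvertible_O1 n k) _
    (generatedBy_lin _ _ _ (generatedBy_coord k n) A.1 (A⁻¹).1 (Units.inv_mul A))

/-- the linear automorphism attached to an invertible matrix -/
noncomputable def rA (A : Matrix.GeneralLinearGroup (Fin (n + 1)) k) :
    CohB1.ProjSpace n k ⟶ CohB1.ProjSpace n k := (exists_rA k n A).choose

theorem rA_over (A : Matrix.GeneralLinearGroup (Fin (n + 1)) k) :
    rA k n A ≫ CohB1.ProjSpace.toSpec n k = CohB1.ProjSpace.toSpec n k :=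
  (exists_rA k n A).choose_spec.1

theorem rA_rep (A : Matrix.GeneralLinearGroup (Fin (n + 1)) k) :
    Rep (rA k n A) (Twist.twistProjSpace n k 1)
      (lin (CohB1.ProjSpace.toSpec n k) A.1 (ProjUP.coord n k)) :=
  (exists_rA k n A).choose_spec.2

theorem rA_comp (A B : Matrix.GeneralLinearGroup (Fin (n + 1)) k) :
    rA k n A ≫ rA k n B = rA k n (B * A) := by
  refine Rep.ext ?_ (Rep.comp (rA_over k n A) (rA_rep k n A) (rA_rep k n B)) ?_
  · rw [Category.assoc, rA_over, rA_over, rA_over]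
  · rw [lin_lin]
    exact rA_rep k n (B * A)

theorem rA_one : rA k n 1 = 𝟙 _ := by
  refine Rep.ext ?_ (rA_rep k n 1) ?_
  · rw [rA_over, Category.id_comp]
  · have : ((1 : Matrix.GeneralLinearGroup (Fin (n + 1)) k) :
        Matrix (Fin (n + 1)) (Fin (n + 1)) k) = 1 := rfl
    rw [this, lin_one]
    exact Rep.id

/-- the homomorphism `GL_{n+1}(k) →* Aut(P^n_k / k)` -/
noncomputable def φ : Matrix.GeneralLinearGroup (Fin (n + 1)) k →*
    Aut (Over.mk (CohB1.ProjSpace.toSpec n k)) where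
  toFun A :=
    { hom := Over.homMk (rA k n A) (rA_over k n A)
      inv := Over.homMk (rA k n A⁻¹) (rA_over k n A⁻¹)
      hom_inv_id := by
        apply Over.OverMorphism.ext
        show rA k n A ≫ rA k n A⁻¹ = 𝟙 _
        rw [rA_comp, inv_mul_cancel, rA_one]
      inv_hom_id := by
        apply Over.OverMorphism.ext
        show rA k n A⁻¹ ≫ rA k n A = 𝟙 _
        rw [rA_comp, mul_inv_cancel, rA_one] }
  map_one' := by
    apply Iso.ext
    apply Over.OverMorphism.ext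
    show rA k n 1 = 𝟙 _
    exact rA_one k n
  map_mul' A B := by
    apply Iso.ext
    apply Over.OverMorphism.ext
    show rA k n (A * B) = rA k n B ≫ rA k n A
    exact (rA_comp k n B A).symm

theorem φ_hom_left (A : Matrix.GeneralLinearGroup (Fin (n + 1)) k) :
    ((φ k n A).hom).left = rA k n A := rfl

end GLin

section Points

variable (k : Type u) [Field k] (n : ℕ)

/-- `k → Γ(Spec k, O)` -/
noncomputable def ε : k →+* Γ(Spec (CommRingCat.of k), ⊤) :=
  ProjUP.toGlobal (𝟙 (Spec (CommRingCat.of k)))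

theorem ε_bijective : Function.Bijective (ε k) := by
  have h : ⇑(ε k) = ⇑(Scheme.ΓSpecIso (CommRingCat.of k)).inv.hom := by
    funext a
    show ((𝟙 (Spec (CommRingCat.of k)) : _ ⟶ _).appTop).hom
      ((Scheme.ΓSpecIso (CommRingCat.of k)).inv.hom a) = _
    rw [Scheme.Hom.id_appTop]
    rfl
  rw [h]
  exact (ConcreteCategory.isIso_iff_bijective (Scheme.ΓSpecIso (CommRingCat.of k)).inv).1
    inferInstance

/-- the sections of `O_{Spec k}` attached to a vector -/
noncomputable def uv (v : Fin (n + 1) → k) :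
    Fin (n + 1) → Γ(Coh.structureModule (Spec (CommRingCat.of k)), ⊤) :=
  fun i => ε k (v i) • one' ⊤

theorem lin_uv (A : Matrix (Fin (n + 1)) (Fin (n + 1)) k) (v : Fin (n + 1) → k) :
    lin (𝟙 (Spec (CommRingCat.of k))) A (uv k n v) = uv k n (A.mulVec v) := by
  funext i
  show ∑ j, ε k (A i j) • (ε k (v j) • one' ⊤) = ε k ((A.mulVec v) i) • one' ⊤
  simp only [smul_smul]
  rw [← Finset.sum_smul]
  congr 1
  simp only [Matrix.mulVec, dotProduct, map_sum, map_mul]

theorem exists_pt (v : Fin (n + 1) → k) (hv : v ≠ 0) :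
    ∃ p : Spec (CommRingCat.of k) ⟶ CohB1.ProjSpace n k,
      p ≫ CohB1.ProjSpace.toSpec n k = 𝟙 _ ∧
        Rep p (Coh.structureModule (Spec (CommRingCat.of k))) (uv k n v) := by
  refine Rep.exists (𝟙 _) _ GenLoc.isInvertible_O _ ?_
  obtain ⟨j, hj⟩ : ∃ j, v j ≠ 0 := by
    by_contra h
    push Not at h
    exact hv (funext h)
  have hunit : IsUnit (ε k (v j)) := (hj.isUnit).map (ε k)
  apply VA1.generatedBy_of_cover
  intro x
  refine ⟨j, ?_⟩
  have e : uv k n v j =
      (show Γ(Coh.structureModule (Spec (CommRingCat.of k)), ⊤) from ε k (v j)) :=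
    smul_one' ⊤ _
  rw [e, GenLoc.genLocus_O, GenLoc.homOfSec_fnO, Scheme.basicOpen_of_isUnit _ hunit]
  trivial

theorem eq_smul_of_rep {p : Spec (CommRingCat.of k) ⟶ CohB1.ProjSpace n k}
    {v w : Fin (n + 1) → k}
    (h : Rep p (Coh.structureModule (Spec (CommRingCat.of k))) (uv k n v))
    (h' : Rep p (Coh.structureModule (Spec (CommRingCat.of k))) (uv k n w)) :
    ∃ c : k, w = c • v := by
  obtain ⟨θ, hθ⟩ := h
  obtain ⟨θ', hθ'⟩ := h'
  have hψ : ∀ i, θ'.hom.app ⊤ (θ.inv.app ⊤ (uv k n v i)) = uv k n w i := by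
    intro i
    rw [← (hθ i).eq, iso_inv_hom_app, (hθ' i).eq]
  have hg := isGen_one' (X := Spec (CommRingCat.of k)) ⊤
  obtain ⟨c', hc'⟩ := hg.exists_coeff (θ'.hom.app ⊤ (θ.inv.app ⊤ (one' ⊤)))
  obtain ⟨c, rfl⟩ := (ε_bijective k).2 c'
  refine ⟨c, funext fun i => ?_⟩
  have h1 := hψ i
  unfold uv at h1
  rw [Scheme.Modules.Hom.app_smul, Scheme.Modules.Hom.app_smul, ← hc', smul_smul] at h1
  have h2 := (IsGen.bijective_self hg).1 h1
  apply (ε_bijective k).1
  rw [← h2, Pi.smul_apply, smul_eq_mul, map_mul, mul_comm]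

end Points

end Groth.Agent.Helper1.PnAut
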