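import Mathlib
import Groth.Agent.Lib.Helper1.PnAutA
import Groth.Agent.Lib.Helper1.SerreAmple1
import Groth.Agent.Lib.Lead.PnUniq

/-!
# `Aut(P^n_k / k) = PGL_{n+1}(k)` (helper1)
-/

set_option autoImplicit false
set_option synthInstance.maxHeartbeats 400000
universe u
open CategoryTheory CategoryTheory.Limits AlgebraicGeometry TopologicalSpace Opposite MvPolynomial

namespace Groth.Agent.Helper1.PnAut

open Groth.Agent.Helper1.QcCech Groth.Agent.Helper1 Groth.Agent.Helper1.PullSec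
open Groth.Agent.Helper1.PullGen Groth.Agent.Helper1.LGen Groth.Agent.Helper1.AmpleLib
open Groth.Agent.Helper1.ProjSpaceLib Groth.Agent.Helper1.HypPn Groth.Agent.Helper1.TwForm
open Groth.Agent.Helper1.TensGen

section TP
variable {X : Scheme.{u}}

/-- tensor powers respect isomorphisms -/
theorem nonempty_tensorPow_iso_of_iso {M N : X.Modules} (e : M ≅ N) (n : ℕ) :
    Nonempty (CohB1.tensorPow M n ≅ CohB1.tensorPow N n) := by
  induction n with
  | zero => exact ⟨Iso.refl _⟩
  | succ n ih =>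
    obtain ⟨e'⟩ := ih
    exact ⟨TwistTens.tensorModCongrLeft e' M ≪≫ TwistTens.tensorModCongrRight _ e⟩

end TP

section Lin

variable {k : Type u} [Field k] {n : ℕ}

theorem scalar_of_forall_eigen (A : Matrix (Fin (n + 1)) (Fin (n + 1)) k)
    (h : ∀ v : Fin (n + 1) → k, v ≠ 0 → ∃ c : k, A.mulVec v = c • v) :
    ∃ a : k, A = Matrix.scalar (Fin (n + 1)) a := by
  set f : (Fin (n + 1) → k) →ₗ[k] (Fin (n + 1) → k) := Matrix.toLin' A with hf
  obtain ⟨a, ha⟩ := f.exists_eq_smul_id_of_forall_notLinearIndependent fun v => by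
    by_cases hv : v = 0
    · simp [hv, linearIndependent_fin2]
    · obtain ⟨c, hc⟩ := h v hv
      intro hLI
      exact (LinearIndependent.pair_iff' hv).1 hLI c (by rw [hf, Matrix.toLin'_apply]; exact hc.symm)
  refine ⟨a, ?_⟩
  calc A = LinearMap.toMatrix' f := (LinearMap.toMatrix'_toLin' A).symm
    _ = (algebraMap k (Module.End k (Fin (n + 1) → k)) a).toMatrix' :=
        congrArg LinearMap.toMatrix' ha
    _ = Matrix.scalar (Fin (n + 1)) a := LinearMap.toMatrix'_algebraMap a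

end Lin

section Main

variable (k : Type u) [Field k] (n : ℕ)

/-- the pullback of `O(1)` along an endomorphism has non-negative degree -/
theorem deg_nonneg (hn : 1 ≤ n) (f : CohB1.ProjSpace n k ⟶ CohB1.ProjSpace n k) (d : ℤ)
    (θ : (Scheme.Modules.pullback f).obj (Twist.twistProjSpace n k 1) ≅
      Twist.twist (CohB1.polyGrading n k) d) : 0 ≤ d := by
  by_contra hd
  push Not at hd
  have hrep : Rep f (show (CohB1.ProjSpace n k).Modules from Twist.twist (CohB1.polyGrading n k) d)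
      (fun i => θ.hom.app ⊤ (ProjUP.pullSec f _ (ProjUP.coord n k i))) := ⟨θ, fun i => rfl⟩
  obtain ⟨i, hi⟩ := hrep.exists_ne_zero
  exact hi (PnConst.sect_neg_eq_zero n k hn d hd _)

set_option maxHeartbeats 1600000 in
/-- the pullback of `O(1)` along an automorphism is `O(1)` -/
theorem exists_iso_O1 (hn : 1 ≤ n) (a b : CohB1.ProjSpace n k ⟶ CohB1.ProjSpace n k)
    (hab : a ≫ b = 𝟙 _) :
    Nonempty ((Scheme.Modules.pullback a).obj (Twist.twistProjSpace n k 1) ≅
      Twist.twistProjSpace n k 1) := by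
  have hO1 : PicF.IsInvertible (Twist.twistProjSpace n k 1) := PnVA.isInvertible_O1 n k
  obtain ⟨d, ⟨θa⟩⟩ := Groth.Agent.Lead.PnMain.exists_iso_twist n k
    ((Scheme.Modules.pullback a).obj (Twist.twistProjSpace n k 1))
    (PullGen.isInvertible_pullback a hO1)
  obtain ⟨d', ⟨θb⟩⟩ := Groth.Agent.Lead.PnMain.exists_iso_twist n k
    ((Scheme.Modules.pullback b).obj (Twist.twistProjSpace n k 1))
    (PullGen.isInvertible_pullback b hO1)
  have hd := deg_nonneg k n hn a d θa
  have hd' := deg_nonneg k n hn b d' θb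
  obtain ⟨e, rfl⟩ : ∃ e : ℕ, d = e := ⟨d.toNat, (Int.toNat_of_nonneg hd).symm⟩
  obtain ⟨e', rfl⟩ : ∃ e' : ℕ, d' = e' := ⟨d'.toNat, (Int.toNat_of_nonneg hd').symm⟩
  have hunit : ∀ x : ProjectiveSpectrum (CohB1.polyGrading n k),
      ∃ g ∈ CohB1.polyGrading n k e, g ∉ x.asHomogeneousIdeal := by
    intro x
    obtain ⟨i, hi⟩ := ProjSpaceLib.exists_X_notMem n k x
    have hXi : (X i : MvPolynomial (Fin (n + 1)) k) ^ e ∈ CohB1.polyGrading n k e := by
      have := SetLike.pow_mem_graded e (ProjSpaceLib.X_mem n k i)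
      simpa [smul_eq_mul] using this
    exact ⟨_, hXi, fun h => hi (x.isPrime.mem_of_pow_mem e h)⟩
  obtain ⟨t1⟩ := SerreAmple.nonempty_twist_pow_iso n k e'
  obtain ⟨t2⟩ := nonempty_tensorPow_iso_of_iso θa e'
  obtain ⟨t3⟩ := SerreAmple.nonempty_tensorPow_iso (CohB1.polyGrading n k) (d := e) hunit e'
  let i1 : Twist.twistProjSpace n k 1 ≅
      (Scheme.Modules.pullback (𝟙 (CohB1.ProjSpace n k))).obj (Twist.twistProjSpace n k 1) :=
    ((Scheme.Modules.pullbackId _).app _).symm
  let i2 : (Scheme.Modules.pullback (𝟙 (CohB1.ProjSpace n k))).obj (Twist.twistProjSpace n k 1) ≅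
      (Scheme.Modules.pullback (a ≫ b)).obj (Twist.twistProjSpace n k 1) :=
    (Scheme.Modules.pullbackCongr hab.symm).app _
  let i3 : (Scheme.Modules.pullback (a ≫ b)).obj (Twist.twistProjSpace n k 1) ≅
      (Scheme.Modules.pullback a).obj
        ((Scheme.Modules.pullback b).obj (Twist.twistProjSpace n k 1)) :=
    (Scheme.Modules.pullbackComp a b).symm.app _
  let i4 := (Scheme.Modules.pullback a).mapIso (θb ≪≫ t1.symm)
  let i6 := PullPow.powIso a hO1 e'
  let ψ := i1 ≪≫ i2 ≪≫ i3 ≪≫ i4 ≪≫ i6 ≪≫ t2 ≪≫ t3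
  have h1 := Groth.Agent.Lead.PnUniq.twist_iso_unique hn 1 ((e' * e : ℕ) : ℤ) ψ
  have h2 : e' * e = 1 := by exact_mod_cast h1.symm
  have he : e = 1 := Nat.dvd_one.1 ⟨e', by rw [mul_comm]; exact h2.symm⟩
  subst he
  exact ⟨θa⟩

set_option maxHeartbeats 1600000 in
/-- every automorphism is linear -/
theorem exists_GL_of_aut (a b : CohB1.ProjSpace n k ⟶ CohB1.ProjSpace n k)
    (ha : a ≫ CohB1.ProjSpace.toSpec n k = CohB1.ProjSpace.toSpec n k)
    (hab : a ≫ b = 𝟙 _) :
    ∃ A : Matrix.GeneralLinearGroup (Fin (n + 1)) k, a = rA k n A := by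
  classical
  obtain ⟨θ⟩ : Nonempty ((Scheme.Modules.pullback a).obj (Twist.twistProjSpace n k 1) ≅
      Twist.twistProjSpace n k 1) := by
    rcases Nat.eq_zero_or_pos n with h0 | hpos
    · subst h0
      haveI := ProjSpaceLib.isIso_toSpec_zero k
      have h1 : a = 𝟙 _ := by
        rw [← cancel_mono (CohB1.ProjSpace.toSpec 0 k), ha, Category.id_comp]
      subst h1
      exact ⟨(Scheme.Modules.pullbackId _).app _⟩
    · exact exists_iso_O1 k n hpos a b hab
  choose M hM using fun i => HypPn.exists_coeffs n k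
    (θ.hom.app ⊤ (ProjUP.pullSec a _ (ProjUP.coord n k i)))
  let MM : Matrix (Fin (n + 1)) (Fin (n + 1)) k := Matrix.of M
  have hrep : Rep a (Twist.twistProjSpace n k 1)
      (lin (CohB1.ProjSpace.toSpec n k) MM (ProjUP.coord n k)) := ⟨θ, fun i => hM i⟩
  have hdet : MM.det ≠ 0 := by
    intro h0
    obtain ⟨v, hv, hMv⟩ := Matrix.exists_mulVec_eq_zero_iff.2 h0
    obtain ⟨p, hp, hprep⟩ := exists_pt k n v hv
    have h1 := Rep.comp hp hprep hrep
    rw [lin_uv, hMv] at h1
    haveI : Nonempty (Spec (CommRingCat.of k)) := (inferInstance : Nonempty (PrimeSpectrum k))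
    obtain ⟨i, hi⟩ := h1.exists_ne_zero
    apply hi
    show ε k ((0 : Fin (n + 1) → k) i) • one' ⊤ = 0
    rw [Pi.zero_apply, map_zero, zero_smul]
  refine ⟨Matrix.GeneralLinearGroup.mkOfDetNeZero MM hdet, ?_⟩
  exact Rep.ext (by rw [ha, rA_over]) hrep (rA_rep k n _)

/-- `rA A` is the identity exactly for scalar matrices -/
theorem rA_eq_id_iff (A : Matrix.GeneralLinearGroup (Fin (n + 1)) k) :
    rA k n A = 𝟙 _ ↔ ∃ c : k, A.1 = Matrix.scalar (Fin (n + 1)) c := by
  constructor
  · intro hA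
    apply scalar_of_forall_eigen
    intro v hv
    obtain ⟨p, hp, hprep⟩ := exists_pt k n v hv
    have h1 := Rep.comp hp hprep (rA_rep k n A)
    rw [hA, Category.comp_id, lin_uv] at h1
    exact eq_smul_of_rep k n hprep h1
  · rintro ⟨c, hc⟩
    have hc0 : c ≠ 0 := by
      rintro rfl
      have h1 : (A.1 : Matrix (Fin (n + 1)) (Fin (n + 1)) k) = 0 := by rw [hc, map_zero]
      have h2 := Units.inv_mul A
      rw [h1, mul_zero] at h2
      have h3 := congrFun (congrFun h2 0) 0
      simp at h3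
    have h1 := rA_rep k n A
    rw [hc, lin_scalar] at h1
    let cu : (Γ(CohB1.ProjSpace n k, ⊤))ˣ :=
      Units.map (ProjUP.toGlobal (CohB1.ProjSpace.toSpec n k)).toMonoidHom (Units.mk0 c hc0)⁻¹
    have h2 := h1.scale cu
    have h3 : (fun i => (cu : Γ(CohB1.ProjSpace n k, ⊤)) •
        (ProjUP.toGlobal (CohB1.ProjSpace.toSpec n k) c • ProjUP.coord n k i)) =
        ProjUP.coord n k := by
      funext i
      rw [smul_smul]
      have : (cu : Γ(CohB1.ProjSpace n k, ⊤)) *
          ProjUP.toGlobal (CohB1.ProjSpace.toSpec n k) c = 1 := by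
        show ProjUP.toGlobal (CohB1.ProjSpace.toSpec n k) ((Units.mk0 c hc0)⁻¹ : kˣ) *
          ProjUP.toGlobal (CohB1.ProjSpace.toSpec n k) c = 1
        rw [← map_mul, Units.val_inv_eq_inv_val, Units.val_mk0, inv_mul_cancel₀ hc0, map_one]
      rw [this, one_smul]
    rw [h3] at h2
    exact Rep.ext (by rw [rA_over, Category.id_comp]) h2 Rep.id

theorem main :
    ∃ φ : Matrix.GeneralLinearGroup (Fin (n + 1)) k →*
        Aut (Over.mk (CohB1.ProjSpace.toSpec n k)),
      Function.Surjective φ ∧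
        φ.ker = (Units.map (Matrix.scalar (Fin (n + 1)) :
          k →+* Matrix (Fin (n + 1)) (Fin (n + 1)) k).toMonoidHom).range := by
  refine ⟨φ k n, ?_, ?_⟩
  · intro α
    have hab : α.hom.left ≫ α.inv.left = 𝟙 _ := by
      rw [← Over.comp_left, α.hom_inv_id]
      rfl
    obtain ⟨A, hA⟩ := exists_GL_of_aut k n α.hom.left α.inv.left (Over.w α.hom) hab
    exact ⟨A, Iso.ext (Over.OverMorphism.ext hA.symm)⟩
  · ext A
    rw [MonoidHom.mem_ker, MonoidHom.mem_range]
    constructor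
    · intro hA
      have h1 : rA k n A = 𝟙 _ := congrArg (fun α : Aut (Over.mk (CohB1.ProjSpace.toSpec n k)) =>
        α.hom.left) hA
      obtain ⟨c, hc⟩ := (rA_eq_id_iff k n A).1 h1
      have hc0 : c ≠ 0 := by
        rintro rfl
        have h1 : (A.1 : Matrix (Fin (n + 1)) (Fin (n + 1)) k) = 0 := by rw [hc, map_zero]
        have h2 := Units.inv_mul A
        rw [h1, mul_zero] at h2
        have h3 := congrFun (congrFun h2 0) 0
        simp at h3
      refine ⟨Units.mk0 c hc0, Units.ext ?_⟩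
      rw [Units.coe_map]
      exact hc.symm
    · rintro ⟨c, rfl⟩
      have h1 : rA k n (Units.map (Matrix.scalar (Fin (n + 1)) :
          k →+* Matrix (Fin (n + 1)) (Fin (n + 1)) k).toMonoidHom c) = 𝟙 _ :=
        (rA_eq_id_iff k n _).2 ⟨c, rfl⟩
      exact Iso.ext (Over.OverMorphism.ext h1)

end Main

end Groth.Agent.Helper1.PnAut
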