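import Mathlib
import Groth.Prelude.Def_KRR
import Groth.Agent.Lib.Helper1.PnK0a
import Groth.Agent.Lib.Lead.PBQc
import Groth.Agent.Lib.Helper4.RpushCoh1
import Groth.Agent.S0485
import Groth.Agent.Lib.Helper1.FtLocal
import Groth.Agent.Lib.Helper1.QcAbel
import Groth.Agent.Lib.Helper7.FibRank.Flf
import Groth.Agent.Lib.Helper4.Splice4
import Groth.Agent.Lib.Helper1.CohAbel
import Groth.Agent.Lib.Helper3.SHomEx
import Groth.Agent.Lib.Helper1.RegK5
import Groth.Agent.Lib.Helper1.Euler3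

/-!
# Resolutions of coherent sheaves on `P^n_k` by sums of twisting sheaves (helper1)

A coherent module on `P^n_k` becomes regular after a twist; the canonical resolution of a regular
sheaf (helper4's `KrrM`) has terms `O(-i) ⊗ p^* T_i` with `T_i` coherent on `Spec k`, hence free of
finite rank.  Untwisting and transporting to `Proj k[x_0..x_n]` gives a resolution of length at most
`n + 1` by finite sums of twisting sheaves.
-/

set_option backward.isDefEq.respectTransparency.types false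
set_option synthInstance.maxHeartbeats 400000
set_option maxHeartbeats 1000000
set_option autoImplicit false
set_option linter.unusedSectionVars false
set_option linter.style.haveILetI false
set_option linter.unusedVariables false

universe u
open CategoryTheory CategoryTheory.Limits AlgebraicGeometry
open Groth.Agent.Lib.Helper4
open ZeroObject

namespace Groth.Agent.Helper1.PnRes

open Groth.Agent.Helper1.PnK0 Groth.Agent.Helper1.RegK

section General

/-- direct images of coherent modules along proper morphisms are coherent -/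
theorem isCoh_pushforward {X S : Scheme.{u}} (f : X ⟶ S) [IsProper f] [IsLocallyNoetherian S]
    (M : X.Modules) (hM : Coh.IsCoh M) : Coh.IsCoh ((Scheme.Modules.pushforward f).obj M) := by
  haveI : EnoughInjectives X.Modules := Groth.Agent.S0485.result _ X.ringCatSheaf
  haveI : HasInjectiveResolutions X.Modules := inferInstance
  let e0 : (Coh.Rpush f 0).obj M ≅ (Scheme.Modules.pushforward f).obj M :=
    (Functor.rightDerivedZeroIsoSelf (Scheme.Modules.pushforward f)).app M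
  have h0 := Groth.Agent.Lib.Helper4.RpushCoh1.s0036 f M hM 0
  haveI : ((Coh.Rpush f 0).obj M).IsQuasicoherent := h0.1
  have hN : ((Scheme.Modules.pushforward f).obj M).IsQuasicoherent :=
    QcAbel.isQuasicoherent_of_iso e0
  exact FtLocal.isCoh_of_mono e0.inv h0 hN

/-- pullbacks of coherent modules are coherent -/
theorem isCoh_pullback {X Y : Scheme.{u}} (f : X ⟶ Y) (M : Y.Modules) (hM : Coh.IsCoh M) :
    Coh.IsCoh ((Scheme.Modules.pullback f).obj M) := by
  haveI : M.IsQuasicoherent := hM.1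
  exact ⟨Groth.Agent.Lead.PB.isQuasicoherent_pullback f M,
    Groth.Agent.Lead.PB.isFT_pullback f M hM.2⟩

/-- the equivalence of module categories induced by an isomorphism of schemes -/
noncomputable def pullEquiv {A B : Scheme.{u}} (e : A ≅ B) : B.Modules ≌ A.Modules :=
  CategoryTheory.Equivalence.mk (Scheme.Modules.pullback e.hom) (Scheme.Modules.pullback e.inv)
    ((Scheme.Modules.pullbackId B).symm ≪≫ Scheme.Modules.pullbackCongr e.inv_hom_id.symm ≪≫
      (Scheme.Modules.pullbackComp e.inv e.hom).symm)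
    (Scheme.Modules.pullbackComp e.hom e.inv ≪≫ Scheme.Modules.pullbackCongr e.hom_inv_id ≪≫
      Scheme.Modules.pullbackId A)

theorem shortExact_pullback_iso {A B : Scheme.{u}} (e : A ≅ B) {S : ShortComplex B.Modules}
    (hS : S.ShortExact) : (S.map (Scheme.Modules.pullback e.hom)).ShortExact := by
  haveI : (Scheme.Modules.pullback e.hom).IsEquivalence := (pullEquiv e).isEquivalence_functor
  exact hS.map_of_exact (Scheme.Modules.pullback e.hom)

/-- additive functors commute with finite sums of copies -/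
noncomputable def mapCoprodIso {A B : Scheme.{u}} (G : A.Modules ⥤ B.Modules) [G.Additive] (r : ℕ)
    (M : A.Modules) : G.obj (∐ fun _ : Fin r => M) ≅ ∐ fun _ : Fin r => G.obj M := by
  haveI : PreservesColimitsOfShape (Discrete (Fin r)) G := PreservesFiniteCoproducts.preserves r
  exact PreservesCoproduct.iso G (fun _ : Fin r => M)

/-- the pullback of a free module of finite rank -/
noncomputable def pullCoprodUnit {A B : Scheme.{u}} (f : A ⟶ B) (r : ℕ) :
    (Scheme.Modules.pullback f).obj (∐ fun _ : Fin r => Coh.structureModule B) ≅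
      ∐ fun _ : Fin r => Coh.structureModule A :=
  mapCoprodIso (Scheme.Modules.pullback f) r _ ≪≫ Limits.Sigma.mapIso (fun _ => PullSec.unitIso f)

/-- a coherent module on the spectrum of a field is free of finite rank -/
theorem coh_field (k : Type u) [Field k] (T : (Yk k).Modules) (hT : Coh.IsCoh T) :
    ∃ r : ℕ, Nonempty (T ≅ ∐ fun _ : Fin r => Coh.structureModule (Yk k)) := by
  haveI : T.IsQuasicoherent := hT.1
  obtain ⟨r, hr⟩ := Groth.Agent.Helper7.FibRank.exists_isFinLocFreeOfRank_of_field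
    (κ := CommRingCat.of k) (Field.toIsField k) T hT.2
  let Y : Scheme.{u} := Spec (CommRingCat.of k)
  have x : Y := (show PrimeSpectrum k from default)
  obtain ⟨U, hxU, ⟨e⟩⟩ := hr x
  have hU : U = ⊤ := by
    refine top_unique (fun y _ => ?_)
    have hyx : y = x := @Subsingleton.elim _ (inferInstance : Subsingleton (PrimeSpectrum k)) y x
    rw [hyx]
    exact hxU
  subst hU
  let j := (⊤ : Y.Opens).ι
  let i := Y.topIso.inv
  have e1 : (Scheme.Modules.pullback j).obj T ≅ FlatMod.freeMod (↑(⊤ : Y.Opens)) r :=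
    ((Scheme.Modules.restrictFunctorIsoPullback j).app T).symm ≪≫ e
  have e2 : T ≅ (Scheme.Modules.pullback i).obj (FlatMod.freeMod (↑(⊤ : Y.Opens)) r) :=
    pullInvIso i j (Scheme.toIso_inv_ι Y) T ≪≫ (Scheme.Modules.pullback i).mapIso e1
  exact ⟨r, ⟨e2 ≪≫ pullCoprodUnit i r⟩⟩

end General

section Main
variable (n : ℕ)

theorem isCoh_twF (Y : Scheme.{u}) (d : ℤ) (M : (KRR.PY n Y).Modules) (hM : Coh.IsCoh M) :
    Coh.IsCoh (KRR.twF n Y d M) :=
  Euler.isCoh_tensor _ _ (KrrJ.isCoh_twistOver n Y d) hM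

/-- coherence of the stages of the canonical resolution -/
theorem isCoh_stage (Y : Scheme.{u}) [AlgebraicGeometry.IsNoetherian Y] (s₀ : KrrM.Stage n Y)
    (h0 : Coh.IsCoh s₀.G) : ∀ j : ℕ, Coh.IsCoh (KrrM.stage n Y s₀ j).G := by
  haveI := isNoetherian_PY n Y
  intro j
  induction j with
  | zero => exact h0
  | succ j ih =>
    rw [KrrM.stage_succ_G n Y s₀ j]
    refine isCoh_twF n Y 1 _ ?_
    have hp : Coh.IsCoh ((Scheme.Modules.pushforward (KRR.pr n Y)).obj
        (KrrM.stage n Y s₀ j).G) := isCoh_pushforward (KRR.pr n Y) _ ih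
    have hpp := isCoh_pullback (KRR.pr n Y) _ hp
    exact FtLocal.isCoh_kernel hpp ih _

variable (k : Type u) [Field k]

set_option maxHeartbeats 4000000 in
/-- **S14439**: resolutions by sums of twisting sheaves -/
theorem main (F : (Xk n k).Modules) (hF : Coh.IsCoh F) :
    ∃ (C : ChainComplex (Xk n k).Modules ℕ) (π : C.X 0 ⟶ F) (w : C.d 1 0 ≫ π = 0),
      (∀ i : ℕ, n + 1 < i → IsZero (C.X i)) ∧
      (∀ i : ℕ, ∃ (m : ℕ) (d : Fin m → ℤ),
        Nonempty (C.X i ≅ ∐ fun j : Fin m => Twist.twistProjSpace n k (d j))) ∧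
      (∀ i : ℕ, 1 ≤ i → IsZero (C.homology i)) ∧ Epi π ∧
      (ShortComplex.mk (C.d 1 0) π w).Exact := by
  haveI : AlgebraicGeometry.IsNoetherian (Yk k) := inferInstance
  haveI := isNoetherian_PY n (Yk k)
  have hF' : Coh.IsCoh ((Scheme.Modules.pullback (θk n k).inv).obj F) :=
    isCoh_pullback (θk n k).inv F hF
  obtain ⟨m₀, hm₀⟩ := KrrF.exists_isRegSheaf_twF n (Yk k) _ hF'
  have hreg := hm₀ m₀ le_rfl
  have hG₀ : Coh.IsCoh (KRR.twF n (Yk k) (m₀ : ℤ) ((Scheme.Modules.pullback (θk n k).inv).obj F)) :=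
    isCoh_twF n (Yk k) _ _ hF'
  let s₀ : KrrM.Stage n (Yk k) := ⟨_, hG₀.1, hreg⟩
  have hst := isCoh_stage n (Yk k) s₀ hG₀
  have hse := KrrM.shortExact_k n (Yk k) s₀
  let Tw := KrrM.twFun n (Yk k) (-(m₀ : ℤ))
  let Φ := Scheme.Modules.pullback (θk n k).hom
  let S' : ℕ → ShortComplex (Xk n k).Modules := fun j =>
    ((ShortComplex.mk (KrrM.bk n (Yk k) s₀ j) (KrrM.ak n (Yk k) s₀ j)
      (KrrM.bk_ak n (Yk k) s₀ j)).map Tw).map Φ
  have hS' : ∀ j, (S' j).ShortExact := fun j =>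
    shortExact_pullback_iso (θk n k) (KrrM.twFun_shortExact n (Yk k) (hse j) _)
  let X' : ℕ → (Xk n k).Modules := fun j => Φ.obj (Tw.obj (KrrM.Xk n (Yk k) s₀ j))
  let Z' : ℕ → (Xk n k).Modules := fun j => Φ.obj (Tw.obj (KrrM.Zk n (Yk k) s₀ j))
  let a' : ∀ j, X' j ⟶ Z' j := fun j => Φ.map (Tw.map (KrrM.ak n (Yk k) s₀ j))
  let b' : ∀ j, Z' (j + 1) ⟶ X' j := fun j => Φ.map (Tw.map (KrrM.bk n (Yk k) s₀ j))
  have w' : ∀ j, b' j ≫ a' j = 0 := fun j => (S' j).zero
  have hex : ∀ j, (ShortComplex.mk (b' j) (a' j) (w' j)).Exact := fun j => (hS' j).exact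
  have hepi : ∀ j, Epi (a' j) := fun j => (hS' j).epi_g
  have hmono : ∀ j, Mono (b' j) := fun j => (hS' j).mono_f
  let C := Splice4.scx X' Z' a' b' w'
  have hd10 : C.d 1 0 = Splice4.sd X' Z' a' b' 0 :=
    ChainComplex.of_d X' (Splice4.sd X' Z' a' b') 0
  -- the augmentation
  obtain ⟨e0⟩ := KrrM.nonempty_twF_zero n (Yk k) s₀.G (-((0 : ℕ) : ℤ)) (by simp)
  obtain ⟨e1⟩ := nonempty_twF_twF n (Yk k) ((Scheme.Modules.pullback (θk n k).inv).obj F)
    (-(m₀ : ℤ)) (m₀ : ℤ) 0 (by ring)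
  obtain ⟨e2⟩ := KrrM.nonempty_twF_zero n (Yk k) ((Scheme.Modules.pullback (θk n k).inv).obj F)
    0 rfl
  have e₀ : Z' 0 ≅ F :=
    Φ.mapIso (Tw.mapIso e0 ≪≫ e1 ≪≫ e2) ≪≫
      (pullInvIso (θk n k).hom (θk n k).inv (θk n k).hom_inv_id F).symm
  have hw : C.d 1 0 ≫ (a' 0 ≫ e₀.hom) = 0 := by
    rw [hd10, ← Category.assoc, Splice4.sd_comp_a X' Z' a' b' w' 0, zero_comp]
  refine ⟨C, a' 0 ≫ e₀.hom, hw, ?_, ?_, ?_, ?_, ?_⟩
  · intro i hi
    exact Φ.map_isZero (Tw.map_isZero (KrrM.isZero_Xk n (Yk k) s₀ i (by omega)))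
  · intro i
    obtain ⟨r, ⟨eT⟩⟩ := coh_field k _ (isCoh_pushforward (KRR.pr n (Yk k)) _ (hst i))
    obtain ⟨t1⟩ := nonempty_twF_twF n (Yk k)
      ((Scheme.Modules.pullback (KRR.pr n (Yk k))).obj
        ((Scheme.Modules.pushforward (KRR.pr n (Yk k))).obj (KrrM.stage n (Yk k) s₀ i).G))
      (-(m₀ : ℤ)) (-(i : ℤ)) (-(m₀ : ℤ) + -(i : ℤ)) rfl
    haveI : (KrrM.twFun n (Yk k) (-(m₀ : ℤ) + -(i : ℤ))).Additive :=
      (inferInstance : ((ModSite.tensorBi (KRR.PY n (Yk k)).sheaf).obj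
        (Twist.twistOver n (Yk k) (-(m₀ : ℤ) + -(i : ℤ)))).Additive)
    have t2 : (Scheme.Modules.pullback (KRR.pr n (Yk k))).obj
        ((Scheme.Modules.pushforward (KRR.pr n (Yk k))).obj (KrrM.stage n (Yk k) s₀ i).G) ≅
        ∐ fun _ : Fin r => Coh.structureModule (KRR.PY n (Yk k)) :=
      (Scheme.Modules.pullback (KRR.pr n (Yk k))).mapIso eT ≪≫ pullCoprodUnit (KRR.pr n (Yk k)) r
    obtain ⟨u⟩ := TwistAmpleOpen.nonempty_tensorMod_unit_iso
      (Twist.twistOver n (Yk k) (-(m₀ : ℤ) + -(i : ℤ)))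
    have t3 : (KrrM.twFun n (Yk k) (-(m₀ : ℤ) + -(i : ℤ))).obj
        (Coh.structureModule (KRR.PY n (Yk k))) ≅
        Twist.twistOver n (Yk k) (-(m₀ : ℤ) + -(i : ℤ)) :=
      KrrA.tensorModComm _ _ ≪≫ u
    have t4 : (KrrM.twFun n (Yk k) (-(m₀ : ℤ) + -(i : ℤ))).obj
        (∐ fun _ : Fin r => Coh.structureModule (KRR.PY n (Yk k))) ≅
        ∐ fun _ : Fin r => Twist.twistOver n (Yk k) (-(m₀ : ℤ) + -(i : ℤ)) :=
      mapCoprodIso (KrrM.twFun n (Yk k) (-(m₀ : ℤ) + -(i : ℤ))) r _ ≪≫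
        Limits.Sigma.mapIso (fun _ => t3)
    obtain ⟨a6⟩ := TwistBC1.twist_bc n (Groth.Agent.Helper3.ProjCovOver.rhoZ k)
      (-(m₀ : ℤ) + -(i : ℤ))
    have t5 : Φ.obj (Twist.twistOver n (Yk k) (-(m₀ : ℤ) + -(i : ℤ))) ≅
        Twist.twistProjSpace n k (-(m₀ : ℤ) + -(i : ℤ)) :=
      (Scheme.Modules.pullbackComp (θk n k).hom (fstY n (Yk k))).app
          (Twist.twistProjSpace n (ULift.{u} ℤ) (-(m₀ : ℤ) + -(i : ℤ))) ≪≫
        (Scheme.Modules.pullbackCongr (theta_fst n k)).app _ ≪≫ a6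
    have t6 : Φ.obj (∐ fun _ : Fin r => Twist.twistOver n (Yk k) (-(m₀ : ℤ) + -(i : ℤ))) ≅
        ∐ fun _ : Fin r => Twist.twistProjSpace n k (-(m₀ : ℤ) + -(i : ℤ)) :=
      mapCoprodIso Φ r _ ≪≫ Limits.Sigma.mapIso (fun _ => t5)
    exact ⟨r, fun _ => -(m₀ : ℤ) + -(i : ℤ),
      ⟨Φ.mapIso (t1 ≪≫ (KrrM.twFun n (Yk k) (-(m₀ : ℤ) + -(i : ℤ))).mapIso t2 ≪≫ t4) ≪≫ t6⟩⟩
  · intro i hi
    obtain ⟨j, rfl⟩ : ∃ j, i = j + 1 := ⟨i - 1, by omega⟩
    exact (HomologicalComplex.exactAt_iff_isZero_homology _ _).1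
      (Splice4.scx_exactAt_succ X' Z' a' b' w' hex hepi hmono j)
  · haveI := hepi 0
    exact epi_comp _ _
  · refine (ShortComplex.exact_iff_of_iso
      (S₁ := ShortComplex.mk (Splice4.sd X' Z' a' b' 0) (a' 0)
        (Splice4.sd_comp_a X' Z' a' b' w' 0))
      (S₂ := ShortComplex.mk (C.d 1 0) (a' 0 ≫ e₀.hom) hw)
      (ShortComplex.isoMk (Iso.refl _) (Iso.refl _) e₀ ?_ ?_)).1
      (Splice4.exact_sd_a X' Z' a' b' w' hex hepi 0)
    · change 𝟙 _ ≫ C.d 1 0 = Splice4.sd X' Z' a' b' 0 ≫ 𝟙 _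
      rw [hd10, Category.id_comp, Category.comp_id]
    · change 𝟙 _ ≫ (a' 0 ≫ e₀.hom) = a' 0 ≫ e₀.hom
      rw [Category.id_comp]

end Main

end Groth.Agent.Helper1.PnRes
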