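import Mathlib
import Groth.Prelude.Def_GrTwist
import Groth.Agent.Lib.Helper1.ILoc
import Groth.Agent.Lib.Helper1.RP9
import Groth.Agent.Lib.Helper1.RelCone3
import Groth.Agent.Lib.Helper1.GrTwAmpleOpen
import Groth.Agent.Lib.Helper1.TwForm1

/-!
# `Proj` of a localization at a degree-zero element (helper1)

For `ψ : A → B = A_c` with `c` homogeneous of degree zero, `Proj.map ψ` is an open immersion with range the
preimage of `D(c)`, and the adjunct of the canonical map of twisting sheaves is an isomorphism.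
-/

set_option backward.isDefEq.respectTransparency.types false
set_option synthInstance.maxHeartbeats 400000
set_option autoImplicit false
set_option linter.unusedSectionVars false
set_option linter.style.haveILetI false
set_option linter.unusedVariables false
universe u
open CategoryTheory CategoryTheory.Limits AlgebraicGeometry TopologicalSpace Opposite
open scoped HomogeneousIdeal

namespace Groth.Agent.Helper1.ProjAway

open Groth.Agent.Helper1 Groth.Agent.Helper1.ILoc

section Gen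
variable {X Z : Scheme.{u}} (f : Z ⟶ X) [IsOpenImmersion f]

/-- for an open immersion `f`, a map `θ : M ⟶ f_* N` which is bijective on sections over the opens inside the
range of `f` has an invertible adjunct `f^* M ⟶ N` -/
theorem isIso_adjunct_of_bijective {M : X.Modules} {N : Z.Modules}
    (θ : M ⟶ (Scheme.Modules.pushforward f).obj N)
    (hθ : ∀ V : Z.Opens, Function.Bijective (θ.app (f ''ᵁ V))) :
    IsIso (((Scheme.Modules.pullbackPushforwardAdjunction f).homEquiv M N).symm θ) := by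
  have key : ((Scheme.Modules.restrictAdjunction f).leftAdjointUniq
        (Scheme.Modules.pullbackPushforwardAdjunction f)).hom.app M ≫
      ((Scheme.Modules.pullbackPushforwardAdjunction f).homEquiv M N).symm θ =
      ((Scheme.Modules.restrictAdjunction f).homEquiv M N).symm θ := by
    have nat := ((Scheme.Modules.restrictAdjunction f).leftAdjointUniq
        (Scheme.Modules.pullbackPushforwardAdjunction f)).hom.naturality θ
    have cu := Adjunction.leftAdjointUniq_hom_app_counit (Scheme.Modules.restrictAdjunction f)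
        (Scheme.Modules.pullbackPushforwardAdjunction f) N
    rw [Adjunction.homEquiv_counit, Adjunction.homEquiv_counit, ← Category.assoc, ← nat,
      Category.assoc, cu]
  have h1 : IsIso (((Scheme.Modules.restrictAdjunction f).homEquiv M N).symm θ) := by
    apply TwForm.isIso_of_app_bijective
    intro V
    have happ : ∀ x, (((Scheme.Modules.restrictAdjunction f).homEquiv M N).symm θ).app V x =
        N.presheaf.map (eqToHom (f.preimage_image_eq V).symm).op (θ.app (f ''ᵁ V) x) := by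
      intro x
      rw [Adjunction.homEquiv_counit]
      rfl
    have hiso : Function.Bijective (N.presheaf.map (eqToHom (f.preimage_image_eq V).symm).op) :=
      (ConcreteCategory.isIso_iff_bijective _).1 inferInstance
    have hfun : ⇑((((Scheme.Modules.restrictAdjunction f).homEquiv M N).symm θ).app V) =
        ⇑(N.presheaf.map (eqToHom (f.preimage_image_eq V).symm).op) ∘ ⇑(θ.app (f ''ᵁ V)) :=
      funext happ
    rw [hfun]
    exact hiso.comp (hθ V)
  rw [← key] at h1
  haveI := h1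
  exact IsIso.of_isIso_comp_left (((Scheme.Modules.restrictAdjunction f).leftAdjointUniq
        (Scheme.Modules.pullbackPushforwardAdjunction f)).hom.app M) _

end Gen

section Alg
variable {A σ : Type u} [CommRing A] [SetLike σ A] [AddSubgroupClass σ A] {𝒜 : ℕ → σ} [GradedRing 𝒜]
variable {B τ : Type u} [CommRing B] [SetLike τ B] [AddSubgroupClass τ B] {ℬ : ℕ → τ} [GradedRing ℬ]
variable {ψ : 𝒜 →+*ᵍ ℬ} (hψ : ℬ₊ ≤ (𝒜₊).map ψ) {c : A}

theorem comap_injective (h : IsAwayLoc ψ c) : Function.Injective (ProjectiveSpectrum.comap ψ hψ) := by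
  have aux : ∀ y₁ y₂ : ProjectiveSpectrum ℬ,
      ProjectiveSpectrum.comap ψ hψ y₁ = ProjectiveSpectrum.comap ψ hψ y₂ →
      ∀ b : B, b ∈ y₁.asHomogeneousIdeal → b ∈ y₂.asHomogeneousIdeal := by
    intro y₁ y₂ e b hb
    obtain ⟨a, k, hk⟩ := h.surj b
    have h1 : ψ a ∈ y₁.asHomogeneousIdeal := by
      rw [← hk]; exact Ideal.mul_mem_right _ _ hb
    have h2 : a ∈ (ProjectiveSpectrum.comap ψ hψ y₁).asHomogeneousIdeal := h1
    rw [e] at h2
    have h3 : b * ψ c ^ k ∈ y₂.asHomogeneousIdeal := by rw [hk]; exact h2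
    rcases y₂.isPrime.mem_or_mem h3 with h4 | h4
    · exact h4
    · exact absurd h4 (h.notMem y₂ k)
  intro y₁ y₂ e
  apply ProjectiveSpectrum.ext
  apply HomogeneousIdeal.ext
  ext b
  exact ⟨aux y₁ y₂ e b, aux y₂ y₁ e.symm b⟩

theorem comap_notMem (h : IsAwayLoc ψ c) (y : ProjectiveSpectrum ℬ) :
    c ∉ (ProjectiveSpectrum.comap ψ hψ y).asHomogeneousIdeal := fun hm =>
  h.notMem y 1 (by rw [pow_one]; exact hm)

theorem comap_isOpenMap (h : IsAwayLoc ψ c)
    (hrange : ∀ x : ProjectiveSpectrum 𝒜, c ∉ x.asHomogeneousIdeal →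
      ∃ y, ProjectiveSpectrum.comap ψ hψ y = x) :
    IsOpenMap (ProjectiveSpectrum.comap ψ hψ) := by
  rw [(ProjectiveSpectrum.isTopologicalBasis_basic_opens ℬ).isOpenMap_iff]
  rintro _ ⟨b, rfl⟩
  obtain ⟨a, k, hk⟩ := h.surj b
  have himg : ProjectiveSpectrum.comap ψ hψ ''
      (ProjectiveSpectrum.basicOpen ℬ b : Set (ProjectiveSpectrum ℬ)) =
      ((ProjectiveSpectrum.basicOpen 𝒜 a ⊓ ProjectiveSpectrum.basicOpen 𝒜 c :
        Opens (ProjectiveSpectrum 𝒜)) : Set (ProjectiveSpectrum 𝒜)) := by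
    ext x
    constructor
    · rintro ⟨y, hy, rfl⟩
      refine ⟨?_, comap_notMem hψ h y⟩
      intro ha
      have h1 : b * ψ c ^ k ∈ y.asHomogeneousIdeal := by rw [hk]; exact ha
      rcases y.isPrime.mem_or_mem h1 with h2 | h2
      · exact hy h2
      · exact h.notMem y k h2
    · rintro ⟨hxa, hxc⟩
      obtain ⟨y, rfl⟩ := hrange x hxc
      refine ⟨y, ?_, rfl⟩
      intro hb
      apply hxa
      change ψ a ∈ y.asHomogeneousIdeal
      rw [← hk]; exact Ideal.mul_mem_right _ _ hb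
  rw [himg]
  exact (ProjectiveSpectrum.basicOpen 𝒜 a ⊓ ProjectiveSpectrum.basicOpen 𝒜 c).isOpen

theorem localRingHom_bijective (h : IsAwayLoc ψ c) (y : ProjectiveSpectrum ℬ) :
    Function.Bijective (HomogeneousLocalization.localRingHom ψ
      (ProjectiveSpectrum.comap ψ hψ y).asHomogeneousIdeal.toIdeal
      y.asHomogeneousIdeal.toIdeal rfl) := by
  have hval : ∀ q, GrTwist.locMap ψ hψ y (HomogeneousLocalization.val q) =
      (HomogeneousLocalization.localRingHom ψ
        (ProjectiveSpectrum.comap ψ hψ y).asHomogeneousIdeal.toIdeal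
        y.asHomogeneousIdeal.toIdeal rfl q).val := by
    intro q
    rw [HomogeneousLocalization.val_localRingHom]; rfl
  constructor
  · intro q₁ q₂ e
    apply HomogeneousLocalization.val_injective
    apply h.locMap_injective hψ y
    rw [hval, hval, e]
  · intro q'
    obtain ⟨⟨i, b, s', hs'⟩, rfl⟩ := q'.mk_surjective
    obtain ⟨a, s, -, spec⟩ := h.lift_frac hψ 0 b s' (Or.inl (add_zero _).symm)
    obtain ⟨hs, e⟩ := spec y hs'
    refine ⟨HomogeneousLocalization.mk ⟨i, a, s, hs⟩, ?_⟩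
    apply HomogeneousLocalization.val_injective
    rw [← hval, HomogeneousLocalization.val_mk, HomogeneousLocalization.val_mk]
    exact e

theorem isOpenImmersion_map (h : IsAwayLoc ψ c)
    (hrange : ∀ x : ProjectiveSpectrum 𝒜, c ∉ x.asHomogeneousIdeal →
      ∃ y, ProjectiveSpectrum.comap ψ hψ y = x) :
    IsOpenImmersion (Proj.map ψ hψ) := by
  have hemb : Topology.IsOpenEmbedding (ProjectiveSpectrum.comap ψ hψ) :=
    Topology.IsOpenEmbedding.of_continuous_injective_isOpenMap
      (ProjectiveSpectrum.comap ψ hψ).continuous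
      (comap_injective hψ h) (comap_isOpenMap hψ h hrange)
  haveI : ∀ y : Proj ℬ, IsIso ((Proj.map ψ hψ).stalkMap y) := by
    intro y
    change IsIso ((Proj.sheafedSpaceMap ψ hψ).hom.stalkMap y)
    rw [← Proj.localRingHom_comp_stalkIso]
    refine @IsIso.comp_isIso _ _ _ _ _ _ _ inferInstance ?_
    refine @IsIso.comp_isIso _ _ _ _ _ _ _ ?_ inferInstance
    exact (ConcreteCategory.isIso_iff_bijective _).2 (localRingHom_bijective hψ h y)
  exact IsOpenImmersion.of_isIso_stalkMap _ hemb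

/-- pointwise description of the structure map of `Proj` (general grading type) -/
theorem toSpecZero_mem_basicOpen_iff (𝒜 : ℕ → σ) [GradedRing 𝒜] {s : A} (hs : s ∈ 𝒜 0) (y : Proj 𝒜) :
    Proj.toSpecZero 𝒜 y ∈ PrimeSpectrum.basicOpen (⟨s, hs⟩ : 𝒜 0) ↔ y ∈ Proj.basicOpen 𝒜 s := by
  obtain ⟨e, he, g, hg, hyg, -⟩ := GrTwAmpleOpen.exists_basicOpen_le 𝒜 ⊤ y trivial
  have hy' : y ∈ Set.range (Proj.awayι 𝒜 g hg he) := by
    rw [RelCone3.mem_range_awayι_iff]; exact hyg
  obtain ⟨w, rfl⟩ := hy'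
  have hyg' : Proj.awayι 𝒜 g hg he w ∈ Proj.basicOpen 𝒜 g := (Proj.mem_basicOpen 𝒜 g _).2 hyg
  have h1 : Proj.toSpecZero 𝒜 (Proj.awayι 𝒜 g hg he w) =
      Spec.map (CommRingCat.ofHom
        (HomogeneousLocalization.fromZeroRingHom 𝒜 (Submonoid.powers g))) w := by
    rw [← Proj.awayι_toSpecZero 𝒜 g hg he]; rfl
  rw [h1]
  have hsg : s * g ∈ 𝒜 e := by
    have := SetLike.mul_mem_graded hs hg
    rwa [zero_add] at this
  have h2 : Proj.awayι 𝒜 g hg he w ∈ Proj.basicOpen 𝒜 s ↔
      Proj.awayι 𝒜 g hg he w ∈ Proj.basicOpen 𝒜 (s * g) := by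
    rw [Proj.basicOpen_mul]
    exact ⟨fun h => ⟨h, hyg'⟩, fun h => h.1⟩
  rw [h2, RelCone3.awayι_mem_basicOpen_iff 𝒜 hg he hsg he]
  have h3 : HomogeneousLocalization.Away.isLocalizationElem hg hsg =
      (HomogeneousLocalization.fromZeroRingHom 𝒜 (Submonoid.powers g) ⟨s, hs⟩) ^ e := by
    apply HomogeneousLocalization.val_injective
    rw [HomogeneousLocalization.val_pow, HomogeneousLocalization.Away.val_mk]
    change _ = (Localization.mk s 1) ^ e
    rw [Localization.mk_pow, Localization.mk_eq_mk_iff, Localization.r_iff_exists]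
    refine ⟨1, ?_⟩
    simp only [OneMemClass.coe_one, one_mul, one_pow, mul_pow]
    ring
  rw [h3]
  have h4 : Spec.map (CommRingCat.ofHom
        (HomogeneousLocalization.fromZeroRingHom 𝒜 (Submonoid.powers g))) w ∈
      PrimeSpectrum.basicOpen (⟨s, hs⟩ : 𝒜 0) ↔
      HomogeneousLocalization.fromZeroRingHom 𝒜 (Submonoid.powers g) ⟨s, hs⟩ ∉ w.asIdeal := Iff.rfl
  rw [h4]
  have hw : w.asIdeal.IsPrime := w.isPrime
  constructor
  · intro h hp
    exact h (hw.mem_of_pow_mem e hp)
  · intro h hp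
    exact h (Ideal.pow_mem_of_mem _ hp e he)

section Loc
variable [Algebra A B] [IsLocalization.Away c B] (hc : c ∈ 𝒜 0)
  (hψA : ∀ a : A, ψ a = algebraMap A B a)

include hc hψA in
theorem isAwayLoc : IsAwayLoc ψ c := by
  refine ⟨hc, ?_, ?_, ?_⟩
  · rw [hψA]
    exact IsLocalization.map_units (M := Submonoid.powers c) B ⟨c, 1, pow_one c⟩
  · intro b
    obtain ⟨⟨a, s, hs⟩, has⟩ := IsLocalization.surj (Submonoid.powers c) b
    obtain ⟨k, rfl⟩ := (Submonoid.mem_powers_iff _ _).mp hs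
    refine ⟨a, k, ?_⟩
    change b * algebraMap A B (c ^ k) = algebraMap A B a at has
    rw [hψA, hψA, ← map_pow]
    exact has
  · intro a ha
    have h0 : algebraMap A B a = algebraMap A B 0 := by
      rw [map_zero, ← hψA]; exact ha
    obtain ⟨⟨m, hm⟩, hma⟩ := IsLocalization.exists_of_eq (M := Submonoid.powers c) h0
    obtain ⟨k, rfl⟩ := (Submonoid.mem_powers_iff _ _).mp hm
    exact ⟨k, by simpa using hma⟩

include hψA in
theorem exists_comap_eq (x : ProjectiveSpectrum 𝒜) (hx : c ∉ x.asHomogeneousIdeal) :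
    ∃ y : ProjectiveSpectrum ℬ, ProjectiveSpectrum.comap ψ hψ y = x := by
  have hdisj : Disjoint ((Submonoid.powers c : Submonoid A) : Set A)
      (x.asHomogeneousIdeal.toIdeal : Set A) := by
    rw [Set.disjoint_left]
    rintro _ ⟨k, rfl⟩ hmem
    exact hx (x.isPrime.mem_of_pow_mem k hmem)
  have hfun : (⇑ψ : A → B) = ⇑(algebraMap A B) := funext hψA
  have hmapeq : Ideal.map ψ x.asHomogeneousIdeal.toIdeal =
      Ideal.map (algebraMap A B) x.asHomogeneousIdeal.toIdeal := by
    show Ideal.span (⇑ψ '' (x.asHomogeneousIdeal.toIdeal : Set A)) =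
      Ideal.span (⇑(algebraMap A B) '' (x.asHomogeneousIdeal.toIdeal : Set A))
    rw [hfun]
  have hprime : (Ideal.map ψ x.asHomogeneousIdeal.toIdeal).IsPrime := by
    rw [hmapeq]
    exact IsLocalization.isPrime_of_isPrime_disjoint (Submonoid.powers c) B _ x.isPrime hdisj
  have hmem : ∀ a : A, ψ a ∈ Ideal.map ψ x.asHomogeneousIdeal.toIdeal →
      a ∈ x.asHomogeneousIdeal.toIdeal := by
    intro a ha
    rw [hmapeq, hψA] at ha
    have h1 : a ∈ (Ideal.map (algebraMap A B) x.asHomogeneousIdeal.toIdeal).under A := ha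
    rw [IsLocalization.under_map_of_isPrime_disjoint (Submonoid.powers c) B x.isPrime hdisj] at h1
    exact h1
  have hirr : ∀ a : A, a ∈ (𝒜₊).toIdeal → ψ a ∈ (ℬ₊).toIdeal := by
    intro a ha
    have h0 : GradedRing.proj 𝒜 0 a = 0 := ha
    rw [GradedRing.proj_apply] at h0
    change GradedRing.proj ℬ 0 (ψ a) = 0
    rw [GradedRing.proj_apply, ← GradedRingHom.map_directSumDecompose, h0, map_zero]
  refine ⟨⟨x.asHomogeneousIdeal.map ψ, hprime, ?_⟩, ?_⟩
  · intro hle
    have hle' : (ℬ₊).toIdeal ≤ (x.asHomogeneousIdeal.map ψ).toIdeal := hle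
    apply x.not_irrelevant_le
    change (𝒜₊).toIdeal ≤ x.asHomogeneousIdeal.toIdeal
    intro a ha
    exact hmem a (hle' (hirr a ha))
  · apply ProjectiveSpectrum.ext
    apply HomogeneousIdeal.ext
    ext a
    constructor
    · intro ha; exact hmem a ha
    · intro ha; exact Ideal.mem_map_of_mem ψ ha

include hc hψA in
/-- S9573 -/
theorem main :
    IsOpenImmersion (Proj.map ψ hψ) ∧
      Set.range (Proj.map ψ hψ).base =
        (Proj.toSpecZero 𝒜).base ⁻¹'
          (PrimeSpectrum.basicOpen (⟨c, hc⟩ : 𝒜 0) : Set (PrimeSpectrum (𝒜 0))) ∧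
      ∀ n : ℤ, IsIso (((Scheme.Modules.pullbackPushforwardAdjunction (Proj.map ψ hψ)).homEquiv _ _).symm
        (GrTwist.comap ψ hψ n)) := by
  have h : IsAwayLoc ψ c := isAwayLoc (c := c) hc hψA
  have hrange := exists_comap_eq (c := c) hψ hψA
  haveI himm : IsOpenImmersion (Proj.map ψ hψ) := isOpenImmersion_map hψ h hrange
  refine ⟨himm, ?_, ?_⟩
  · ext x
    constructor
    · rintro ⟨y, rfl⟩
      change Proj.toSpecZero 𝒜 (ProjectiveSpectrum.comap ψ hψ y) ∈
        PrimeSpectrum.basicOpen (⟨c, hc⟩ : 𝒜 0)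
      rw [toSpecZero_mem_basicOpen_iff]
      exact comap_notMem hψ h y
    · intro hx
      have hx' : Proj.toSpecZero 𝒜 x ∈ PrimeSpectrum.basicOpen (⟨c, hc⟩ : 𝒜 0) := hx
      rw [toSpecZero_mem_basicOpen_iff] at hx'
      obtain ⟨y, hy⟩ := hrange x hx'
      exact ⟨y, hy⟩
  · intro n
    apply isIso_adjunct_of_bijective
    intro V
    have hVU : ∀ x ∈ (Proj.map ψ hψ ''ᵁ V : (Proj 𝒜).Opens),
        ∃ y ∈ (Proj.map ψ hψ ⁻¹ᵁ (Proj.map ψ hψ ''ᵁ V) : (Proj ℬ).Opens),
          ProjectiveSpectrum.comap ψ hψ y = x := by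
      rintro x ⟨y, hyV, rfl⟩
      exact ⟨y, ⟨y, hyV, rfl⟩, rfl⟩
    have hb := h.comapApp_bijective hψ n (comap_injective hψ h) (comap_isOpenMap hψ h hrange)
      (Proj.map ψ hψ ''ᵁ V) (Proj.map ψ hψ ⁻¹ᵁ (Proj.map ψ hψ ''ᵁ V)) Set.Subset.rfl hVU
    have heq : ∀ τ : Γ(GrTwist.twist 𝒜 n, Proj.map ψ hψ ''ᵁ V),
        (show Γ(GrTwist.twist ℬ n, Proj.map ψ hψ ⁻¹ᵁ (Proj.map ψ hψ ''ᵁ V)) from
          (GrTwist.comap ψ hψ n).app (Proj.map ψ hψ ''ᵁ V) τ) =
        GrTwist.comapApp ψ hψ n (Proj.map ψ hψ ''ᵁ V)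
          (Proj.map ψ hψ ⁻¹ᵁ (Proj.map ψ hψ ''ᵁ V)) Set.Subset.rfl τ := by
      intro τ
      apply RP6.val_ext
      rintro ⟨y, hy⟩
      rfl
    constructor
    · intro τ τ' e
      exact hb.1 ((heq τ).symm.trans (e.trans (heq τ')))
    · intro σ'
      obtain ⟨τ, hτ⟩ := hb.2 σ'
      exact ⟨τ, (heq τ).trans hτ⟩

end Loc

end Alg

end Groth.Agent.Helper1.ProjAway
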