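import Mathlib
import Groth.Agent.Lib.Helper1.SymFacts
import Groth.Agent.Lib.Helper1.CoprodCI
import Groth.Agent.Lib.Helper1.SymBiprod
import Groth.Agent.Lib.Helper1.RelProjCI
import Groth.Agent.Lib.Helper1.RP12
import Groth.Agent.Lib.Helper1.VeryAmple2

set_option autoImplicit false
universe u

open CategoryTheory CategoryTheory.Limits AlgebraicGeometry TopologicalSpace Opposite
open scoped HomogeneousIdeal

namespace Groth.Agent.Helper1.ProjBiprod

open Groth.Agent.Helper1.SymAlg Groth.Agent.Helper1.RP6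

set_option synthInstance.maxHeartbeats 400000
set_option maxHeartbeats 1600000

section
variable {Y : Scheme.{u}} {E : Y.Modules} [E.IsQuasicoherent] {M : Y.Modules}
  {𝒮E 𝒮 : RelProj.QCGrAlg Y} {jE : E ⟶ 𝒮E.toModule} {j : M ⟶ 𝒮.toModule}
  {πE : 𝒮.toQCAlg ⟶ 𝒮E.toQCAlg} {pr : M ⟶ E}

/-- surjectivity in positive degrees of the map of symmetric algebras induced by a
map of modules which is surjective on sections over affine opens -/
theorem surj_of_surj (hjE : RelProj.IsGrSymAlg E 𝒮E jE)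
    (hjπE : j ≫ RelSpec.QCAlg.Hom.toModuleMap πE = pr ≫ jE)
    (hpr : ∀ (U : Y.Opens) (_ : IsAffineOpen U) (e : Γ(E, U)), ∃ w : Γ(M, U), pr.app U w = e)
    (U : Y.Opens) (hU : IsAffineOpen U) (n : ℕ) (hn : 0 < n) (b : 𝒮E.presheaf.obj (op U))
    (hb : b ∈ 𝒮E.deg U hU n) : ∃ a, (πE.hom.app (op U)).hom a = b := by
  have h1 : ∀ a ∈ 𝒮E.deg U hU 1, a ∈ (πE.hom.app (op U)).hom.range := by
    intro a ha
    obtain ⟨e, rfl⟩ := exists_eq_j_of_mem_deg_one hjE U hU a ha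
    obtain ⟨w, rfl⟩ := hpr U hU e
    refine ⟨(show 𝒮.presheaf.obj (op U) from j.app U w), ?_⟩
    exact congrArg (fun ψ => Scheme.Modules.Hom.app ψ U w) hjπE
  exact RelProjCI.mem_of_genDegOne (𝒮E.deg U hU) (isGenDegOne_of_isGrSymAlg hjE U hU) _ h1 hn hb

end


/-- **S5734** -/
theorem main5734 {Y PE PF P : Scheme.{u}} (E F : Y.Modules)
    (hE : Coh.IsQCoh E) (hF : Coh.IsQCoh F) (𝒮E 𝒮F 𝒮 : RelProj.QCGrAlg Y)
    (jE : E ⟶ 𝒮E.toModule) (hjE : RelProj.IsGrSymAlg E 𝒮E jE)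
    (jF : F ⟶ 𝒮F.toModule) (hjF : RelProj.IsGrSymAlg F 𝒮F jF)
    (j : E ⊞ F ⟶ 𝒮.toModule) (hj : RelProj.IsGrSymAlg (E ⊞ F) 𝒮 j)
    (πE : 𝒮.toQCAlg ⟶ 𝒮E.toQCAlg) (hπE : RelProj.IsGradedHom πE)
    (hjπE : j ≫ RelSpec.QCAlg.Hom.toModuleMap πE = biprod.fst ≫ jE)
    (πF : 𝒮.toQCAlg ⟶ 𝒮F.toQCAlg) (hπF : RelProj.IsGradedHom πF)
    (hjπF : j ≫ RelSpec.QCAlg.Hom.toModuleMap πF = biprod.snd ≫ jF)
    (hirrE : ∀ (U : Y.Opens) (hU : IsAffineOpen U),
      (𝒮E.deg U hU)₊ ≤ ((𝒮.deg U hU)₊).map (RelProj.gradedHomAt πE hπE U hU))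
    (hirrF : ∀ (U : Y.Opens) (hU : IsAffineOpen U),
      (𝒮F.deg U hU)₊ ≤ ((𝒮.deg U hU)₊).map (RelProj.gradedHomAt πF hπF U hU))
    (p : P ⟶ Y) (pE : PE ⟶ Y) (pF : PF ⟶ Y)
    (chart : ∀ (U : Y.Opens) (hU : IsAffineOpen U), ((p ⁻¹ᵁ U : P.Opens) : Scheme.{u}) ≅ Proj (𝒮.deg U hU))
    (chartE : ∀ (U : Y.Opens) (hU : IsAffineOpen U), ((pE ⁻¹ᵁ U : PE.Opens) : Scheme.{u}) ≅ Proj (𝒮E.deg U hU))
    (chartF : ∀ (U : Y.Opens) (hU : IsAffineOpen U), ((pF ⁻¹ᵁ U : PF.Opens) : Scheme.{u}) ≅ Proj (𝒮F.deg U hU))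
    (hP : RelProj.IsRelProj 𝒮 p chart) (hPE : RelProj.IsRelProj 𝒮E pE chartE) (hPF : RelProj.IsRelProj 𝒮F pF chartF)
    (hE' : PE ⟶ P) (hhE : RelProj.IsRelProjMap πE hπE hirrE chart chartE hE')
    (hF' : PF ⟶ P) (hhF : RelProj.IsRelProjMap πF hπF hirrF chart chartF hF') :
    IsClosedImmersion (coprod.desc hE' hF') := by
  have : E.IsQuasicoherent := hE
  have : F.IsQuasicoherent := hF
  have : (E ⊞ F).IsQuasicoherent := QcAbel.isQuasicoherent_biprod E F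
  have hciE : IsClosedImmersion hE' := by
    refine RelProjCI.isClosedImmersion' πE hπE hirrE p pE chart chartE ?_ hP hPE hE' hhE
    intro U hU n hn b hb
    refine surj_of_surj hjE hjπE (fun U _ e => ⟨(biprod.inl : E ⟶ E ⊞ F).app U e, ?_⟩) U hU n hn b hb
    exact fst_inl E F U e
  have hciF : IsClosedImmersion hF' := by
    refine RelProjCI.isClosedImmersion' πF hπF hirrF p pF chart chartF ?_ hP hPF hF' hhF
    intro U hU n hn b hb
    refine surj_of_surj hjF hjπF (fun U _ e => ⟨(biprod.inr : F ⟶ E ⊞ F).app U e, ?_⟩) U hU n hn b hb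
    exact snd_inr E F U e
  apply CoprodCI.isClosedImmersion_desc
  intro x x' hxx
  have hcE := RelProjMap.comp_eq πE hπE hirrE p pE chart chartE hP hPE hE' hhE
  have hcF := RelProjMap.comp_eq πF hπF hirrF p pF chart chartF hP hPF hF' hhF
  obtain ⟨U, hU, hxU⟩ := exists_affine_mem (pE.base x)
  have hx1 : x ∈ (RelProj.emb pE chartE U hU).opensRange := by
    rw [ProjBC.opensRange_emb]; exact hxU
  have hx'U : pF.base x' ∈ U := by
    have h1 : pE.base x = p.base (hE'.base x) := by rw [← hcE]; rfl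
    have h2 : pF.base x' = p.base (hF'.base x') := by rw [← hcF]; rfl
    rw [h2, ← hxx, ← h1]; exact hxU
  have hx2 : x' ∈ (RelProj.emb pF chartF U hU).opensRange := by
    rw [ProjBC.opensRange_emb]; exact hx'U
  obtain ⟨yE, rfl⟩ := hx1
  obtain ⟨yF, rfl⟩ := hx2
  have e1 : hE'.base ((RelProj.emb pE chartE U hU).base yE) =
      (RelProj.emb p chart U hU).base ((Proj.map (RelProj.gradedHomAt πE hπE U hU) (hirrE U hU)).base yE) := by
    have := RP12.emb_comp_h hhE U hU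
    exact congrArg (fun φ : Proj (𝒮E.deg U hU) ⟶ P => φ.base yE) this
  have e2 : hF'.base ((RelProj.emb pF chartF U hU).base yF) =
      (RelProj.emb p chart U hU).base ((Proj.map (RelProj.gradedHomAt πF hπF U hU) (hirrF U hU)).base yF) := by
    have := RP12.emb_comp_h hhF U hU
    exact congrArg (fun φ : Proj (𝒮F.deg U hU) ⟶ P => φ.base yF) this
  rw [e1, e2] at hxx
  have e3 := (RelProj.emb p chart U hU).isOpenEmbedding.injective hxx
  set y : ProjectiveSpectrum (𝒮.deg U hU) :=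
    (Proj.map (RelProj.gradedHomAt πE hπE U hU) (hirrE U hU)).base yE with hy
  obtain ⟨w, hw⟩ := VeryAmple.exists_j_notMem hj U hU y
  apply hw
  rw [biprod_decomp E F U w, map_add]
  refine add_mem ?_ ?_
  · -- `j (inl e)` lies in `comap πF yF = y`
    rw [e3]
    change (πF.hom.app (op U)).hom _ ∈ yF.asHomogeneousIdeal
    have h := congrArg (fun ψ => Scheme.Modules.Hom.app ψ U
      ((biprod.inl : E ⟶ E ⊞ F).app U ((biprod.fst : E ⊞ F ⟶ E).app U w))) hjπF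
    have h' : (πF.hom.app (op U)).hom (show 𝒮.presheaf.obj (op U) from j.app U
        ((biprod.inl : E ⟶ E ⊞ F).app U ((biprod.fst : E ⊞ F ⟶ E).app U w))) =
        (show 𝒮F.presheaf.obj (op U) from jF.app U ((biprod.snd : E ⊞ F ⟶ F).app U
          ((biprod.inl : E ⟶ E ⊞ F).app U ((biprod.fst : E ⊞ F ⟶ E).app U w)))) := h
    rw [h', snd_inl E F U, map_zero]
    exact zero_mem _
  · change (πE.hom.app (op U)).hom _ ∈ yE.asHomogeneousIdeal
    have h := congrArg (fun ψ => Scheme.Modules.Hom.app ψ U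
      ((biprod.inr : F ⟶ E ⊞ F).app U ((biprod.snd : E ⊞ F ⟶ F).app U w))) hjπE
    have h' : (πE.hom.app (op U)).hom (show 𝒮.presheaf.obj (op U) from j.app U
        ((biprod.inr : F ⟶ E ⊞ F).app U ((biprod.snd : E ⊞ F ⟶ F).app U w))) =
        (show 𝒮E.presheaf.obj (op U) from jE.app U ((biprod.fst : E ⊞ F ⟶ E).app U
          ((biprod.inr : F ⟶ E ⊞ F).app U ((biprod.snd : E ⊞ F ⟶ F).app U w)))) := h
    rw [h', fst_inr E F U, map_zero]
    exact zero_mem _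

end Groth.Agent.Helper1.ProjBiprod
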