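import Mathlib
import Groth.Agent.Lib.Helper1.ProjClosed
import Groth.Agent.Lib.Helper1.ProjVA2
import Groth.Agent.Lib.Helper1.ProjUP8

set_option autoImplicit false
universe u

open CategoryTheory AlgebraicGeometry TopologicalSpace Opposite HomogeneousLocalization DirectSum
open scoped HomogeneousIdeal

namespace Groth.Agent.Helper1.ProjClosed2

open Groth.Agent.Helper1.QcCech Groth.Agent.Helper1.SubSh Groth.Agent.Helper1.LGen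
open Groth.Agent.Helper1 Groth.Agent.Helper1.AmpleLib Groth.Agent.Helper1.ProjClosed
open Groth.Agent.Helper1.ProjUP5 Groth.Agent.Helper1.PullSec Groth.Agent.Helper1.PullGen
open Groth.Agent.Helper1.ProjUP7 Groth.Agent.Helper1.TensGen

set_option synthInstance.maxHeartbeats 400000

section General

variable {R A : Type u} [CommRing R] [CommRing A] [Algebra R A] (𝒜 : ℕ → Submodule R A)
  [GradedAlgebra 𝒜] {Z : Scheme.{u}} (i : Z ⟶ Proj 𝒜)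

/-- a section of a module vanishes if it vanishes on an open cover -/
theorem eq_zero_of_cover {X : Scheme.{u}} (M : X.Modules) {ι : Type*} (U : ι → X.Opens)
    (hU : ∀ x : X, ∃ k, x ∈ U k) (s : Γ(M, ⊤))
    (h : ∀ k, res M (le_top : U k ≤ ⊤) s = 0) : s = 0 := by
  refine TopCat.Sheaf.eq_of_locally_eq' (⟨M.presheaf, M.isSheaf⟩ : TopCat.Sheaf Ab X) U ⊤
    (fun k => homOfLE le_top) ?_ s 0 ?_
  · intro x _
    obtain ⟨k, hk⟩ := hU x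
    exact Opens.mem_iSup.2 ⟨k, hk⟩
  · intro k
    have := h k
    rw [map_zero]
    exact this

/-- the restriction of the pulled back section `F` to the chart `D₊(g)`, `g` of degree one -/
theorem res_pullSec {g F : A} (d : ℕ) (hg : g ∈ 𝒜 1) (hF : F ∈ 𝒜 d) (hF' : F ∈ 𝒜 (d • 1))
    (hgd : g ^ d ∈ 𝒜 d) :
    res _ (le_top : i ⁻¹ᵁ Proj.basicOpen 𝒜 g ≤ ⊤)
      (σ i (Twist.twist 𝒜 (d : ℤ)) ⊤ (Twist.globalOf 𝒜 ⟨F, hF⟩)) =
    ψ 𝒜 i g (Away.mk 𝒜 hg d F hF') •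
      σ i (Twist.twist 𝒜 (d : ℤ)) (Proj.basicOpen 𝒜 g)
        (res (Twist.twist 𝒜 (d : ℤ)) (le_top : Proj.basicOpen 𝒜 g ≤ ⊤)
          (Twist.globalOf 𝒜 ⟨g ^ d, hgd⟩)) := by
  have e1 := σ_res i (Twist.twist 𝒜 (d : ℤ)) (le_top : Proj.basicOpen 𝒜 g ≤ ⊤)
    (Twist.globalOf 𝒜 ⟨F, hF⟩)
  refine Eq.trans e1 ?_
  rw [ProjVA2.res_globalOf_eq_smul_pow 𝒜 d hg hF hF' hgd, σ_smul]
  rfl

theorem basicOpen_le_basicOpen_pow (g : A) (d : ℕ) :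
    Proj.basicOpen 𝒜 g ≤ Proj.basicOpen 𝒜 (g ^ d) := by
  intro x hx
  rw [Proj.mem_basicOpen] at hx ⊢
  exact fun h => hx (x.isPrime.mem_of_pow_mem d h)

theorem isGen_pow {g : A} (d : ℕ) (hgd : g ^ d ∈ 𝒜 d) :
    IsGen (Twist.twist 𝒜 (d : ℤ)) (Proj.basicOpen 𝒜 g)
      (res (Twist.twist 𝒜 (d : ℤ)) (le_top : Proj.basicOpen 𝒜 g ≤ ⊤)
        (Twist.globalOf 𝒜 ⟨g ^ d, hgd⟩)) := by
  have h := (isGen_globalOf 𝒜 (⟨g ^ d, hgd⟩ : 𝒜 d)).res (basicOpen_le_basicOpen_pow 𝒜 g d)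
  rwa [res_res] at h

variable {K : Type*} (t : K → A) (ht : ∀ k, t k ∈ 𝒜 1)
  (hcov : ∀ x : Proj 𝒜, ∃ k, x ∈ Proj.basicOpen 𝒜 (t k))

include hcov in
/-- a pulled back form vanishes iff it vanishes on all charts -/
theorem pullSec_eq_zero_iff (d : ℕ) {F : A} (hF : F ∈ 𝒜 d) (hF' : F ∈ 𝒜 (d • 1)) :
    σ i (Twist.twist 𝒜 (d : ℤ)) ⊤ (Twist.globalOf 𝒜 ⟨F, hF⟩) = 0 ↔
      ∀ k, ψ 𝒜 i (t k) (Away.mk 𝒜 (ht k) d F hF') = 0 := by
  have hpow : ∀ k, t k ^ d ∈ 𝒜 d := fun k => by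
    have := SetLike.pow_mem_graded d (ht k)
    rwa [smul_eq_mul, mul_one] at this
  constructor
  · intro h k
    have h1 := res_pullSec 𝒜 i d (ht k) hF hF' (hpow k)
    rw [h] at h1
    have h2 := h1.symm.trans (map_zero _)
    have hgen := isGen_σ i (isGen_pow 𝒜 d (hpow k))
    apply (IsGen.bijective_self hgen).1
    change _ • _ = (0 : Γ(Z, i ⁻¹ᵁ Proj.basicOpen 𝒜 (t k))) • _
    rw [zero_smul]
    exact h2
  · intro h
    apply eq_zero_of_cover _ (fun k => i ⁻¹ᵁ Proj.basicOpen 𝒜 (t k))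
    · intro z
      obtain ⟨k, hk⟩ := hcov (i z)
      exact ⟨k, hk⟩
    · intro k
      rw [res_pullSec 𝒜 i d (ht k) hF hF' (hpow k), h k, zero_smul]

end General

section Ker

variable {R A : Type u} [CommRing R] [CommRing A] [Algebra R A] (𝒜 : ℕ → Submodule R A)
  [GradedAlgebra 𝒜] {Z : Scheme.{u}} (i : Z ⟶ Proj 𝒜) (s : Finset A) (hs1 : ∀ f ∈ s, f ∈ 𝒜 1)

/-- membership of a homogeneous element in the ideal of the closed subscheme -/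
theorem mem_I_of_homogeneous {e : ℕ} {b : A} (hb : b ∈ 𝒜 e) (hb' : b ∈ 𝒜 (e • 1)) :
    b ∈ I 𝒜 i s hs1 ↔ ∀ (g : A) (hg : g ∈ s), ψ 𝒜 i g (Away.mk 𝒜 (hs1 g hg) e b hb') = 0 := by
  constructor
  · intro h g hg
    have := h e g hg
    rwa [el_of_mem 𝒜 (hs1 g hg) hb hb'] at this
  · intro h n g hg
    by_cases hne : e = n
    · subst hne
      rw [el_of_mem 𝒜 (hs1 g hg) hb hb']
      exact h g hg
    · rw [el_of_mem_ne 𝒜 (hs1 g hg) hb hne, map_zero]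

variable {B : Type u} [CommRing B] [Algebra R B] (ℬ : ℕ → Submodule R B) [GradedAlgebra ℬ]

theorem away_map_eq_zero_iff (φ : 𝒜 →+*ᵍ ℬ) {f : A} (hf : f ∈ 𝒜 1) (n : ℕ) (a : A)
    (ha : a ∈ 𝒜 (n • 1)) :
    Away.map φ f (Away.mk 𝒜 hf n a ha) = 0 ↔ ∃ m : ℕ, φ (f ^ m * a) = 0 := by
  rw [Away.map_mk, HomogeneousLocalization.ext_iff_val, Away.val_mk,
    HomogeneousLocalization.val_zero, Localization.mk_eq_mk', IsLocalization.mk'_eq_zero_iff]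
  constructor
  · rintro ⟨⟨_, m, rfl⟩, hm⟩
    exact ⟨m, by rw [map_mul, map_pow]; exact hm⟩
  · rintro ⟨m, hm⟩
    exact ⟨⟨_, m, rfl⟩, by rw [map_mul, map_pow] at hm; exact hm⟩

/-- the chartwise kernel condition for a graded quotient with the right kernel -/
theorem hker_of_ker_eq [QuasiCompact i] (φ : 𝒜 →+*ᵍ ℬ)
    (hker : ∀ (e : ℕ) (b : A), b ∈ 𝒜 e → (φ b = 0 ↔ b ∈ I 𝒜 i s hs1))
    {f : A} (hf : f ∈ s) (x : Away 𝒜 f) :
    Away.map φ f x = 0 ↔ ψ 𝒜 i f x = 0 := by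
  let _ := GrQuot.gradedAlgebra 𝒜 (I 𝒜 i s hs1) (I_isHomogeneous 𝒜 i s hs1)
  rw [← ker_eq 𝒜 i s hs1 hf x]
  obtain ⟨n, a, ha, rfl⟩ := Away.mk_surjective 𝒜 (hs1 f hf) x
  have han : a ∈ 𝒜 n := by rwa [smul_eq_mul, mul_one] at ha
  rw [away_map_eq_zero_iff 𝒜 ℬ φ (hs1 f hf) n a ha,
    away_map_eq_zero_iff 𝒜 (GrQuot.gr 𝒜 (I 𝒜 i s hs1)) (GrQuot.quotHom 𝒜 (I 𝒜 i s hs1))
      (hs1 f hf) n a ha]
  have hdeg : ∀ m : ℕ, f ^ m * a ∈ 𝒜 (m + n) := fun m =>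
    SetLike.mul_mem_graded (pow_mem_deg 𝒜 (hs1 f hf) m) han
  constructor
  · rintro ⟨m, hm⟩
    refine ⟨m, ?_⟩
    rw [GrQuot.quotHom_apply, Ideal.Quotient.eq_zero_iff_mem]
    exact (hker _ _ (hdeg m)).1 hm
  · rintro ⟨m, hm⟩
    refine ⟨m, ?_⟩
    rw [GrQuot.quotHom_apply, Ideal.Quotient.eq_zero_iff_mem] at hm
    exact (hker _ _ (hdeg m)).2 hm

end Ker

end Groth.Agent.Helper1.ProjClosed2
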