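import Mathlib
import Groth.Agent.Lib.Helper1.ProjClosed

set_option autoImplicit false
universe u

open CategoryTheory AlgebraicGeometry TopologicalSpace Opposite HomogeneousLocalization DirectSum
open scoped HomogeneousIdeal

namespace Groth.Agent.Helper1.ProjClosed3

open Groth.Agent.Helper1 Groth.Agent.Helper1.ProjClosed

section StructureMap

variable {R A B : Type u} [CommRing R] [CommRing A] [Algebra R A] [CommRing B] [Algebra R B]
  (𝒜 : ℕ → Submodule R A) [GradedAlgebra 𝒜] (ℬ : ℕ → Submodule R B) [GradedAlgebra ℬ]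
  (φ : 𝒜 →+*ᵍ ℬ) (hφ : HomogeneousIdeal.irrelevant ℬ ≤ (HomogeneousIdeal.irrelevant 𝒜).map φ)

set_option backward.isDefEq.respectTransparency false in
/-- `Proj.map` of an algebra homomorphism is compatible with the structure morphisms -/
theorem map_comp_structure (hcomm : ∀ a : R, φ (algebraMap R A a) = algebraMap R B a) :
    Proj.map φ hφ ≫ Proj.toSpecZero 𝒜 ≫ Spec.map (CommRingCat.ofHom (algebraMap R (𝒜 0))) =
      Proj.toSpecZero ℬ ≫ Spec.map (CommRingCat.ofHom (algebraMap R (ℬ 0))) := by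
  refine (Proj.mapAffineOpenCover φ hφ).openCover.hom_ext _ _ fun s => ?_
  simp only [Scheme.AffineOpenCover.openCover_f, Proj.mapAffineOpenCover_f,
    Proj.awayι_comp_map_assoc φ hφ s.1.2 _ s.2.2, Proj.awayι_toSpecZero_assoc,
    ← Spec.map_comp]
  congr 1
  ext a
  change (Away.map φ s.2.1 (fromZeroRingHom 𝒜 _ (algebraMap R (𝒜 0) a))).val =
    (fromZeroRingHom ℬ _ (algebraMap R (ℬ 0) a)).val
  have h1 : fromZeroRingHom 𝒜 (Submonoid.powers s.2.1) (algebraMap R (𝒜 0) a) =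
      Away.mk 𝒜 s.2.2 0 (algebraMap R A a) (by
        rw [zero_smul]; exact SetLike.algebraMap_mem_graded 𝒜 a) := by
    apply HomogeneousLocalization.val_injective
    rw [Away.val_mk]
    change Localization.mk (algebraMap R A a) 1 = _
    congr 1
    ext
    simp
  rw [h1, Away.map_mk, Away.val_mk, hcomm]
  change _ = Localization.mk (algebraMap R B a) 1
  congr 1
  ext
  simp

end StructureMap

section Main'
variable {R A : Type u} [CommRing R] [CommRing A] [Algebra R A] (𝒜 : ℕ → Submodule R A)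
  [GradedAlgebra 𝒜] {Z : Scheme.{u}} (i : Z ⟶ Proj 𝒜) (s : Finset A) (hs1 : ∀ f ∈ s, f ∈ 𝒜 1)

include hs1 in
/-- variant of `ProjClosed.main` recording that `φ` is `R`-linear -/
theorem main' [IsClosedImmersion i] (hs : (HomogeneousIdeal.irrelevant 𝒜).toIdeal =
      Ideal.span (s : Set A)) :
    ∃ (B : Type u) (_ : CommRing B) (_ : Algebra R B) (ℬ : ℕ → Submodule R B)
      (_ : GradedAlgebra ℬ) (φ : 𝒜 →+*ᵍ ℬ) (_ : Function.Surjective φ)
      (_ : ∀ a : R, φ (algebraMap R A a) = algebraMap R B a)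
      (hφ : HomogeneousIdeal.irrelevant ℬ ≤ (HomogeneousIdeal.irrelevant 𝒜).map φ)
      (e : Z ≅ Proj ℬ), e.hom ≫ Proj.map φ hφ = i := by
  let inst := GrQuot.gradedAlgebra 𝒜 (I 𝒜 i s hs1) (I_isHomogeneous 𝒜 i s hs1)
  have hsurj : Function.Surjective (GrQuot.quotHom 𝒜 (I 𝒜 i s hs1)) :=
    GrQuot.quotHom_surjective 𝒜 _
  have hφ := irrelevant_le_map_of_surjective 𝒜 (GrQuot.gr 𝒜 (I 𝒜 i s hs1))
    (GrQuot.quotHom 𝒜 (I 𝒜 i s hs1)) hsurj
  have hcov : ⨆ f : (s : Set A), Proj.basicOpen 𝒜 f.1 = ⊤ := by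
    apply Proj.iSup_basicOpen_eq_top
    rw [hs, Subtype.range_coe]
  obtain ⟨e, he⟩ := exists_iso 𝒜 i (GrQuot.gr 𝒜 (I 𝒜 i s hs1)) (GrQuot.quotHom 𝒜 (I 𝒜 i s hs1))
    hφ hsurj (s : Set A) (fun f hf => ⟨1, one_pos, hs1 f hf⟩) hcov
    (fun f hf x => ker_eq 𝒜 i s hs1 hf x)
  exact ⟨A ⧸ I 𝒜 i s hs1, inferInstance, inferInstance, GrQuot.gr 𝒜 (I 𝒜 i s hs1), inst,
    GrQuot.quotHom 𝒜 (I 𝒜 i s hs1), hsurj, fun a => rfl, hφ, e, he⟩

end Main'

end Groth.Agent.Helper1.ProjClosed3
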