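import Mathlib

/-!
# `D₊(g)` is scheme-theoretically dense in `Proj` for a non-zero-divisor `g` (helper1 library)
-/

open CategoryTheory AlgebraicGeometry TopologicalSpace HomogeneousLocalization

universe u

namespace Groth.Agent.Helper1.ProjDense

section
variable {σ A : Type*} [CommRing A] [SetLike σ A] [AddSubgroupClass σ A] (𝒜 : ℕ → σ) [GradedRing 𝒜]

lemma awayMap_injective {f g x : A} {d e : ℕ} (hf : f ∈ 𝒜 d) (hg : g ∈ 𝒜 e) (hx : x = f * g)
    (hnz : g ∈ nonZeroDivisors A) :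
    Function.Injective (HomogeneousLocalization.awayMap 𝒜 hg hx) := by
  rw [injective_iff_map_eq_zero]
  intro z hz
  obtain ⟨n, a, ha, rfl⟩ := HomogeneousLocalization.Away.mk_surjective 𝒜 hf z
  rw [HomogeneousLocalization.awayMap_mk] at hz
  have h1 := congrArg HomogeneousLocalization.val hz
  rw [HomogeneousLocalization.Away.val_mk, HomogeneousLocalization.val_zero,
    Localization.mk_eq_mk', IsLocalization.mk'_eq_zero_iff] at h1
  obtain ⟨⟨_, m, rfl⟩, hm⟩ := h1
  have hm' : x ^ m * (a * g ^ n) = 0 := hm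
  subst hx
  have h2 : (f ^ m * a) * g ^ (m + n) = 0 := by rw [← hm']; ring
  have h3 : f ^ m * a = 0 :=
    (mul_right_mem_nonZeroDivisors_eq_zero_iff ((nonZeroDivisors A).pow_mem hnz _)).mp h2
  apply HomogeneousLocalization.val_injective
  rw [HomogeneousLocalization.Away.val_mk, HomogeneousLocalization.val_zero,
    Localization.mk_eq_mk', IsLocalization.mk'_eq_zero_iff]
  exact ⟨⟨f ^ m, m, rfl⟩, h3⟩

end

lemma inj_of_eq {X : Scheme.{u}} {V W W' : X.Opens} (h : W = W') (hW : W ≤ V) (hW' : W' ≤ V)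
    (hi : Function.Injective (X.presheaf.map (homOfLE hW').op)) :
    Function.Injective (X.presheaf.map (homOfLE hW).op) := by
  subst h; exact hi

set_option backward.isDefEq.respectTransparency.types false in
theorem ker_eq_bot {R A : Type u} [CommRing R] [CommRing A] [Algebra R A]
    (𝒜 : ℕ → Submodule R A) [GradedAlgebra 𝒜] {d : ℕ} (hd : 0 < d) (g : A) (hg : g ∈ 𝒜 d)
    (hnz : g ∈ nonZeroDivisors A) :
    (Proj.basicOpen 𝒜 g).ι.ker = ⊥ := by
  classical
  have haffg : IsAffineOpen (Proj.basicOpen 𝒜 g) := Proj.isAffineOpen_basicOpen 𝒜 g hg hd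
  have : IsAffine (Proj.basicOpen 𝒜 g) := haffg
  have : QuasiCompact (Proj.basicOpen 𝒜 g).ι := inferInstance
  let U : (Σ i : PNat, 𝒜 i) → (Proj 𝒜).affineOpens := fun s =>
    ⟨Proj.basicOpen 𝒜 s.2.1, Proj.isAffineOpen_basicOpen 𝒜 _ s.2.2 s.1.2⟩
  have hU : ⨆ s, (U s).1 = ⊤ := by
    refine Proj.iSup_basicOpen_eq_top 𝒜 (fun s : Σ i : PNat, 𝒜 i => (s.2 : A)) ?_
    intro z hz
    rw [← DirectSum.sum_support_decompose 𝒜 z]
    refine Ideal.sum_mem _ fun c hc ↦ if hc0 : c = 0 then ?_ else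
      Ideal.subset_span ⟨⟨⟨c, Nat.pos_iff_ne_zero.mpr hc0⟩, _⟩, rfl⟩
    convert Ideal.zero_mem _
    subst hc0
    exact hz
  refine Scheme.IdealSheafData.ext_of_iSup_eq_top U hU fun s => ?_
  rw [Scheme.Hom.ker_apply, Scheme.IdealSheafData.ideal_bot, Pi.bot_apply,
    ← RingHom.injective_iff_ker_eq_bot]
  -- notation
  obtain ⟨⟨m, hm⟩, ⟨f, hf⟩⟩ := s
  have hfg : f * g ∈ 𝒜 (m + d) := SetLike.mul_mem_graded hf hg
  have hmd : 0 < m + d := Nat.add_pos_left hm d
  have hle : Proj.basicOpen 𝒜 (f * g) ≤ Proj.basicOpen 𝒜 f :=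
    Proj.basicOpen_mono _ _ _ ⟨g, rfl⟩
  have hsq := Proj.awayMap_awayToSection 𝒜 (f := f) hg (rfl : f * g = f * g)
  -- injectivity of the restriction map
  have hres : Function.Injective ((Proj 𝒜).presheaf.map (homOfLE hle).op) := by
    rw [injective_iff_map_eq_zero]
    intro a ha
    obtain ⟨a', rfl⟩ : ∃ a', (Proj.awayToSection 𝒜 f) a' = a :=
      ⟨(Proj.basicOpenIsoAway 𝒜 f hf hm).inv a, by
        rw [← Proj.basicOpenIsoAway_hom 𝒜 f hf hm]
        exact Iso.inv_hom_id_apply _ a⟩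
    have h1 : (Proj.awayToSection 𝒜 (f * g)) (HomogeneousLocalization.awayMap 𝒜 hg rfl a') = 0 := by
      have := congr($hsq a')
      exact this.trans ha
    have h2 : HomogeneousLocalization.awayMap 𝒜 hg rfl a' = 0 := by
      have hinj : Function.Injective (Proj.awayToSection 𝒜 (f * g)) := by
        rw [← Proj.basicOpenIsoAway_hom 𝒜 (f * g) hfg hmd]
        exact ((Proj.basicOpenIsoAway 𝒜 (f * g) hfg hmd).commRingCatIsoToRingEquiv).injective
      exact hinj (by rw [h1, map_zero])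
    have h3 : a' = 0 := awayMap_injective 𝒜 hf hg rfl hnz (by rw [h2, map_zero])
    rw [h3, map_zero]
  have heq : (Proj.basicOpen 𝒜 g).ι ''ᵁ (Proj.basicOpen 𝒜 g).ι ⁻¹ᵁ (Proj.basicOpen 𝒜 f) =
      Proj.basicOpen 𝒜 (f * g) := by
    rw [Scheme.Hom.image_preimage_eq_opensRange_inf, Scheme.Opens.opensRange_ι,
      Proj.basicOpen_mul, inf_comm]
  exact inj_of_eq heq _ hle hres

end Groth.Agent.Helper1.ProjDense
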