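import Mathlib
import Groth.Agent.Lib.Helper1.GrTwAmpleOpen
import Groth.Agent.Lib.Helper1.SecOps

set_option autoImplicit false
universe u
open CategoryTheory CategoryTheory.Limits AlgebraicGeometry TopologicalSpace Opposite

namespace Groth.Agent.Helper1.ProjFinAff

theorem exists_affineOpen_of_finite {A σ : Type u} [CommRing A] [SetLike σ A] [AddSubgroupClass σ A]
    (𝒜 : ℕ → σ) [GradedRing 𝒜] {X : Scheme.{u}} (ι : X ⟶ Proj 𝒜) [IsImmersion ι]
    (E : Set X) (hE : E.Finite) :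
    ∃ U : X.Opens, IsAffineOpen U ∧ E ⊆ U := by
  classical
  -- basic opens around the points
  have hloc : ∀ x : X, ∃ (e : ℕ) (_ : 0 < e) (g : A), g ∈ 𝒜 e ∧
      g ∉ (ι x).asHomogeneousIdeal ∧ Proj.basicOpen 𝒜 g ≤ ι.coborderRange := fun x =>
    GrTwAmpleOpen.exists_basicOpen_le 𝒜 ι.coborderRange (ι x) (by
      have : ι x = ι.coborderRange.ι (ι.liftCoborder x) := by
        rw [← Scheme.Hom.comp_apply, ι.liftCoborder_ι]
      rw [this]
      exact (ι.liftCoborder x).2)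
  choose e he g hg hgx hgle using hloc
  let W' : (Proj 𝒜).Opens := ⨆ x ∈ hE.toFinset, Proj.basicOpen 𝒜 (g x)
  have hW'le : W' ≤ ι.coborderRange := by
    simp only [W', iSup_le_iff]
    intro x _
    exact hgle x
  have hEW' : ∀ x ∈ E, ι x ∈ W' := by
    intro x hx
    simp only [W', Opens.mem_iSup]
    exact ⟨x, hE.mem_toFinset.2 hx, (Proj.mem_basicOpen 𝒜 (g x) (ι x)).2 (hgx x)⟩
  haveI : CompactSpace W'.toScheme := by
    refine isCompact_iff_compactSpace.1 ?_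
    have : (W' : Set (Proj 𝒜)) = ⋃ x ∈ hE.toFinset, (Proj.basicOpen 𝒜 (g x) : Set (Proj 𝒜)) := by
      simp [W']
    rw [this]
    exact hE.toFinset.isCompact_biUnion fun x _ => (Proj.isAffineOpen_basicOpen 𝒜 (g x) (hg x) (he x)).isCompact
  obtain ⟨d, hd, hamp⟩ := GrTwAmpleOpen.main 𝒜 W'.toScheme W'.ι
  let Z : Set W'.toScheme := W'.ι ⁻¹' (ι '' E)
  have hZ : Z.Finite := (hE.image _).preimage (W'.ι.isEmbedding.injective.injOn)
  obtain ⟨n, s, hZs, -, haff⟩ := SecOps.exists_affine_genLocus_of_finite hamp Z hZ ⊤ (fun _ _ => trivial)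
  set G := CohB1.genLocus _ s with hG
  let V : (Proj 𝒜).Opens := W'.ι ''ᵁ G
  have hV : IsAffineOpen V := haff.image_of_isOpenImmersion W'.ι
  have hVle : V ≤ ι.coborderRange := by
    refine le_trans ?_ hW'le
    intro y hy
    obtain ⟨z, -, rfl⟩ := hy
    exact z.2
  refine ⟨ι ⁻¹ᵁ V, ?_, ?_⟩
  · have h1 : IsAffineOpen (ι.coborderRange.ι ⁻¹ᵁ V) := by
      rw [← Scheme.Hom.isAffineOpen_iff_of_isOpenImmersion ι.coborderRange.ι,
        Scheme.Hom.image_preimage_eq_opensRange_inf, Scheme.Opens.opensRange_ι,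
        inf_eq_right.2 hVle]
      exact hV
    have h2 := h1.preimage ι.liftCoborder
    have h3 : ι.liftCoborder ⁻¹ᵁ (ι.coborderRange.ι ⁻¹ᵁ V) = ι ⁻¹ᵁ V := by
      rw [← Scheme.Hom.comp_preimage, ι.liftCoborder_ι]
    rwa [h3] at h2
  · intro x hx
    have hz : (⟨ι x, hEW' x hx⟩ : W'.toScheme) ∈ Z := ⟨x, hx, rfl⟩
    exact ⟨⟨ι x, hEW' x hx⟩, hZs hz, rfl⟩

end Groth.Agent.Helper1.ProjFinAff
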