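import Mathlib
import Groth.Prelude.Def_PCone
import Groth.Agent.Lib.Helper1.ProjDom

/-!
# Graded homomorphisms bijective in high degrees induce isomorphisms on Proj (helper1 library)
-/

universe u

open CategoryTheory CategoryTheory.Limits AlgebraicGeometry TopologicalSpace Opposite
open Groth.Agent.Helper1.ProjDom

namespace Groth.Agent.Helper1.ProjHighDeg

section Alg
variable {A B σ τ : Type*} [CommRing A] [SetLike σ A] [AddSubgroupClass σ A] {𝒜 : ℕ → σ}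
  [GradedRing 𝒜] [CommRing B] [SetLike τ B] [AddSubgroupClass τ B] {ℬ : ℕ → τ} [GradedRing ℬ]
  (ψ : 𝒜 →+*ᵍ ℬ)

theorem awayMap_bijective (d₀ : ℕ) (hbij : ∀ d : ℕ, d₀ ≤ d → Set.BijOn ψ (𝒜 d) (ℬ d))
    {d : ℕ} (hd : 0 < d) {f : A} (hf : f ∈ 𝒜 d) :
    Function.Bijective (HomogeneousLocalization.Away.map ψ f) := by
  constructor
  · rw [injective_iff_map_eq_zero]
    intro q hq
    obtain ⟨k, a, ha, rfl⟩ := HomogeneousLocalization.Away.mk_surjective 𝒜 hf q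
    rw [HomogeneousLocalization.Away.map_mk] at hq
    have hv := congrArg HomogeneousLocalization.val hq
    rw [HomogeneousLocalization.Away.val_mk, HomogeneousLocalization.val_zero,
      Localization.mk_eq_mk'_apply, IsLocalization.mk'_eq_zero_iff] at hv
    obtain ⟨⟨_, N, rfl⟩, hN⟩ := hv
    simp only at hN
    have hmem : f ^ (N + d₀) * a ∈ 𝒜 ((N + d₀) • d + k • d) :=
      SetLike.mul_mem_graded (SetLike.pow_mem_graded _ hf) ha
    have hzero : ψ (f ^ (N + d₀) * a) = 0 := by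
      rw [map_mul, map_pow, pow_add, mul_assoc, mul_comm (ψ f ^ d₀), ← mul_assoc, hN, zero_mul]
    have hdeg : d₀ ≤ (N + d₀) • d + k • d := by
      simp only [smul_eq_mul]
      nlinarith
    have h0 : f ^ (N + d₀) * a = 0 :=
      (hbij _ hdeg).injOn hmem (zero_mem _) (by rw [hzero, map_zero])
    apply HomogeneousLocalization.val_injective
    rw [HomogeneousLocalization.Away.val_mk, HomogeneousLocalization.val_zero,
      Localization.mk_eq_mk'_apply, IsLocalization.mk'_eq_zero_iff]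
    exact ⟨⟨f ^ (N + d₀), N + d₀, rfl⟩, h0⟩
  · intro q
    obtain ⟨k, b, hb, rfl⟩ := HomogeneousLocalization.Away.mk_surjective ℬ (ψ.2 hf) q
    have hmem : ψ f ^ d₀ * b ∈ ℬ (d₀ • d + k • d) :=
      SetLike.mul_mem_graded (SetLike.pow_mem_graded _ (ψ.2 hf)) hb
    have hdeg : d₀ ≤ d₀ • d + k • d := by
      simp only [smul_eq_mul]
      nlinarith
    obtain ⟨a, ha, hψa⟩ := (hbij _ hdeg).surjOn hmem
    have ha' : a ∈ 𝒜 ((d₀ + k) • d) := by rwa [add_smul]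
    refine ⟨HomogeneousLocalization.Away.mk 𝒜 hf (d₀ + k) a ha', ?_⟩
    rw [HomogeneousLocalization.Away.map_mk]
    apply HomogeneousLocalization.val_injective
    rw [HomogeneousLocalization.Away.val_mk, HomogeneousLocalization.Away.val_mk,
      Localization.mk_eq_mk_iff, Localization.r_iff_exists]
    refine ⟨1, ?_⟩
    simp only [OneMemClass.coe_one, one_mul]
    rw [hψa, pow_add]
    show ψ f ^ k * (ψ f ^ d₀ * b) = ψ f ^ d₀ * ψ f ^ k * b
    ring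

end Alg

section PCone
variable {R A B : Type u} [CommRing R] [CommRing A] [Algebra R A]
  (𝒜 : ℕ → Submodule R A) [GradedAlgebra 𝒜] [CommRing B] [Algebra R B]
  (ℬ : ℕ → Submodule R B) [GradedAlgebra ℬ] (ψ : 𝒜 →+*ᵍ ℬ)

theorem dom_eq_top (d₀ : ℕ) (hbij : ∀ d : ℕ, d₀ ≤ d → Set.BijOn ψ (𝒜 d) (ℬ d)) :
    PCone.dom ψ = ⊤ := by
  rw [eq_top_iff]
  intro x _
  have hx := x.not_irrelevant_le
  rw [HomogeneousIdeal.irrelevant_le] at hx
  push Not at hx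
  obtain ⟨e, he, hx⟩ := hx
  obtain ⟨b, hb, hbx⟩ := SetLike.not_le_iff_exists.mp hx
  have hb' : b ∈ ℬ e := hb
  have hmem : b ^ (d₀ + 1) ∈ ℬ ((d₀ + 1) • e) := SetLike.pow_mem_graded _ hb'
  have hdeg : d₀ ≤ (d₀ + 1) • e := by
    simp only [smul_eq_mul]
    nlinarith
  obtain ⟨a, ha, hψa⟩ := (hbij _ hdeg).surjOn hmem
  have hpos : 0 < (d₀ + 1) • e := by
    simp only [smul_eq_mul]
    positivity
  refine Opens.mem_iSup.2 ⟨⟨a, _, hpos, ha⟩, ?_⟩
  rw [Proj.mem_basicOpen]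
  show ψ a ∉ x.asHomogeneousIdeal
  rw [hψa]
  intro hmem'
  exact hbx (x.isPrime.mem_of_pow_mem _ hmem')

theorem isIso_of_bijOn (d₀ : ℕ) (hbij : ∀ d : ℕ, d₀ ≤ d → Set.BijOn ψ (𝒜 d) (ℬ d))
    (r : (PCone.dom ψ : Scheme.{u}) ⟶ Proj 𝒜)
    (hr : ∀ (d : ℕ) (f : A) (hd : 0 < d) (hf : f ∈ 𝒜 d),
      PCone.chart ψ hf hd ≫ r =
        Spec.map (CommRingCat.ofHom (HomogeneousLocalization.Away.map ψ f)) ≫
          Proj.awayι 𝒜 f hf hd) : IsIso r := by
  have hW : ∀ x : Proj ℬ, x ∈ PCone.dom ψ → ∃ t : Idx 𝒜, x ∈ Proj.basicOpen ℬ (ψ t.f) := by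
    intro x hx
    obtain ⟨⟨f, d, hd, hf⟩, hxf⟩ := Opens.mem_iSup.1 hx
    exact ⟨⟨d, hd, f, hf⟩, hxf⟩
  have hc : ∀ t : Idx 𝒜, PCone.chart ψ t.hf t.hd ≫ (PCone.dom ψ).ι =
      Proj.awayι ℬ (ψ t.f) (ψ.2 t.hf) t.hd := fun t =>
    IsOpenImmersion.lift_fac _ _ _
  have hr' : ∀ t : Idx 𝒜, PCone.chart ψ t.hf t.hd ≫ r = gmap ψ t := fun t => hr t.d t.f t.hd t.hf
  have hcov : (⨆ t : Idx 𝒜, Proj.basicOpen 𝒜 t.f) = ⊤ := by
    rw [eq_top_iff]
    intro y _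
    have hy := y.not_irrelevant_le
    rw [HomogeneousIdeal.irrelevant_le] at hy
    push Not at hy
    obtain ⟨e, he, hy⟩ := hy
    obtain ⟨a, ha, hay⟩ := SetLike.not_le_iff_exists.mp hy
    have ha' : a ∈ 𝒜 e := ha
    exact Opens.mem_iSup.2 ⟨⟨e, he, a, ha'⟩, (Proj.mem_basicOpen 𝒜 a y).2 hay⟩
  change MorphismProperty.isomorphisms Scheme r
  refine IsZariskiLocalAtTarget.of_iSup_eq_top (P := MorphismProperty.isomorphisms Scheme)
    (fun t : Idx 𝒜 => Proj.basicOpen 𝒜 t.f) hcov fun t => ?_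
  change IsIso (r ∣_ Proj.basicOpen 𝒜 t.f)
  have hoi := isOpenImmersion_chart ψ (PCone.dom ψ) (fun t => PCone.chart ψ t.hf t.hd) hc t
  have hpre := preimage_basicOpen_eq ψ (PCone.dom ψ) (fun t => PCone.chart ψ t.hf t.hd) hW hc r hr' t
  -- the two chart isomorphisms
  have hrange1 : Set.range (PCone.chart ψ t.hf t.hd).base =
      Set.range (r ⁻¹ᵁ Proj.basicOpen 𝒜 t.f).ι.base := by
    rw [Scheme.Opens.range_ι, hpre]
    rfl
  have hrange2 : Set.range (Proj.awayι 𝒜 t.f t.hf t.hd).base =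
      Set.range (Proj.basicOpen 𝒜 t.f).ι.base := by
    rw [Scheme.Opens.range_ι, ← Proj.opensRange_awayι 𝒜 t.f t.hf t.hd]
    rfl
  let e1 := IsOpenImmersion.isoOfRangeEq (PCone.chart ψ t.hf t.hd)
    (r ⁻¹ᵁ Proj.basicOpen 𝒜 t.f).ι hrange1
  let e2 := IsOpenImmersion.isoOfRangeEq (Proj.awayι 𝒜 t.f t.hf t.hd)
    (Proj.basicOpen 𝒜 t.f).ι hrange2
  have he1 : e1.hom ≫ (r ⁻¹ᵁ Proj.basicOpen 𝒜 t.f).ι = PCone.chart ψ t.hf t.hd :=
    IsOpenImmersion.isoOfRangeEq_hom_fac _ _ _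
  have he2 : e2.hom ≫ (Proj.basicOpen 𝒜 t.f).ι = Proj.awayι 𝒜 t.f t.hf t.hd :=
    IsOpenImmersion.isoOfRangeEq_hom_fac _ _ _
  have hbij' := awayMap_bijective ψ d₀ hbij t.hd t.hf
  have hiso : IsIso (Spec.map (CommRingCat.ofHom (HomogeneousLocalization.Away.map ψ t.f))) :=
    isIso_SpecMap_iff.2 hbij'
  have key : r ∣_ Proj.basicOpen 𝒜 t.f =
      e1.inv ≫ Spec.map (CommRingCat.ofHom (HomogeneousLocalization.Away.map ψ t.f)) ≫ e2.hom := by
    rw [Iso.eq_inv_comp]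
    refine (cancel_mono (Proj.basicOpen 𝒜 t.f).ι).1 ?_
    rw [Category.assoc, morphismRestrict_ι, reassoc_of% he1, Category.assoc, he2]
    exact hr' t
  rw [key]
  infer_instance

end PCone

end Groth.Agent.Helper1.ProjHighDeg
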