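import Mathlib
import Groth.Prelude.Def_GrTwist
import Groth.Prelude.Def_PCone
import Groth.Agent.Lib.Helper1.ILoc
import Groth.Agent.Lib.Helper1.ProjAway
import Groth.Agent.Lib.Helper1.ProjHighDeg
import Groth.Agent.Lib.Helper1.ProjTop

/-!
# Twisting sheaves under a graded homomorphism bijective in high degrees (helper1)

An abstract criterion (`IsTwistLoc`) for `GrTwist.comapApp` to be bijective, generalizing `ILoc`, and its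
verification for graded homomorphisms which are bijective in all high degrees.
-/

set_option backward.isDefEq.respectTransparency.types false
set_option synthInstance.maxHeartbeats 400000
set_option autoImplicit false
set_option linter.unusedSectionVars false
set_option linter.style.haveILetI false
set_option linter.unusedVariables false
universe u
open CategoryTheory CategoryTheory.Limits AlgebraicGeometry TopologicalSpace Opposite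
open scoped HomogeneousIdeal

namespace Groth.Agent.Helper1.ProjHiTw

open Groth.Agent.Helper1 Groth.Agent.Helper1.ILoc

section Alg
variable {A σ : Type u} [CommRing A] [SetLike σ A] [AddSubgroupClass σ A] {𝒜 : ℕ → σ} [GradedRing 𝒜]
variable {B τ : Type u} [CommRing B] [SetLike τ B] [AddSubgroupClass τ B] {ℬ : ℕ → τ} [GradedRing ℬ]

/-- the difference of two fractions of twist degree `n` is a fraction with homogeneous numerator -/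
theorem sub_frac (n : ℤ) (x : ProjectiveSpectrum 𝒜) {i₁ j₁ i₂ j₂ : ℕ} (a₁ : 𝒜 i₁) (s₁ : 𝒜 j₁)
    (a₂ : 𝒜 i₂) (s₂ : 𝒜 j₂) (hs₁ : (s₁ : A) ∉ x.asHomogeneousIdeal)
    (hs₂ : (s₂ : A) ∉ x.asHomogeneousIdeal)
    (h₁ : (i₁ : ℤ) = j₁ + n ∨ (a₁ : A) = 0) (h₂ : (i₂ : ℤ) = j₂ + n ∨ (a₂ : A) = 0) :
    ∃ (i j : ℕ) (a : 𝒜 i) (s : 𝒜 j) (hs : (s : A) ∉ x.asHomogeneousIdeal),
      (Localization.mk (a₁ : A) ⟨s₁, hs₁⟩ - Localization.mk (a₂ : A) ⟨s₂, hs₂⟩ : GrTwist.Loc 𝒜 x) =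
        Localization.mk (a : A) ⟨s, hs⟩ := by
  rcases h₁ with h₁ | h₁
  · rcases h₂ with h₂ | h₂
    · have hdeg : j₁ + i₂ = j₂ + i₁ := by omega
      have hnin : (s₁ : A) * (s₂ : A) ∉ x.asHomogeneousIdeal := fun h =>
        (x.isPrime.mem_or_mem h).elim hs₁ hs₂
      refine ⟨j₂ + i₁, j₁ + j₂, ⟨(s₂ : A) * a₁ - (s₁ : A) * a₂,
          sub_mem (SetLike.mul_mem_graded s₂.2 a₁.2) (hdeg ▸ SetLike.mul_mem_graded s₁.2 a₂.2)⟩,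
        ⟨(s₁ : A) * s₂, SetLike.mul_mem_graded s₁.2 s₂.2⟩, hnin, ?_⟩
      rw [Localization.sub_mk]
      rfl
    · refine ⟨i₁, j₁, a₁, s₁, hs₁, ?_⟩
      rw [h₂, Localization.mk_zero, sub_zero]
  · refine ⟨i₂, j₂, ⟨-(a₂ : A), neg_mem a₂.2⟩, s₂, hs₂, ?_⟩
    rw [h₁, Localization.mk_zero, zero_sub, Localization.neg_mk]

variable (ψ : 𝒜 →+*ᵍ ℬ) (hψ : ℬ₊ ≤ (𝒜₊).map ψ)

/-- abstract hypotheses making `GrTwist.comapApp` bijective -/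
structure IsTwistLoc : Prop where
  ker : ∀ (y : ProjectiveSpectrum ℬ) {i j : ℕ} (a : 𝒜 i) (s : 𝒜 j)
    (hs : (s : A) ∉ (ProjectiveSpectrum.comap ψ hψ y).asHomogeneousIdeal),
    GrTwist.locMap ψ hψ y (Localization.mk (a : A) ⟨s, hs⟩) = 0 →
      (Localization.mk (a : A) ⟨s, hs⟩ : GrTwist.Loc 𝒜 (ProjectiveSpectrum.comap ψ hψ y)) = 0
  lift : ∀ (n : ℤ) {i j : ℕ} (a' : ℬ i) (s' : ℬ j) (hij : (i : ℤ) = j + n ∨ (a' : B) = 0)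
    (y₀ : ProjectiveSpectrum ℬ) (hs₀ : (s' : B) ∉ y₀.asHomogeneousIdeal),
    ∃ (N' : Opens (ProjectiveSpectrum.top ℬ)) (_ : y₀ ∈ N') (i₁ j₁ : ℕ) (a : 𝒜 i₁) (s : 𝒜 j₁),
      ((i₁ : ℤ) = j₁ + n ∨ (a : A) = 0) ∧
      ∀ (y : ProjectiveSpectrum ℬ) (_ : y ∈ N') (hs' : (s' : B) ∉ y.asHomogeneousIdeal),
        ∃ hs : (s : A) ∉ (ProjectiveSpectrum.comap ψ hψ y).asHomogeneousIdeal,
          GrTwist.locMap ψ hψ y (Localization.mk (a : A) ⟨s, hs⟩) =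
            Localization.mk (a' : B) ⟨s', hs'⟩

variable {ψ hψ}

theorem IsTwistLoc.eq_of_locMap_eq (H : IsTwistLoc ψ hψ) (n : ℤ) (y : ProjectiveSpectrum ℬ)
    {i₁ j₁ i₂ j₂ : ℕ} (a₁ : 𝒜 i₁) (s₁ : 𝒜 j₁) (a₂ : 𝒜 i₂) (s₂ : 𝒜 j₂)
    (hs₁ : (s₁ : A) ∉ (ProjectiveSpectrum.comap ψ hψ y).asHomogeneousIdeal)
    (hs₂ : (s₂ : A) ∉ (ProjectiveSpectrum.comap ψ hψ y).asHomogeneousIdeal)
    (h₁ : (i₁ : ℤ) = j₁ + n ∨ (a₁ : A) = 0) (h₂ : (i₂ : ℤ) = j₂ + n ∨ (a₂ : A) = 0)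
    (e : GrTwist.locMap ψ hψ y (Localization.mk (a₁ : A) ⟨s₁, hs₁⟩) =
      GrTwist.locMap ψ hψ y (Localization.mk (a₂ : A) ⟨s₂, hs₂⟩)) :
    (Localization.mk (a₁ : A) ⟨s₁, hs₁⟩ : GrTwist.Loc 𝒜 (ProjectiveSpectrum.comap ψ hψ y)) =
      Localization.mk (a₂ : A) ⟨s₂, hs₂⟩ := by
  obtain ⟨i, j, a, s, hs, hsub⟩ :=
    sub_frac n (ProjectiveSpectrum.comap ψ hψ y) a₁ s₁ a₂ s₂ hs₁ hs₂ h₁ h₂
  have h0 : GrTwist.locMap ψ hψ y (Localization.mk (a : A) ⟨s, hs⟩) = 0 := by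
    rw [← hsub, map_sub, e, sub_self]
  have h1 := H.ker y a s hs h0
  exact sub_eq_zero.1 (hsub.trans h1)

theorem IsTwistLoc.comapApp_injective (H : IsTwistLoc ψ hψ) (n : ℤ)
    (U : Opens (ProjectiveSpectrum.top 𝒜)) (V : Opens (ProjectiveSpectrum.top ℬ))
    (hUV : V.1 ⊆ ProjectiveSpectrum.comap ψ hψ ⁻¹' U.1)
    (hVU : ∀ x ∈ U, ∃ y ∈ V, ProjectiveSpectrum.comap ψ hψ y = x) :
    Function.Injective (GrTwist.comapApp ψ hψ n U V hUV) := by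
  intro s t hst
  apply Subtype.ext
  funext x
  apply Subtype.ext
  obtain ⟨y, hyV, hyx⟩ := hVU x.1 x.2
  obtain rfl : x = ⟨ProjectiveSpectrum.comap ψ hψ y, hUV hyV⟩ := Subtype.ext hyx.symm
  obtain ⟨i₁, j₁, a₁, s₁, hs₁, h₁, e₁⟩ :=
    GrTwTens.sec_val_eq 𝒜 s ⟨ProjectiveSpectrum.comap ψ hψ y, hUV hyV⟩
  obtain ⟨i₂, j₂, a₂, s₂, hs₂, h₂, e₂⟩ :=
    GrTwTens.sec_val_eq 𝒜 t ⟨ProjectiveSpectrum.comap ψ hψ y, hUV hyV⟩
  have hst' := congrArg (fun u : GrTwist.sectN (𝒜 := ℬ) n (op V) =>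
    ((u.1 ⟨y, hyV⟩ : GrTwist.twistAt ℬ n y) : GrTwist.Loc ℬ y)) hst
  have hst'' : GrTwist.locMap ψ hψ y ((s.1 ⟨ProjectiveSpectrum.comap ψ hψ y, hUV hyV⟩).1) =
      GrTwist.locMap ψ hψ y ((t.1 ⟨ProjectiveSpectrum.comap ψ hψ y, hUV hyV⟩).1) := hst'
  rw [e₁, e₂] at hst''
  refine e₁.trans (Eq.trans ?_ e₂.symm)
  exact H.eq_of_locMap_eq n y a₁ s₁ a₂ s₂ hs₁ hs₂ h₁ h₂ hst''

theorem IsTwistLoc.comapApp_surjective (H : IsTwistLoc ψ hψ) (n : ℤ)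
    (hinj : Function.Injective (ProjectiveSpectrum.comap ψ hψ))
    (hopen : IsOpenMap (ProjectiveSpectrum.comap ψ hψ))
    (U : Opens (ProjectiveSpectrum.top 𝒜)) (V : Opens (ProjectiveSpectrum.top ℬ))
    (hUV : V.1 ⊆ ProjectiveSpectrum.comap ψ hψ ⁻¹' U.1)
    (hVU : ∀ x ∈ U, ∃ y ∈ V, ProjectiveSpectrum.comap ψ hψ y = x) :
    Function.Surjective (GrTwist.comapApp ψ hψ n U V hUV) := by
  intro t'
  have hpt : ∀ x : U, ∃ (i j : ℕ) (a : 𝒜 i) (s : 𝒜 j) (hs : (s : A) ∉ x.1.asHomogeneousIdeal),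
      ((i : ℤ) = j + n ∨ (a : A) = 0) ∧
      ∀ (y : V) (_ : ProjectiveSpectrum.comap ψ hψ y.1 = x.1),
        ∃ hs₂ : (s : A) ∉ (ProjectiveSpectrum.comap ψ hψ y.1).asHomogeneousIdeal,
          GrTwist.locMap ψ hψ y.1 (Localization.mk (a : A) ⟨s, hs₂⟩) =
            ((t'.1 y : GrTwist.twistAt ℬ n y.1) : GrTwist.Loc ℬ y.1) := by
    rintro ⟨x, hx⟩
    obtain ⟨y, hyV, rfl⟩ := hVU x hx
    obtain ⟨i, j, a', s', hs', hij, hval⟩ := GrTwTens.sec_val_eq ℬ t' ⟨y, hyV⟩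
    obtain ⟨N', hyN', i₁, j₁, a, s, hij', spec⟩ := H.lift n a' s' hij y hs'
    obtain ⟨hs, e⟩ := spec y hyN' hs'
    refine ⟨i₁, j₁, a, s, hs, hij', ?_⟩
    rintro ⟨y₂, hy₂V⟩ hy₂
    obtain rfl : y₂ = y := hinj hy₂
    exact ⟨hs, e.trans hval.symm⟩
  choose i j a s hs hij spec using hpt
  have hlf : (GrTwist.isLocFracN 𝒜 n).pred (fun x : U =>
      (⟨Localization.mk (a x : A) ⟨s x, hs x⟩, mk_mem_twistAt n x.1 (a x) (s x) (hs x) (hij x)⟩ :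
        GrTwist.twistAt 𝒜 n x.1)) := by
    rintro ⟨x₀, hx₀⟩
    obtain ⟨y₀, hy₀V, rfl⟩ := hVU x₀ hx₀
    obtain ⟨N', hy₀N', iN', i', j', a', s', hs', hij', hval⟩ := t'.2 ⟨y₀, hy₀V⟩
    obtain ⟨N'', hy₀N'', i₁, j₁, a₁, s₁, hij₁, spec₁⟩ :=
      H.lift n a' s' hij' y₀ (hs' ⟨y₀, hy₀N'⟩)
    let N : Opens (ProjectiveSpectrum.top 𝒜) :=
      ⟨ProjectiveSpectrum.comap ψ hψ '' (N'.1 ∩ N''.1), hopen _ (N'.2.inter N''.2)⟩ ⊓ U
    have hs₁ : ∀ x : N, (s₁ : A) ∉ x.1.asHomogeneousIdeal := by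
      rintro ⟨x, ⟨z, ⟨hz, hz''⟩, rfl⟩, hxU⟩
      exact (spec₁ z hz'' (hs' ⟨z, hz⟩)).1
    refine ⟨N, ⟨⟨y₀, ⟨hy₀N', hy₀N''⟩, rfl⟩, hx₀⟩, homOfLE inf_le_right, i₁, j₁, a₁, s₁, hs₁,
      hij₁, ?_⟩
    rintro ⟨x, ⟨z, ⟨hz, hz''⟩, rfl⟩, hxU⟩
    obtain ⟨hs₂, e₂⟩ := spec ⟨_, hxU⟩ ⟨z, iN'.le hz⟩ rfl
    obtain ⟨hs₃, e₃⟩ := spec₁ z hz'' (hs' ⟨z, hz⟩)
    exact H.eq_of_locMap_eq n z (a ⟨_, hxU⟩) (s ⟨_, hxU⟩) a₁ s₁ hs₂ hs₃ (hij ⟨_, hxU⟩) hij₁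
      (e₂.trans ((hval ⟨z, hz⟩).trans e₃.symm))
  refine ⟨(⟨fun x : U =>
      (⟨Localization.mk (a x : A) ⟨s x, hs x⟩, mk_mem_twistAt n x.1 (a x) (s x) (hs x) (hij x)⟩ :
        GrTwist.twistAt 𝒜 n x.1), hlf⟩ : GrTwist.sectN (𝒜 := 𝒜) n (op U)), ?_⟩
  apply Subtype.ext
  funext y
  apply Subtype.ext
  obtain ⟨hs₂, e₂⟩ := spec ⟨_, hUV y.2⟩ y rfl
  exact e₂

theorem IsTwistLoc.comapApp_bijective (H : IsTwistLoc ψ hψ) (n : ℤ)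
    (hinj : Function.Injective (ProjectiveSpectrum.comap ψ hψ))
    (hopen : IsOpenMap (ProjectiveSpectrum.comap ψ hψ))
    (U : Opens (ProjectiveSpectrum.top 𝒜)) (V : Opens (ProjectiveSpectrum.top ℬ))
    (hUV : V.1 ⊆ ProjectiveSpectrum.comap ψ hψ ⁻¹' U.1)
    (hVU : ∀ x ∈ U, ∃ y ∈ V, ProjectiveSpectrum.comap ψ hψ y = x) :
    Function.Bijective (GrTwist.comapApp ψ hψ n U V hUV) :=
  ⟨H.comapApp_injective n U V hUV hVU, H.comapApp_surjective n hinj hopen U V hUV hVU⟩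

/-! ### graded homomorphisms bijective in high degrees -/

section HighDeg
variable (hψ) (d₀ : ℕ) (hbij : ∀ d : ℕ, d₀ ≤ d → Set.BijOn ψ (𝒜 d) (ℬ d))

theorem exists_comp_notMem (y : ProjectiveSpectrum ℬ) (t : B) (ht : t ∉ y.asHomogeneousIdeal) :
    ∃ k : ℕ, (DirectSum.decompose ℬ t k : B) ∉ y.asHomogeneousIdeal := by
  classical
  by_contra hcon
  push Not at hcon
  apply ht
  show t ∈ y.asHomogeneousIdeal
  rw [← DirectSum.sum_support_decompose ℬ t]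
  exact Ideal.sum_mem _ fun i _ => hcon i

include hbij in
theorem highDeg_ker (y : ProjectiveSpectrum ℬ) {i j : ℕ} (a : 𝒜 i) (s : 𝒜 j)
    (hs : (s : A) ∉ (ProjectiveSpectrum.comap ψ hψ y).asHomogeneousIdeal)
    (h0 : GrTwist.locMap ψ hψ y (Localization.mk (a : A) ⟨s, hs⟩) = 0) :
    (Localization.mk (a : A) ⟨s, hs⟩ : GrTwist.Loc 𝒜 (ProjectiveSpectrum.comap ψ hψ y)) = 0 := by
  classical
  rw [GrTwist.locMap_mk, Localization.mk_eq_mk', IsLocalization.mk'_eq_zero_iff] at h0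
  obtain ⟨⟨t, ht⟩, hta⟩ := h0
  change t * ψ (a : A) = 0 at hta
  obtain ⟨k, hk⟩ := exists_comp_notMem y t ht
  have hψa : ψ (a : A) ∈ ℬ i := ψ.map_mem a.2
  have htk : (DirectSum.decompose ℬ t k : B) * ψ (a : A) = 0 := by
    rw [← DirectSum.coe_decompose_mul_add_of_right_mem ℬ (i := k) hψa, hta]
    simp
  obtain ⟨e, he, f, hf, hfx⟩ :=
    ProjTop.exists_homogeneous_notMem 𝒜 (ProjectiveSpectrum.comap ψ hψ y)
  obtain ⟨D, hD⟩ : ∃ D : ℕ, D = d₀ • e := ⟨_, rfl⟩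
  have hdeg : d₀ ≤ D := by
    rw [hD]; simp only [smul_eq_mul]; nlinarith
  have hfp : ψ f ^ d₀ ∈ ℬ D := by
    rw [hD, ← map_pow]; exact ψ.map_mem (SetLike.pow_mem_graded d₀ hf)
  have hmem : (DirectSum.decompose ℬ t k : B) * ψ f ^ d₀ ∈ ℬ (k + D) :=
    SetLike.mul_mem_graded (SetLike.coe_mem _) hfp
  obtain ⟨u, hu, hψu⟩ := (hbij _ (le_trans hdeg (Nat.le_add_left _ _))).surjOn hmem
  have hux : u ∉ (ProjectiveSpectrum.comap ψ hψ y).asHomogeneousIdeal := by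
    intro hmem'
    have h1 : ψ u ∈ y.asHomogeneousIdeal := hmem'
    rw [hψu] at h1
    rcases y.isPrime.mem_or_mem h1 with h2 | h2
    · exact hk h2
    · exact hfx (y.isPrime.mem_of_pow_mem d₀ h2)
  have hua : u * (a : A) = 0 := by
    have hmem2 : u * (a : A) ∈ 𝒜 (k + D + i) := SetLike.mul_mem_graded hu a.2
    have hdeg2 : d₀ ≤ k + D + i :=
      le_trans hdeg (le_trans (Nat.le_add_left _ _) (Nat.le_add_right _ _))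
    have h0' : ψ (u * (a : A)) = ψ 0 := by
      rw [map_mul, hψu, map_zero, mul_right_comm, htk, zero_mul]
    exact (hbij _ hdeg2).injOn hmem2 (zero_mem _) h0'
  rw [Localization.mk_eq_mk', IsLocalization.mk'_eq_zero_iff]
  exact ⟨⟨u, hux⟩, hua⟩

include hbij in
theorem highDeg_lift (n : ℤ) {i j : ℕ} (a' : ℬ i) (s' : ℬ j)
    (hij : (i : ℤ) = j + n ∨ (a' : B) = 0)
    (y₀ : ProjectiveSpectrum ℬ) (hs₀ : (s' : B) ∉ y₀.asHomogeneousIdeal) :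
    ∃ (N' : Opens (ProjectiveSpectrum.top ℬ)) (_ : y₀ ∈ N') (i₁ j₁ : ℕ) (a : 𝒜 i₁) (s : 𝒜 j₁),
      ((i₁ : ℤ) = j₁ + n ∨ (a : A) = 0) ∧
      ∀ (y : ProjectiveSpectrum ℬ) (_ : y ∈ N') (hs' : (s' : B) ∉ y.asHomogeneousIdeal),
        ∃ hs : (s : A) ∉ (ProjectiveSpectrum.comap ψ hψ y).asHomogeneousIdeal,
          GrTwist.locMap ψ hψ y (Localization.mk (a : A) ⟨s, hs⟩) =
            Localization.mk (a' : B) ⟨s', hs'⟩ := by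
  obtain ⟨e, he, f, hf, hfx⟩ :=
    ProjTop.exists_homogeneous_notMem 𝒜 (ProjectiveSpectrum.comap ψ hψ y₀)
  obtain ⟨D, hD⟩ : ∃ D : ℕ, D = d₀ • e := ⟨_, rfl⟩
  have hdeg : d₀ ≤ D := by
    rw [hD]; simp only [smul_eq_mul]; nlinarith
  have hfp : ψ f ^ d₀ ∈ ℬ D := by
    rw [hD, ← map_pow]; exact ψ.map_mem (SetLike.pow_mem_graded d₀ hf)
  have hma : (a' : B) * ψ f ^ d₀ ∈ ℬ (i + D) := SetLike.mul_mem_graded a'.2 hfp
  have hms : (s' : B) * ψ f ^ d₀ ∈ ℬ (j + D) := SetLike.mul_mem_graded s'.2 hfp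
  obtain ⟨a, ha, hψa⟩ := (hbij _ (le_trans hdeg (Nat.le_add_left _ _))).surjOn hma
  obtain ⟨s, hs, hψs⟩ := (hbij _ (le_trans hdeg (Nat.le_add_left _ _))).surjOn hms
  refine ⟨ProjectiveSpectrum.basicOpen ℬ (ψ f), hfx, i + D, j + D, ⟨a, ha⟩, ⟨s, hs⟩, ?_, ?_⟩
  · rcases hij with hij | h0
    · left
      push_cast
      omega
    · right
      have h1 : ψ a = ψ 0 := by rw [hψa, h0, zero_mul, map_zero]
      exact (hbij _ (le_trans hdeg (Nat.le_add_left _ _))).injOn ha (zero_mem _) h1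
  · intro y hy hs'
    have hsy : ψ s ∉ y.asHomogeneousIdeal := by
      rw [hψs]
      intro hmem
      rcases y.isPrime.mem_or_mem hmem with h2 | h2
      · exact hs' h2
      · exact hy (y.isPrime.mem_of_pow_mem d₀ h2)
    refine ⟨hsy, ?_⟩
    rw [GrTwist.locMap_mk, Localization.mk_eq_mk_iff, Localization.r_iff_exists]
    refine ⟨1, ?_⟩
    change (1 : B) * ((s' : B) * ψ a) = 1 * (ψ s * (a' : B))
    rw [hψa, hψs]
    ring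

include hbij in
theorem isTwistLoc_of_bijOn : IsTwistLoc ψ hψ :=
  ⟨fun y _ _ a s hs h0 => highDeg_ker hψ d₀ hbij y a s hs h0,
    fun n _ _ a' s' hij y₀ hs₀ => highDeg_lift hψ d₀ hbij n a' s' hij y₀ hs₀⟩

end HighDeg

end Alg

section Main
variable {R A : Type u} [CommRing R] [CommRing A] [Algebra R A] (𝒜 : ℕ → Submodule R A)
  [GradedAlgebra 𝒜] {B : Type u} [CommRing B] [Algebra R B] (ℬ : ℕ → Submodule R B)
  [GradedAlgebra ℬ] (ψ : 𝒜 →+*ᵍ ℬ)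
  (d₀ : ℕ) (hbij : ∀ d : ℕ, d₀ ≤ d → Set.BijOn ψ (𝒜 d) (ℬ d))
  (hψ : HomogeneousIdeal.irrelevant ℬ ≤ (HomogeneousIdeal.irrelevant 𝒜).map ψ)

include hbij in
theorem isIso_map : IsIso (Proj.map ψ hψ) := by
  have hr : ∀ (d : ℕ) (f : A) (hd : 0 < d) (hf : f ∈ 𝒜 d),
      PCone.chart ψ hf hd ≫ ((PCone.dom ψ).ι ≫ Proj.map ψ hψ) =
        Spec.map (CommRingCat.ofHom (HomogeneousLocalization.Away.map ψ f)) ≫
          Proj.awayι 𝒜 f hf hd := by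
    intro d f hd hf
    have hc : PCone.chart ψ hf hd ≫ (PCone.dom ψ).ι = Proj.awayι ℬ (ψ f) (ψ.2 hf) hd :=
      IsOpenImmersion.lift_fac _ _ _
    rw [← Category.assoc, hc, Proj.awayι_comp_map ψ hψ hd f hf]
  haveI h1 : IsIso ((PCone.dom ψ).ι ≫ Proj.map ψ hψ) :=
    ProjHighDeg.isIso_of_bijOn 𝒜 ℬ ψ d₀ hbij _ hr
  have htop : PCone.dom ψ = ⊤ := ProjHighDeg.dom_eq_top 𝒜 ℬ ψ d₀ hbij
  haveI : IsIso (PCone.dom ψ).ι := by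
    rw [htop]
    exact (inferInstance : IsIso (Scheme.topIso (Proj ℬ)).hom)
  exact IsIso.of_isIso_comp_left (PCone.dom ψ).ι _

include hbij in
/-- S9574 -/
theorem main (n : ℤ) :
    IsIso (((Scheme.Modules.pullbackPushforwardAdjunction (Proj.map ψ hψ)).homEquiv _ _).symm
      (GrTwist.comap ψ hψ n)) := by
  haveI hiso : IsIso (Proj.map ψ hψ) := isIso_map 𝒜 ℬ ψ d₀ hbij hψ
  have H : IsTwistLoc ψ hψ := isTwistLoc_of_bijOn hψ d₀ hbij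
  have hemb := (Proj.map ψ hψ).isOpenEmbedding
  apply ProjAway.isIso_adjunct_of_bijective
  intro V
  have hVU : ∀ x ∈ (Proj.map ψ hψ ''ᵁ V : (Proj 𝒜).Opens),
      ∃ y ∈ (Proj.map ψ hψ ⁻¹ᵁ (Proj.map ψ hψ ''ᵁ V) : (Proj ℬ).Opens),
        ProjectiveSpectrum.comap ψ hψ y = x := by
    rintro x ⟨y, hyV, rfl⟩
    exact ⟨y, ⟨y, hyV, rfl⟩, rfl⟩
  have hb := H.comapApp_bijective n hemb.injective hemb.isOpenMap
    (Proj.map ψ hψ ''ᵁ V) (Proj.map ψ hψ ⁻¹ᵁ (Proj.map ψ hψ ''ᵁ V)) Set.Subset.rfl hVU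
  have heq : ∀ τ : Γ(GrTwist.twist 𝒜 n, Proj.map ψ hψ ''ᵁ V),
      (show Γ(GrTwist.twist ℬ n, Proj.map ψ hψ ⁻¹ᵁ (Proj.map ψ hψ ''ᵁ V)) from
        (GrTwist.comap ψ hψ n).app (Proj.map ψ hψ ''ᵁ V) τ) =
      GrTwist.comapApp ψ hψ n (Proj.map ψ hψ ''ᵁ V)
        (Proj.map ψ hψ ⁻¹ᵁ (Proj.map ψ hψ ''ᵁ V)) Set.Subset.rfl τ := by
    intro τ
    apply RP6.val_ext
    rintro ⟨y, hy⟩
    rfl
  constructor
  · intro τ τ' e
    exact hb.1 ((heq τ).symm.trans (e.trans (heq τ')))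
  · intro σ'
    obtain ⟨τ, hτ⟩ := hb.2 σ'
    exact ⟨τ, (heq τ).trans hτ⟩

end Main

end Groth.Agent.Helper1.ProjHiTw
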