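import Mathlib

set_option autoImplicit false
universe u
namespace Groth.Agent.Helper1.ProjQC

open AlgebraicGeometry TopologicalSpace

theorem S1615 {R A : Type u} [CommRing R] [CommRing A] [Algebra R A] (𝒜 : ℕ → Submodule R A)
    [GradedAlgebra 𝒜] :
    CompactSpace ↥(Proj 𝒜) ↔ ∃ s : Finset A, (∀ f ∈ s, ∃ d : ℕ, 0 < d ∧ f ∈ 𝒜 d) ∧
      (HomogeneousIdeal.irrelevant 𝒜).toIdeal ≤ (Ideal.span (s : Set A)).radical := by
  classical
  constructor
  · intro hc
    -- cover by all D₊(f), f homogeneous of positive degree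
    let ι := {f : A // ∃ d : ℕ, 0 < d ∧ f ∈ 𝒜 d}
    have hcov : ⨆ i : ι, Proj.basicOpen 𝒜 (i : A) = ⊤ := by
      apply Proj.iSup_basicOpen_eq_top
      rw [HomogeneousIdeal.irrelevant_eq_span]
      refine Ideal.span_mono ?_
      intro x hx
      simp only [Set.mem_iUnion] at hx
      obtain ⟨d, hd, hx⟩ := hx
      exact ⟨⟨x, d, hd, hx⟩, rfl⟩
    have hsub : (Set.univ : Set (Proj 𝒜)) ⊆ ⋃ i : ι, (Proj.basicOpen 𝒜 (i : A) : Set (Proj 𝒜)) := by
      intro x _
      have : x ∈ (⨆ i : ι, Proj.basicOpen 𝒜 (i : A)) := by rw [hcov]; trivial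
      rw [Opens.mem_iSup] at this
      obtain ⟨i, hi⟩ := this
      exact Set.mem_iUnion.2 ⟨i, hi⟩
    obtain ⟨t, ht⟩ := isCompact_univ.elim_finite_subcover
      (fun i : ι => (Proj.basicOpen 𝒜 (i : A) : Set (Proj 𝒜)))
      (fun i => (Proj.basicOpen 𝒜 (i : A)).2) hsub
    refine ⟨t.image Subtype.val, ?_, ?_⟩
    · intro f hf
      rw [Finset.mem_image] at hf
      obtain ⟨i, _, rfl⟩ := hf
      exact i.2
    · have hhom : (Ideal.span ((t.image Subtype.val : Finset A) : Set A)).IsHomogeneous 𝒜 := by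
        refine Ideal.homogeneous_span 𝒜 _ ?_
        intro x hx
        rw [Finset.mem_coe, Finset.mem_image] at hx
        obtain ⟨i, _, rfl⟩ := hx
        obtain ⟨d, _, hd⟩ := i.2
        exact ⟨d, hd⟩
      rw [hhom.radical_eq]
      refine le_sInf ?_
      rintro J ⟨hJhom, hJle, hJprime⟩
      by_contra hirr
      let x : ProjectiveSpectrum 𝒜 := ⟨⟨J, hJhom⟩, hJprime, hirr⟩
      have hx := ht (Set.mem_univ (x : Proj 𝒜))
      obtain ⟨i, hit, hxi⟩ := Set.mem_iUnion₂.1 hx
      have hxi' : (i : A) ∉ J := hxi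
      apply hxi'
      apply hJle
      apply Ideal.subset_span
      exact Finset.mem_coe.2 (Finset.mem_image_of_mem _ hit)
  · rintro ⟨s, hs, hle⟩
    have hcov : (Set.univ : Set (Proj 𝒜)) = ⋃ f ∈ s, (Proj.basicOpen 𝒜 f : Set (Proj 𝒜)) := by
      symm
      rw [Set.eq_univ_iff_forall]
      intro x
      by_contra hx
      simp only [Set.mem_iUnion, not_exists] at hx
      have hall : ∀ f ∈ s, f ∈ x.asHomogeneousIdeal.toIdeal := by
        intro f hf
        by_contra hfx
        exact hx f hf hfx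
      have h1 : Ideal.span (s : Set A) ≤ x.asHomogeneousIdeal.toIdeal :=
        Ideal.span_le.2 fun f hf => hall f hf
      have h2 : (Ideal.span (s : Set A)).radical ≤ x.asHomogeneousIdeal.toIdeal :=
        (Ideal.IsPrime.radical_le_iff x.isPrime).2 h1
      exact x.not_irrelevant_le (hle.trans h2)
    refine ⟨?_⟩
    rw [hcov]
    refine s.finite_toSet.isCompact_biUnion fun f hf => ?_
    obtain ⟨d, hd, hfd⟩ := hs f hf
    exact (Proj.isAffineOpen_basicOpen 𝒜 f hfd hd).isCompact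

end Groth.Agent.Helper1.ProjQC
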