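import Mathlib
import Groth.Agent.Lib.Helper1.AmpleQuot
import Groth.Agent.Lib.Helper1.TwistAmple
import Groth.Agent.Lib.Helper1.ProjNoeth
import Groth.Agent.Lib.Helper1.RP5

set_option autoImplicit false
universe u
open CategoryTheory CategoryTheory.Limits AlgebraicGeometry TopologicalSpace Opposite

namespace Groth.Agent.Helper1.ProjQuot

open Groth.Agent.Helper1.TwForm Groth.Agent.Helper1

variable {R A : Type u} [CommRing R] [CommRing A] [Algebra R A] (𝒜 : ℕ → Submodule R A)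
  [GradedAlgebra 𝒜]

set_option synthInstance.maxHeartbeats 400000

/-- `O(d)^{⊗ k} ≅ O(kd)` when every point has a non-vanishing element of degree `d` -/
theorem nonempty_tensorPow_iso {d : ℕ}
    (hunit : ∀ x : ProjectiveSpectrum 𝒜, ∃ g ∈ 𝒜 d, g ∉ x.asHomogeneousIdeal) (k : ℕ) :
    Nonempty (CohB1.tensorPow (Twist.twist 𝒜 (d : ℤ)) k ≅ Twist.twist 𝒜 ((k * d : ℕ) : ℤ)) := by
  induction k with
  | zero =>
    obtain ⟨e⟩ := TwistTens.nonempty_twist_zero_iso 𝒜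
    refine ⟨?_⟩
    have h0 : ((0 * d : ℕ) : ℤ) = 0 := by simp
    rw [h0]
    exact e.symm
  | succ k ih =>
    obtain ⟨e⟩ := ih
    have hk : (((k + 1) * d : ℕ) : ℤ) = ((k * d : ℕ) : ℤ) + (d : ℤ) := by push_cast; ring
    obtain ⟨e'⟩ := TwistTens.nonempty_tensor_twist_iso 𝒜 hk (by
      intro x
      obtain ⟨g, hg, hgx⟩ := hunit x
      refine ⟨k • d, 0, g ^ k, 1, SetLike.pow_mem_graded k hg, SetLike.GradedOne.one_mem,
        by simp, fun h => hgx (x.isPrime.mem_of_pow_mem _ h), TwistTens.one_not_mem 𝒜 x⟩)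
    exact ⟨TwistTens.tensorModCongrLeft e _ ≪≫ e'⟩

/-- **S0846** -/
theorem main [IsNoetherianRing A] (F : (Proj 𝒜).Modules) (hF : Coh.IsCoh F) :
    ∃ (r : ℕ) (d : Fin r → ℤ) (φ : (∐ fun j : Fin r => Twist.twist 𝒜 (d j)) ⟶ F), Epi φ := by
  have := ProjNoeth.finiteType_of_isNoetherianRing 𝒜
  obtain ⟨d, hd, hper⟩ := RP5.exists_period_of_finiteType 𝒜
  have : CompactSpace (Proj 𝒜) := RP5.compactSpace_of_finiteType 𝒜
  have hunit : ∀ x : ProjectiveSpectrum 𝒜, ∃ g ∈ 𝒜 d, g ∉ x.asHomogeneousIdeal :=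
    fun x => hper d dvd_rfl x
  have hL : CohB1.IsAmple (Twist.twist 𝒜 (d : ℤ)) := TwistAmple.isAmple_twist 𝒜 hd (fun x => by
    obtain ⟨g, hg, hgx⟩ := hunit x
    exact ⟨⟨g, hg⟩, hgx⟩)
  obtain ⟨n₀, hn₀⟩ := AmpleLib.eventually_globallyGenerated hL F hF
  have hloc := locFrame_of_isInvertible hL.1 hL.1
  obtain ⟨e1⟩ := nonempty_tensorPow_iso 𝒜 hunit n₀
  have hk : (0 : ℤ) = -((n₀ * d : ℕ) : ℤ) + ((n₀ * d : ℕ) : ℤ) := by ring
  obtain ⟨e2⟩ := TwistTens.nonempty_tensor_twist_iso 𝒜 hk (by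
    intro x
    obtain ⟨g, hg, hgx⟩ := hunit x
    refine ⟨0, n₀ • d, 1, g ^ n₀, SetLike.GradedOne.one_mem, SetLike.pow_mem_graded n₀ hg,
      by simp, TwistTens.one_not_mem 𝒜 x, fun h => hgx (x.isPrime.mem_of_pow_mem _ h)⟩)
  obtain ⟨e3⟩ := TwistTens.nonempty_twist_zero_iso 𝒜
  let L := Twist.twist 𝒜 (d : ℤ)
  let K := Twist.twist 𝒜 (-((n₀ * d : ℕ) : ℤ))
  let e : CohB1.tensorMod K (CohB1.tensorPow L n₀) ≅ Coh.structureModule (Proj 𝒜) :=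
    TwistTens.tensorModCongrRight K e1 ≪≫ e2 ≪≫ e3
  let T := (Tw.self L L F).tensorR ((Tw.fst L L).pow n₀)
  let S := ((Tw.self L L K).tensorR ((Tw.fst L L).pow n₀)).ofIso e
  obtain ⟨r, ψ, hψ⟩ := AmpleQuot.exists_epi hloc T S hF (hn₀ n₀ le_rfl)
  exact ⟨r, fun _ => -((n₀ * d : ℕ) : ℤ), ψ, hψ⟩

end Groth.Agent.Helper1.ProjQuot
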