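import Mathlib
import Groth.Agent.Lib.Helper1.ProjTop
import Groth.Agent.Lib.Helper1.GrAlg

/-!
# More topological facts on `Proj` (helper1 library)
-/

open AlgebraicGeometry CategoryTheory HomogeneousLocalization
open scoped HomogeneousIdeal

universe u

namespace Groth.Agent.Helper1.ProjTop

section Empty
variable {R A : Type u} [CommRing R] [CommRing A] [Algebra R A] (𝒜 : ℕ → Submodule R A)
  [GradedAlgebra 𝒜]

theorem isEmpty_iff (hfg : (𝒜)₊.toIdeal.FG) :
    IsEmpty (Proj 𝒜) ↔ ∃ n : ℕ, ∀ k : ℕ, n ≤ k → 𝒜 k = ⊥ := by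
  constructor
  · intro hE
    have hnil : (𝒜)₊.toIdeal ≤ (⊥ : Ideal A).radical := by
      intro f hf
      by_contra hcon
      have hn : ¬ IsNilpotent f := fun h => hcon (by
        show f ∈ nilradical A
        rw [mem_nilradical]; exact h)
      obtain ⟨x, -⟩ := exists_notMem_of_not_isNilpotent 𝒜 hf hn
      exact hE.false x
    obtain ⟨N, hN⟩ := Ideal.exists_pow_le_of_le_radical_of_fg hnil hfg
    have hft : Algebra.FiniteType (𝒜 0) A := (GrAlg.S4390 𝒜).1 hfg
    obtain ⟨m₀, hm₀⟩ := GrAlg.exists_le_irrelevant_pow 𝒜 N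
    refine ⟨m₀, fun k hk => ?_⟩
    rw [eq_bot_iff]
    intro x hx
    have := hN (hm₀ k hk x hx)
    exact this
  · rintro ⟨n, hn⟩
    refine ⟨fun x => ?_⟩
    obtain ⟨i, hi, f, hfi, hfx⟩ := exists_homogeneous_notMem 𝒜 x
    have hfn : f ^ (n + 1) ∈ 𝒜 ((n + 1) • i) := SetLike.pow_mem_graded (n + 1) hfi
    have hle : n ≤ (n + 1) • i := by
      rw [smul_eq_mul]
      nlinarith
    rw [hn _ hle] at hfn
    have h0 : f ^ (n + 1) = 0 := by simpa using hfn
    apply hfx
    exact x.isPrime.mem_of_pow_mem (n + 1) (by rw [h0]; exact Ideal.zero_mem _)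

end Empty

section Irr
variable {A σ : Type u} [CommRing A] [SetLike σ A] [AddSubgroupClass σ A] (𝒜 : ℕ → σ)
  [GradedRing 𝒜]

theorem isIrreducible_iff (Z : Set (ProjectiveSpectrum 𝒜)) (hZ : IsClosed Z) :
    IsIrreducible Z ↔
      (¬ (𝒜)₊.toIdeal ≤ (ProjectiveSpectrum.vanishingIdeal Z).toIdeal ∧
        ∀ f ∈ (𝒜)₊.toIdeal, ∀ g ∈ (𝒜)₊.toIdeal,
          f * g ∈ (ProjectiveSpectrum.vanishingIdeal Z).toIdeal →
            f ∈ (ProjectiveSpectrum.vanishingIdeal Z).toIdeal ∨
              g ∈ (ProjectiveSpectrum.vanishingIdeal Z).toIdeal) := by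
  have hmem : ∀ (t : Set (ProjectiveSpectrum 𝒜)) (f : A),
      f ∈ (ProjectiveSpectrum.vanishingIdeal t).toIdeal ↔ ∀ x ∈ t, f ∈ x.asHomogeneousIdeal :=
    fun t f => ProjectiveSpectrum.mem_vanishingIdeal t f
  constructor
  · rintro ⟨⟨x, hxZ⟩, hpre⟩
    constructor
    · intro hle
      apply x.not_irrelevant_le
      intro f hf
      exact (hmem Z f).mp (hle hf) x hxZ
    · intro f _ g _ hfg
      rw [isPreirreducible_iff_isClosed_union_isClosed] at hpre
      have hsub : Z ⊆ ProjectiveSpectrum.zeroLocus 𝒜 {f} ∪ ProjectiveSpectrum.zeroLocus 𝒜 {g} := by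
        intro y hy
        have h1 : f * g ∈ y.asHomogeneousIdeal.toIdeal := (hmem Z _).mp hfg y hy
        rcases y.isPrime.mem_or_mem h1 with h2 | h2
        · left
          rw [ProjectiveSpectrum.mem_zeroLocus]
          exact Set.singleton_subset_iff.mpr h2
        · right
          rw [ProjectiveSpectrum.mem_zeroLocus]
          exact Set.singleton_subset_iff.mpr h2
      rcases hpre _ _ (ProjectiveSpectrum.isClosed_zeroLocus 𝒜 _)
        (ProjectiveSpectrum.isClosed_zeroLocus 𝒜 _) hsub with h | h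
      · left
        rw [hmem]
        intro y hy
        have := h hy
        rw [ProjectiveSpectrum.mem_zeroLocus] at this
        exact Set.singleton_subset_iff.mp this
      · right
        rw [hmem]
        intro y hy
        have := h hy
        rw [ProjectiveSpectrum.mem_zeroLocus] at this
        exact Set.singleton_subset_iff.mp this
  · rintro ⟨hne, hprime⟩
    constructor
    · by_contra hempty
      rw [Set.not_nonempty_iff_eq_empty] at hempty
      apply hne
      intro f _
      rw [hmem, hempty]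
      intro x hx
      exact absurd hx (Set.notMem_empty x)
    · rw [isPreirreducible_iff_isClosed_union_isClosed]
      intro Z₁ Z₂ hZ₁ hZ₂ hsub
      by_contra hcon
      push Not at hcon
      obtain ⟨h1, h2⟩ := hcon
      obtain ⟨x, hxZ, hx1⟩ := Set.not_subset.mp h1
      obtain ⟨y, hyZ, hy2⟩ := Set.not_subset.mp h2
      have hc1 : ProjectiveSpectrum.zeroLocus 𝒜
          ((ProjectiveSpectrum.vanishingIdeal Z₁ : HomogeneousIdeal 𝒜) : Set A) = Z₁ := by
        rw [ProjectiveSpectrum.zeroLocus_vanishingIdeal_eq_closure, hZ₁.closure_eq]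
      have hc2 : ProjectiveSpectrum.zeroLocus 𝒜
          ((ProjectiveSpectrum.vanishingIdeal Z₂ : HomogeneousIdeal 𝒜) : Set A) = Z₂ := by
        rw [ProjectiveSpectrum.zeroLocus_vanishingIdeal_eq_closure, hZ₂.closure_eq]
      have hx1' : ∃ a ∈ (ProjectiveSpectrum.vanishingIdeal Z₁).toIdeal,
          a ∉ x.asHomogeneousIdeal := by
        by_contra hc
        push Not at hc
        apply hx1
        rw [← hc1, ProjectiveSpectrum.mem_zeroLocus]
        exact fun a ha => hc a ha
      have hy2' : ∃ b ∈ (ProjectiveSpectrum.vanishingIdeal Z₂).toIdeal,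
          b ∉ y.asHomogeneousIdeal := by
        by_contra hc
        push Not at hc
        apply hy2
        rw [← hc2, ProjectiveSpectrum.mem_zeroLocus]
        exact fun a ha => hc a ha
      obtain ⟨a, ha1, hax⟩ := hx1'
      obtain ⟨b, hb2, hby⟩ := hy2'
      obtain ⟨i, hi, f, hfi, hfx⟩ := exists_homogeneous_notMem 𝒜 x
      obtain ⟨j, hj, g, hgj, hgy⟩ := exists_homogeneous_notMem 𝒜 y
      have hf : f ∈ (𝒜)₊.toIdeal := HomogeneousIdeal.mem_irrelevant_of_mem 𝒜 hi hfi
      have hg : g ∈ (𝒜)₊.toIdeal := HomogeneousIdeal.mem_irrelevant_of_mem 𝒜 hj hgj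
      have haf : a * f ∈ (𝒜)₊.toIdeal := Ideal.mul_mem_left _ _ hf
      have hbg : b * g ∈ (𝒜)₊.toIdeal := Ideal.mul_mem_left _ _ hg
      have hafx : a * f ∉ x.asHomogeneousIdeal := by
        intro h
        rcases x.isPrime.mem_or_mem h with h3 | h3
        · exact hax h3
        · exact hfx h3
      have hbgy : b * g ∉ y.asHomogeneousIdeal := by
        intro h
        rcases y.isPrime.mem_or_mem h with h3 | h3
        · exact hby h3
        · exact hgy h3
      have hprod : (a * f) * (b * g) ∈ (ProjectiveSpectrum.vanishingIdeal Z).toIdeal := by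
        rw [hmem]
        intro w hw
        rcases hsub hw with hw1 | hw2
        · have : a ∈ w.asHomogeneousIdeal.toIdeal := (hmem Z₁ a).mp ha1 w hw1
          have h4 : a * (f * (b * g)) ∈ w.asHomogeneousIdeal.toIdeal :=
            Ideal.mul_mem_right _ _ this
          rwa [← mul_assoc] at h4
        · have : b ∈ w.asHomogeneousIdeal.toIdeal := (hmem Z₂ b).mp hb2 w hw2
          have h4 : b * (g * (a * f)) ∈ w.asHomogeneousIdeal.toIdeal :=
            Ideal.mul_mem_right _ _ this
          have e : (a * f) * (b * g) = b * (g * (a * f)) := by ring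
          rwa [e]
      rcases hprime _ haf _ hbg hprod with h5 | h5
      · exact hafx ((hmem Z _).mp h5 x hxZ)
      · exact hbgy ((hmem Z _).mp h5 y hyZ)

end Irr

end Groth.Agent.Helper1.ProjTop
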