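import Mathlib
import Groth.Agent.Lib.Helper1.ProjUP8

set_option autoImplicit false
universe u

open CategoryTheory AlgebraicGeometry TopologicalSpace Opposite HomogeneousLocalization

namespace Groth.Agent.Helper1.ProjUP11

open Groth.Agent.Helper1.QcCech Groth.Agent.Helper1.SubSh Groth.Agent.Helper1.LGen
open Groth.Agent.Helper1 Groth.Agent.Helper1.AmpleLib
open Groth.Agent.Helper1.ProjUP5 Groth.Agent.Helper1.PullSec Groth.Agent.Helper1.PullGen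
open Groth.Agent.Helper1.ProjUP7

set_option synthInstance.maxHeartbeats 400000

section Uniq
variable {X : Scheme.{u}}
variable {A S : Type u} [CommRing A] [CommRing S] [Algebra A S] (𝒮 : ℕ → Submodule A S)
  [GradedAlgebra 𝒮] {K : Type*} (t : K → S) (ht : ∀ k, t k ∈ 𝒮 1)
  (hcov : ∀ x : Proj 𝒮, ∃ k, x ∈ D 𝒮 t k)

include hcov in
/-- a morphism to `Proj` is determined by the preimages of the coordinate charts and the
ratio functions -/
theorem hom_ext_of_ratios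
    (hext' : ∀ (k : K) {B : Type u} [CommRing B] (ρ ρ' : Away 𝒮 (t k) →+* B),
      (∀ a : 𝒮 0, ρ (fromZeroRingHom 𝒮 _ a) = ρ' (fromZeroRingHom 𝒮 _ a)) →
      (∀ l, ρ (Away.mk 𝒮 (ht k) 1 (t l) (h11 𝒮 t ht l)) =
        ρ' (Away.mk 𝒮 (ht k) 1 (t l) (h11 𝒮 t ht l))) → ρ = ρ')
    (r r' : X ⟶ Proj 𝒮)
    (hbase : ∀ a : 𝒮 0, r.appTop.hom (ProjGlobal.psi 𝒮 a) = r'.appTop.hom (ProjGlobal.psi 𝒮 a))
    (hA : ∀ k, r ⁻¹ᵁ D 𝒮 t k = r' ⁻¹ᵁ D 𝒮 t k)
    (hc : ∀ k l, (r.appLE (D 𝒮 t k) (r ⁻¹ᵁ D 𝒮 t k) le_rfl).hom (c 𝒮 t ht k l) =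
        (r'.appLE (D 𝒮 t k) (r ⁻¹ᵁ D 𝒮 t k) (hA k).le).hom (c 𝒮 t ht k l)) : r = r' := by
  apply Scheme.hom_ext_of_forall
  intro x
  obtain ⟨k, hk⟩ := hcov (r x)
  set V : X.Opens := r ⁻¹ᵁ D 𝒮 t k with hV
  have hVV' : V ≤ r' ⁻¹ᵁ D 𝒮 t k := (hA k).le
  refine ⟨V, hk, ?_⟩
  let ρ : Away 𝒮 (t k) →+* Γ(X, V) :=
    (r.appLE (D 𝒮 t k) V le_rfl).hom.comp (Proj.awayToSection 𝒮 (t k)).hom
  let ρ' : Away 𝒮 (t k) →+* Γ(X, V) :=
    (r'.appLE (D 𝒮 t k) V hVV').hom.comp (Proj.awayToSection 𝒮 (t k)).hom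
  have hρ : ρ = ρ' := by
    apply hext' k
    · intro a
      change (r.appLE (D 𝒮 t k) V le_rfl).hom ((Proj.awayToSection 𝒮 (t k)).hom _) =
        (r'.appLE (D 𝒮 t k) V hVV').hom ((Proj.awayToSection 𝒮 (t k)).hom _)
      rw [← ProjGlobal.psi_res 𝒮 (t k) (ht k) one_pos a]
      have e1 : ∀ (f : X ⟶ Proj 𝒮) (e : V ≤ f ⁻¹ᵁ D 𝒮 t k) (z : Γ(Proj 𝒮, ⊤)),
          (f.appLE (D 𝒮 t k) V e).hom
            (((Proj 𝒮).presheaf.map (homOfLE (le_top : D 𝒮 t k ≤ ⊤)).op).hom z) =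
          (X.presheaf.map (homOfLE (le_top : V ≤ ⊤)).op).hom (f.appTop.hom z) := by
        intro f e z
        have := Scheme.Hom.map_appLE f e (homOfLE (le_top : D 𝒮 t k ≤ ⊤)).op
        exact congrArg (fun φ => φ.hom z) this
      rw [e1, e1, hbase a]
    · intro l
      exact hc k l
  have hC : r.appLE (D 𝒮 t k) V le_rfl = r'.appLE (D 𝒮 t k) V hVV' := by
    have : IsIso (Proj.awayToSection 𝒮 (t k)) :=
      (Proj.basicOpenIsoAway 𝒮 (t k) (ht k) one_pos).isIso_hom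
    rw [← cancel_epi (Proj.awayToSection 𝒮 (t k))]
    ext z
    exact congrArg (fun φ => φ z) hρ
  have hD : r.resLE (D 𝒮 t k) V le_rfl = r'.resLE (D 𝒮 t k) V hVV' := by
    have haff : IsAffineOpen (D 𝒮 t k) := Proj.isAffineOpen_basicOpen 𝒮 (t k) (ht k) one_pos
    have : IsIso (D 𝒮 t k).toSpecΓ := by
      rw [← haff.isoSpec_hom]
      infer_instance
    rw [← cancel_mono (D 𝒮 t k).toSpecΓ, ← Scheme.Opens.toSpecΓ_SpecMap_appLE,
      ← Scheme.Opens.toSpecΓ_SpecMap_appLE, hC]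
  rw [← Scheme.Hom.resLE_comp_ι r (le_rfl : V ≤ r ⁻¹ᵁ D 𝒮 t k),
    ← Scheme.Hom.resLE_comp_ι r' hVV', hD]

end Uniq

section PS
variable {X : Scheme.{u}} (n : ℕ) (R : Type u) [CommRing R]

/-- the version for projective space -/
theorem hom_ext_projSpace (r r' : X ⟶ CohB1.ProjSpace n R)
    (hrr' : r ≫ CohB1.ProjSpace.toSpec n R = r' ≫ CohB1.ProjSpace.toSpec n R)
    (hA : ∀ k, r ⁻¹ᵁ D (CohB1.polyGrading n R) (ProjUP8.tX n R) k =
      r' ⁻¹ᵁ D (CohB1.polyGrading n R) (ProjUP8.tX n R) k)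
    (hc : ∀ k l, (r.appLE (D (CohB1.polyGrading n R) (ProjUP8.tX n R) k)
          (r ⁻¹ᵁ D (CohB1.polyGrading n R) (ProjUP8.tX n R) k) le_rfl).hom
          (c (CohB1.polyGrading n R) (ProjUP8.tX n R) (ProjUP8.htX n R) k l) =
        (r'.appLE (D (CohB1.polyGrading n R) (ProjUP8.tX n R) k)
          (r ⁻¹ᵁ D (CohB1.polyGrading n R) (ProjUP8.tX n R) k) (hA k).le).hom
          (c (CohB1.polyGrading n R) (ProjUP8.tX n R) (ProjUP8.htX n R) k l)) : r = r' := by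
  have hbase : r ≫ Proj.toSpecZero (CohB1.polyGrading n R) =
      r' ≫ Proj.toSpecZero (CohB1.polyGrading n R) := by
    have hiso : IsIso (CommRingCat.ofHom (algebraMap R (CohB1.polyGrading n R 0))) := by
      rw [ConcreteCategory.isIso_iff_bijective]
      exact Groth.Agent.Helper1.ProjSpaceLib.algebraMap_bijective n R
    have : Mono (Spec.map (CommRingCat.ofHom (algebraMap R (CohB1.polyGrading n R 0)))) :=
      inferInstance
    rw [← cancel_mono (Spec.map (CommRingCat.ofHom (algebraMap R (CohB1.polyGrading n R 0))))]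
    rw [Category.assoc, Category.assoc]
    exact hrr'
  apply hom_ext_of_ratios (CohB1.polyGrading n R) (ProjUP8.tX n R) (ProjUP8.htX n R)
    (ProjUP8.hcov n R) (fun k _ _ ρ ρ' h0 h1 => ProjUP8.hext n R k ρ ρ' h0 h1) r r' _ hA hc
  intro a
  have e2 : ∀ f : X ⟶ Proj (CohB1.polyGrading n R),
      f.appTop.hom (ProjGlobal.psi (CohB1.polyGrading n R) a) =
      (f ≫ Proj.toSpecZero (CohB1.polyGrading n R)).appTop.hom
        ((Scheme.ΓSpecIso (CommRingCat.of (CohB1.polyGrading n R 0))).inv.hom a) := by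
    intro f
    rfl
  rw [e2, e2]
  exact congrArg (fun f : X ⟶ Spec (CommRingCat.of (CohB1.polyGrading n R 0)) => f.appTop.hom
    ((Scheme.ΓSpecIso (CommRingCat.of (CohB1.polyGrading n R 0))).inv.hom a)) hbase

end PS

end Groth.Agent.Helper1.ProjUP11
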