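import Mathlib
import Groth.Prelude.Def_ProjUP
import Groth.Agent.Lib.Helper1.ProjUP7
import Groth.Agent.Lib.Helper1.ProjUP3

set_option autoImplicit false
universe u

open CategoryTheory AlgebraicGeometry TopologicalSpace Opposite HomogeneousLocalization

namespace Groth.Agent.Helper1.ProjUP9

open Groth.Agent.Helper1.ProjUP7 Groth.Agent.Helper1.ProjUP3

variable {A S : Type u} [CommRing A] [CommRing S] [Algebra A S] (𝒮 : ℕ → Submodule A S)
  [GradedAlgebra 𝒮] {M : Type u} [AddCommGroup M] [Module A M] {ι : M →ₗ[A] S}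
  (hι : ∀ m : M, ι m ∈ 𝒮 1) (hsym : IsSymmetricAlgebra ι)

include hsym in
theorem adjoin_range_ι : Algebra.adjoin A (Set.range ι) = ⊤ := by
  rw [eq_top_iff]
  intro s hs
  clear hs
  induction s using hsym.induction with
  | algebraMap r => exact Subalgebra.algebraMap_mem _ r
  | ι x => exact Algebra.subset_adjoin ⟨x, rfl⟩
  | mul a b ha hb => exact Subalgebra.mul_mem _ ha hb
  | add a b ha hb => exact Subalgebra.add_mem _ ha hb

include hι hsym in
theorem hcovSym (x : Proj 𝒮) : ∃ m, x ∈ Proj.basicOpen 𝒮 (ι m) := by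
  obtain ⟨m, hm⟩ := TwistTens.exists_gen_not_mem 𝒮 (fun m => ι m) (fun m => ⟨1, hι m⟩)
    (adjoin_range_ι hsym) x
  exact ⟨m, (Proj.mem_basicOpen 𝒮 (ι m) x).2 hm⟩

include hι hsym in
/-- the degree zero part of a symmetric algebra consists of the scalars -/
theorem exists_of_mem_zero (s : S) (hs : s ∈ 𝒮 0) : ∃ a : A, algebraMap A S a = s := by
  let ε : S →ₐ[A] A := hsym.lift (0 : M →ₗ[A] A)
  have h : GradedRing.projZeroRingHom 𝒮 = (algebraMap A S).comp ε.toRingHom := by
    apply ringHom_ext hsym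
    · intro a
      rw [GradedRing.projZeroRingHom_apply,
        DirectSum.decompose_of_mem_same 𝒮 (SetLike.algebraMap_mem_graded 𝒮 a)]
      change _ = algebraMap A S (ε (algebraMap A S a))
      rw [AlgHom.commutes]
      rfl
    · intro m
      rw [GradedRing.projZeroRingHom_apply,
        DirectSum.decompose_of_mem_ne 𝒮 (hι m) (by norm_num)]
      change _ = algebraMap A S (ε (ι m))
      rw [hsym.lift_eq, LinearMap.zero_apply, map_zero]
  refine ⟨ε s, ?_⟩
  have h1 : GradedRing.projZeroRingHom 𝒮 s = algebraMap A S (ε s) := by rw [h]; rfl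
  rw [GradedRing.projZeroRingHom_apply, DirectSum.decompose_of_mem_same 𝒮 hs] at h1
  exact h1.symm

section Ext

variable {B : Type u} [CommRing B] (m₀ : M)

theorem mem_smul_one {n : ℕ} {a : S} (ha : a ∈ 𝒮 n) : a ∈ 𝒮 (n • 1) := by simpa using ha

/-- the ring homomorphism `a ↦ ρ (a / t^{deg a})` -/
noncomputable def G (ρ : Away 𝒮 (ι m₀) →+* B) : S →+* B :=
  (DirectSum.toSemiring (fun n =>
    ({ toFun := fun a => ρ (Away.mk 𝒮 (hι m₀) n (a : S) (mem_smul_one 𝒮 a.2))
       map_zero' := by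
        have : Away.mk 𝒮 (hι m₀) n ((0 : 𝒮 n) : S) (mem_smul_one 𝒮 (0 : 𝒮 n).2) = 0 := by
          apply HomogeneousLocalization.val_injective
          rw [Away.val_mk, HomogeneousLocalization.val_zero]
          exact Localization.mk_zero _
        rw [this, map_zero]
       map_add' := fun a b => by
        have : Away.mk 𝒮 (hι m₀) n ((a + b : 𝒮 n) : S) (mem_smul_one 𝒮 (a + b).2) =
            Away.mk 𝒮 (hι m₀) n (a : S) (mem_smul_one 𝒮 a.2) +
              Away.mk 𝒮 (hι m₀) n (b : S) (mem_smul_one 𝒮 b.2) := by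
          apply HomogeneousLocalization.val_injective
          rw [HomogeneousLocalization.val_add, Away.val_mk, Away.val_mk, Away.val_mk,
            Localization.add_mk_self]
          rfl
        rw [this, map_add] } : 𝒮 n →+ B))
    (by
      change ρ (Away.mk 𝒮 (hι m₀) 0 (1 : S) _) = 1
      have : Away.mk 𝒮 (hι m₀) 0 (1 : S) (mem_smul_one 𝒮 (SetLike.GradedOne.one_mem)) = 1 := by
        apply HomogeneousLocalization.val_injective
        rw [Away.val_mk, HomogeneousLocalization.val_one]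
        simp only [pow_zero]
        exact Localization.mk_self 1
      rw [this, map_one])
    (by
      intro i j ai aj
      change ρ (Away.mk 𝒮 (hι m₀) (i + j) ((ai : S) * (aj : S)) _) =
        ρ (Away.mk 𝒮 (hι m₀) i (ai : S) _) * ρ (Away.mk 𝒮 (hι m₀) j (aj : S) _)
      rw [← map_mul]
      congr 1
      apply HomogeneousLocalization.val_injective
      rw [HomogeneousLocalization.val_mul, Away.val_mk, Away.val_mk, Away.val_mk,
        Localization.mk_mul]
      congr 1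
      apply Subtype.ext
      exact pow_add _ _ _)).comp (DirectSum.decomposeRingEquiv 𝒮).toRingHom

theorem G_of_mem (ρ : Away 𝒮 (ι m₀) →+* B) {n : ℕ} {a : S} (ha : a ∈ 𝒮 n) :
    G 𝒮 hι m₀ ρ a = ρ (Away.mk 𝒮 (hι m₀) n a (mem_smul_one 𝒮 ha)) := by
  unfold G
  rw [RingHom.comp_apply]
  change (DirectSum.toSemiring _ _ _) (DirectSum.decompose 𝒮 a) = _
  rw [DirectSum.decompose_of_mem 𝒮 ha, DirectSum.toSemiring_of]
  rfl

include hsym in
theorem hextSym (ρ ρ' : Away 𝒮 (ι m₀) →+* B)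
    (h0 : ∀ a : 𝒮 0, ρ (fromZeroRingHom 𝒮 _ a) = ρ' (fromZeroRingHom 𝒮 _ a))
    (h1 : ∀ m, ρ (Away.mk 𝒮 (hι m₀) 1 (ι m) (h11 𝒮 (fun m => ι m) hι m)) =
      ρ' (Away.mk 𝒮 (hι m₀) 1 (ι m) (h11 𝒮 (fun m => ι m) hι m))) : ρ = ρ' := by
  have hG : G 𝒮 hι m₀ ρ = G 𝒮 hι m₀ ρ' := by
    apply ringHom_ext hsym
    · intro a
      have ha : algebraMap A S a ∈ 𝒮 0 := SetLike.algebraMap_mem_graded 𝒮 a
      rw [G_of_mem 𝒮 hι m₀ ρ ha, G_of_mem 𝒮 hι m₀ ρ' ha]
      have : Away.mk 𝒮 (hι m₀) 0 (algebraMap A S a) (mem_smul_one 𝒮 ha) =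
          fromZeroRingHom 𝒮 _ ⟨algebraMap A S a, ha⟩ := by
        apply HomogeneousLocalization.val_injective
        rw [Away.val_mk]
        simp only [pow_zero]
        rfl
      rw [this, h0]
    · intro m
      rw [G_of_mem 𝒮 hι m₀ ρ (hι m), G_of_mem 𝒮 hι m₀ ρ' (hι m)]
      exact h1 m
  ext z
  obtain ⟨n, a, ha, rfl⟩ := Away.mk_surjective 𝒮 (hι m₀) z
  have ha' : a ∈ 𝒮 n := by simpa using ha
  have e1 := G_of_mem 𝒮 hι m₀ ρ ha'
  have e2 := G_of_mem 𝒮 hι m₀ ρ' ha'
  rw [hG] at e1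
  exact e1.symm.trans e2

end Ext

end Groth.Agent.Helper1.ProjUP9
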