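import Mathlib

set_option autoImplicit false
universe u

namespace Groth.Agent.Helper1.ProjVA3

theorem exists_le_sum_eq {ι : Type*} [Fintype ι] [DecidableEq ι] (c : ι → ℕ) (a : ℕ)
    (h : a ≤ ∑ i, c i) : ∃ c' : ι → ℕ, (∀ i, c' i ≤ c i) ∧ ∑ i, c' i = a := by
  induction a with
  | zero => exact ⟨fun _ => 0, fun _ => Nat.zero_le _, by simp⟩
  | succ a ih =>
    obtain ⟨c', hc', hs⟩ := ih (by omega)
    have : ∃ j, c' j < c j := by
      by_contra hcon
      push Not at hcon
      have h1 : ∑ i, c i ≤ ∑ i, c' i := Finset.sum_le_sum fun i _ => hcon i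
      omega
    obtain ⟨j, hj⟩ := this
    refine ⟨Function.update c' j (c' j + 1), ?_, ?_⟩
    · intro i
      by_cases hij : i = j
      · subst hij; simp; omega
      · rw [Function.update_of_ne hij]; exact hc' i
    · rw [Finset.sum_update_of_mem (Finset.mem_univ j)]
      have h2 : ∑ i, c' i = c' j + ∑ x ∈ Finset.univ \ {j}, c' x := by
        rw [← Finset.add_sum_erase _ _ (Finset.mem_univ j)]
        congr 2
        ext; simp
      omega

theorem split {s : ℕ} (dv : Fin s → ℕ) (hdv : ∀ i, 0 < dv i) (a : ℕ) (has : s - 1 ≤ a)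
    (e : Fin s → ℕ) (k : ℕ) (he : ∑ i, e i * dv i = (k + 2) * (a * Finset.univ.lcm dv)) :
    ∃ b : Fin s → ℕ, (∀ i, b i ≤ e i) ∧ ∑ i, b i * dv i = a * Finset.univ.lcm dv := by
  classical
  set q := Finset.univ.lcm dv with hq
  have hq0 : 0 < q := by
    apply Nat.pos_of_ne_zero
    rw [hq, Ne, Finset.lcm_eq_zero_iff]
    rintro ⟨i, -, hi⟩
    exact (hdv i).ne' hi
  have hdvd : ∀ i, dv i ∣ q := fun i => Finset.dvd_lcm (Finset.mem_univ i)
  let qi : Fin s → ℕ := fun i => q / dv i
  have hqi : ∀ i, qi i * dv i = q := fun i => Nat.div_mul_cancel (hdvd i)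
  have hqi0 : ∀ i, 0 < qi i := fun i => by
    rcases Nat.eq_zero_or_pos (qi i) with h | h
    · have := hqi i; rw [h] at this; omega
    · exact h
  let c : Fin s → ℕ := fun i => e i / qi i
  let r : Fin s → ℕ := fun i => e i % qi i
  have hecr : ∀ i, e i = qi i * c i + r i := fun i => (Nat.div_add_mod (e i) (qi i)).symm
  have hr : ∀ i, r i * dv i + dv i ≤ q := by
    intro i
    have h1 : r i < qi i := Nat.mod_lt _ (hqi0 i)
    have h2 : (r i + 1) * dv i ≤ qi i * dv i := Nat.mul_le_mul_right _ h1
    rw [hqi i] at h2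
    linarith
  have hsum : ∑ i, e i * dv i = q * ∑ i, c i + ∑ i, r i * dv i := by
    rw [Finset.mul_sum, ← Finset.sum_add_distrib]
    apply Finset.sum_congr rfl
    intro i _
    have := hqi i
    rw [hecr i]
    nlinarith [hqi i]
  have hca : a ≤ ∑ i, c i := by
    by_contra hcon
    push Not at hcon
    rcases Nat.eq_zero_or_pos s with hs0 | hs0
    · subst hs0
      simp only [Finset.univ_eq_empty, Finset.sum_empty] at hcon he
      have h' : 0 < (k + 2) * (a * q) := Nat.mul_pos (by omega) (Nat.mul_pos hcon hq0)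
      omega
    have hrs : ∑ i, r i * dv i + s ≤ s * q := by
      have h1 : ∑ i : Fin s, (r i * dv i + 1) ≤ ∑ i : Fin s, q :=
        Finset.sum_le_sum fun i _ => by have := hr i; have := hdv i; omega
      simp only [Finset.sum_add_distrib, Finset.sum_const, Finset.card_univ, Fintype.card_fin,
        smul_eq_mul, mul_one] at h1
      exact h1
    have h3 : (k + 2) * (a * q) + s ≤ q * (a - 1) + s * q := by
      have h4 : q * ∑ i, c i ≤ q * (a - 1) := Nat.mul_le_mul_left _ (by omega)
      rw [← he, hsum]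
      omega
    have ha1 : 1 ≤ a := by omega
    obtain ⟨a', rfl⟩ : ∃ a', a = a' + 1 := ⟨a - 1, by omega⟩
    simp only [Nat.add_sub_cancel] at h3
    have h5 : s ≤ a' + 2 := by omega
    have h6 : (k + 2) * ((a' + 1) * q) ≥ 2 * ((a' + 1) * q) := Nat.mul_le_mul_right _ (by omega)
    have h7 : s * q ≤ (a' + 2) * q := Nat.mul_le_mul_right _ h5
    nlinarith
  obtain ⟨c', hc', hc'a⟩ := exists_le_sum_eq c a hca
  refine ⟨fun i => qi i * c' i, ?_, ?_⟩
  · intro i
    calc qi i * c' i ≤ qi i * c i := Nat.mul_le_mul_left _ (hc' i)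
      _ ≤ e i := by rw [hecr i]; omega
  · rw [← hc'a, Finset.sum_mul]
    apply Finset.sum_congr rfl
    intro i _
    have := hqi i
    calc qi i * c' i * dv i = c' i * (qi i * dv i) := by ring
      _ = c' i * q := by rw [this]

open HomogeneousLocalization

section Away
variable {R A : Type*} [CommRing R] [CommRing A] [Algebra R A] (𝒜 : ℕ → Submodule R A)
  [GradedAlgebra 𝒜]

theorem mk_mul_mk {n : ℕ} {g : A} (hg : g ∈ 𝒜 n) (m m' : ℕ) (p p' : A) (hp : p ∈ 𝒜 (m • n))
    (hp' : p' ∈ 𝒜 (m' • n)) (hpp' : p * p' ∈ 𝒜 ((m + m') • n)) :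
    Away.mk 𝒜 hg (m + m') (p * p') hpp' = Away.mk 𝒜 hg m p hp * Away.mk 𝒜 hg m' p' hp' := by
  apply HomogeneousLocalization.val_injective
  rw [HomogeneousLocalization.val_mul, Away.val_mk, Away.val_mk, Away.val_mk, Localization.mk_mul]
  congr 1
  ext
  simp [pow_add]

theorem eq_top_of_monomials {n : ℕ} {g : A} (hg : g ∈ 𝒜 n) (T : Subring (Away 𝒜 g))
    (S : Set A) (hgen : Algebra.adjoin R S = ⊤)
    (h0 : ∀ r : R, fromZeroRingHom 𝒜 _ (algebraMap R (𝒜 0) r) ∈ T)
    (hmon : ∀ p ∈ Submonoid.closure S, ∃ m, p ∈ 𝒜 m ∧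
      ∀ (k : ℕ) (hp : p ∈ 𝒜 (k • n)), m = k • n → Away.mk 𝒜 hg k p hp ∈ T) : T = ⊤ := by
  classical
  have hP : ∀ a : A, ∀ k : ℕ, ∀ hk : (DirectSum.decompose 𝒜 a (k • n) : A) ∈ 𝒜 (k • n),
      Away.mk 𝒜 hg k (DirectSum.decompose 𝒜 a (k • n) : A) hk ∈ T := by
    intro a
    have ha : a ∈ Submodule.span R (Submonoid.closure S : Set A) := by
      rw [← Algebra.adjoin_eq_span, hgen]; trivial
    induction ha using Submodule.span_induction with
    | mem p hp =>
      intro k hk
      obtain ⟨m, hm, hT⟩ := hmon p hp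
      by_cases hkm : m = k • n
      · have hm' : p ∈ 𝒜 (k • n) := hkm ▸ hm
        convert hT k hm' hkm using 2
        exact DirectSum.decompose_of_mem_same 𝒜 hm'
      · have h0' : (DirectSum.decompose 𝒜 p (k • n) : A) = 0 :=
          DirectSum.decompose_of_mem_ne 𝒜 hm hkm
        convert T.zero_mem using 1
        apply HomogeneousLocalization.val_injective
        rw [Away.val_mk, HomogeneousLocalization.val_zero, h0', Localization.mk_zero]
    | zero =>
      intro k hk
      convert T.zero_mem using 1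
      apply HomogeneousLocalization.val_injective
      rw [Away.val_mk, HomogeneousLocalization.val_zero]
      simp [Localization.mk_zero]
    | add x y _ _ hx hy =>
      intro k hk
      have hxk : (DirectSum.decompose 𝒜 x (k • n) : A) ∈ 𝒜 (k • n) := SetLike.coe_mem _
      have hyk : (DirectSum.decompose 𝒜 y (k • n) : A) ∈ 𝒜 (k • n) := SetLike.coe_mem _
      convert T.add_mem (hx k hxk) (hy k hyk) using 1
      apply HomogeneousLocalization.val_injective
      rw [HomogeneousLocalization.val_add, Away.val_mk, Away.val_mk, Away.val_mk,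
        Localization.add_mk_self]
      simp
    | smul r x _ hx =>
      intro k hk
      have hxk : (DirectSum.decompose 𝒜 x (k • n) : A) ∈ 𝒜 (k • n) := SetLike.coe_mem _
      convert T.mul_mem (h0 r) (hx k hxk) using 1
      apply HomogeneousLocalization.val_injective
      rw [HomogeneousLocalization.val_mul, Away.val_mk, Away.val_mk]
      have h3 : ((DirectSum.decompose 𝒜 (r • x) (k • n) : 𝒜 (k • n)) : A) =
          algebraMap R A r * (DirectSum.decompose 𝒜 x (k • n) : A) := by
        rw [DirectSum.decompose_smul, DirectSum.smul_apply, Submodule.coe_smul, Algebra.smul_def]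
      rw [show (fromZeroRingHom 𝒜 (Submonoid.powers g) (algebraMap R (𝒜 0) r)).val =
        Localization.mk (algebraMap R A r) 1 from rfl, Localization.mk_mul]
      simp only [h3, one_mul]
  rw [eq_top_iff]
  intro x _
  obtain ⟨k, a, ha, rfl⟩ := Away.mk_surjective 𝒜 hg x
  have h := hP a k (SetLike.coe_mem _)
  convert h using 2
  exact (DirectSum.decompose_of_mem_same 𝒜 ha).symm

theorem prod_pow_mem {s : ℕ} (v : Fin s → A) (dv : Fin s → ℕ) (hv : ∀ i, v i ∈ 𝒜 (dv i))
    (e : Fin s → ℕ) : ∏ i, v i ^ e i ∈ 𝒜 (∑ i, e i * dv i) := by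
  have := SetLike.prod_pow_mem_graded 𝒜 dv v (F := Finset.univ) e (fun i _ => hv i)
  simpa [smul_eq_mul] using this

theorem away_subring_eq_top' {s : ℕ} (v : Fin s → A) (dv : Fin s → ℕ) (hdv : ∀ i, 0 < dv i)
    (hv : ∀ i, v i ∈ 𝒜 (dv i)) (hgen : Algebra.adjoin R (Set.range v) = ⊤)
    (a : ℕ) (has : s - 1 ≤ a)
    {g : A} (hg : g ∈ 𝒜 (a * Finset.univ.lcm dv)) (T : Subring (Away 𝒜 g))
    (h0 : ∀ r : R, fromZeroRingHom 𝒜 _ (algebraMap R (𝒜 0) r) ∈ T)
    (h1 : ∀ (e : Fin s → ℕ) (_ : ∑ i, e i * dv i = a * Finset.univ.lcm dv)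
      (hp : ∏ i, v i ^ e i ∈ 𝒜 (1 • (a * Finset.univ.lcm dv))),
      Away.mk 𝒜 hg 1 (∏ i, v i ^ e i) hp ∈ T) : T = ⊤ := by
  classical
  set n := a * Finset.univ.lcm dv with hn
  -- Step A
  have hA : ∀ k : ℕ, ∀ e : Fin s → ℕ, ∑ i, e i * dv i = k * n →
      ∀ hp : ∏ i, v i ^ e i ∈ 𝒜 (k • n), Away.mk 𝒜 hg k (∏ i, v i ^ e i) hp ∈ T := by
    intro k
    induction k using Nat.strong_induction_on with
    | _ k ih =>
      intro e he hp
      match k, ih, he, hp with
      | 0, _, he, hp =>
        have he0 : ∀ i, e i = 0 := by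
          intro i
          have h2 : ∑ i, e i * dv i = 0 := by rw [he]; simp
          have h3 := (Finset.sum_eq_zero_iff.1 h2) i (Finset.mem_univ i)
          rcases Nat.mul_eq_zero.1 h3 with h4 | h4
          · exact h4
          · exact absurd h4 (hdv i).ne'
        convert T.one_mem using 1
        apply HomogeneousLocalization.val_injective
        rw [Away.val_mk, HomogeneousLocalization.val_one]
        simp [he0]
      | 1, _, he, hp => exact h1 e (by rw [he, one_mul]) hp
      | k + 2, ih, he, hp =>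
        obtain ⟨b, hbe, hb⟩ := split dv hdv a has e k (by rw [he])
        let e' : Fin s → ℕ := fun i => e i - b i
        have he' : ∑ i, e' i * dv i = (k + 1) * n := by
          have h2 : ∑ i, e i * dv i = ∑ i, b i * dv i + ∑ i, e' i * dv i := by
            rw [← Finset.sum_add_distrib]
            apply Finset.sum_congr rfl
            intro i _
            have := hbe i
            change e i * dv i = b i * dv i + (e i - b i) * dv i
            rw [← add_mul]
            congr 1
            omega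
          rw [he, hb] at h2
          have h3 : (k + 2) * n = n + (k + 1) * n := by ring
          omega
        have hpb : ∏ i, v i ^ b i ∈ 𝒜 (1 • n) := by
          have := prod_pow_mem 𝒜 v dv hv b
          rw [hb] at this
          rw [one_smul]
          exact this
        have hpe' : ∏ i, v i ^ e' i ∈ 𝒜 ((k + 1) • n) := by
          have := prod_pow_mem 𝒜 v dv hv e'
          rwa [he'] at this
        have hprod : ∏ i, v i ^ e i = (∏ i, v i ^ b i) * ∏ i, v i ^ e' i := by
          rw [← Finset.prod_mul_distrib]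
          apply Finset.prod_congr rfl
          intro i _
          rw [← pow_add]
          congr 1
          have := hbe i
          change e i = b i + (e i - b i)
          omega
        have hpp : (∏ i, v i ^ b i) * ∏ i, v i ^ e' i ∈ 𝒜 ((1 + (k + 1)) • n) := by
          rw [← hprod]
          have : 1 + (k + 1) = k + 2 := by ring
          rw [this]; exact hp
        have h5 := mk_mul_mk 𝒜 hg 1 (k + 1) _ _ hpb hpe' hpp
        have h6 : Away.mk 𝒜 hg (k + 2) (∏ i, v i ^ e i) hp =
            Away.mk 𝒜 hg (1 + (k + 1)) ((∏ i, v i ^ b i) * ∏ i, v i ^ e' i) hpp := by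
          apply HomogeneousLocalization.val_injective
          rw [Away.val_mk, Away.val_mk]
          congr 1
          ext
          have : 1 + (k + 1) = k + 2 := by ring
          simp [this]
        rw [h6, h5]
        exact T.mul_mem (h1 b hb hpb) (ih (k + 1) (by omega) e' he' hpe')
  apply eq_top_of_monomials 𝒜 hg T (Set.range v) hgen h0
  intro p hp
  obtain ⟨e, rfl⟩ := Submonoid.exists_of_mem_closure_range _ _ hp
  refine ⟨∑ i, e i * dv i, prod_pow_mem 𝒜 v dv hv e, ?_⟩
  intro k hp' hk
  exact hA k e hk hp'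

end Away

end Groth.Agent.Helper1.ProjVA3
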