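import Mathlib
import Groth.Agent.Lib.Helper1.ProjVA2
import Groth.Agent.Lib.Helper1.ProjVA3

set_option autoImplicit false
universe u

open CategoryTheory AlgebraicGeometry TopologicalSpace Opposite HomogeneousLocalization

namespace Groth.Agent.Helper1.ProjVA4

open Groth.Agent.Helper1.QcCech Groth.Agent.Helper1.SubSh Groth.Agent.Helper1.LGen
open Groth.Agent.Helper1 Groth.Agent.Helper1.AmpleLib Groth.Agent.Helper1.TwistTriv
open Groth.Agent.Helper1.ProjVA2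

variable {A S : Type u} [CommRing A] [CommRing S] [Algebra A S] (𝒮 : ℕ → Submodule A S)
  [GradedAlgebra 𝒮]

set_option synthInstance.maxHeartbeats 400000

/-- on `D₊(g)`, `b = (b/g) • g` in `O(n)` -/
theorem res_globalOf_eq_smul_deg {g b : S} (n : ℕ) (hg : g ∈ 𝒮 n) (hb : b ∈ 𝒮 n)
    (hb' : b ∈ 𝒮 (1 • n)) :
    res (Twist.twist 𝒮 ((n : ℕ) : ℤ)) (le_top : Proj.basicOpen 𝒮 g ≤ ⊤)
        (Twist.globalOf 𝒮 ⟨b, hb⟩) =
      ((Proj.awayToSection 𝒮 g).hom (Away.mk 𝒮 hg 1 b hb') : Γ(Proj 𝒮, Proj.basicOpen 𝒮 g)) •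
        res (Twist.twist 𝒮 ((n : ℕ) : ℤ)) (le_top : Proj.basicOpen 𝒮 g ≤ ⊤)
          (Twist.globalOf 𝒮 ⟨g, hg⟩) := by
  apply Subtype.ext
  funext x
  apply Subtype.ext
  have h := smul_sec_val 𝒮 (m := ((n : ℕ) : ℤ)) (Proj.basicOpen 𝒮 g)
    ((Proj.awayToSection 𝒮 g).hom (Away.mk 𝒮 hg 1 b hb'))
    (res (Twist.twist 𝒮 ((n : ℕ) : ℤ)) (le_top : Proj.basicOpen 𝒮 g ≤ ⊤)
      (Twist.globalOf 𝒮 ⟨g, hg⟩)) x
  refine Eq.trans ?_ h.symm
  have hx : g ∉ x.1.asHomogeneousIdeal := (Proj.mem_basicOpen 𝒮 g x.1).1 x.2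
  have h1 : (1 : S) ∉ x.1.asHomogeneousIdeal := TwistTens.one_not_mem 𝒮 x.1
  change (Localization.mk b ⟨1, h1⟩ : Twist.Loc 𝒮 x.1) =
    (HomogeneousLocalization.mapId 𝒮 (Submonoid.powers_le.mpr hx) (Away.mk 𝒮 hg 1 b hb')).val *
      (Localization.mk g ⟨1, h1⟩ : Twist.Loc 𝒮 x.1)
  have h2 : (HomogeneousLocalization.mapId 𝒮 (Submonoid.powers_le.mpr hx)
      (Away.mk 𝒮 hg 1 b hb')).val =
      (Localization.mk b ⟨g ^ 1, by rw [pow_one]; exact hx⟩ : Twist.Loc 𝒮 x.1) := rfl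
  rw [h2, Localization.mk_mul, Localization.mk_eq_mk_iff, Localization.r_iff_exists]
  exact ⟨1, by simp only [OneMemClass.coe_one, Submonoid.coe_mul, one_mul, mul_one, pow_one]; ring⟩

section Main

variable {R A : Type u} [CommRing R] [CommRing A] [Algebra R A] (𝒜 : ℕ → Submodule R A)
  [GradedAlgebra 𝒜]

theorem isRelVeryAmplePn_twist_lcm {s : ℕ} (f : Fin s → A) (deg : Fin s → ℕ)
    (hdeg : ∀ i, 0 < deg i) (hf : ∀ i, f i ∈ 𝒜 (deg i))
    (hgen : Algebra.adjoin R (Set.range f) = ⊤) (a : ℕ) (ha : 0 < a) (has : s - 1 ≤ a) :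
    RelAmple.IsRelVeryAmplePn (q 𝒜)
      (Twist.twist 𝒜 ((a * Finset.univ.lcm deg : ℕ) : ℤ)) := by
  classical
  set n := a * Finset.univ.lcm deg with hn
  have hl0 : 0 < Finset.univ.lcm deg := by
    apply Nat.pos_of_ne_zero
    rw [Ne, Finset.lcm_eq_zero_iff]
    rintro ⟨i, -, hi⟩
    exact (hdeg i).ne' hi
  have hn0 : 0 < n := Nat.mul_pos ha hl0
  haveI : IsScalarTower R (𝒜 0) A := ⟨fun r x a => by
    change ((r • x : 𝒜 0) : A) * a = r • ((x : A) * a)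
    rw [Submodule.coe_smul, smul_mul_assoc]⟩
  haveI : Algebra.FiniteType R A := ⟨⟨Finset.univ.image f, by simpa using hgen⟩⟩
  haveI : Algebra.FiniteType (𝒜 0) A :=
    Algebra.FiniteType.of_restrictScalars_finiteType R (𝒜 0) A
  haveI : CompactSpace (Proj 𝒜) := by
    have : QuasiCompact (Proj.toSpecZero 𝒜) := inferInstance
    exact (HasAffineProperty.iff_of_isAffine (P := @QuasiCompact)).1 this
  have hgen0 : Algebra.adjoin (𝒜 0) (Set.range f) = ⊤ := by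
    rw [eq_top_iff]
    intro x _
    have hx : x ∈ Algebra.adjoin R (Set.range f) := hgen ▸ Algebra.mem_top
    have hle : Algebra.adjoin R (Set.range f) ≤
        (Algebra.adjoin (𝒜 0) (Set.range f)).restrictScalars R :=
      Algebra.adjoin_le (fun y hy => Algebra.subset_adjoin hy)
    exact hle hx
  have hcov := Proj.iSup_basicOpen_eq_top' 𝒜 f (fun i => ⟨_, hf i⟩) hgen0
  have hcov' : ∀ x : Proj 𝒜, ∃ i, x ∈ Proj.basicOpen 𝒜 (f i) := by
    intro x
    have : x ∈ (⨆ i, Proj.basicOpen 𝒜 (f i)) := hcov ▸ trivial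
    simpa [Opens.mem_iSup] using this
  -- the powers
  have hdvd : ∀ i, deg i ∣ n := fun i =>
    Dvd.dvd.mul_left (Finset.dvd_lcm (Finset.mem_univ i)) a
  let qi : Fin s → ℕ := fun i => n / deg i
  have hqi : ∀ i, qi i * deg i = n := fun i => Nat.div_mul_cancel (hdvd i)
  have hqi0 : ∀ i, 0 < qi i := fun i => by
    rcases Nat.eq_zero_or_pos (qi i) with h | h
    · have := hqi i; rw [h] at this; omega
    · exact h
  have hG : ∀ i, f i ^ qi i ∈ 𝒜 n := fun i => by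
    have := SetLike.pow_mem_graded (qi i) (hf i)
    rwa [smul_eq_mul, hqi i] at this
  have hunit : ∀ x : ProjectiveSpectrum 𝒜, ∃ g' : 𝒜 n, (g' : A) ∉ x.asHomogeneousIdeal := by
    intro x
    obtain ⟨i, hi⟩ := hcov' x
    have hgx : f i ∉ x.asHomogeneousIdeal := (Proj.mem_basicOpen 𝒜 _ x).1 hi
    exact ⟨⟨f i ^ qi i, hG i⟩, fun h' => hgx (x.isPrime.mem_of_pow_mem _ h')⟩
  have hInv := (TwistAmple.isAmple_twist 𝒜 hn0 hunit).1
  -- sections
  let E := {e : Fin s → Fin (n + 1) // ∑ i, (e i : ℕ) * deg i = n}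
  have hmon : ∀ e : E, ∏ i, f i ^ (e.1 i : ℕ) ∈ 𝒜 n := fun e => by
    have := ProjVA3.prod_pow_mem 𝒜 f deg hf (fun i => (e.1 i : ℕ))
    rwa [e.2] at this
  let σ : Fin s ⊕ E → Γ(Twist.twist 𝒜 (n : ℤ), ⊤) := fun p =>
    match p with
    | Sum.inl i => Twist.globalOf 𝒜 ⟨f i ^ qi i, hG i⟩
    | Sum.inr e => Twist.globalOf 𝒜 ⟨∏ i, f i ^ (e.1 i : ℕ), hmon e⟩
  have hloc : ∀ i : Fin s, CohB1.genLocus (Twist.twist 𝒜 (n : ℤ))
      (TwistAmple.homOfSec (Twist.twist 𝒜 (n : ℤ)) (σ (Sum.inl i))) =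
      Proj.basicOpen 𝒜 (f i ^ qi i) := by
    intro i
    exact TwistAmple.genLocus_globalOf 𝒜 _ hunit
  apply VA3.isRelVeryAmplePn_of_charts' (q 𝒜) hInv σ (fun i : Fin s => Sum.inl i) (fun _ => ⊤)
    (fun _ => isAffineOpen_top _)
  · intro i
    rw [hloc]
    exact Proj.isAffineOpen_basicOpen 𝒜 _ (hG i) hn0
  · intro i
    exact le_top
  · intro x
    obtain ⟨i, hi⟩ := hcov' x
    refine ⟨i, ?_⟩
    rw [hloc, Proj.basicOpen_pow 𝒜 _ _ (hqi0 i)]
    exact hi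
  · intro i U hU hUS T hT1 hT2
    rw [hloc i] at hU
    subst hU
    let T' : Subring (Away 𝒜 (f i ^ qi i)) := T.comap (Proj.awayToSection 𝒜 (f i ^ qi i)).hom
    have hT' : T' = ⊤ := by
      apply ProjVA3.away_subring_eq_top' 𝒜 f deg hdeg hf hgen a has (hG i) T'
      · intro r
        change (Proj.awayToSection 𝒜 (f i ^ qi i)).hom _ ∈ T
        have h1 := hT1 ((Scheme.ΓSpecIso (CommRingCat.of R)).inv.hom r)
        rw [q_appLE 𝒜 (hG i) hn0] at h1
        have h2 : (Scheme.ΓSpecIso (CommRingCat.of R)).hom.hom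
            ((Scheme.ΓSpecIso (CommRingCat.of R)).inv.hom r) = r := by
          rw [← CommRingCat.comp_apply, Iso.inv_hom_id]; rfl
        rwa [h2] at h1
      · intro e he hp
        have hle : ∀ k, e k < n + 1 := by
          intro k
          have h1 : e k * deg k ≤ ∑ i, e i * deg i :=
            Finset.single_le_sum (f := fun i => e i * deg i) (fun _ _ => Nat.zero_le _)
              (Finset.mem_univ k)
          have h2 : e k ≤ e k * deg k := Nat.le_mul_of_pos_right _ (hdeg k)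
          omega
        let e' : E := ⟨fun k => ⟨e k, hle k⟩, he⟩
        change (Proj.awayToSection 𝒜 (f i ^ qi i)).hom _ ∈ T
        apply hT2 (Sum.inr e')
        exact (res_globalOf_eq_smul_deg 𝒜 n (hG i) (hmon e') hp).symm
    rw [eq_top_iff]
    intro x _
    obtain ⟨y, rfl⟩ := ProjGlobal.awayToSection_surjective 𝒜 (f i ^ qi i) (hG i) hn0 x
    have : y ∈ T' := hT' ▸ Subring.mem_top y
    exact this

end Main

end Groth.Agent.Helper1.ProjVA4
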