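import Mathlib

universe u

open AlgebraicGeometry CategoryTheory CategoryTheory.Limits

namespace Groth.Agent.Helper1.ProperBC

theorem isProper_iff {X Y S : Scheme.{u}} (q : Y ⟶ S) (f : X ⟶ Y)
    [IsSeparated q] [LocallyOfFiniteType q] [QuasiCompact q]
    [IsSeparated (f ≫ q)] [LocallyOfFiniteType (f ≫ q)] [QuasiCompact (f ≫ q)] :
    IsProper f ↔ ∀ (S' : Scheme.{u}) (g : S' ⟶ S),
      IsClosedMap (pullback.map (f ≫ q) g q g f (𝟙 S') (𝟙 S) (Category.comp_id (f ≫ q))
        ((Category.comp_id g).trans (Category.id_comp g).symm)).base := by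
  constructor
  · intro hf S' g
    have h1 : IsProper (pullback.map (f ≫ q) g q g f (𝟙 S') (𝟙 S) (Category.comp_id (f ≫ q))
        ((Category.comp_id g).trans (Category.id_comp g).symm)) :=
      MorphismProperty.pullbackMap (P := @IsProper) hf (inferInstance : IsProper (𝟙 S')) rfl
        (Category.id_comp g).symm
    exact (pullback.map (f ≫ q) g q g f (𝟙 S') (𝟙 S) (Category.comp_id (f ≫ q))
        ((Category.comp_id g).trans (Category.id_comp g).symm)).isClosedMap
  · intro H
    have hs : IsSeparated f := IsSeparated.of_comp f q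
    have hl : LocallyOfFiniteType f := locallyOfFiniteType_of_comp f q
    have huc : UniversallyClosed f := by
      constructor
      apply MorphismProperty.universally_mk'
      intro T g _
      have hh := H T (g ≫ q)
      set h := pullback.map (f ≫ q) (g ≫ q) q (g ≫ q) f (𝟙 T) (𝟙 S) (Category.comp_id (f ≫ q))
        ((Category.comp_id (g ≫ q)).trans (Category.id_comp (g ≫ q)).symm) with hhdef
      let i : pullback g f ⟶ pullback (f ≫ q) (g ≫ q) :=
        (pullbackSymmetry g f).hom ≫ pullback.mapDesc f g q
      let γ : T ⟶ pullback q (g ≫ q) := pullback.lift g (𝟙 T) (by simp)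
      have hcomm : pullback.fst g f ≫ γ = i ≫ h := by
        apply pullback.hom_ext
        · dsimp only [i, γ]
          rw [hhdef, Category.assoc, Category.assoc, Category.assoc, pullback.lift_fst,
            pullback.lift_fst, pullback.mapDesc, pullback.lift_fst_assoc, Category.comp_id,
            pullbackSymmetry_hom_comp_fst_assoc, pullback.condition]
        · dsimp only [i, γ]
          rw [hhdef, Category.assoc, Category.assoc, Category.assoc, pullback.lift_snd,
            pullback.lift_snd, pullback.mapDesc, pullback.lift_snd_assoc, Category.comp_id,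
            Category.comp_id, Category.comp_id, pullbackSymmetry_hom_comp_snd]
      have hγ : γ ≫ pullback.snd q (g ≫ q) = 𝟙 T := pullback.lift_snd _ _ _
      have hγinj : Function.Injective γ := by
        intro t1 t2 h12
        have := congrArg (pullback.snd q (g ≫ q)) h12
        have e1 : (pullback.snd q (g ≫ q)) (γ t1) = (γ ≫ pullback.snd q (g ≫ q)) t1 := rfl
        have e2 : (pullback.snd q (g ≫ q)) (γ t2) = (γ ≫ pullback.snd q (g ≫ q)) t2 := rfl
        rw [e1, e2, hγ] at this
        exact this
      have hpt : ∀ z, γ ((pullback.fst g f) z) = h (i z) := by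
        intro z
        have e1 : γ ((pullback.fst g f) z) = (pullback.fst g f ≫ γ) z := rfl
        have e2 : h (i z) = (i ≫ h) z := rfl
        rw [e1, e2, hcomm]
      change IsClosedMap (pullback.fst g f)
      intro Z hZ
      have hiZ : IsClosed (i '' Z) := i.isClosedEmbedding.isClosedMap Z hZ
      have hhZ : IsClosed (h '' (i '' Z)) := hh _ hiZ
      have heq : (pullback.fst g f) '' Z = γ ⁻¹' (h '' (i '' Z)) := by
        ext t
        constructor
        · rintro ⟨z, hz, rfl⟩
          exact ⟨i z, ⟨z, hz, rfl⟩, (hpt z).symm⟩
        · rintro ⟨_, ⟨z, hz, rfl⟩, hzt⟩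
          refine ⟨z, hz, ?_⟩
          apply hγinj
          rw [hpt z, hzt]
      rw [heq]
      exact hhZ.preimage γ.continuous
    exact { }

end Groth.Agent.Helper1.ProperBC
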