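import Mathlib
import Groth.Agent.Lib.Helper1.PtDeg3
import Groth.Agent.Lib.Helper1.P1Iso3
import Groth.Agent.Lib.Helper1.Conn1

/-!
# A normal proper curve with two linearly equivalent rational points is the projective line
(helper1)
-/

set_option autoImplicit false
universe u
open CategoryTheory CategoryTheory.Limits AlgebraicGeometry TopologicalSpace Opposite

namespace Groth.Agent.Helper1.PtDeg

open Groth.Agent.Helper1.CurveDual Groth.Agent.Helper1.CurvePt Groth.Agent.Helper1.CurveLin
open Groth.Agent.Helper1.Euler Groth.Agent.Helper1.Curve Groth.Agent.Helper1.PtInv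
open Groth.Agent.Helper1 Groth.Agent.Helper1.LGen

attribute [local instance] Curv2.resAlgebra

/-- S7820 -/
theorem iso_P1_of_linEquiv_points (k : Type u) [Field k] {C : Scheme.{u}}
    (p : C ⟶ Spec (CommRingCat.of k))
    [IsProper p] [ConnectedSpace C] (hN : Pi1.IsNormalScheme C) (hC : topologicalKrullDim C = 1)
    (x y : Spec (CommRingCat.of k) ⟶ C) (hx : x ≫ p = 𝟙 _) (hy : y ≫ p = 𝟙 _) (hxy : x ≠ y)
    (hlin : Nonempty (ClSub.idealMod x.ker ≅ ClSub.idealMod y.ker)) :
    ∃ e : C ≅ CohB1.ProjSpace 1 k, e.hom ≫ CohB1.ProjSpace.toSpec 1 k = p := by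
  letI : C.Over (Spec (CommRingCat.of k)) := ⟨p⟩
  haveI : IsProper (C ↘ Spec (CommRingCat.of k)) := ‹IsProper p›
  haveI := isNoetherian_of_proper k C
  haveI : IsIntegral C := Conn1.isIntegral_of_connected C (fun z => (hN z).1)
  let pt : Spec (CommRingCat.of k) := default
  have hP := isClosed_of_section k x hx pt
  have hQ := isClosed_of_section k y hy pt
  have hPQ : x pt ≠ y pt := fun h => hxy (eq_of_section_of_apply_eq k x hx y hy pt h)
  rw [ker_eq_ptIdeal k x pt hP, ker_eq_ptIdeal k y pt hQ] at hlin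
  obtain ⟨φ⟩ := hlin
  have hIP : PicF.IsInvertible (ClSub.idealMod (ptIdeal (x pt) hP)) :=
    isInvertible_ptIdeal_of_isIntegrallyClosed C hC (x pt) hP (hN (x pt)).2
  obtain ⟨K, hK, ⟨e⟩⟩ := InvInv2.exists_inverse hIP
  have hdegI : Curv2.deg k C (ClSub.idealMod (ptIdeal (x pt) hP)) 1 = -1 := by
    rw [deg_ptIdeal' k C (x pt) hP, finrank_residueField_of_section k x hx pt]
    norm_num
  have hdegK : Curv2.deg k C K 1 = 1 := by
    have h := deg_tensor_locFree k C hC.le 1 1 K _ (isFinLocFreeOfRank_one hK)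
      (isFinLocFreeOfRank_one hIP)
    have h0 : Curv2.deg k C (CohB1.tensorMod K (ClSub.idealMod (ptIdeal (x pt) hP))) (1 * 1) = 0 := by
      rw [← deg_structureModule k C]
      unfold Curv2.deg
      rw [euler_iso k C e]
    rw [h0, hdegI] at h
    push_cast at h
    linarith
  have h2 := two_le_finrank_of_iso_ptIdeal k C (x pt) (y pt) hP hQ hPQ φ K hK e
    (by rw [hdegK]; norm_num)
  exact (P1Iso.iso_P1_iff k C hC).2 ⟨K, hK, hdegK, h2⟩

end Groth.Agent.Helper1.PtDeg
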