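import Mathlib
import Groth.Agent.Lib.Helper1.PullSec
import Groth.Agent.Lib.Helper1.HH0

/-!
# Pulling back global sections, as a linear map on `H⁰` (helper1)
-/

set_option autoImplicit false
universe u
open CategoryTheory CategoryTheory.Limits AlgebraicGeometry TopologicalSpace Opposite

namespace Groth.Agent.Helper1.PullH0

open Groth.Agent.Helper1.QcCech Groth.Agent.Helper1 Groth.Agent.Helper1.PullSec

variable {A : Type u} [CommRing A] {X Y : Scheme.{u}} [X.Over (Spec (CommRingCat.of A))]
  [Y.Over (Spec (CommRingCat.of A))]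
  (f : X ⟶ Y) (hf : f ≫ (Y ↘ Spec (CommRingCat.of A)) = X ↘ Spec (CommRingCat.of A))

include hf in
theorem toGlobal_comp (a : A) :
    (f.app ⊤).hom (Coh.toGlobal (Y ↘ Spec (CommRingCat.of A)) a) =
      Coh.toGlobal (X ↘ Spec (CommRingCat.of A)) a := by
  rw [← hf]
  rfl

/-- pulling back global sections, additively -/
noncomputable def σtop (M : Y.Modules) :
    Γ(M, ⊤) →+ Γ((Scheme.Modules.pullback f).obj M, ⊤) where
  toFun m := σ f M ⊤ m
  map_zero' := σ_zero f M ⊤
  map_add' := σ_add f M ⊤

theorem σtop_apply (M : Y.Modules) (m : Γ(M, ⊤)) : σtop f M m = σ f M ⊤ m := rfl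

theorem σtop_smul (M : Y.Modules) (r : Γ(Y, ⊤)) (m : Γ(M, ⊤)) :
    σtop f M (r • m) = (show Γ(X, ⊤) from (f.app ⊤).hom r) • σtop f M m :=
  σ_smul f M ⊤ r m

/-- pullback of global sections as an `A`-linear map on `H⁰` -/
noncomputable def pullH0 (M : Y.Modules) :
    Coh.HH Y M 0 →ₗ[A] Coh.HH X ((Scheme.Modules.pullback f).obj M) 0 where
  toFun x := (HH0.equiv X ((Scheme.Modules.pullback f).obj M)).symm (σtop f M (HH0.equiv Y M x))
  map_add' x y := by
    have h1 : HH0.equiv Y M (x + y) = HH0.equiv Y M x + HH0.equiv Y M y := map_add _ _ _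
    have h2 := (σtop f M).map_add (HH0.equiv Y M x) (HH0.equiv Y M y)
    have h3 : σtop f M (HH0.equiv Y M (x + y)) =
        σtop f M (HH0.equiv Y M x) + σtop f M (HH0.equiv Y M y) :=
      (congrArg (fun t => σtop f M t) h1).trans h2
    exact (congrArg (fun t => (HH0.equiv X ((Scheme.Modules.pullback f).obj M)).symm t) h3).trans
      (map_add _ _ _)
  map_smul' a x := by
    apply (HH0.equiv X ((Scheme.Modules.pullback f).obj M)).injective
    have h1 : HH0.equiv Y M (a • x) =
        Coh.toGlobal (Y ↘ Spec (CommRingCat.of A)) a • HH0.equiv Y M x :=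
      HH0.equiv_smul_over Y M a x
    have h2 : σtop f M (HH0.equiv Y M (a • x)) =
        (show Γ(X, ⊤) from Coh.toGlobal (X ↘ Spec (CommRingCat.of A)) a) •
          σtop f M (HH0.equiv Y M x) := by
      refine (congrArg (fun t => σtop f M t) h1).trans ?_
      refine (σtop_smul f M _ _).trans ?_
      exact congrArg (fun r : Γ(X, ⊤) => r • σtop f M (HH0.equiv Y M x)) (toGlobal_comp f hf a)
    have h3 := HH0.equiv_smul_over X ((Scheme.Modules.pullback f).obj M) a
      ((HH0.equiv X ((Scheme.Modules.pullback f).obj M)).symm (σtop f M (HH0.equiv Y M x)))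
    have h4 : HH0.equiv X ((Scheme.Modules.pullback f).obj M)
        ((HH0.equiv X ((Scheme.Modules.pullback f).obj M)).symm (σtop f M (HH0.equiv Y M x))) =
        σtop f M (HH0.equiv Y M x) := AddEquiv.apply_symm_apply _ _
    have h5 : HH0.equiv X ((Scheme.Modules.pullback f).obj M)
        ((HH0.equiv X ((Scheme.Modules.pullback f).obj M)).symm
          (σtop f M (HH0.equiv Y M (a • x)))) =
        σtop f M (HH0.equiv Y M (a • x)) := AddEquiv.apply_symm_apply _ _
    refine h5.trans (Eq.trans ?_ h3.symm)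
    rw [h4]
    exact h2

theorem equiv_pullH0 (M : Y.Modules) (x : Coh.HH Y M 0) :
    HH0.equiv X ((Scheme.Modules.pullback f).obj M) (pullH0 f hf M x) =
      σtop f M (HH0.equiv Y M x) :=
  AddEquiv.apply_symm_apply _ _

theorem pullH0_injective (M : Y.Modules)
    (h : ∀ s : Γ(M, ⊤), s ≠ 0 → σtop f M s ≠ 0) : Function.Injective (pullH0 f hf M) := by
  rw [← LinearMap.ker_eq_bot, LinearMap.ker_eq_bot']
  intro x hx
  by_contra hne
  have h1 : HH0.equiv Y M x ≠ 0 := fun h0 =>
    hne ((HH0.equiv Y M).injective (h0.trans (map_zero _).symm))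
  apply h _ h1
  refine (equiv_pullH0 f hf M x).symm.trans ?_
  exact (congrArg (fun t => HH0.equiv X ((Scheme.Modules.pullback f).obj M) t) hx).trans
    (map_zero _)

end Groth.Agent.Helper1.PullH0
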