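import Mathlib

universe u

open AlgebraicGeometry CategoryTheory TopologicalSpace Opposite

namespace Groth.Agent.Helper1.PuncPlane

section General

variable (R : CommRingCat.{u}) [IsDomain R]

instance : Nonempty (⊤ : (Spec R).Opens) :=
  ⟨⟨(⟨⊥, Ideal.isPrime_bot⟩ : PrimeSpectrum R), trivial⟩⟩

/-- The map from `R` to the function field of `Spec R` through sections over `U`. -/
noncomputable def theta (U : (Spec R).Opens) [Nonempty U] : R →+* (Spec R).functionField :=
  ((Spec R).germToFunctionField U).hom.comp (algebraMap R Γ(Spec R, U))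

lemma theta_eq (U : (Spec R).Opens) [Nonempty U] : theta R U = theta R ⊤ := by
  unfold theta
  rw [IsAffineOpen.algebraMap_Spec_obj, IsAffineOpen.algebraMap_Spec_obj,
    ← CommRingCat.hom_comp, ← CommRingCat.hom_comp]
  congr 1
  rw [Category.assoc, Category.assoc]
  congr 1
  rw [TopCat.Presheaf.germ_res, TopCat.Presheaf.germ_res]

lemma theta_injective (U : (Spec R).Opens) [Nonempty U] : Function.Injective (theta R U) := by
  rw [theta_eq]
  unfold theta
  refine ((Spec R).germToFunctionField_injective ⊤).comp ?_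
  rw [IsAffineOpen.algebraMap_Spec_obj]
  have : (Spec R).presheaf.map (homOfLE (le_top : (⊤ : (Spec R).Opens) ≤ ⊤)).op = 𝟙 _ :=
    (Spec R).presheaf.map_id _
  rw [this, Category.comp_id]
  exact (ConcreteCategory.bijective_of_isIso (Scheme.ΓSpecIso R).inv).1

lemma germ_res_apply {U V : (Spec R).Opens} [Nonempty U] [hV : Nonempty V] (h : V ≤ U)
    (σ : Γ(Spec R, U)) :
    ((Spec R).germToFunctionField V).hom (((Spec R).presheaf.map (homOfLE h).op).hom σ) =
      ((Spec R).germToFunctionField U).hom σ := by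
  have := TopCat.Presheaf.germ_res (Spec R).presheaf (homOfLE h) (genericPoint (Spec R))
    (((genericPoint_spec (Spec R)).mem_open_set_iff V.isOpen).mpr (by simpa using hV))
  exact DFunLike.congr_fun (congrArg CommRingCat.Hom.hom this) σ

lemma nonempty_basicOpen (s : R) (hs : s ≠ 0) :
    Nonempty (PrimeSpectrum.basicOpen s : (Spec R).Opens) := by
  have h1 : (PrimeSpectrum.basicOpen s : (Spec R).Opens) ≠ ⊥ := by
    rw [Ne, PrimeSpectrum.basicOpen_eq_bot_iff, isNilpotent_iff_eq_zero]
    exact hs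
  exact ((Opens.ne_bot_iff_nonempty _).mp h1).to_subtype

set_option backward.isDefEq.respectTransparency.types false in
/-- Elements of sections over `D(s)` are fractions with denominator a power of `s`. -/
lemma exists_frac (s : R) (hs : s ≠ 0) (U : (Spec R).Opens) [Nonempty U]
    (D : (Spec R).Opens) (hD : D = PrimeSpectrum.basicOpen s)
    (hU : D ≤ U) (σ : Γ(Spec R, U)) :
    ∃ (n : ℕ) (a : R),
      ((Spec R).germToFunctionField U).hom σ * theta R ⊤ s ^ n = theta R ⊤ a := by
  have : Nonempty D := by rw [hD]; exact nonempty_basicOpen R s hs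
  have : IsLocalization.Away s Γ(Spec R, D) := by rw [hD]; infer_instance
  let σ1 : Γ(Spec R, D) := ((Spec R).presheaf.map (homOfLE hU).op).hom σ
  obtain ⟨n, a, h⟩ := IsLocalization.Away.surj s σ1
  refine ⟨n, a, ?_⟩
  have h2 := congrArg ((Spec R).germToFunctionField D).hom h
  rw [map_mul, map_pow] at h2
  have e1 : ((Spec R).germToFunctionField D).hom σ1 =
      ((Spec R).germToFunctionField U).hom σ :=
    germ_res_apply R hU σ
  have e2 : ∀ r : R, ((Spec R).germToFunctionField D).hom
      (algebraMap R Γ(Spec R, D) r) = theta R ⊤ r := by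
    intro r
    rw [← theta_eq R D]; rfl
  rw [e1, e2, e2] at h2
  exact h2

theorem eq_top_of_isAffineOpen (s t : R) (hsp : Prime s) (ht : t ≠ 0) (hst : ¬ s ∣ t)
    (U : (Spec R).Opens) (hUdef : U = PrimeSpectrum.basicOpen s ⊔ PrimeSpectrum.basicOpen t)
    (hU : IsAffineOpen U) : U = ⊤ := by
  have hs : s ≠ 0 := hsp.ne_zero
  have hle1 : (PrimeSpectrum.basicOpen s : (Spec R).Opens) ≤ U := by rw [hUdef]; exact le_sup_left
  have hle2 : (PrimeSpectrum.basicOpen t : (Spec R).Opens) ≤ U := by rw [hUdef]; exact le_sup_right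
  have : Nonempty U := by
    obtain ⟨⟨x, hx⟩⟩ := nonempty_basicOpen R s hs
    exact ⟨⟨x, hle1 hx⟩⟩
  let g := ((Spec R).germToFunctionField U).hom
  have hg : Function.Injective g := (Spec R).germToFunctionField_injective U
  have hinj : Function.Injective (algebraMap R Γ(Spec R, U)) :=
    Function.Injective.of_comp (f := g) (theta_injective R U)
  have hsurj : Function.Surjective (algebraMap R Γ(Spec R, U)) := by
    intro σ
    obtain ⟨n, a, ha⟩ := exists_frac R s hs U _ rfl hle1 σ
    obtain ⟨m, b, hb⟩ := exists_frac R t ht U _ rfl hle2 σ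
    have e : theta R ⊤ (a * t ^ m) = theta R ⊤ (b * s ^ n) := by
      rw [map_mul, map_mul, map_pow, map_pow, ← ha, ← hb]
      ring
    have e' : a * t ^ m = b * s ^ n := theta_injective R ⊤ e
    have hdvd : s ^ n ∣ a := by
      refine hsp.pow_dvd_of_dvd_mul_right (b := t ^ m) n
        (fun h => hst (hsp.dvd_of_dvd_pow h)) ⟨b, ?_⟩
      rw [e']; ring
    obtain ⟨c, rfl⟩ := hdvd
    refine ⟨c, hg ?_⟩
    have h1 : g (algebraMap R Γ(Spec R, U) c) = theta R ⊤ c := by
      rw [← theta_eq R U]; rfl
    rw [h1]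
    have h2 : theta R ⊤ s ^ n ≠ 0 := by
      apply pow_ne_zero
      intro h0
      exact hs (theta_injective R ⊤ (by rw [h0, map_zero]))
    rw [map_mul, map_pow] at ha
    have h3 : g σ * theta R ⊤ s ^ n = theta R ⊤ c * theta R ⊤ s ^ n := by
      rw [ha]; ring
    exact (mul_right_cancel₀ h2 h3).symm
  -- the restriction map is an isomorphism
  have hbij : Function.Bijective ((Scheme.ΓSpecIso R).inv ≫
      (Spec R).presheaf.map (homOfLE (le_top : U ≤ ⊤)).op) := by
    have : algebraMap R Γ(Spec R, U) = ((Scheme.ΓSpecIso R).inv ≫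
      (Spec R).presheaf.map (homOfLE (le_top : U ≤ ⊤)).op).hom := IsAffineOpen.algebraMap_Spec_obj
    exact ⟨by rw [this] at hinj; exact hinj, by rw [this] at hsurj; exact hsurj⟩
  have hiso1 : IsIso ((Scheme.ΓSpecIso R).inv ≫
      (Spec R).presheaf.map (homOfLE (le_top : U ≤ ⊤)).op) :=
    (ConcreteCategory.isIso_iff_bijective _).mpr hbij
  have hiso2 : IsIso ((Spec R).presheaf.map (homOfLE (le_top : U ≤ ⊤)).op) :=
    IsIso.of_isIso_comp_left (Scheme.ΓSpecIso R).inv _
  have hfs : Spec.map ((Spec R).presheaf.map (homOfLE (le_top : U ≤ ⊤)).op) ≫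
      (isAffineOpen_top (Spec R)).fromSpec = hU.fromSpec :=
    (isAffineOpen_top (Spec R)).map_fromSpec hU (homOfLE le_top).op
  have hiso3 : IsIso hU.fromSpec := by
    rw [← hfs, IsAffineOpen.fromSpec_top]
    infer_instance
  have hrange : Set.range hU.fromSpec = Set.univ :=
    Set.range_eq_univ.mpr (ConcreteCategory.bijective_of_isIso hU.fromSpec.base).2
  rw [hU.range_fromSpec] at hrange
  exact SetLike.coe_injective hrange

end General

theorem not_affine (K : Type u) [Field K] :
    ¬ IsAffineOpen (X := Spec (CommRingCat.of (MvPolynomial (Fin 2) K)))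
      (PrimeSpectrum.basicOpen (MvPolynomial.X 0 : MvPolynomial (Fin 2) K) ⊔
        PrimeSpectrum.basicOpen (MvPolynomial.X 1 : MvPolynomial (Fin 2) K)) := by
  intro hU
  have hst : ¬ (MvPolynomial.X 0 : MvPolynomial (Fin 2) K) ∣ MvPolynomial.X 1 := by
    rintro ⟨q, hq⟩
    have h2 := congrArg (MvPolynomial.eval (![0, 1] : Fin 2 → K)) hq
    simp at h2
  have htop := eq_top_of_isAffineOpen (CommRingCat.of (MvPolynomial (Fin 2) K))
    (MvPolynomial.X 0) (MvPolynomial.X 1) MvPolynomial.X_prime (MvPolynomial.X_ne_zero 1) hst _ rfl hU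
  -- the origin
  let ev : MvPolynomial (Fin 2) K →+* K := MvPolynomial.eval (fun _ => 0)
  have hev : Function.Surjective ev := fun k => ⟨MvPolynomial.C k, by simp [ev]⟩
  have : (RingHom.ker ev).IsMaximal := RingHom.ker_isMaximal_of_surjective ev hev
  let o : PrimeSpectrum (MvPolynomial (Fin 2) K) := ⟨RingHom.ker ev, inferInstance⟩
  have ho : o ∈ (PrimeSpectrum.basicOpen (MvPolynomial.X 0 : MvPolynomial (Fin 2) K) ⊔
        PrimeSpectrum.basicOpen (MvPolynomial.X 1 : MvPolynomial (Fin 2) K)) := by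
    rw [htop]; trivial
  rcases ho with ho | ho
  · apply ho
    change ev (MvPolynomial.X 0) = 0
    simp [ev]
  · apply ho
    change ev (MvPolynomial.X 1) = 0
    simp [ev]

end Groth.Agent.Helper1.PuncPlane
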