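import Groth.Prelude.Def_Pi1
import Mathlib

namespace Groth.Agent.Helper1.PureL
open TensorProduct
universe u

variable {R S : Type u} [CommRing R] [CommRing S] [Algebra R S]

/-- For a universally injective `R → S`, `p ↦ 1 ⊗ p : P → S ⊗ P` is injective. -/
theorem one_tmul_injective (h : Pi1.UnivInjective R S) (P : Type u) [AddCommGroup P] [Module R P] :
    Function.Injective (fun p : P => (1 : S) ⊗ₜ[R] p) := by
  have h1 := h P
  have : (fun p : P => (1 : S) ⊗ₜ[R] p) =
      (TensorProduct.comm R P S) ∘ (LinearMap.lTensor P (Algebra.linearMap R S)) ∘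
        (TensorProduct.rid R P).symm := by
    ext p
    simp
  rw [this]
  exact (TensorProduct.comm R P S).injective.comp (h1.comp (TensorProduct.rid R P).symm.injective)

/-- a module killed by a universally injective base change is zero -/
theorem subsingleton_of_tensor (h : Pi1.UnivInjective R S) (P : Type u) [AddCommGroup P] [Module R P]
    [Subsingleton (S ⊗[R] P)] : Subsingleton P :=
  (one_tmul_injective h P).subsingleton

/-- finite generation descends -/
theorem finite_of_tensor (h : Pi1.UnivInjective R S) (M : Type u) [AddCommGroup M] [Module R M]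
    [Module.Finite S (S ⊗[R] M)] : Module.Finite R M := by
  classical
  obtain ⟨s, hs⟩ := (Module.finite_def.mp (inferInstance : Module.Finite S (S ⊗[R] M)))
  -- each generator is a finite sum of pure tensors; collect the `M`-components
  have key : ∀ x : S ⊗[R] M, ∃ t : Finset M,
      x ∈ Submodule.span S ((fun m : M => (1 : S) ⊗ₜ[R] m) '' (t : Set M)) := by
    intro x
    induction x using TensorProduct.induction_on with
    | zero => exact ⟨∅, Submodule.zero_mem _⟩
    | tmul a m =>
      refine ⟨{m}, ?_⟩
      have : a ⊗ₜ[R] m = a • ((1 : S) ⊗ₜ[R] m) := by simp [TensorProduct.smul_tmul']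
      rw [this]
      exact Submodule.smul_mem _ _ (Submodule.subset_span ⟨m, by simp, rfl⟩)
    | add x y hx hy =>
      obtain ⟨t₁, h₁⟩ := hx
      obtain ⟨t₂, h₂⟩ := hy
      refine ⟨t₁ ∪ t₂, Submodule.add_mem _ ?_ ?_⟩
      · exact Submodule.span_mono (Set.image_mono (by simp)) h₁
      · exact Submodule.span_mono (Set.image_mono (by simp)) h₂
  choose tf htf using key
  let T : Finset M := s.biUnion tf
  let N : Submodule R M := Submodule.span R (T : Set M)
  -- (M/N) ⊗ S = 0
  have hsurj : Function.Surjective (N.subtype.baseChange S) := by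
    rw [← LinearMap.range_eq_top, eq_top_iff, ← hs, Submodule.span_le]
    intro x hx
    have h1 := htf x
    have h2 : Submodule.span S ((fun m : M => (1 : S) ⊗ₜ[R] m) '' (tf x : Set M)) ≤
        LinearMap.range (N.subtype.baseChange S) := by
      rw [Submodule.span_le]
      rintro _ ⟨m, hm, rfl⟩
      have hmN : m ∈ N := Submodule.subset_span (Finset.mem_biUnion.mpr ⟨x, hx, hm⟩)
      exact ⟨(1 : S) ⊗ₜ[R] ⟨m, hmN⟩, by simp⟩
    exact h2 h1
  have hq : Subsingleton (S ⊗[R] (M ⧸ N)) := by
    have hex : Function.Exact (N.subtype.baseChange S) (N.mkQ.baseChange S) := by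
      have := lTensor_exact S (LinearMap.exact_subtype_mkQ N) (Submodule.mkQ_surjective N)
      exact this
    have hsq : Function.Surjective (N.mkQ.baseChange S) :=
      LinearMap.lTensor_surjective S (Submodule.mkQ_surjective N)
    refine ⟨fun a b => ?_⟩
    obtain ⟨a', rfl⟩ := hsq a
    obtain ⟨b', rfl⟩ := hsq b
    obtain ⟨a'', rfl⟩ := hsurj a'
    obtain ⟨b'', rfl⟩ := hsurj b'
    rw [hex.apply_apply_eq_zero, hex.apply_apply_eq_zero]
  have : Subsingleton (M ⧸ N) := subsingleton_of_tensor h (M ⧸ N)
  have hN : N = ⊤ := Submodule.Quotient.subsingleton_iff.mp this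
  exact ⟨⟨T, hN⟩⟩

/-- elements of `S ⊗ P` are `S`-combinations of finitely many `1 ⊗ p`. -/
theorem exists_finset_mem_span (P : Type u) [AddCommGroup P] [Module R P] (x : S ⊗[R] P) :
    ∃ t : Finset P, x ∈ Submodule.span S ((fun m : P => (1 : S) ⊗ₜ[R] m) '' (t : Set P)) := by
  classical
  induction x using TensorProduct.induction_on with
  | zero => exact ⟨∅, Submodule.zero_mem _⟩
  | tmul a m =>
    refine ⟨{m}, ?_⟩
    have : a ⊗ₜ[R] m = a • ((1 : S) ⊗ₜ[R] m) := by simp [TensorProduct.smul_tmul']
    rw [this]
    exact Submodule.smul_mem _ _ (Submodule.subset_span ⟨m, by simp, rfl⟩)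
  | add x y hx hy =>
    obtain ⟨t₁, h₁⟩ := hx
    obtain ⟨t₂, h₂⟩ := hy
    refine ⟨t₁ ∪ t₂, Submodule.add_mem _ ?_ ?_⟩
    · exact Submodule.span_mono (Set.image_mono (by simp)) h₁
    · exact Submodule.span_mono (Set.image_mono (by simp)) h₂

/-- kernel of a surjection onto `M` is finitely generated if it becomes so after a universally
injective base change. -/
theorem ker_fg_of_tensor (h : Pi1.UnivInjective R S) {F M : Type u} [AddCommGroup F] [Module R F]
    [AddCommGroup M] [Module R M] (π : F →ₗ[R] M) (hπ : Function.Surjective π)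
    (hk : (LinearMap.ker (π.baseChange S)).FG) : (LinearMap.ker π).FG := by
  classical
  set K := LinearMap.ker π with hK
  obtain ⟨s, hs⟩ := hk
  have hex : Function.Exact (K.subtype.baseChange S) (π.baseChange S) :=
    lTensor_exact S (LinearMap.exact_subtype_ker_map π) hπ
  have hmem : ∀ x ∈ s, ∃ y : S ⊗[R] K, K.subtype.baseChange S y = x := by
    intro x hx
    have : x ∈ LinearMap.ker (π.baseChange S) := by rw [← hs]; exact Submodule.subset_span hx
    exact (hex x).mp this
  choose! yf hyf using hmem
  have key := fun x => exists_finset_mem_span (R := R) (S := S) K (yf x)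
  choose tf htf using key
  let T : Finset K := s.biUnion tf
  let K' : Submodule R F := Submodule.span R ((fun k : K => (k : F)) '' (T : Set K))
  have hK'le : K' ≤ K := by
    rw [Submodule.span_le]
    rintro _ ⟨k, -, rfl⟩
    exact k.2
  -- generators of the kernel die in `S ⊗ F/K'`
  have hkill : ∀ x ∈ s, K'.mkQ.baseChange S x = 0 := by
    intro x hx
    rw [← hyf x hx]
    have h1 := htf x
    have h2 : Submodule.span S ((fun m : K => (1 : S) ⊗ₜ[R] m) '' (tf x : Set K)) ≤
        LinearMap.ker ((K'.mkQ.baseChange S) ∘ₗ (K.subtype.baseChange S)) := by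
      rw [Submodule.span_le]
      rintro _ ⟨k, hk, rfl⟩
      rw [SetLike.mem_coe, LinearMap.mem_ker, LinearMap.comp_apply, LinearMap.baseChange_tmul,
        LinearMap.baseChange_tmul]
      have : K'.mkQ (K.subtype k) = 0 := by
        rw [Submodule.mkQ_apply, Submodule.Quotient.mk_eq_zero]
        exact Submodule.subset_span ⟨k, Finset.mem_biUnion.mpr ⟨x, hx, hk⟩, rfl⟩
      rw [this, tmul_zero]
    exact h2 h1
  have hkill' : LinearMap.ker (π.baseChange S) ≤ LinearMap.ker (K'.mkQ.baseChange S) := by
    rw [← hs, Submodule.span_le]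
    exact fun x hx => hkill x hx
  have hle : K ≤ K' := by
    intro k hk
    have h1 : (1 : S) ⊗ₜ[R] k ∈ LinearMap.ker (π.baseChange S) := by
      rw [LinearMap.mem_ker, LinearMap.baseChange_tmul]
      rw [hK, LinearMap.mem_ker] at hk
      rw [hk, tmul_zero]
    have h2 := hkill' h1
    rw [LinearMap.mem_ker, LinearMap.baseChange_tmul] at h2
    have h3 : K'.mkQ k = 0 := by
      apply one_tmul_injective h (F ⧸ K')
      simpa using h2
    rwa [Submodule.mkQ_apply, Submodule.Quotient.mk_eq_zero] at h3
  have : K = K' := le_antisymm hle hK'le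
  rw [this]
  exact ⟨T.image (fun k : K => (k : F)), by simp [K']⟩

/-- finite presentation descends -/
theorem finitePresentation_of_tensor (h : Pi1.UnivInjective R S) (M : Type u) [AddCommGroup M]
    [Module R M] [Module.FinitePresentation S (S ⊗[R] M)] : Module.FinitePresentation R M := by
  have hfin : Module.Finite R M := finite_of_tensor h M
  obtain ⟨n, π, hπ⟩ := Module.Finite.exists_fin' R M
  have hπS : Function.Surjective (π.baseChange S) := LinearMap.lTensor_surjective S hπ
  have hk : (LinearMap.ker (π.baseChange S)).FG :=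
    Module.FinitePresentation.fg_ker (π.baseChange S) hπS
  exact Module.finitePresentation_of_surjective π hπ (ker_fg_of_tensor h π hπ hk)

/-- finite type descends -/
theorem finiteType_of_tensor (h : Pi1.UnivInjective R S) (A : Type u) [CommRing A] [Algebra R A]
    [Algebra.FiniteType S (S ⊗[R] A)] : Algebra.FiniteType R A := by
  classical
  obtain ⟨s, hs⟩ := (inferInstance : Algebra.FiniteType S (S ⊗[R] A)).out
  have key := fun x => exists_finset_mem_span (R := R) (S := S) A x
  choose tf htf using key
  let T : Finset A := s.biUnion tf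
  let B : Subalgebra R A := Algebra.adjoin R (T : Set A)
  let N : Submodule R A := Subalgebra.toSubmodule B
  -- the image of `S ⊗ B` is an `S`-subalgebra containing the generators
  have hsurj : Function.Surjective (N.subtype.baseChange S) := by
    -- the `S`-subalgebra generated by `1 ⊗ T`
    let C : Subalgebra S (S ⊗[R] A) :=
      (Algebra.TensorProduct.map (AlgHom.id S S) B.val).range
    have hC : ∀ x, x ∈ C ↔ x ∈ LinearMap.range (N.subtype.baseChange S) := by
      intro x
      constructor
      · rintro ⟨y, rfl⟩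
        exact ⟨y, rfl⟩
      · rintro ⟨y, rfl⟩
        exact ⟨y, rfl⟩
    have hCtop : C = ⊤ := by
      rw [eq_top_iff, ← hs, Algebra.adjoin_le_iff]
      intro x hx
      have h1 := htf x
      have h2 : Submodule.span S ((fun m : A => (1 : S) ⊗ₜ[R] m) '' (tf x : Set A)) ≤
          Subalgebra.toSubmodule C := by
        rw [Submodule.span_le]
        rintro _ ⟨m, hm, rfl⟩
        have hmB : m ∈ B := Algebra.subset_adjoin (Finset.mem_biUnion.mpr ⟨x, hx, hm⟩)
        exact ⟨(1 : S) ⊗ₜ[R] ⟨m, hmB⟩, by simp⟩
      exact h2 h1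
    intro x
    have : x ∈ C := by rw [hCtop]; trivial
    exact (hC x).mp this
  have hq : Subsingleton (S ⊗[R] (A ⧸ N)) := by
    have hex : Function.Exact (N.subtype.baseChange S) (N.mkQ.baseChange S) :=
      lTensor_exact S (LinearMap.exact_subtype_mkQ N) (Submodule.mkQ_surjective N)
    have hsq : Function.Surjective (N.mkQ.baseChange S) :=
      LinearMap.lTensor_surjective S (Submodule.mkQ_surjective N)
    refine ⟨fun a b => ?_⟩
    obtain ⟨a', rfl⟩ := hsq a
    obtain ⟨b', rfl⟩ := hsq b
    obtain ⟨a'', rfl⟩ := hsurj a'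
    obtain ⟨b'', rfl⟩ := hsurj b'
    rw [hex.apply_apply_eq_zero, hex.apply_apply_eq_zero]
  have : Subsingleton (A ⧸ N) := subsingleton_of_tensor h (A ⧸ N)
  have hN : N = ⊤ := Submodule.Quotient.subsingleton_iff.mp this
  have hB : B = ⊤ := by
    rw [eq_top_iff]
    intro a _
    have : a ∈ N := by rw [hN]; trivial
    exact this
  exact ⟨⟨T, hB⟩⟩

/-- kernel of a surjection of algebras is a finitely generated ideal if it becomes so after a
universally injective base change. -/
theorem ker_fg_of_tensor_alg (h : Pi1.UnivInjective R S) {P A : Type u} [CommRing P] [Algebra R P]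
    [CommRing A] [Algebra R A] (π : P →ₐ[R] A) (hπ : Function.Surjective π)
    (hk : (RingHom.ker (Algebra.TensorProduct.map (AlgHom.id S S) π)).FG) :
    (RingHom.ker π).FG := by
  classical
  set K : Submodule R P := LinearMap.ker π.toLinearMap with hK
  obtain ⟨s, hs⟩ := hk
  have hex : Function.Exact (K.subtype.baseChange S) (π.toLinearMap.baseChange S) :=
    lTensor_exact S (LinearMap.exact_subtype_ker_map π.toLinearMap) hπ
  have hmem : ∀ x ∈ s, ∃ y : S ⊗[R] K, K.subtype.baseChange S y = x := by
    intro x hx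
    have h1 : x ∈ RingHom.ker (Algebra.TensorProduct.map (AlgHom.id S S) π) := by
      rw [← hs]; exact Ideal.subset_span hx
    have h2 : π.toLinearMap.baseChange S x = 0 := h1
    exact (hex x).mp h2
  choose! yf hyf using hmem
  have key := fun x => exists_finset_mem_span (R := R) (S := S) K (yf x)
  choose tf htf using key
  let T : Finset K := s.biUnion tf
  let I' : Ideal P := Ideal.span ((fun k : K => (k : P)) '' (T : Set K))
  have hI'le : I' ≤ RingHom.ker π := by
    rw [Ideal.span_le]
    rintro _ ⟨k, -, rfl⟩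
    exact k.2
  let ψ : S ⊗[R] P →ₐ[S] S ⊗[R] (P ⧸ I') :=
    Algebra.TensorProduct.map (AlgHom.id S S) (Ideal.Quotient.mkₐ R I')
  have hψ : ∀ (a : S) (p : P), ψ (a ⊗ₜ[R] p) = a ⊗ₜ[R] (Ideal.Quotient.mk I' p) := by
    intro a p; simp [ψ]
  have hkill : ∀ x ∈ s, ψ x = 0 := by
    intro x hx
    rw [← hyf x hx]
    have h1 := htf x
    have h2 : Submodule.span S ((fun m : K => (1 : S) ⊗ₜ[R] m) '' (tf x : Set K)) ≤
        LinearMap.ker (ψ.toLinearMap ∘ₗ (K.subtype.baseChange S)) := by
      rw [Submodule.span_le]
      rintro _ ⟨k, hk, rfl⟩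
      rw [SetLike.mem_coe, LinearMap.mem_ker, LinearMap.comp_apply, LinearMap.baseChange_tmul]
      change ψ ((1 : S) ⊗ₜ[R] (k : P)) = 0
      rw [hψ]
      have : Ideal.Quotient.mk I' (k : P) = 0 := by
        rw [Ideal.Quotient.eq_zero_iff_mem]
        exact Ideal.subset_span ⟨k, Finset.mem_biUnion.mpr ⟨x, hx, hk⟩, rfl⟩
      rw [this, tmul_zero]
    exact h2 h1
  have hkill' : RingHom.ker (Algebra.TensorProduct.map (AlgHom.id S S) π) ≤ RingHom.ker ψ := by
    rw [← hs, Ideal.span_le]
    exact fun x hx => hkill x hx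
  have hle : RingHom.ker π ≤ I' := by
    intro i hi
    have h1 : (1 : S) ⊗ₜ[R] i ∈ RingHom.ker (Algebra.TensorProduct.map (AlgHom.id S S) π) := by
      rw [RingHom.mem_ker]
      change (Algebra.TensorProduct.map (AlgHom.id S S) π) ((1 : S) ⊗ₜ[R] i) = 0
      rw [Algebra.TensorProduct.map_tmul]
      have : π i = 0 := hi
      rw [this, tmul_zero]
    have h2 := hkill' h1
    rw [RingHom.mem_ker, hψ] at h2
    have h3 : Ideal.Quotient.mk I' i = 0 := by
      apply one_tmul_injective h (P ⧸ I')
      simpa using h2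
    rwa [Ideal.Quotient.eq_zero_iff_mem] at h3
  have : RingHom.ker π = I' := le_antisymm hle hI'le
  rw [this]
  exact ⟨T.image (fun k : K => (k : P)), by simp [I']⟩

/-- finite presentation of algebras descends -/
theorem algFinitePresentation_of_tensor (h : Pi1.UnivInjective R S) (A : Type u) [CommRing A]
    [Algebra R A] [Algebra.FinitePresentation S (S ⊗[R] A)] : Algebra.FinitePresentation R A := by
  have hft : Algebra.FiniteType R A := finiteType_of_tensor h A
  obtain ⟨n, π, hπ⟩ := Algebra.FiniteType.iff_quotient_mvPolynomial''.mp hft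
  have hπS : Function.Surjective (Algebra.TensorProduct.map (AlgHom.id S S) π) := by
    exact Algebra.TensorProduct.map_surjective _ _ (fun x => ⟨x, rfl⟩) hπ
  have hk := Algebra.FinitePresentation.ker_fG_of_surjective
    (Algebra.TensorProduct.map (AlgHom.id S S) π) hπS
  exact Algebra.FinitePresentation.of_surjective hπ (ker_fg_of_tensor_alg h π hπ hk)

section FlatDescent

/-- trivial relations with an arbitrary finite index type -/
theorem isTrivialRelation_of_fintype {M : Type u} [AddCommGroup M] [Module R M]
    {ι : Type*} [Fintype ι] {f : ι → R} {x : ι → M}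
    {κ : Type*} [Fintype κ] (a : ι → κ → R) (y : κ → M)
    (h1 : ∀ i, x i = ∑ j, a i j • y j) (h2 : ∀ j, ∑ i, f i * a i j = 0) :
    Module.IsTrivialRelation f x := by
  let e := Fintype.equivFin κ
  refine ⟨Fintype.card κ, fun i j => a i (e.symm j), fun j => y (e.symm j), fun i => ?_, fun j => ?_⟩
  · rw [h1 i]
    exact (Equiv.sum_comp e.symm (fun j => a i j • y j)).symm
  · exact h2 (e.symm j)

/-- flatness descends along universally injective ring maps -/
theorem flat_of_tensor (h : Pi1.UnivInjective R S) (M : Type u) [AddCommGroup M] [Module R M]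
    [Module.Flat S (S ⊗[R] M)] : Module.Flat R M := by
  classical
  apply Module.Flat.of_forall_isTrivialRelation
  intro l f x hfx
  -- the relation over `S`
  have hS : ∑ i, (algebraMap R S (f i)) • ((1 : S) ⊗ₜ[R] x i) = 0 := by
    have : ∀ i, (algebraMap R S (f i)) • ((1 : S) ⊗ₜ[R] x i) = (1 : S) ⊗ₜ[R] (f i • x i) := by
      intro i
      rw [TensorProduct.smul_tmul', smul_eq_mul, mul_one, TensorProduct.tmul_smul,
        Algebra.algebraMap_eq_smul_one, TensorProduct.smul_tmul']
    simp_rw [this]
    rw [← TensorProduct.tmul_sum, hfx, tmul_zero]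
  obtain ⟨N, A, y, hy1, hy2⟩ := Module.Flat.isTrivialRelation_of_sum_smul_eq_zero hS
  -- express the `y j` through finitely many `1 ⊗ m`
  have key := fun j => exists_finset_mem_span (R := R) (S := S) M (y j)
  choose tf htf using key
  let T : Finset M := Finset.univ.biUnion tf
  have hyT : ∀ j, y j ∈ Submodule.span S ((fun m : M => (1 : S) ⊗ₜ[R] m) '' (T : Set M)) := by
    intro j
    refine Submodule.span_mono (Set.image_mono ?_) (htf j)
    intro m hm
    exact Finset.mem_biUnion.mpr ⟨j, Finset.mem_univ j, hm⟩
  have hyT' : ∀ j, ∃ s : T → S, y j = ∑ t : T, s t • ((1 : S) ⊗ₜ[R] (t : M)) := by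
    intro j
    have h1 := hyT j
    have himg : ((fun m : M => (1 : S) ⊗ₜ[R] m) '' (T : Set M)) =
        Set.range (fun t : T => (1 : S) ⊗ₜ[R] (t : M)) := by
      ext z
      constructor
      · rintro ⟨m, hm, rfl⟩; exact ⟨⟨m, hm⟩, rfl⟩
      · rintro ⟨t, rfl⟩; exact ⟨t, t.2, rfl⟩
    rw [himg, Submodule.mem_span_range_iff_exists_fun] at h1
    obtain ⟨c, hc⟩ := h1
    exact ⟨c, hc.symm⟩
  choose sf hsf using hyT'
  -- the matrix `A'`
  let A' : Fin l → T → S := fun i t => ∑ j, A i j * sf j t
  have hA'1 : ∀ i, (1 : S) ⊗ₜ[R] x i = ∑ t : T, A' i t • ((1 : S) ⊗ₜ[R] (t : M)) := by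
    intro i
    have hy1' : (1 : S) ⊗ₜ[R] x i = ∑ j, A i j • y j := hy1 i
    rw [hy1']
    simp_rw [hsf, Finset.smul_sum, smul_smul]
    rw [Finset.sum_comm]
    refine Finset.sum_congr rfl fun t _ => ?_
    rw [← Finset.sum_smul]
  have hA'2 : ∀ t, ∑ i, algebraMap R S (f i) * A' i t = 0 := by
    intro t
    simp only [A', Finset.mul_sum]
    rw [Finset.sum_comm]
    refine Finset.sum_eq_zero fun j _ => ?_
    simp_rw [← mul_assoc]
    have hy2' : ∑ i, algebraMap R S (f i) * A i j = 0 := hy2 j
    rw [← Finset.sum_mul, hy2', zero_mul]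
  -- the universal module
  let Φ : (Fin l → T → R) →ₗ[R] (T → R) × (Fin l → M) :=
    { toFun := fun a => (fun t => ∑ i, f i * a i t, fun i => ∑ t : T, a i t • (t : M))
      map_add' := by
        intro a b
        ext
        · simp [mul_add, Finset.sum_add_distrib]
        · simp [add_smul, Finset.sum_add_distrib]
      map_smul' := by
        intro c a
        ext
        · simp [Finset.mul_sum, mul_left_comm]
        · simp [Finset.smul_sum, smul_smul] }
  let Q := ((T → R) × (Fin l → M)) ⧸ LinearMap.range Φ
  let mk : ((T → R) × (Fin l → M)) →ₗ[R] Q := (LinearMap.range Φ).mkQ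
  have hmkΦ : ∀ a, mk (Φ a) = 0 := by
    intro a
    rw [Submodule.mkQ_apply, Submodule.Quotient.mk_eq_zero]
    exact ⟨a, rfl⟩
  let ν : Fin l → M →ₗ[R] Q := fun i => mk ∘ₗ (LinearMap.inr R (T → R) (Fin l → M)) ∘ₗ
    (LinearMap.single R (fun _ : Fin l => M) i)
  let ε : T → Q := fun t => mk (Pi.single t 1, 0)
  -- the relation `ν i t = - f i • ε t`
  have hrel : ∀ (i : Fin l) (t : T), ν i (t : M) = - (f i • ε t) := by
    intro i t
    have h1 := hmkΦ (Pi.single i (Pi.single t 1))
    have h2 : Φ (Pi.single i (Pi.single t 1)) =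
        (f i • Pi.single t (1 : R), Pi.single i (t : M)) := by
      refine Prod.ext (funext fun t' => ?_) (funext fun i' => ?_)
      · simp only [Φ, LinearMap.coe_mk, AddHom.coe_mk]
        rw [Finset.sum_eq_single i]
        · by_cases htt : t' = t
          · subst htt; simp
          · simp [Pi.single_apply, htt]
        · intro i' _ hi'
          simp [Pi.single_apply, hi']
        · simp
      · simp only [Φ, LinearMap.coe_mk, AddHom.coe_mk]
        by_cases hii : i' = i
        · subst hii
          rw [Finset.sum_eq_single t]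
          · simp
          · intro t'' _ ht''
            simp [Pi.single_apply, ht'']
          · simp
        · simp [Pi.single_apply, hii]
    rw [h2] at h1
    have h3 : (f i • Pi.single t (1 : R), Pi.single i (t : M)) =
        f i • ((Pi.single t (1 : R), (0 : Fin l → M)) : (T → R) × (Fin l → M)) +
          ((0 : T → R), Pi.single i (t : M)) := by
      ext <;> simp
    rw [h3, map_add, map_smul] at h1
    have h4 : ν i (t : M) = mk ((0 : T → R), Pi.single i (t : M)) := rfl
    rw [h4]
    exact eq_neg_of_add_eq_zero_right h1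
  -- class of `(0, x)`
  let q : Q := mk (0, x)
  have hq : q = ∑ i, ν i (x i) := by
    have : ((0 : T → R), x) = ∑ i, ((0 : T → R), Pi.single i (x i)) := by
      refine Prod.ext ?_ ?_
      · rw [Prod.fst_sum]; simp
      · rw [Prod.snd_sum]; funext i'; simp [Finset.sum_apply, Pi.single_apply]
    change mk (0, x) = _
    rw [this, map_sum]
    rfl
  have hq0 : (1 : S) ⊗ₜ[R] q = 0 := by
    rw [hq, TensorProduct.tmul_sum]
    have h1 : ∀ i, (1 : S) ⊗ₜ[R] ν i (x i) = - ∑ t : T, (A' i t * algebraMap R S (f i)) ⊗ₜ[R] ε t := by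
      intro i
      have : (1 : S) ⊗ₜ[R] ν i (x i) = (ν i).baseChange S ((1 : S) ⊗ₜ[R] x i) := by
        rw [LinearMap.baseChange_tmul]
      rw [this, hA'1 i, map_sum, ← Finset.sum_neg_distrib]
      refine Finset.sum_congr rfl fun t _ => ?_
      rw [map_smul, LinearMap.baseChange_tmul, hrel, TensorProduct.tmul_neg, smul_neg,
        TensorProduct.smul_tmul', smul_eq_mul, mul_one, TensorProduct.tmul_smul,
        Algebra.algebraMap_eq_smul_one, ← smul_eq_mul, TensorProduct.smul_tmul']
      simp [Algebra.smul_def, mul_comm]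
    simp_rw [h1]
    rw [Finset.sum_neg_distrib, Finset.sum_comm, neg_eq_zero]
    refine Finset.sum_eq_zero fun t _ => ?_
    rw [← TensorProduct.sum_tmul]
    have : ∑ i, A' i t * algebraMap R S (f i) = 0 := by
      rw [← hA'2 t]
      exact Finset.sum_congr rfl fun i _ => mul_comm _ _
    rw [this, zero_tmul]
  have hq' : q = 0 := by
    apply one_tmul_injective h Q
    simpa using hq0
  have hmem : ((0 : T → R), x) ∈ LinearMap.range Φ := by
    rwa [← Submodule.Quotient.mk_eq_zero]
  obtain ⟨a, ha⟩ := hmem
  have ha1 : ∀ t, ∑ i, f i * a i t = 0 := by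
    intro t
    have := congrFun (congrArg Prod.fst ha) t
    simpa [Φ] using this
  have ha2 : ∀ i, x i = ∑ t : T, a i t • (t : M) := by
    intro i
    have := congrFun (congrArg Prod.snd ha) i
    simpa [Φ] using this.symm
  exact isTrivialRelation_of_fintype a (fun t : T => (t : M)) ha2 ha1

end FlatDescent

section EtaleDescent

/-- étale descends along universally injective ring maps -/
theorem etale_of_tensor (h : Pi1.UnivInjective R S) (A : Type u) [CommRing A] [Algebra R A]
    [Algebra.Etale S (S ⊗[R] A)] : Algebra.Etale R A := by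
  have hflatS : Module.Flat S (S ⊗[R] A) := inferInstance
  have hflat : Module.Flat R A := flat_of_tensor h A
  have hfp : Algebra.FinitePresentation R A := algFinitePresentation_of_tensor h A
  have hunr : Algebra.FormallyUnramified R A := by
    constructor
    let _ : Algebra A (S ⊗[R] A) := Algebra.TensorProduct.rightAlgebra
    have : Subsingleton (S ⊗[R] Ω[A⁄R]) :=
      (KaehlerDifferential.tensorKaehlerEquivBase R S A (S ⊗[R] A)).subsingleton
    exact subsingleton_of_tensor h _
  exact Algebra.Etale.of_formallyUnramified_of_flat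

end EtaleDescent

end Groth.Agent.Helper1.PureL
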