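import Mathlib
import Groth.Agent.Lib.Helper1.Curve3
import Groth.Agent.Lib.Helper1.CurveLin1
import Groth.Agent.Lib.Helper1.Dv30
import Groth.Agent.Lib.Helper1.FtSupp
import Groth.Agent.Lib.Helper1.GV1
import Groth.Agent.Lib.Lead.SD1
import Groth.Prelude.Def_TFOne

/-!
# Torsion-free quotients of a rank one sheaf on a reduced curve (helper1)

Vanishing of sections / morphisms into torsion-free modules which vanish at the generic points,
and the inequality `χ(M_{Y ∪ Z}) + χ(M_W) ≤ χ(M_Y) + χ(M_Z)`.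
-/

set_option autoImplicit false
set_option backward.isDefEq.respectTransparency.types false
set_option synthInstance.maxHeartbeats 400000
set_option linter.style.haveILetI false
set_option linter.unusedSectionVars false
set_option linter.unusedVariables false
universe u
open CategoryTheory CategoryTheory.Limits AlgebraicGeometry TopologicalSpace Opposite

namespace Groth.Agent.Helper1.TFQ

open Groth.Agent.Lead Groth.Agent.Helper1.Dv Groth.Agent.Helper1.QcCech Groth.Agent.Helper1
open Groth.Agent.Lib.Helper5.StalkAdj Groth.Agent.Helper1.FinLen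

section Top

private theorem le_zero_aux (x : WithBot ℕ∞) (h : x + 1 ≤ 1) : x ≤ 0 := by
  induction x with
  | bot => exact bot_le
  | coe m =>
    induction m with
    | top =>
      exfalso
      have : ((⊤ : ℕ∞) : WithBot ℕ∞) + 1 = ((⊤ : ℕ∞) : WithBot ℕ∞) := by
        rw [← WithBot.coe_one, ← WithBot.coe_add, top_add]
      rw [this] at h
      have h' : (⊤ : ℕ∞) ≤ 1 := by exact_mod_cast h
      simp at h'
    | coe n =>
      have h' : ((n + 1 : ℕ) : WithBot ℕ∞) ≤ ((1 : ℕ) : WithBot ℕ∞) := by exact_mod_cast h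
      have h'' : n + 1 ≤ 1 := by exact_mod_cast h'
      have : n = 0 := by omega
      subst this
      rfl

/-- a non-generic point of an irreducible closed set of dimension `≤ 1` is closed -/
theorem isClosed_singleton_of_dimC {T : Type*} [TopologicalSpace T] [T0Space T]
    (z η : T) (C : Set T) (hdim : topologicalKrullDim ↥C ≤ 1)
    (hC : IsClosed C) (hη : IsGenericPoint η C) (hz : z ∈ C) (hne : z ≠ η) :
    IsClosed ({z} : Set T) := by
  rw [← closure_subset_iff_isClosed]
  intro w hw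
  by_contra hwz
  have hwz' : w ≠ z := hwz
  have hAB : closure ({w} : Set T) ⊂ closure ({z} : Set T) := by
    refine Set.ssubset_iff_subset_ne.2 ⟨closure_minimal (Set.singleton_subset_iff.2 hw)
      isClosed_closure, fun h => hwz' (inseparable_iff_closure_eq.2 h).eq⟩
  have hBC : closure ({z} : Set T) ⊂ C := by
    refine Set.ssubset_iff_subset_ne.2 ⟨closure_minimal (Set.singleton_subset_iff.2 hz) hC,
      fun h => hne ?_⟩
    rw [← hη.def] at h
    exact (inseparable_iff_closure_eq.2 h).eq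
  have h1 := krullDim_add_one_le_of_ssubset isIrreducible_singleton.closure isClosed_closure
    isIrreducible_singleton.closure hAB
  have h2 := krullDim_add_one_le_of_ssubset isIrreducible_singleton.closure isClosed_closure
    hη.isIrreducible hBC
  haveI : Nonempty (IrreducibleCloseds ↥(closure ({w} : Set T))) :=
    ⟨⟨Set.univ, (isIrreducible_iff_irreducibleSpace.1
      isIrreducible_singleton.closure).isIrreducible_univ, isClosed_univ⟩⟩
  have h0 : (0 : WithBot ℕ∞) ≤ topologicalKrullDim ↥(closure ({w} : Set T)) :=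
    Order.krullDim_nonneg
  have h4 : topologicalKrullDim ↥(closure ({z} : Set T)) ≤ 0 :=
    le_zero_aux _ (h2.trans hdim)
  have h5 : (0 : WithBot ℕ∞) + 1 ≤ 0 := (add_le_add_left h0 1).trans (h1.trans h4)
  have h6 : ((0 : ℕ) : WithBot ℕ∞) + 1 ≤ ((0 : ℕ) : WithBot ℕ∞) := by simpa using h5
  have h7 : ((0 + 1 : ℕ) : WithBot ℕ∞) ≤ ((0 : ℕ) : WithBot ℕ∞) := by exact_mod_cast h6
  have h8 : 0 + 1 ≤ 0 := by exact_mod_cast h7
  omega

end Top

variable {X : Scheme.{u}}

/-- a coherent module vanishing at the generic points of a scheme of pure dimension one has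
zero-dimensional support -/
theorem dim_support_le_zero
    (hpure : ∀ C ∈ irreducibleComponents (X : Type u), topologicalKrullDim C = 1)
    (H : X.Modules) (hH : Coh.IsCoh H)
    (hgen : ∀ η ∈ genericPoints X, η ∉ CohB1.support H) :
    topologicalKrullDim ↥(CohB1.support H) ≤ 0 := by
  refine Curve.krullDim_le_zero_of_forall_isClosed_singleton _
    (FtGen.isClosed_support H hH.2) (fun z hz => ?_)
  have hC := irreducibleComponent_mem_irreducibleComponents z
  obtain ⟨η, hη⟩ := QuasiSober.sober hC.1 isClosed_irreducibleComponent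
  have hηg : η ∈ genericPoints X := by
    change closure {η} ∈ irreducibleComponents X
    rw [hη.def]
    exact hC
  refine isClosed_singleton_of_dimC z η (irreducibleComponent z) (hpure _ hC).le
    isClosed_irreducibleComponent hη mem_irreducibleComponent ?_
  rintro rfl
  exact hgen _ hηg hz

/-! ### stalk maps -/

theorem stalkL_zero {E F : X.Modules} (x : X) (a : E.presheaf.stalk x) :
    stalkL (0 : E ⟶ F) x a = 0 := by
  obtain ⟨U, hxU, s, rfl⟩ := TopCat.Presheaf.exists_germ_eq E.presheaf (x := x) a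
  rw [stalkL_germ]
  have h0 : (0 : E ⟶ F).app U s = 0 := rfl
  rw [h0, map_zero]

/-- exactness of the kernel sequence on stalks -/
theorem exists_stalkL_kernel_eq {E G : X.Modules} (ψ : E ⟶ G) (x : X) (y : E.presheaf.stalk x)
    (hy : stalkL ψ x y = 0) : ∃ w, stalkL (kernel.ι ψ) x w = y := by
  let S : ShortComplex X.Modules := ShortComplex.mk (kernel.ι ψ) ψ (kernel.condition ψ)
  have hS : S.Exact := ShortComplex.exact_kernel ψ
  have hS' : (S.map (stalkSh X x)).Exact := hS.map (stalkSh X x)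
  exact (ShortComplex.moduleCat_exact_iff _).1 hS' y hy

/-! ### regular elements and vanishing of sections -/

attribute [local instance] SD.stalkModule

theorem mem_nonZeroDivisors_of_notMem [IsReduced X] {U : X.Opens} (hU : IsAffineOpen U)
    (r : Γ(X, U))
    (hr : ∀ η : U, η.1 ∈ genericPoints X → r ∉ (hU.primeIdealOf η).asIdeal) :
    r ∈ nonZeroDivisors Γ(X, U) := by
  rw [mem_nonZeroDivisors_iff_right]
  intro t ht
  rw [← basicOpen_eq_bot_iff]
  by_contra hne
  have hne' : ((X.basicOpen t : X.Opens) : Set X).Nonempty :=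
    (Opens.ne_bot_iff_nonempty _).1 hne
  have hd : Dense (genericPoints X) := dense_iff_closure_eq.2 genericPoints.closure
  obtain ⟨η, hηt, hηg⟩ := hd.inter_open_nonempty _ (X.basicOpen t).isOpen hne'
  have hηU : η ∈ U := X.basicOpen_le t hηt
  have h1 : t ∈ (hU.primeIdealOf ⟨η, hηU⟩).asIdeal.primeCompl :=
    (SD.mem_basicOpen_iff hU ⟨η, hηU⟩ t).1 hηt
  have h2 := hr ⟨η, hηU⟩ hηg
  have h3 : t * r ∈ (hU.primeIdealOf ⟨η, hηU⟩).asIdeal := by
    rw [ht]
    exact zero_mem _
  rcases (hU.primeIdealOf ⟨η, hηU⟩).isPrime.mem_or_mem h3 with h | h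
  · exact h1 h
  · exact h2 h

theorem germ_eq_zero_of_smul (G : X.Modules) (hG : TorSh.IsTorsionFree G) {U : X.Opens}
    (hU : IsAffineOpen U) (x : U) (r : Γ(X, U)) (hreg : r ∈ nonZeroDivisors Γ(X, U))
    (s : Γ(G, U)) (hr0 : r • s = 0) : G.presheaf.germ U x.1 x.2 s = 0 := by
  haveI := hU.isLocalization_stalk x
  have h2 : algebraMap Γ(X, U) (X.presheaf.stalk x.1) r ∈ nonZeroDivisors (X.presheaf.stalk x.1) :=
    IsLocalization.map_nonZeroDivisors_le (hU.primeIdealOf x).asIdeal.primeCompl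
      (X.presheaf.stalk x.1) (Submonoid.mem_map_of_mem _ hreg)
  have h3 : IsRegular (algebraMap Γ(X, U) (X.presheaf.stalk x.1) r) :=
    isRegular_iff_mem_nonZeroDivisors.2 h2
  have h5 : IsSMulRegular (G.presheaf.stalk x.1) (algebraMap Γ(X, U) (X.presheaf.stalk x.1) r) :=
    (hG x.1).isSMulRegular h3
  have h4 : (algebraMap Γ(X, U) (X.presheaf.stalk x.1) r) • G.presheaf.germ U x.1 x.2 s = 0 := by
    have := SD.germ_smul G x.1 U x.2 r s
    rw [hr0, map_zero] at this
    exact this.symm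
  apply h5
  change (algebraMap Γ(X, U) (X.presheaf.stalk x.1) r) • G.presheaf.germ U x.1 x.2 s =
    (algebraMap Γ(X, U) (X.presheaf.stalk x.1) r) • (0 : G.presheaf.stalk x.1)
  rw [h4, smul_zero]

/-- a section of a torsion-free quasi-coherent module over an affine open of a reduced noetherian
scheme which vanishes at the generic points vanishes -/
theorem section_eq_zero [IsReduced X] [IsNoetherian X] (G : X.Modules) [G.IsQuasicoherent]
    (hG : TorSh.IsTorsionFree G) {U : X.Opens} (hU : IsAffineOpen U) (s : Γ(G, U))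
    (hs : ∀ η : U, η.1 ∈ genericPoints X → G.presheaf.germ U η.1 η.2 s = 0) : s = 0 := by
  classical
  have hfinX : (genericPoints X).Finite :=
    genericPoints.finite NoetherianSpace.finite_irreducibleComponents
  have hfinU : {η : U | η.1 ∈ genericPoints X}.Finite :=
    hfinX.preimage Subtype.val_injective.injOn
  have hP : ((fun η : U => (hU.primeIdealOf η).asIdeal) ''
      {η : U | η.1 ∈ genericPoints X}).Finite := hfinU.image _
  obtain ⟨I, hI⟩ : ∃ I : Ideal Γ(X, U), ∀ r, r ∈ I ↔ r • s = 0 :=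
    ⟨(Submodule.span Γ(X, U) {s}).annihilator,
      fun r => Submodule.mem_annihilator_span_singleton s r⟩
  have h1 : ¬ ∃ p ∈ hP.toFinset, I ≤ p := by
    rintro ⟨p, hp, hIp⟩
    rw [Set.Finite.mem_toFinset] at hp
    obtain ⟨η, hη, rfl⟩ := hp
    haveI := SD.isLocalizedModule_germ G hU η
    have h0 : SD.germₗ G η s = 0 := hs η hη
    obtain ⟨c, hc⟩ := (IsLocalizedModule.eq_zero_iff (hU.primeIdealOf η).asIdeal.primeCompl
      (SD.germₗ G η)).1 h0
    exact c.2 (hIp ((hI c.1).2 hc))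
  rw [← Ideal.subset_union_prime (f := fun p : Ideal Γ(X, U) => p) ⊥ ⊥ (fun p hp _ _ => by
    rw [Set.Finite.mem_toFinset] at hp
    obtain ⟨η, -, rfl⟩ := hp
    exact (hU.primeIdealOf η).isPrime)] at h1
  obtain ⟨r, hrI, hrP⟩ := Set.not_subset.1 h1
  have hr0 : r • s = 0 := (hI r).1 hrI
  have hreg : r ∈ nonZeroDivisors Γ(X, U) := by
    apply mem_nonZeroDivisors_of_notMem hU
    intro η hη hmem
    apply hrP
    simp only [Set.mem_iUnion]
    exact ⟨_, (by rw [Finset.mem_coe, Set.Finite.mem_toFinset]; exact ⟨η, hη, rfl⟩), hmem⟩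
  apply TwistSec.eq_of_locally G
  intro x hx
  have hgerm := germ_eq_zero_of_smul G hG hU ⟨x, hx⟩ r hreg s hr0
  have hgerm' : G.presheaf.germ U x hx s = G.presheaf.germ U x hx 0 := by
    rw [map_zero]
    exact hgerm
  obtain ⟨W, hxW, i1, i2, h⟩ := TopCat.Presheaf.germ_eq G.presheaf x hx hx _ _ hgerm'
  have hi : i1 = i2 := Subsingleton.elim _ _
  subst hi
  exact ⟨W, leOfHom i1, hxW, h⟩

/-- a morphism into a torsion-free quasi-coherent module which vanishes at the generic points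
vanishes -/
theorem hom_eq_zero [IsReduced X] [IsNoetherian X] {K G : X.Modules} [G.IsQuasicoherent]
    (hG : TorSh.IsTorsionFree G) (φ : K ⟶ G)
    (h : ∀ η ∈ genericPoints X, ∀ t, stalkL φ η t = 0) : φ = 0 := by
  apply Scheme.Modules.hom_ext
  intro V
  ext t
  change φ.app V t = 0
  apply TwistSec.eq_of_locally G
  intro x hx
  obtain ⟨_, ⟨U, hU, rfl⟩, hxU, hUV⟩ :=
    X.isBasis_affineOpens.exists_subset_of_mem_open hx V.isOpen
  have hUV' : U ≤ V := fun a ha => hUV ha
  refine ⟨U, hUV', hxU, ?_⟩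
  rw [map_zero, ← QcExt.app_res]
  apply section_eq_zero G hG hU
  intro η hη
  rw [← stalkL_germ]
  exact h η.1 hη _

theorem comp_eq_zero_of_generic [IsReduced X] [IsNoetherian X] {K M G : X.Modules}
    [G.IsQuasicoherent] (π : M ⟶ G) (hG : TorSh.IsTorsionFree G) (φ : K ⟶ M)
    (h : ∀ η ∈ genericPoints X, η ∈ CohB1.support G → ∀ t, stalkL φ η t = 0) : φ ≫ π = 0 := by
  apply hom_eq_zero hG
  intro η hη t
  by_cases hηG : η ∈ CohB1.support G
  · rw [stalkL_comp, LinearMap.comp_apply, h η hη hηG t, map_zero]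
  · haveI : Subsingleton (G.presheaf.stalk η) := not_not.1 hηG
    exact Subsingleton.elim _ _

/-! ### rank one at the generic points -/

theorem stalkL_injective_of_generic [IsReduced X] {M G : X.Modules} (hM : TFOne.IsRkOne X M)
    (π : M ⟶ G) [Epi π] (η : X) (hη : η ∈ genericPoints X) (hηG : η ∈ CohB1.support G) :
    Function.Injective (stalkL π η) := by
  obtain ⟨e⟩ := hM η hη
  have hF : IsField (X.presheaf.stalk η) :=
    isField_stalk_of_closure_mem_irreducibleComponents X η hη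
  have hsurj := CurveLin.stalkL_surjective_of_epi π η
  rw [injective_iff_map_eq_zero]
  intro t ht
  by_contra htne
  apply hηG
  have hne : e t ≠ 0 := fun h => htne (e.map_eq_zero_iff.1 h)
  obtain ⟨b, hb⟩ := hF.mul_inv_cancel hne
  suffices h : ∀ y : G.presheaf.stalk η, y = 0 from ⟨fun a a' => (h a).trans (h a').symm⟩
  intro y
  obtain ⟨t', rfl⟩ := hsurj y
  have h1 : t' = (e t' * b) • t := by
    apply e.injective
    rw [map_smul, smul_eq_mul, mul_assoc, mul_comm b, hb, mul_one]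
  rw [h1, map_smul, ht, smul_zero]

theorem stalkL_eq_zero_of_comp [IsReduced X] {K M G : X.Modules} (hM : TFOne.IsRkOne X M)
    (φ : K ⟶ M) (π : M ⟶ G) [Epi π] (h : φ ≫ π = 0) (η : X) (hη : η ∈ genericPoints X)
    (hηG : η ∈ CohB1.support G) (t : K.presheaf.stalk η) : stalkL φ η t = 0 := by
  apply stalkL_injective_of_generic hM π η hη hηG
  rw [map_zero, ← LinearMap.comp_apply, ← stalkL_comp, h]
  exact stalkL_zero η t

theorem kernel_comp_eq_zero [IsReduced X] [IsNoetherian X] {M G₁ G₂ : X.Modules}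
    (hM : TFOne.IsRkOne X M) (π₁ : M ⟶ G₁) [Epi π₁] (π₂ : M ⟶ G₂) [G₂.IsQuasicoherent]
    (hG₂ : TorSh.IsTorsionFree G₂) (hsub : CohB1.support G₂ ⊆ CohB1.support G₁) :
    kernel.ι π₁ ≫ π₂ = 0 :=
  comp_eq_zero_of_generic π₂ hG₂ (kernel.ι π₁) (fun η hη hη2 t =>
    stalkL_eq_zero_of_comp hM (kernel.ι π₁) π₁ (kernel.condition π₁) η hη (hsub hη2) t)

theorem stalkL_desc_injective [IsReduced X] {M GY GZ GW : X.Modules} (hM : TFOne.IsRkOne X M)
    (πY : M ⟶ GY) [Epi πY] (πZ : M ⟶ GZ) [Epi πZ] (πW : M ⟶ GW) [Epi πW]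
    (aZ : GZ ⟶ GW) (haZ : πZ ≫ aZ = πW) (hfa : (kernel.ι πY ≫ πZ) ≫ aZ = 0)
    (η : X) (hη : η ∈ genericPoints X)
    (hYZW : η ∈ CohB1.support GY → η ∈ CohB1.support GZ → η ∈ CohB1.support GW) :
    Function.Injective (stalkL (cokernel.desc (kernel.ι πY ≫ πZ) aZ hfa) η) := by
  rw [injective_iff_map_eq_zero]
  intro r hr
  obtain ⟨g, rfl⟩ := CurveLin.stalkL_surjective_of_epi (cokernel.π (kernel.ι πY ≫ πZ)) η r
  have hg : stalkL aZ η g = 0 := by
    rw [← LinearMap.comp_apply, ← stalkL_comp, cokernel.π_desc] at hr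
    exact hr
  by_cases hZ : η ∈ CohB1.support GZ
  · obtain ⟨m, rfl⟩ := CurveLin.stalkL_surjective_of_epi πZ η g
    by_cases hY : η ∈ CohB1.support GY
    · have hm : m = 0 := by
        apply stalkL_injective_of_generic hM πW η hη (hYZW hY hZ)
        rw [map_zero, ← haZ, stalkL_comp, LinearMap.comp_apply]
        exact hg
      rw [hm, map_zero, map_zero]
    · haveI : Subsingleton (GY.presheaf.stalk η) := not_not.1 hY
      obtain ⟨w, rfl⟩ := exists_stalkL_kernel_eq πY η m (Subsingleton.elim _ _)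
      have h1 : stalkL (cokernel.π (kernel.ι πY ≫ πZ)) η
          (stalkL πZ η (stalkL (kernel.ι πY) η w)) =
          stalkL ((kernel.ι πY ≫ πZ) ≫ cokernel.π (kernel.ι πY ≫ πZ)) η w := by
        rw [stalkL_comp, stalkL_comp]
        rfl
      rw [h1, cokernel.condition]
      exact stalkL_zero η w
  · haveI : Subsingleton (GZ.presheaf.stalk η) := not_not.1 hZ
    have h0 : g = 0 := Subsingleton.elim _ _
    rw [h0, map_zero]

/-! ### Euler characteristics -/

section Euler

variable (k : Type u) [Field k] (X) [X.Over (Spec (CommRingCat.of k))]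
  [IsProper (X ↘ Spec (CommRingCat.of k))]

theorem euler_kernel {M G : X.Modules} (π : M ⟶ G) [Epi π] (hM : Coh.IsCoh M) (hG : Coh.IsCoh G) :
    Curv2.euler k X M = Curv2.euler k X (kernel π) + Curv2.euler k X G := by
  haveI := Euler.isNoetherian_of_proper k X
  let S : ShortComplex X.Modules := ShortComplex.mk (kernel.ι π) π (kernel.condition π)
  have hS : S.Exact := ShortComplex.exact_kernel π
  haveI : Mono S.f := inferInstanceAs (Mono (kernel.ι π))
  haveI : Epi S.g := inferInstanceAs (Epi π)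
  have hSE : S.ShortExact := { exact := hS }
  exact Euler.euler_additive k X S hSE (FtLocal.isCoh_kernel hM hG π) hM hG

theorem euler_four {A B : X.Modules} (f : A ⟶ B) (hA : Coh.IsCoh A) (hB : Coh.IsCoh B) :
    Curv2.euler k X A + Curv2.euler k X (cokernel f) =
      Curv2.euler k X (kernel f) + Curv2.euler k X B := by
  haveI := Euler.isNoetherian_of_proper k X
  have hK : Coh.IsCoh (kernel f) := FtLocal.isCoh_kernel hA hB f
  have hQ : Coh.IsCoh (cokernel f) := FtLocal.isCoh_cokernel hA hB f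
  have hCo : Coh.IsCoh (Abelian.coimage f) := FtLocal.isCoh_cokernel hK hA (kernel.ι f)
  have hIm : Coh.IsCoh (Abelian.image f) := FtLocal.isCoh_kernel hB hQ (cokernel.π f)
  -- kernel → A → coimage
  let S₁ : ShortComplex X.Modules := ShortComplex.mk (kernel.ι f) (cokernel.π (kernel.ι f))
    (cokernel.condition _)
  have hS₁ : S₁.Exact := ShortComplex.exact_cokernel (kernel.ι f)
  haveI : Mono S₁.f := inferInstanceAs (Mono (kernel.ι f))
  haveI : Epi S₁.g := inferInstanceAs (Epi (cokernel.π (kernel.ι f)))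
  have hSE₁ : S₁.ShortExact := { exact := hS₁ }
  have e1 := Euler.euler_additive k X S₁ hSE₁ hK hA hCo
  -- image → B → cokernel
  let S₂ : ShortComplex X.Modules := ShortComplex.mk (Abelian.image.ι f) (cokernel.π f)
    (kernel.condition _)
  have hS₂ : S₂.Exact := ShortComplex.exact_of_f_is_kernel _ (kernelIsKernel (cokernel.π f))
  haveI : Mono S₂.f := inferInstanceAs (Mono (Abelian.image.ι f))
  haveI : Epi S₂.g := inferInstanceAs (Epi (cokernel.π f))
  have hSE₂ : S₂.ShortExact := { exact := hS₂ }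
  have e2 := Euler.euler_additive k X S₂ hSE₂ hIm hB hQ
  have e3 := Euler.euler_iso k X (Abelian.coimageIsoImage f)
  change Curv2.euler k X A = Curv2.euler k X (kernel f) + Curv2.euler k X (Abelian.coimage f)
    at e1
  change Curv2.euler k X B = Curv2.euler k X (Abelian.image f) + Curv2.euler k X (cokernel f)
    at e2
  linarith

theorem kernel_iso {M GY GZ GU : X.Modules} (πY : M ⟶ GY) (πZ : M ⟶ GZ) (πU : M ⟶ GU)
    (hUY : kernel.ι πU ≫ πY = 0) (hUZ : kernel.ι πU ≫ πZ = 0)
    (hjU : (kernel.ι (kernel.ι πY ≫ πZ) ≫ kernel.ι πY) ≫ πU = 0) :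
    Nonempty (kernel (kernel.ι πY ≫ πZ) ≅ kernel πU) := by
  refine ⟨⟨kernel.lift πU _ hjU,
    kernel.lift _ (kernel.lift πY (kernel.ι πU) hUY) (by rw [kernel.lift_ι_assoc, hUZ]), ?_, ?_⟩⟩
  · apply (cancel_mono (kernel.ι (kernel.ι πY ≫ πZ))).1
    apply (cancel_mono (kernel.ι πY)).1
    simp
  · apply (cancel_mono (kernel.ι πU)).1
    simp

variable [IsReduced X]

theorem main (hpure : ∀ C ∈ irreducibleComponents (X : Type u), topologicalKrullDim C = 1)
    (M : X.Modules) (hM : TFOne.IsTF1 X M) (Y Z W : Set X) (hY : IsClosed Y) (hZ : IsClosed Z)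
    (hW : W = ⋃₀ {C | C ∈ irreducibleComponents (X : Type u) ∧ C ⊆ Y ∩ Z})
    (GY GZ GU GW : X.Modules) (πY : M ⟶ GY) (πZ : M ⟶ GZ) (πU : M ⟶ GU) (πW : M ⟶ GW)
    (hGY : TFOne.IsQuotOn X M Y GY πY) (hGZ : TFOne.IsQuotOn X M Z GZ πZ)
    (hGU : TFOne.IsQuotOn X M (Y ∪ Z) GU πU) (hGW : TFOne.IsQuotOn X M W GW πW) :
    Curv2.euler k X GU + Curv2.euler k X GW ≤ Curv2.euler k X GY + Curv2.euler k X GZ := by
  haveI : IsNoetherian X := Euler.isNoetherian_of_proper k X
  obtain ⟨hMc, -, hM1⟩ := hM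
  obtain ⟨hYe, hYc, hYt, hYs⟩ := hGY
  obtain ⟨hZe, hZc, hZt, hZs⟩ := hGZ
  obtain ⟨hUe, hUc, hUt, hUs⟩ := hGU
  obtain ⟨hWe, hWc, hWt, hWs⟩ := hGW
  haveI := hYe
  haveI := hZe
  haveI := hUe
  haveI := hWe
  haveI : GY.IsQuasicoherent := hYc.1
  haveI : GZ.IsQuasicoherent := hZc.1
  haveI : GU.IsQuasicoherent := hUc.1
  haveI : GW.IsQuasicoherent := hWc.1
  have hWsub : W ⊆ Y ∩ Z := by
    rw [hW]
    rintro w ⟨C, ⟨-, hC⟩, hw⟩
    exact hC hw
  have hUY : kernel.ι πU ≫ πY = 0 := kernel_comp_eq_zero hM1 πU πY hYt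
    (by rw [hUs, hYs]; exact Set.subset_union_left)
  have hUZ : kernel.ι πU ≫ πZ = 0 := kernel_comp_eq_zero hM1 πU πZ hZt
    (by rw [hUs, hZs]; exact Set.subset_union_right)
  have hYW : kernel.ι πY ≫ πW = 0 := kernel_comp_eq_zero hM1 πY πW hWt
    (by rw [hYs, hWs]; exact fun w hw => (hWsub hw).1)
  have hZW : kernel.ι πZ ≫ πW = 0 := kernel_comp_eq_zero hM1 πZ πW hWt
    (by rw [hZs, hWs]; exact fun w hw => (hWsub hw).2)
  -- the kernel of `ker πY → GZ` is `ker πU`
  have hjU : (kernel.ι (kernel.ι πY ≫ πZ) ≫ kernel.ι πY) ≫ πU = 0 := by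
    apply comp_eq_zero_of_generic πU hUt
    intro η hη hηU t
    rw [hUs] at hηU
    rcases hηU with hηY | hηZ
    · refine stalkL_eq_zero_of_comp hM1 _ πY ?_ η hη (by rw [hYs]; exact hηY) t
      rw [Category.assoc, kernel.condition, comp_zero]
    · refine stalkL_eq_zero_of_comp hM1 _ πZ ?_ η hη (by rw [hZs]; exact hηZ) t
      rw [Category.assoc, kernel.condition]
  obtain ⟨eK⟩ := kernel_iso X πY πZ πU hUY hUZ hjU
  -- the map to `GW`
  have haZ : πZ ≫ Abelian.epiDesc πZ πW hZW = πW := Abelian.comp_epiDesc πZ πW hZW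
  obtain ⟨aZ, haZ'⟩ : ∃ aZ : GZ ⟶ GW, πZ ≫ aZ = πW := ⟨_, haZ⟩
  have hfa : (kernel.ι πY ≫ πZ) ≫ aZ = 0 := by rw [Category.assoc, haZ', hYW]
  haveI : Epi aZ := by
    haveI : Epi (πZ ≫ aZ) := by rw [haZ']; exact hWe
    exact epi_of_epi πZ aZ
  haveI : Epi (cokernel.desc (kernel.ι πY ≫ πZ) aZ hfa) := by
    haveI : Epi (cokernel.π (kernel.ι πY ≫ πZ) ≫ cokernel.desc (kernel.ι πY ≫ πZ) aZ hfa) := by
      rw [cokernel.π_desc]
      infer_instance
    exact epi_of_epi (cokernel.π (kernel.ι πY ≫ πZ)) _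
  have hKYc : Coh.IsCoh (kernel πY) := FtLocal.isCoh_kernel hMc hYc πY
  have hRc : Coh.IsCoh (cokernel (kernel.ι πY ≫ πZ)) := FtLocal.isCoh_cokernel hKYc hZc _
  have hHc : Coh.IsCoh (kernel (cokernel.desc (kernel.ι πY ≫ πZ) aZ hfa)) :=
    FtLocal.isCoh_kernel hRc hWc _
  have hHgen : ∀ η ∈ genericPoints X,
      η ∉ CohB1.support (kernel (cokernel.desc (kernel.ι πY ≫ πZ) aZ hfa)) := by
    intro η hη
    apply notMem_support_kernel'
    apply stalkL_desc_injective hM1 πY πZ πW aZ haZ' hfa η hη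
    intro h1 h2
    rw [hYs] at h1
    rw [hZs] at h2
    rw [hWs, hW]
    have hsub : closure ({η} : Set X) ⊆ Y ∩ Z :=
      closure_minimal (Set.singleton_subset_iff.2 ⟨h1, h2⟩) (hY.inter hZ)
    exact Set.mem_sUnion.2 ⟨closure {η}, ⟨hη, hsub⟩, subset_closure rfl⟩
  have hHdim := dim_support_le_zero hpure _ hHc hHgen
  have hH0 := Euler.euler_nonneg_of_dim_le_zero k X _ hHc hHdim
  -- Euler characteristics
  have e1 := euler_kernel X k πY hMc hYc
  have e2 := euler_kernel X k πU hMc hUc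
  have e3 := euler_four X k (kernel.ι πY ≫ πZ) hKYc hZc
  have e4 := euler_kernel X k (cokernel.desc (kernel.ι πY ≫ πZ) aZ hfa) hRc hWc
  have e5 := Euler.euler_iso k X eK
  linarith

end Euler

end Groth.Agent.Helper1.TFQ
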