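import Mathlib
import Groth.Prelude
import Groth.Agent.Lib.Helper1.TFQ1
import Groth.Agent.Lib.Helper1.QcExtend1
import Groth.Agent.Lib.Helper1.CohAbel
import Groth.Agent.Lib.Helper1.FinSupp1

/-!
# Pure sheaves of dimension one on a reduced scheme of pure dimension one (helper1)

The subsheaf of sections vanishing at the generic points of a quasi-coherent module on a reduced
scheme is quasi-coherent; for a coherent pure module of dimension one it vanishes.  Consequently a
function vanishing on the support of such a module annihilates it.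
-/

set_option autoImplicit false
set_option backward.isDefEq.respectTransparency.types false
set_option synthInstance.maxHeartbeats 400000
set_option linter.style.haveILetI false
set_option linter.unusedSectionVars false
set_option linter.unusedVariables false
universe u
open CategoryTheory CategoryTheory.Limits AlgebraicGeometry TopologicalSpace Opposite

namespace Groth.Agent.Helper1.PureTors

open Groth.Agent.Lead Groth.Agent.Helper1.Dv Groth.Agent.Helper1.QcCech Groth.Agent.Helper1
open Groth.Agent.Helper1.SubSh

variable {X : Scheme.{u}}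

theorem germ_res (M : X.Modules) {O O' : X.Opens} (h : O' ≤ O) (x : X) (hx : x ∈ O')
    (s : Γ(M, O)) :
    M.presheaf.germ O' x hx (res M h s) = M.presheaf.germ O x (h hx) s :=
  TopCat.Presheaf.germ_res_apply M.presheaf (homOfLE h) x hx s

theorem germ_resR' {O O' : X.Opens} (h : O' ≤ O) (x : X) (hx : x ∈ O') (r : Γ(X, O)) :
    X.presheaf.germ O' x hx (resR h r) = X.presheaf.germ O x (h hx) r :=
  TopCat.Presheaf.germ_res_apply X.presheaf (homOfLE h) x hx r

/-- on a reduced scheme, a function which is not invertible at a generic point vanishes there -/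
theorem germ_eq_zero_of_notMem_basicOpen [IsReduced X] {U : X.Opens} (f : Γ(X, U)) (η : X)
    (hηU : η ∈ U) (hη : η ∈ genericPoints X) (h : η ∉ X.basicOpen f) :
    X.presheaf.germ U η hηU f = 0 := by
  have hF : IsField (X.presheaf.stalk η) :=
    isField_stalk_of_closure_mem_irreducibleComponents X η hη
  by_contra hne
  obtain ⟨b, hb⟩ := hF.mul_inv_cancel hne
  exact h ((Scheme.mem_basicOpen X f η hηU).2 (isUnit_iff_exists_inv.2 ⟨b, hb⟩))

/-- the sections vanishing at the generic points -/
noncomputable def tors (J : X.Modules) : LocalSub J where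
  carrier W :=
    { carrier := {t | ∀ (η : X) (hη : η ∈ W), η ∈ genericPoints X →
        J.presheaf.germ W η hη t = 0}
      add_mem' := by
        intro a b ha hb η hη hg
        rw [map_add, ha η hη hg, hb η hη hg, add_zero]
      zero_mem' := by
        intro η hη hg
        exact map_zero _
      smul_mem' := by
        intro r t ht η hη hg
        rw [SD.germ_smul, ht η hη hg, smul_zero] }
  res_mem := by
    intro U V h t ht η hη hg
    rw [germ_res]
    exact ht η (h hη) hg
  local_mem := by
    intro U t ht η hη hg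
    obtain ⟨W, h, hηW, hm⟩ := ht η hη
    have h1 := hm η hηW hg
    rwa [germ_res] at h1

theorem mem_tors_iff (J : X.Modules) {W : X.Opens} (t : Γ(J, W)) :
    t ∈ (tors J).carrier W ↔ ∀ (η : X) (hη : η ∈ W), η ∈ genericPoints X →
      J.presheaf.germ W η hη t = 0 := Iff.rfl

theorem tors_extPOn [IsReduced X] (J : X.Modules) [J.IsQuasicoherent] : (tors J).ExtPOn ⊤ := by
  intro B hB _ f y hy
  rw [mem_tors_iff] at hy
  obtain ⟨n, t₁, ht₁⟩ := QcAbel.extP_of_isQuasicoherent J B hB f _ rfl y
  refine ⟨n + 1, f • t₁, ?_, ?_⟩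
  · rw [mem_tors_iff]
    intro η hη hg
    rw [SD.germ_smul]
    by_cases hηf : η ∈ X.basicOpen f
    · have h1 : J.presheaf.germ B η hη t₁ = 0 := by
        rw [← germ_res J (X.basicOpen_le f) η hηf t₁, ht₁, SD.germ_smul, hy η hηf hg, smul_zero]
      rw [h1, smul_zero]
    · rw [germ_eq_zero_of_notMem_basicOpen f η hη hg hηf, zero_smul]
  · rw [res_smul, ht₁, smul_smul, ← pow_succ']

/-- on a reduced noetherian scheme of pure dimension one, a coherent module which is pure of
dimension one has no nonzero section vanishing at the generic points -/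
theorem tors_eq_zero [IsReduced X] [IsNoetherian X]
    (hequi : ∀ Z ∈ irreducibleComponents (X : Type u), topologicalKrullDim Z = 1)
    (J : X.Modules) (hJc : Coh.IsCoh J) (hJp : ShStab.IsPure X J 1)
    {W : X.Opens} (t : Γ(J, W)) (ht : t ∈ (tors J).carrier W) : t = 0 := by
  haveI : J.IsQuasicoherent := hJc.1
  have hqc : (tors J).obj.IsQuasicoherent :=
    (tors J).isQuasicoherent_obj (tors_extPOn J).isQcOn
  have hcoh : Coh.IsCoh (tors J).obj := FtLocal.isCoh_of_mono (tors J).ι hJc hqc
  have hgen : ∀ η ∈ genericPoints X, η ∉ CohB1.support (tors J).obj := by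
    intro η hη hmem
    apply hmem
    refine ⟨fun a b => ?_⟩
    suffices h0 : ∀ a : (tors J).obj.presheaf.stalk η, a = 0 by rw [h0 a, h0 b]
    intro a
    obtain ⟨W', hηW', s, rfl⟩ :=
      TopCat.Presheaf.exists_germ_eq (tors J).obj.presheaf (x := η) a
    apply stalkL_injective_of_mono (tors J).ι η
    rw [stalkL_germ, map_zero]
    have hm : ∀ (η' : X) (hη' : η' ∈ W'), η' ∈ genericPoints X →
        J.presheaf.germ W' η' hη' ((tors J).ι.app W' s) = 0 := (tors J).ι_app_mem s
    exact hm η hηW' hη
  have hdim := TFQ.dim_support_le_zero hequi _ hcoh hgen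
  have hz : IsZero (tors J).obj := by
    by_contra hnz
    have h1 := hJp _ (tors J).ι inferInstance hcoh hnz
    rw [h1] at hdim
    have h6 : ((1 : ℕ) : WithBot ℕ∞) ≤ ((0 : ℕ) : WithBot ℕ∞) := by simpa using hdim
    have h8 : 1 ≤ 0 := by exact_mod_cast h6
    omega
  have h0 : (tors J).mkSec t ht = 0 := QcAbel.sections_eq_zero_of_isZero hz W _
  have h2 := congrArg ((tors J).ι.app W) h0
  rwa [LocalSub.ι_app_mkSec, map_zero] at h2

/-- **S17178**: a function vanishing on the support of a pure module annihilates it -/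
theorem smul_eq_zero [IsReduced X] [IsNoetherian X]
    (hequi : ∀ Z ∈ irreducibleComponents (X : Type u), topologicalKrullDim Z = 1)
    (J : X.Modules) (hJc : Coh.IsCoh J) (hJp : ShStab.IsPure X J 1)
    (U : X.Opens) (f : Γ(X, U))
    (hf : ∀ x : X, x ∈ U → x ∈ CohB1.support J → x ∉ X.basicOpen f)
    (x : X) (hx : x ∈ U) (t : J.presheaf.stalk x) :
    (X.presheaf.germ U x hx f) • t = 0 := by
  obtain ⟨V, hxV, s, rfl⟩ := TopCat.Presheaf.exists_germ_eq J.presheaf (x := x) t
  have hxW : x ∈ U ⊓ V := ⟨hx, hxV⟩
  have hs0 : resR (inf_le_left : U ⊓ V ≤ U) f • res J (inf_le_right : U ⊓ V ≤ V) s = 0 := by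
    apply tors_eq_zero hequi J hJc hJp
    rw [mem_tors_iff]
    intro η hη hg
    rw [SD.germ_smul]
    by_cases hηJ : η ∈ CohB1.support J
    · have h1 : X.presheaf.germ (U ⊓ V) η hη (resR (inf_le_left : U ⊓ V ≤ U) f) = 0 := by
        rw [germ_resR']
        exact germ_eq_zero_of_notMem_basicOpen f η hη.1 hg (hf η hη.1 hηJ)
      rw [h1, zero_smul]
    · haveI : Subsingleton (J.presheaf.stalk η) := not_not.1 hηJ
      exact Subsingleton.elim _ _
  have h2 := congrArg (J.presheaf.germ (U ⊓ V) x hxW) hs0
  rw [SD.germ_smul, germ_res, germ_resR', map_zero] at h2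
  exact h2

end Groth.Agent.Helper1.PureTors
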