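import Mathlib

/-!
# Projective dimension of quotients by regular sequences (helper1)

If `rs` is a weakly regular sequence on `M` then `pd (M / (rs) M) ≤ pd M + length rs`; a finite
projective module over `A / (rs)` has projective dimension `≤ length rs` over `A`.
-/

set_option backward.isDefEq.respectTransparency.types false
set_option synthInstance.maxHeartbeats 400000
set_option maxHeartbeats 1000000
set_option autoImplicit false
set_option linter.unusedSectionVars false
set_option linter.style.haveILetI false
set_option linter.unusedVariables false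

universe u
open CategoryTheory CategoryTheory.Limits RingTheory.Sequence

namespace Groth.Agent.Helper1.RegSeqPd

variable {A : Type u} [CommRing A]

theorem pd_quot_of_isWeaklyRegular (rs : List A) :
    ∀ (M : Type u) [AddCommGroup M] [Module A M] (n : ℕ), IsWeaklyRegular M rs →
      HasProjectiveDimensionLT (ModuleCat.of A M) n →
      HasProjectiveDimensionLT
        (ModuleCat.of A (M ⧸ (Ideal.ofList rs • ⊤ : Submodule A M))) (n + rs.length) := by
  induction rs with
  | nil =>
    intro M _ _ n _ h
    have hbot : (Ideal.ofList ([] : List A) • ⊤ : Submodule A M) = ⊥ := by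
      rw [Ideal.ofList_nil, Submodule.bot_smul]
    haveI := h
    exact hasProjectiveDimensionLT_of_iso
      (Submodule.quotEquivOfEqBot _ hbot).symm.toModuleIso _
  | cons r rs ih =>
    intro M _ _ n hreg h
    rw [isWeaklyRegular_cons_iff] at hreg
    obtain ⟨hr, hrs⟩ := hreg
    have hS := IsSMulRegular.smulShortComplex_shortExact (M := ModuleCat.of A M) hr
    haveI := h
    have h2' : HasProjectiveDimensionLT (ModuleCat.of A M) (n + 1) :=
      hasProjectiveDimensionLT_of_ge _ n (n + 1) (Nat.le_succ n)
    have h1 : HasProjectiveDimensionLT (ModuleCat.of A (QuotSMulTop r M)) (n + 1) :=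
      hS.hasProjectiveDimensionLT_X₃ n h h2'
    have h2 := ih (QuotSMulTop r M) (n + 1) hrs h1
    haveI := h2
    have h3 := hasProjectiveDimensionLT_of_iso
      (Submodule.quotOfListConsSMulTopEquivQuotSMulTopInner M r rs).symm.toModuleIso
      (n + 1 + rs.length)
    have harith : n + (r :: rs).length = n + 1 + rs.length := by
      rw [List.length_cons]; omega
    rw [harith]
    exact h3

theorem pd_pi_fin (N : Type u) [AddCommGroup N] [Module A N] (n : ℕ)
    (h : HasProjectiveDimensionLT (ModuleCat.of A N) n) :
    ∀ m : ℕ, HasProjectiveDimensionLT (ModuleCat.of A (Fin m → N)) n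
  | 0 => by
      have h0 : IsZero (ModuleCat.of A (Fin 0 → N)) := ModuleCat.isZero_of_subsingleton _
      haveI := h0.hasProjectiveDimensionLT_zero
      exact hasProjectiveDimensionLT_of_ge _ 0 n (Nat.zero_le n)
  | m + 1 => by
      haveI := h
      haveI := pd_pi_fin N n h m
      haveI : HasProjectiveDimensionLT
          (ModuleCat.of A N ⊞ ModuleCat.of A (Fin m → N)) n := inferInstance
      exact hasProjectiveDimensionLT_of_iso
        (ModuleCat.biprodIsoProd (ModuleCat.of A N) (ModuleCat.of A (Fin m → N)) ≪≫
          (Fin.consLinearEquiv A (fun _ : Fin (m + 1) => N)).toModuleIso) n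

/-- a finite projective module over a quotient of `A` by a regular sequence has finite
projective dimension over `A` -/
theorem pd_of_projective_quotient {B : Type u} [CommRing B] (φ : A →+* B)
    (hφ : Function.Surjective φ) (rs : List A) (hreg : IsWeaklyRegular A rs)
    (hker : RingHom.ker φ = Ideal.ofList rs)
    (M : Type u) [AddCommGroup M] [Module A M] [Module B M]
    (hc : ∀ (a : A) (m : M), a • m = φ a • m)
    [Module.Finite B M] [Module.Projective B M] :
    HasProjectiveDimensionLT (ModuleCat.of A M) (rs.length + 1) := by
  letI : Algebra A B := φ.toAlgebra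
  haveI : IsScalarTower A B M := ⟨fun a b m => by
    rw [Algebra.smul_def, mul_smul, hc]; rfl⟩
  have hB : HasProjectiveDimensionLT (ModuleCat.of A B) (rs.length + 1) := by
    haveI : Projective (ModuleCat.of A A) := (IsProjective.iff_projective A).1 inferInstance
    have h1 : HasProjectiveDimensionLT (ModuleCat.of A A) 1 := inferInstance
    have h2 := pd_quot_of_isWeaklyRegular rs A 1 hreg h1
    have hEq : (Ideal.ofList rs • ⊤ : Submodule A A) =
        LinearMap.ker (Algebra.linearMap A B) := by
      ext x
      rw [LinearMap.mem_ker, Algebra.linearMap_apply]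
      change x ∈ Ideal.ofList rs • (⊤ : Ideal A) ↔ φ x = 0
      rw [smul_eq_mul, Ideal.mul_top, ← hker, RingHom.mem_ker]
    have hsurj : Function.Surjective (Algebra.linearMap A B) := hφ
    let e : (A ⧸ (Ideal.ofList rs • ⊤ : Submodule A A)) ≃ₗ[A] B :=
      (Submodule.quotEquivOfEq _ _ hEq).trans (LinearMap.quotKerEquivOfSurjective _ hsurj)
    haveI := h2
    have h3 := hasProjectiveDimensionLT_of_iso e.toModuleIso (1 + rs.length)
    rw [Nat.add_comm]
    exact h3
  obtain ⟨m, p, s, -, -, hps⟩ := Module.Finite.exists_comp_eq_id_of_projective B M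
  haveI := pd_pi_fin (A := A) B (rs.length + 1) hB m
  let r : Retract (ModuleCat.of A M) (ModuleCat.of A (Fin m → B)) :=
    { i := ModuleCat.ofHom (s.restrictScalars A)
      r := ModuleCat.ofHom (p.restrictScalars A)
      retract := by
        ext x
        exact LinearMap.congr_fun hps x }
  exact r.hasProjectiveDimensionLT (rs.length + 1)

end Groth.Agent.Helper1.RegSeqPd
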