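import Mathlib
import Groth.Prelude.Def_KRR
import Groth.Agent.Lib.Helper1.ResSch
import Groth.Agent.Lib.Helper1.ResFin

/-!
# The resolution theorem for modules with finite locally free resolutions (helper1)

On a Noetherian scheme with enough locally frees, `K₀(vector bundles) → K₀(coherent modules
admitting a finite locally free resolution)` is bijective (S3745).  A coherent module has a finite
locally free resolution iff the projective dimensions of its modules of sections over affine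
opens are uniformly bounded.
-/

set_option backward.isDefEq.respectTransparency.types false
set_option synthInstance.maxHeartbeats 400000
set_option maxHeartbeats 1000000
set_option autoImplicit false
set_option linter.unusedSectionVars false
set_option linter.style.haveILetI false
set_option linter.unusedVariables false

universe u
open CategoryTheory CategoryTheory.Limits AlgebraicGeometry TopologicalSpace Opposite ZeroObject

namespace Groth.Agent.Helper1.ResSch2

open Groth.Agent.Helper1.ResSch Groth.Agent.Helper1.ResFin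
open Groth.Agent.Helper3.ResK0A Groth.Agent.Helper3.ResK0B

variable {X : Scheme.{u}}

theorem isZero_freeMod_zero (T : Scheme.{u}) : IsZero (FlatMod.freeMod T 0) :=
  (IsZero.iff_id_eq_zero _).2 (Sigma.hom_ext _ _ fun j => j.elim0)

theorem flf_of_isZero (M : X.Modules) (hM : IsZero M) : FlatMod.IsFinLocFree M := by
  intro x
  exact ⟨⊤, 0, trivial, ⟨(Functor.map_isZero (Scheme.Modules.restrictFunctor (⊤ : X.Opens).ι)
    hM).iso (isZero_freeMod_zero _)⟩⟩

theorem pd_X₃ {S : ShortComplex X.Modules} (hS : S.ShortExact)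
    (hq : S.X₁.IsQuasicoherent) {U : X.Opens} (hU : IsAffineOpen U) (n : ℕ)
    (h₁ : PdLT S.X₁ U n) (h₂ : PdLT S.X₂ U (n + 1)) : PdLT S.X₃ U (n + 1) :=
  (sec_shortExact hS hq hU).hasProjectiveDimensionLT_X₃ n h₁ h₂

theorem pd_of_isZero {Z : X.Modules} (hZ : IsZero Z) (U : X.Opens) (n : ℕ) : PdLT Z U n := by
  haveI : Subsingleton Γ(Z, U) := ⟨fun a b => by
    rw [QcAbel.sections_eq_zero_of_isZero hZ U a, QcAbel.sections_eq_zero_of_isZero hZ U b]⟩
  have h0 : IsZero (ModuleCat.of Γ(X, U) Γ(Z, U)) := ModuleCat.isZero_of_subsingleton _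
  haveI := h0.hasProjectiveDimensionLT_zero
  exact hasProjectiveDimensionLT_of_ge _ 0 n (Nat.zero_le n)

theorem pd_mono {M : X.Modules} {U : X.Opens} {m n : ℕ} (h : m ≤ n) (hp : PdLT M U m) :
    PdLT M U n := by
  haveI : HasProjectiveDimensionLT (ModuleCat.of Γ(X, U) Γ(M, U)) m := hp
  exact hasProjectiveDimensionLT_of_ge _ m n h

theorem pd_up [IsNoetherian X] {A : X.Modules} (R : ResData (KRR.vbP X) A) (hA : Coh.IsCoh A)
    {U : X.Opens} (hU : IsAffineOpen U) (n : ℕ) (hz : ∀ i, n < i → IsZero (R.L i)) :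
    ∀ m i, i + m = n + 1 → PdLT (R.K i) U (m + 1)
  | 0, i, h => by
      have hi : i = n + 1 := by omega
      subst hi
      exact pd_of_isZero (IsZero.of_epi (R.p (n + 1)) (hz (n + 1) (by omega))) U 1
  | (m + 1), i, h => by
      have ih := pd_up R hA hU n hz m (i + 1) (by omega)
      have hq : (R.K (i + 1)).IsQuasicoherent := (K_isCoh R hA (i + 1)).1
      have h2 : PdLT (R.L i) U (m + 1 + 1) := pd_of_flf (R.hL i) hU _ (by omega)
      have h3 := pd_X₃ (R.se i) hq hU (m + 1) ih h2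
      exact h3

/-- a coherent module with a finite locally free resolution has uniformly bounded projective
dimension over affine opens -/
theorem affPd_of_hasLFRes [IsNoetherian X] {M : X.Modules} (hM : Coh.IsCoh M)
    (hres : KRR.HasLFRes M) :
    ∃ d : ℕ, ∀ U : X.Opens, IsAffineOpen U → PdLT M U (d + 1) := by
  obtain ⟨n, L, π, hL⟩ := hres
  let R : ResData (KRR.vbP X) M := resDataOfRes L π hL.quasiIso hL.finLocFree
  have hz : ∀ i, n < i → IsZero (R.L i) := fun i hi => hL.isZero i hi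
  refine ⟨n + 1, fun U hU => ?_⟩
  have h0 := pd_up R hM hU n hz (n + 1) 0 (by omega)
  exact pd_of_iso R.e U _ h0

theorem good_of_locPd [IsNoetherian X] {P₁ : ObjectProperty X.Modules}
    (H : Hyp (KRR.vbP X) P₁) (hc : ∀ M, P₁ M → Coh.IsCoh M) {A : X.Modules} (hA : P₁ A) (d : ℕ)
    (hd : ∀ x : X, ∃ U : X.Opens, IsAffineOpen U ∧ x ∈ U ∧ PdLT A U (d + 1)) :
    Good (KRR.vbP X) P₁ d A := by
  refine good_of_forall H d hA (fun R => ?_)
  have hcA := hc A hA
  refine flf_of_pd (K_isCoh R hcA d) (fun x => ?_)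
  obtain ⟨U, hU, hxU, hp⟩ := hd x
  refine ⟨U, hU, hxU, ?_⟩
  have h1 := K_pd R hcA hU d hp d le_rfl
  rw [Nat.sub_self] at h1
  exact h1

theorem hyp_coh [IsNoetherian X] (hX : KRR.HasEnoughLocFree X) :
    Hyp (KRR.vbP X) (fun M : X.Modules => Coh.IsCoh M) :=
  { iso₀ := fun e h => Groth.Agent.Lead.FLF.isFinLocFree_of_iso e h
    hle := fun M hM => Groth.Agent.Lib.Helper5.LocalCoh.isCoh_of_isFinLocFree M hM
    hext₀ := fun S hS h1 h3 => flf_ext hS h1 h3
    hext₁ := fun S hS h1 h3 => Dv.isCoh_mid hS h1 h3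
    h1₀ := fun S hS h2 h3 => flf_ker hS h2 h3
    h1₁ := fun S hS h2 h3 => coh_X₁ hS h2 h3
    h2 := fun A B D u v hu hA hB hD => h2' hX A B D u v hu hA hB hD }

/-- a coherent module of locally bounded projective dimension has a finite locally free
resolution (given enough locally frees) -/
theorem hasLFRes_of_locPd [IsNoetherian X] (hX : KRR.HasEnoughLocFree X) {M : X.Modules}
    (hM : Coh.IsCoh M) (d : ℕ)
    (hd : ∀ x : X, ∃ U : X.Opens, IsAffineOpen U ∧ x ∈ U ∧ PdLT M U (d + 1)) :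
    KRR.HasLFRes M := by
  have H := hyp_coh hX
  have hg : Good (KRR.vbP X) (fun M : X.Modules => Coh.IsCoh M) d M :=
    good_of_locPd H (fun _ h => h) hM d hd
  obtain ⟨R, hR⟩ := exists_finite_res H (flf_of_isZero _ (isZero_zero _)) d hg
  exact ⟨d, R.cx, augmentation R, ⟨fun i => R.hL i, hR, quasiIso_augmentation R⟩⟩

/-- **S3745** -/
theorem main (X : Scheme.{u}) [IsNoetherian X] (hX : KRR.HasEnoughLocFree X)
    (h : ∀ M : X.Modules, FlatMod.IsFinLocFree M → Coh.IsCoh M ∧ KRR.HasLFRes M) :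
    Function.Bijective (SGA6.mapSub (𝟭 X.Modules) (KRR.vbP X)
      (fun M : X.Modules => Coh.IsCoh M ∧ KRR.HasLFRes M) h) := by
  have loc : ∀ {M : X.Modules} (d : ℕ), (∀ U : X.Opens, IsAffineOpen U → PdLT M U (d + 1)) →
      ∀ x : X, ∃ U : X.Opens, IsAffineOpen U ∧ x ∈ U ∧ PdLT M U (d + 1) := by
    intro M d hd x
    obtain ⟨U, hU, hxU⟩ := exists_affine_nhd x
    exact ⟨U, hU, hxU, hd U hU⟩
  have H : Hyp (KRR.vbP X) (fun M : X.Modules => Coh.IsCoh M ∧ KRR.HasLFRes M) :=
    { iso₀ := fun e h => Groth.Agent.Lead.FLF.isFinLocFree_of_iso e h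
      hle := h
      hext₀ := fun S hS h1 h3 => flf_ext hS h1 h3
      hext₁ := fun S hS h1 h3 => by
        obtain ⟨d1, hd1⟩ := affPd_of_hasLFRes h1.1 h1.2
        obtain ⟨d3, hd3⟩ := affPd_of_hasLFRes h3.1 h3.2
        have c2 : Coh.IsCoh S.X₂ := Dv.isCoh_mid hS h1.1 h3.1
        refine ⟨c2, hasLFRes_of_locPd hX c2 (max d1 d3) (loc _ (fun U hU => ?_))⟩
        exact pd_X₂ hS h1.1.1 hU _
          (pd_mono (Nat.succ_le_succ (le_max_left d1 d3)) (hd1 U hU))
          (pd_mono (Nat.succ_le_succ (le_max_right d1 d3)) (hd3 U hU))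
      h1₀ := fun S hS h2 h3 => flf_ker hS h2 h3
      h1₁ := fun S hS h2 h3 => by
        obtain ⟨d2, hd2⟩ := affPd_of_hasLFRes h2.1 h2.2
        obtain ⟨d3, hd3⟩ := affPd_of_hasLFRes h3.1 h3.2
        have c1 : Coh.IsCoh S.X₁ := coh_X₁ hS h2.1 h3.1
        refine ⟨c1, hasLFRes_of_locPd hX c1 (max d2 d3) (loc _ (fun U hU => ?_))⟩
        exact pd_X₁ hS c1.1 hU _
          (pd_mono (Nat.succ_le_succ (le_max_left d2 d3)) (hd2 U hU))
          (pd_mono (Nat.le_succ_of_le (Nat.succ_le_succ (le_max_right d2 d3))) (hd3 U hU))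
      h2 := fun A B D u v hu hA hB hD => h2' hX A B D u v hu hA.1 hB.1 hD.1 }
  refine H.main (fun A hA => ?_)
  obtain ⟨d, hd⟩ := affPd_of_hasLFRes hA.1 hA.2
  exact ⟨d, good_of_locPd H (fun _ h => h.1) hA d (loc d hd)⟩

end Groth.Agent.Helper1.ResSch2
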