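import Mathlib
import Groth.Prelude.Def_KRR
import Groth.Agent.Lib.Helper1.ResSch2
import Groth.Agent.Lib.Helper1.RegSeqPd
import Groth.Agent.Lib.Helper1.EulerK
import Groth.Agent.Lib.Helper1.K0Loc1
import Groth.Agent.Lib.Helper1.RpushComp
import Groth.Agent.Lib.Helper1.CoprodMod
import Groth.Agent.Lib.Helper1.AffPushEpi
import Groth.Agent.Lib.Helper1.FinPush

/-!
# The push-forward `i_K` on `K₀` of vector bundles along a regular closed immersion (helper1)

For a regular closed immersion `f : X ⟶ Y` of Noetherian schemes with enough locally frees on `Y`,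
`f_* F` has a finite locally free resolution for every finite locally free `F`, and the class
`Σ (-1)^k [L_k]` is independent of the resolution `L` (S3799).
-/

set_option backward.isDefEq.respectTransparency.types false
set_option synthInstance.maxHeartbeats 400000
set_option maxHeartbeats 1000000
set_option autoImplicit false
set_option linter.unusedSectionVars false
set_option linter.style.haveILetI false
set_option linter.unusedVariables false

universe v u
open CategoryTheory CategoryTheory.Limits AlgebraicGeometry TopologicalSpace Opposite ZeroObject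

namespace Groth.Agent.Helper1.PushCl

open Groth.Agent.Helper1.ResSch Groth.Agent.Helper1.ResSch2 Groth.Agent.Helper1.ResFin
open Groth.Agent.Helper3.ResK0A Groth.Agent.Helper3.ResK0B

variable {X Y : Scheme.{u}} (f : X ⟶ Y)

/-- coherent modules with a finite locally free resolution -/
abbrev P1 (Y : Scheme.{u}) : ObjectProperty Y.Modules :=
  fun M => Coh.IsCoh M ∧ KRR.HasLFRes M

theorem push_shortExact [IsAffineHom f] (S : ShortComplex X.Modules) (hS : S.ShortExact)
    (h₂ : S.X₂.IsQuasicoherent) (h₃ : S.X₃.IsQuasicoherent) :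
    (S.map (Scheme.Modules.pushforward f)).ShortExact := by
  haveI := h₂
  haveI := h₃
  haveI := hS.mono_f
  haveI := hS.epi_g
  haveI : Mono (S.map (Scheme.Modules.pushforward f)).f :=
    (inferInstance : Mono ((Scheme.Modules.pushforward f).map S.f))
  haveI : Epi (S.map (Scheme.Modules.pushforward f)).g :=
    AffPushEpi.epi_pushforward_of_isAffineHom f S.g
  have hex : (S.map (Scheme.Modules.pushforward f)).Exact :=
    hS.exact.map_of_mono_of_preservesKernel (Scheme.Modules.pushforward f) hS.mono_f inferInstance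
  exact { exact := hex }

theorem pd_of_subsingleton {M : Y.Modules} {U : Y.Opens} (h : Subsingleton Γ(M, U)) (n : ℕ) :
    PdLT M U n := by
  haveI := h
  have h0 : IsZero (ModuleCat.of Γ(Y, U) Γ(M, U)) := ModuleCat.isZero_of_subsingleton _
  haveI := h0.hasProjectiveDimensionLT_zero
  exact hasProjectiveDimensionLT_of_ge _ 0 n (Nat.zero_le n)

theorem pd_push_of_regular [IsClosedImmersion f] (F : X.Modules) (hF : FlatMod.IsFinLocFree F)
    {U : Y.Opens} (hU : IsAffineOpen U) (rs : List Γ(Y, U))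
    (hreg : RingTheory.Sequence.IsRegular Γ(Y, U) rs)
    (hk : f.ker.ideal ⟨U, hU⟩ = Ideal.ofList rs) :
    PdLT ((Scheme.Modules.pushforward f).obj F) U (rs.length + 1) := by
  haveI := Groth.Agent.Lead.FLF.isQuasicoherent_of_isFinLocFree F hF
  obtain ⟨hfin, hproj⟩ :=
    (Groth.Agent.Lead.FLF.isFinLocFree_iff_affineOpens F).1 hF (f ⁻¹ᵁ U) (hU.preimage f)
  have hker : RingHom.ker (f.app U).hom = Ideal.ofList rs :=
    (Scheme.Hom.ker_apply f ⟨U, hU⟩).symm.trans hk
  letI : Module Γ(X, f ⁻¹ᵁ U) Γ((Scheme.Modules.pushforward f).obj F, U) :=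
    inferInstanceAs (Module Γ(X, f ⁻¹ᵁ U) Γ(F, f ⁻¹ᵁ U))
  haveI : Module.Finite Γ(X, f ⁻¹ᵁ U) Γ((Scheme.Modules.pushforward f).obj F, U) := hfin
  haveI : Module.Projective Γ(X, f ⁻¹ᵁ U) Γ((Scheme.Modules.pushforward f).obj F, U) := hproj
  exact RegSeqPd.pd_of_projective_quotient (f.app U).hom (f.app_surjective U hU) rs
    hreg.toIsWeaklyRegular hker Γ((Scheme.Modules.pushforward f).obj F, U) (fun a m => rfl)

theorem locPd_push (hf : Mor2.IsRegularClosedImmersion f) [CompactSpace X] (F : X.Modules)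
    (hF : FlatMod.IsFinLocFree F) :
    ∃ d : ℕ, ∀ y : Y, ∃ U : Y.Opens, IsAffineOpen U ∧ y ∈ U ∧
      PdLT ((Scheme.Modules.pushforward f).obj F) U (d + 1) := by
  classical
  haveI : IsClosedImmersion f := hf.1
  choose U hU hzU rs hreg hk using hf.2
  have hcov : (Set.univ : Set X) ⊆ ⋃ z : X, ((f ⁻¹ᵁ U z : X.Opens) : Set X) :=
    fun z _ => Set.mem_iUnion.2 ⟨z, hzU z⟩
  obtain ⟨t, ht⟩ := isCompact_univ.elim_finite_subcover
    (fun z : X => ((f ⁻¹ᵁ U z : X.Opens) : Set X)) (fun z => (f ⁻¹ᵁ U z).isOpen) hcov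
  refine ⟨t.sup (fun z => (rs z).length), fun y => ?_⟩
  by_cases hy : y ∈ Set.range f
  · obtain ⟨z', rfl⟩ := hy
    have hx := ht (Set.mem_univ z')
    simp only [Set.mem_iUnion] at hx
    obtain ⟨z, hzt, hz'⟩ := hx
    refine ⟨U z, hU z, hz', ?_⟩
    exact pd_mono (Nat.succ_le_succ (Finset.le_sup (f := fun z => (rs z).length) hzt))
      (pd_push_of_regular f F hF (hU z) (rs z) (hreg z) (hk z))
  · have hopen : IsOpen (Set.range f)ᶜ := f.isClosedEmbedding.isClosed_range.isOpen_compl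
    obtain ⟨_, ⟨W, hW, rfl⟩, hyW, hWsub⟩ :=
      Y.isBasis_affineOpens.exists_subset_of_mem_open hy hopen
    refine ⟨W, hW, hyW, ?_⟩
    have hbot : f ⁻¹ᵁ W = ⊥ := by
      rw [eq_bot_iff]
      intro z hz
      exact (hWsub hz ⟨z, rfl⟩).elim
    have hsub : Subsingleton Γ((Scheme.Modules.pushforward f).obj F, W) :=
      CoprodMod.subsingleton_of_eq_bot F hbot
    exact pd_of_subsingleton hsub _

theorem flf_mem [IsNoetherian Y] (hYe : KRR.HasEnoughLocFree Y) (M : Y.Modules)
    (hM : FlatMod.IsFinLocFree M) : P1 Y M := by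
  have hc := Groth.Agent.Lib.Helper5.LocalCoh.isCoh_of_isFinLocFree M hM
  refine ⟨hc, hasLFRes_of_locPd hYe hc 0 (fun y => ?_)⟩
  obtain ⟨U, hU, hy⟩ := exists_affine_nhd y
  exact ⟨U, hU, hy, pd_of_flf hM hU 1 le_rfl⟩

theorem push_mem (hf : Mor2.IsRegularClosedImmersion f) [IsNoetherian X] [IsNoetherian Y]
    (hYe : KRR.HasEnoughLocFree Y) (F : X.Modules) (hF : FlatMod.IsFinLocFree F) :
    P1 Y ((Scheme.Modules.pushforward f).obj F) := by
  haveI : IsClosedImmersion f := hf.1
  have hc : Coh.IsCoh ((Scheme.Modules.pushforward f).obj F) :=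
    FinPush.isCoh_pushforward f F (Groth.Agent.Lib.Helper5.LocalCoh.isCoh_of_isFinLocFree F hF)
  obtain ⟨d, hd⟩ := locPd_push f hf F hF
  exact ⟨hc, hasLFRes_of_locPd hYe hc d hd⟩

/-- the class of the direct image, on `K₀` of vector bundles -/
noncomputable def psi (hf : Mor2.IsRegularClosedImmersion f) [IsNoetherian X] [IsNoetherian Y]
    (hYe : KRR.HasEnoughLocFree Y) : SGA6.Kvb X →+ KZero.K0sub (P1 Y) :=
  KPull.k0Lift (KRR.vbP X)
    (fun F => KZero.clSub (P1 Y) ((Scheme.Modules.pushforward f).obj F)) (by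
      intro S hS h1 h2 h3
      haveI : IsClosedImmersion f := hf.1
      have q2 := Groth.Agent.Lead.FLF.isQuasicoherent_of_isFinLocFree _ h2
      have q3 := Groth.Agent.Lead.FLF.isQuasicoherent_of_isFinLocFree _ h3
      have hS' := push_shortExact f S hS q2 q3
      exact KPull.clSub_ses (P1 Y) _ hS' (push_mem f hf hYe _ h1) (push_mem f hf hYe _ h2)
        (push_mem f hf hYe _ h3))

/-- **S3799** -/
theorem main (hf : Mor2.IsRegularClosedImmersion f)
    [IsNoetherian X] [IsNoetherian Y] (hYe : KRR.HasEnoughLocFree Y)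
    (KX : Type v) [CommRing KX] [LambdaRing.LambdaOps KX] (PX : LambdaRing.PosStructure KX)
    (φX : SGA6.Kvb X →+ KX) (hKX : KRR.IsModel X KX PX φX)
    (KY : Type v) [CommRing KY] [LambdaRing.LambdaOps KY] (PY : LambdaRing.PosStructure KY)
    (φY : SGA6.Kvb Y →+ KY) (hKY : KRR.IsModel Y KY PY φY) :
    ∃! h : KX →+ KY, KRR.IsPushCl f φX φY h := by
  classical
  haveI : IsClosedImmersion f := hf.1
  have hle : ∀ M : Y.Modules, FlatMod.IsFinLocFree M → Coh.IsCoh M ∧ KRR.HasLFRes M :=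
    fun M hM => flf_mem hYe M hM
  have hΦ := ResSch2.main Y hYe hle
  let Φ := SGA6.mapSub (𝟭 Y.Modules) (KRR.vbP Y)
    (fun M : Y.Modules => Coh.IsCoh M ∧ KRR.HasLFRes M) hle
  let eΦ := AddEquiv.ofBijective Φ hΦ
  let eX := AddEquiv.ofBijective φX hKX.bijective
  let hK : SGA6.Kvb X →+ SGA6.Kvb Y := eΦ.symm.toAddMonoidHom.comp (psi f hf hYe)
  let h : KX →+ KY := φY.comp (hK.comp eX.symm.toAddMonoidHom)
  have key : ∀ F : X.Modules, FlatMod.IsFinLocFree F → ∀ (n : ℕ) (L : ChainComplex Y.Modules ℕ)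
      (π : L ⟶ (ChainComplex.single₀ Y.Modules).obj ((Scheme.Modules.pushforward f).obj F)),
      KRR.IsLFRes ((Scheme.Modules.pushforward f).obj F) n L π →
      hK (KRR.cl X F) = ∑ k ∈ Finset.range (n + 1), (-1 : ℤ) ^ k • KRR.cl Y (L.X k) := by
    intro F hF n L π hres
    apply eΦ.injective
    have h1 : eΦ (hK (KRR.cl X F)) =
        KZero.clSub (P1 Y) ((Scheme.Modules.pushforward f).obj F) := by
      change eΦ (eΦ.symm (psi f hf hYe (KRR.cl X F))) = _
      rw [eΦ.apply_symm_apply]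
      exact KPull.k0Lift_clSub _ _ _ F hF
    rw [h1]
    change _ = Φ (∑ k ∈ Finset.range (n + 1), (-1 : ℤ) ^ k • KRR.cl Y (L.X k))
    rw [map_sum]
    have h2 : ∀ k : ℕ, Φ ((-1 : ℤ) ^ k • KRR.cl Y (L.X k)) =
        (-1 : ℤ) ^ k • KZero.clSub (P1 Y) (L.X k) := fun k => by
      rw [map_zsmul]
      congr 1
      exact K0Loc.mapSub_cl (𝟭 Y.Modules) _ _ hle (L.X k) (hres.finLocFree k)
    simp only [h2]
    let R : ResData (KRR.vbP Y) ((Scheme.Modules.pushforward f).obj F) :=
      resDataOfRes L π hres.quasiIso hres.finLocFree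
    have hA := push_mem f hf hYe F hF
    have hz : ∀ i, n < i → IsZero (R.L i) := fun i hi => hres.isZero i hi
    have hLP : ∀ i, P1 Y (R.L i) := fun i => hle _ (R.hL i)
    have hKP : ∀ i, P1 Y (R.K i) := by
      intro i
      have hc := K_isCoh R hA.1 i
      refine ⟨hc, ?_⟩
      by_cases hi : i ≤ n + 1
      · refine hasLFRes_of_locPd hYe hc (n + 1) (fun y => ?_)
        obtain ⟨U, hU, hy⟩ := exists_affine_nhd y
        refine ⟨U, hU, hy, ?_⟩
        have hp := pd_up R hA.1 hU n hz (n + 1 - i) i (by omega)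
        exact pd_mono (by omega) hp
      · obtain ⟨j, rfl⟩ : ∃ j, i = j + 1 := ⟨i - 1, by omega⟩
        have hz' : IsZero (R.K (j + 1)) := IsZero.of_mono (R.ι j) (hz j (by omega))
        exact (hle _ (flf_of_isZero _ hz')).2
    exact (EulerK.euler (P1 Y) R hKP hLP hA (hle 0 (flf_of_isZero 0 (isZero_zero _))) n
      (IsZero.of_epi (R.p (n + 1)) (hz (n + 1) (by omega)))).symm
  have hpush : KRR.IsPushCl f φX φY h := by
    intro F hF n L π hres
    have h0 : h (φX (KRR.cl X F)) = φY (hK (KRR.cl X F)) := by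
      change φY (hK (eX.symm (φX (KRR.cl X F)))) = _
      rw [show eX.symm (φX (KRR.cl X F)) = KRR.cl X F from eX.symm_apply_apply _]
    rw [h0, key F hF n L π hres, map_sum]
    refine Finset.sum_congr rfl (fun k _ => ?_)
    rw [map_zsmul]
  refine ⟨h, hpush, fun h₂ hh₂ => ?_⟩
  have hg : h₂.comp φX = h.comp φX := KPull.k0_hom_ext (KRR.vbP X) _ _ (fun F hF => by
    obtain ⟨n, L, π, hres⟩ := (push_mem f hf hYe F hF).2
    change h₂ (φX (KRR.cl X F)) = h (φX (KRR.cl X F))
    rw [hh₂ F hF n L π hres, hpush F hF n L π hres])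
  ext x
  obtain ⟨y, rfl⟩ := hKX.bijective.2 x
  exact DFunLike.congr_fun hg y

end Groth.Agent.Helper1.PushCl
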