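import Mathlib
import Groth.Prelude.Def_KRR
import Groth.Agent.Lib.Helper1.PushCl

/-!
# Functoriality of the push-forward `i_K` along regular closed immersions (helper1)

Change of rings for projective dimension along a quotient by a regular sequence, the direct image
of a coherent module with a finite locally free resolution along a regular closed immersion has a
finite locally free resolution, and `(g ∘ f)_K = g_K ∘ f_K` (S3748).
-/

set_option backward.isDefEq.respectTransparency.types false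
set_option synthInstance.maxHeartbeats 400000
set_option maxHeartbeats 1000000
set_option autoImplicit false
set_option linter.unusedSectionVars false
set_option linter.style.haveILetI false
set_option linter.unusedVariables false

universe v w u
open CategoryTheory CategoryTheory.Limits AlgebraicGeometry TopologicalSpace Opposite ZeroObject
open RingTheory.Sequence

namespace Groth.Agent.Helper1.PushCl2

open Groth.Agent.Helper1.ResSch Groth.Agent.Helper1.ResSch2 Groth.Agent.Helper1.ResFin
open Groth.Agent.Helper3.ResK0A Groth.Agent.Helper3.ResK0B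
open Groth.Agent.Helper1.PushCl

section Alg

variable {A : Type u} [CommRing A]

/-- change of rings: `pd_A N ≤ pd_B N + length rs` for `B = A / (rs)`, `rs` regular -/
theorem pd_restrict {B : Type u} [CommRing B] [Algebra A B] [IsNoetherianRing B]
    (hφ : Function.Surjective (algebraMap A B)) (rs : List A) (hreg : IsWeaklyRegular A rs)
    (hker : RingHom.ker (algebraMap A B) = Ideal.ofList rs) :
    ∀ (n : ℕ) (N : Type u) [AddCommGroup N] [Module A N] [Module B N] [IsScalarTower A B N]
      [Module.Finite B N], HasProjectiveDimensionLT (ModuleCat.of B N) (n + 1) →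
      HasProjectiveDimensionLT (ModuleCat.of A N) (n + rs.length + 1) := by
  intro n
  induction n with
  | zero =>
    intro N _ _ _ _ _ h
    have hp : Projective (ModuleCat.of B N) := projective_iff_hasProjectiveDimensionLT_one.2 h
    haveI : Module.Projective B N := (IsProjective.iff_projective N).2 hp
    have h1 := RegSeqPd.pd_of_projective_quotient (algebraMap A B) hφ rs hreg hker N
      (fun a m => (algebraMap_smul B a m).symm)
    rw [Nat.zero_add]
    exact h1
  | succ n ih =>
    intro N _ _ _ _ _ h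
    obtain ⟨m, p, hp⟩ := Module.Finite.exists_fin' B N
    let K : Submodule B (Fin m → B) := LinearMap.ker p
    haveI : Module.Finite B K := Module.Finite.iff_fg.2 (IsNoetherian.noetherian K)
    have hzB : p.comp K.subtype = 0 := LinearMap.ext fun x => x.2
    have hSB : (ModuleCat.shortComplexOfCompEqZero K.subtype p hzB).ShortExact := by
      refine ModuleCat.shortComplex_shortExact _ ?_ ?_ hp
      · exact p.exact_subtype_ker_map
      · exact K.injective_subtype
    have h2B : HasProjectiveDimensionLT (ModuleCat.of B (Fin m → B)) (n + 1) := by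
      haveI : Projective (ModuleCat.of B (Fin m → B)) :=
        (IsProjective.iff_projective _).1 inferInstance
      exact hasProjectiveDimensionLT_of_ge _ 1 (n + 1) (by omega)
    have hKB : HasProjectiveDimensionLT (ModuleCat.of B K) (n + 1) :=
      hSB.hasProjectiveDimensionLT_X₁ (n + 1) h2B h
    have hKA : HasProjectiveDimensionLT (ModuleCat.of A K) (n + rs.length + 1) := ih K hKB
    have hzA : (p.restrictScalars A).comp (K.subtype.restrictScalars A) = 0 :=
      LinearMap.ext fun x => x.2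
    have hSA : (ModuleCat.shortComplexOfCompEqZero (K.subtype.restrictScalars A)
        (p.restrictScalars A) hzA).ShortExact := by
      refine ModuleCat.shortComplex_shortExact _ ?_ ?_ hp
      · exact p.exact_subtype_ker_map
      · exact K.injective_subtype
    have h2A : HasProjectiveDimensionLT (ModuleCat.of A (Fin m → B)) (n + rs.length + 1 + 1) := by
      haveI := RegSeqPd.pd_of_projective_quotient (algebraMap A B) hφ rs hreg hker (Fin m → B)
        (fun a x => (algebraMap_smul B a x).symm)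
      exact hasProjectiveDimensionLT_of_ge _ (rs.length + 1) _ (by omega)
    have h3 := hSA.hasProjectiveDimensionLT_X₃ (n + rs.length + 1) hKA h2A
    have harith : n + 1 + rs.length + 1 = n + rs.length + 1 + 1 := by omega
    rw [harith]
    exact h3

theorem pd_restrict' {B : Type u} [CommRing B] [IsNoetherianRing B] (φ : A →+* B)
    (hφ : Function.Surjective φ) (rs : List A) (hreg : IsWeaklyRegular A rs)
    (hker : RingHom.ker φ = Ideal.ofList rs) (n : ℕ)
    (N : Type u) [AddCommGroup N] [Module A N] [Module B N]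
    (hc : ∀ (a : A) (m : N), a • m = φ a • m) [Module.Finite B N]
    (h : HasProjectiveDimensionLT (ModuleCat.of B N) (n + 1)) :
    HasProjectiveDimensionLT (ModuleCat.of A N) (n + rs.length + 1) := by
  letI : Algebra A B := φ.toAlgebra
  haveI : IsScalarTower A B N := ⟨fun a b m => by
    rw [Algebra.smul_def, mul_smul, hc]; rfl⟩
  exact pd_restrict hφ rs hreg hker n N h

end Alg

section Sch

variable {Y Z : Scheme.{u}} (g : Y ⟶ Z)

theorem pd_push_of_regular' [IsClosedImmersion g] [IsNoetherian Y] (N : Y.Modules)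
    (hN : Coh.IsCoh N) {W : Z.Opens} (hW : IsAffineOpen W) (rs : List Γ(Z, W))
    (hreg : RingTheory.Sequence.IsRegular Γ(Z, W) rs)
    (hk : g.ker.ideal ⟨W, hW⟩ = Ideal.ofList rs) (d : ℕ) (hd : PdLT N (g ⁻¹ᵁ W) (d + 1)) :
    PdLT ((Scheme.Modules.pushforward g).obj N) W (d + rs.length + 1) := by
  have hker : RingHom.ker (g.app W).hom = Ideal.ofList rs :=
    (Scheme.Hom.ker_apply g ⟨W, hW⟩).symm.trans hk
  letI : Module Γ(Y, g ⁻¹ᵁ W) Γ((Scheme.Modules.pushforward g).obj N, W) :=
    inferInstanceAs (Module Γ(Y, g ⁻¹ᵁ W) Γ(N, g ⁻¹ᵁ W))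
  haveI : Module.Finite Γ(Y, g ⁻¹ᵁ W) Γ((Scheme.Modules.pushforward g).obj N, W) :=
    FinPush.finite_sections N hN (hW.preimage g)
  haveI : IsNoetherianRing Γ(Y, g ⁻¹ᵁ W) :=
    IsLocallyNoetherian.component_noetherian ⟨g ⁻¹ᵁ W, hW.preimage g⟩
  exact pd_restrict' (g.app W).hom (g.app_surjective W hW) rs hreg.toIsWeaklyRegular hker d
    Γ((Scheme.Modules.pushforward g).obj N, W) (fun a m => rfl) hd

theorem locPd_push' (hg : Mor2.IsRegularClosedImmersion g) [IsNoetherian Y] (N : Y.Modules)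
    (hN : P1 Y N) :
    ∃ d : ℕ, ∀ z : Z, ∃ W : Z.Opens, IsAffineOpen W ∧ z ∈ W ∧
      PdLT ((Scheme.Modules.pushforward g).obj N) W (d + 1) := by
  classical
  haveI : IsClosedImmersion g := hg.1
  obtain ⟨dN, hdN⟩ := affPd_of_hasLFRes hN.1 hN.2
  choose U hU hzU rs hreg hk using hg.2
  have hcov : (Set.univ : Set Y) ⊆ ⋃ z : Y, ((g ⁻¹ᵁ U z : Y.Opens) : Set Y) :=
    fun z _ => Set.mem_iUnion.2 ⟨z, hzU z⟩
  obtain ⟨t, ht⟩ := isCompact_univ.elim_finite_subcover
    (fun z : Y => ((g ⁻¹ᵁ U z : Y.Opens) : Set Y)) (fun z => (g ⁻¹ᵁ U z).isOpen) hcov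
  refine ⟨dN + t.sup (fun z => (rs z).length), fun y => ?_⟩
  by_cases hy : y ∈ Set.range g
  · obtain ⟨z', rfl⟩ := hy
    have hx := ht (Set.mem_univ z')
    simp only [Set.mem_iUnion] at hx
    obtain ⟨z, hzt, hz'⟩ := hx
    refine ⟨U z, hU z, hz', ?_⟩
    exact pd_mono (Nat.succ_le_succ (Nat.add_le_add_left
      (Finset.le_sup (f := fun z => (rs z).length) hzt) dN))
      (pd_push_of_regular' g N hN.1 (hU z) (rs z) (hreg z) (hk z) dN
        (hdN _ ((hU z).preimage g)))
  · have hopen : IsOpen (Set.range g)ᶜ := g.isClosedEmbedding.isClosed_range.isOpen_compl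
    obtain ⟨_, ⟨W, hW, rfl⟩, hyW, hWsub⟩ :=
      Z.isBasis_affineOpens.exists_subset_of_mem_open hy hopen
    refine ⟨W, hW, hyW, ?_⟩
    have hbot : g ⁻¹ᵁ W = ⊥ := by
      rw [eq_bot_iff]
      intro z hz
      exact (hWsub hz ⟨z, rfl⟩).elim
    have hsub : Subsingleton Γ((Scheme.Modules.pushforward g).obj N, W) :=
      CoprodMod.subsingleton_of_eq_bot N hbot
    exact pd_of_subsingleton hsub _

theorem push_mem' (hg : Mor2.IsRegularClosedImmersion g) [IsNoetherian Y] [IsNoetherian Z]
    (hZe : KRR.HasEnoughLocFree Z) (N : Y.Modules) (hN : P1 Y N) :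
    P1 Z ((Scheme.Modules.pushforward g).obj N) := by
  haveI : IsClosedImmersion g := hg.1
  have hc : Coh.IsCoh ((Scheme.Modules.pushforward g).obj N) :=
    FinPush.isCoh_pushforward g N hN.1
  obtain ⟨d, hd⟩ := locPd_push' g hg N hN
  exact ⟨hc, hasLFRes_of_locPd hZe hc d hd⟩

/-- the direct image on `K₀` of coherent modules with finite locally free resolutions -/
noncomputable def psi' (hg : Mor2.IsRegularClosedImmersion g) [IsNoetherian Y] [IsNoetherian Z]
    (hZe : KRR.HasEnoughLocFree Z) : KZero.K0sub (P1 Y) →+ KZero.K0sub (P1 Z) :=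
  KPull.k0Lift (P1 Y)
    (fun N => KZero.clSub (P1 Z) ((Scheme.Modules.pushforward g).obj N)) (by
      intro S hS h1 h2 h3
      haveI : IsClosedImmersion g := hg.1
      have hS' := push_shortExact g S hS h2.1.1 h3.1.1
      exact KPull.clSub_ses (P1 Z) _ hS' (push_mem' g hg hZe _ h1) (push_mem' g hg hZe _ h2)
        (push_mem' g hg hZe _ h3))

end Sch

section Euler

variable {Y : Scheme.{u}} [IsNoetherian Y] (hYe : KRR.HasEnoughLocFree Y)

include hYe in
/-- the alternating sum of a finite locally free resolution is the class of the module -/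
theorem euler_res (M : Y.Modules) (hA : P1 Y M)
    (n : ℕ) (L : ChainComplex Y.Modules ℕ) (π : L ⟶ (ChainComplex.single₀ Y.Modules).obj M)
    (hres : KRR.IsLFRes M n L π) :
    ∑ k ∈ Finset.range (n + 1), (-1 : ℤ) ^ k • KZero.clSub (P1 Y) (L.X k) =
      KZero.clSub (P1 Y) M := by
  have hle : ∀ M : Y.Modules, FlatMod.IsFinLocFree M → P1 Y M := fun M hM => flf_mem hYe M hM
  let R : ResData (KRR.vbP Y) M := resDataOfRes L π hres.quasiIso hres.finLocFree
  have hz : ∀ i, n < i → IsZero (R.L i) := fun i hi => hres.isZero i hi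
  have hLP : ∀ i, P1 Y (R.L i) := fun i => hle _ (R.hL i)
  have hKP : ∀ i, P1 Y (R.K i) := by
    intro i
    have hc := K_isCoh R hA.1 i
    refine ⟨hc, ?_⟩
    by_cases hi : i ≤ n + 1
    · refine hasLFRes_of_locPd hYe hc (n + 1) (fun y => ?_)
      obtain ⟨U, hU, hy⟩ := exists_affine_nhd y
      refine ⟨U, hU, hy, ?_⟩
      have hp := pd_up R hA.1 hU n hz (n + 1 - i) i (by omega)
      exact pd_mono (by omega) hp
    · obtain ⟨j, rfl⟩ : ∃ j, i = j + 1 := ⟨i - 1, by omega⟩
      have hz' : IsZero (R.K (j + 1)) := IsZero.of_mono (R.ι j) (hz j (by omega))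
      exact (hle _ (flf_of_isZero _ hz')).2
  exact EulerK.euler (P1 Y) R hKP hLP hA (hle 0 (flf_of_isZero 0 (isZero_zero _))) n
    (IsZero.of_epi (R.p (n + 1)) (hz (n + 1) (by omega)))

/-- the comparison `K₀(vb Y) → K₀` of modules with finite locally free resolutions -/
noncomputable def Phi : SGA6.Kvb Y →+ KZero.K0sub (P1 Y) :=
  SGA6.mapSub (𝟭 Y.Modules) (KRR.vbP Y) (P1 Y) (fun M hM => flf_mem hYe M hM)

theorem Phi_bijective : Function.Bijective (Phi hYe) :=
  ResSch2.main Y hYe (fun M hM => flf_mem hYe M hM)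

theorem Phi_cl (E : Y.Modules) (hE : FlatMod.IsFinLocFree E) :
    Phi hYe (KRR.cl Y E) = KZero.clSub (P1 Y) E :=
  K0Loc.mapSub_cl (𝟭 Y.Modules) _ _ (fun M hM => flf_mem hYe M hM) E hE

theorem Phi_altsum (M : Y.Modules) (hA : P1 Y M)
    (n : ℕ) (L : ChainComplex Y.Modules ℕ) (π : L ⟶ (ChainComplex.single₀ Y.Modules).obj M)
    (hres : KRR.IsLFRes M n L π) :
    Phi hYe (∑ k ∈ Finset.range (n + 1), (-1 : ℤ) ^ k • KRR.cl Y (L.X k)) =
      KZero.clSub (P1 Y) M := by
  rw [map_sum]
  have h2 : ∀ k : ℕ, Phi hYe ((-1 : ℤ) ^ k • KRR.cl Y (L.X k)) =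
      (-1 : ℤ) ^ k • KZero.clSub (P1 Y) (L.X k) := fun k => by
    rw [map_zsmul, Phi_cl hYe _ (hres.finLocFree k)]
  simp only [h2]
  exact euler_res hYe M hA n L π hres

theorem push_spec {X : Scheme.{u}} (i : X ⟶ Y)
    {KX : Type v} {KY : Type w} [CommRing KX] [CommRing KY] (φX : SGA6.Kvb X →+ KX)
    (φY : SGA6.Kvb Y →+ KY) (a : KX →+ KY) (ha : KRR.IsPushCl i φX φY a) (F : X.Modules)
    (hF : FlatMod.IsFinLocFree F) (hA : P1 Y ((Scheme.Modules.pushforward i).obj F)) :
    ∃ y : SGA6.Kvb Y, a (φX (KRR.cl X F)) = φY y ∧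
      Phi hYe y = KZero.clSub (P1 Y) ((Scheme.Modules.pushforward i).obj F) := by
  obtain ⟨n, L, π, hres⟩ := hA.2
  refine ⟨∑ k ∈ Finset.range (n + 1), (-1 : ℤ) ^ k • KRR.cl Y (L.X k), ?_,
    Phi_altsum hYe _ hA n L π hres⟩
  rw [ha F hF n L π hres, map_sum]
  refine Finset.sum_congr rfl (fun k _ => ?_)
  rw [map_zsmul]

end Euler

/-- **S3748** -/
theorem main {X Y Z : Scheme.{u}} (f : X ⟶ Y) (g : Y ⟶ Z)
    (hf : Mor2.IsRegularClosedImmersion f) (hg : Mor2.IsRegularClosedImmersion g)
    [IsNoetherian X] [IsNoetherian Y] (hYe : KRR.HasEnoughLocFree Y) [IsNoetherian Z]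
    (hZe : KRR.HasEnoughLocFree Z)
    {KX KY KZ : Type v} [CommRing KX] [CommRing KY] [CommRing KZ]
    (φX : SGA6.Kvb X →+ KX) (hX : Function.Surjective φX) (φY : SGA6.Kvb Y →+ KY)
    (φZ : SGA6.Kvb Z →+ KZ)
    (a : KX →+ KY) (ha : KRR.IsPushCl f φX φY a) (b : KY →+ KZ) (hb : KRR.IsPushCl g φY φZ b)
    (c : KX →+ KZ) (hc : KRR.IsPushCl (f ≫ g) φX φZ c) : c = b.comp a := by
  classical
  haveI : IsClosedImmersion f := hf.1
  haveI : IsClosedImmersion g := hg.1
  let eZ := AddEquiv.ofBijective (Phi hZe) (Phi_bijective hZe)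
  let T : SGA6.Kvb Y →+ KZ :=
    φZ.comp (eZ.symm.toAddMonoidHom.comp ((psi' g hg hZe).comp (Phi hYe)))
  have h0 : P1 Z (0 : Z.Modules) := flf_mem hZe 0 (flf_of_isZero 0 (isZero_zero _))
  have hT : b.comp φY = T := KPull.k0_hom_ext (KRR.vbP Y) _ _ (fun E hE => by
    obtain ⟨z, hz1, hz2⟩ := push_spec hZe g φY φZ b hb E hE (push_mem g hg hZe E hE)
    change b (φY (KRR.cl Y E)) = φZ (eZ.symm (psi' g hg hZe (Phi hYe (KRR.cl Y E))))
    rw [hz1, Phi_cl hYe E hE]
    have h3 : psi' g hg hZe (KZero.clSub (P1 Y) E) =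
        KZero.clSub (P1 Z) ((Scheme.Modules.pushforward g).obj E) :=
      KPull.k0Lift_clSub _ _ _ E (flf_mem hYe E hE)
    rw [h3, ← hz2]
    exact congrArg φZ (eZ.symm_apply_apply z).symm)
  have hg' : c.comp φX = (b.comp a).comp φX := KPull.k0_hom_ext (KRR.vbP X) _ _ (fun F hF => by
    have hAf := push_mem f hf hYe F hF
    have hAg := push_mem' g hg hZe _ hAf
    let e := (Scheme.Modules.pushforwardComp f g).app F
    have hAc : P1 Z ((Scheme.Modules.pushforward (f ≫ g)).obj F) := by
      have hcoh : Coh.IsCoh ((Scheme.Modules.pushforward (f ≫ g)).obj F) :=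
        FinPush.isCoh_pushforward (f ≫ g) F
          (Groth.Agent.Lib.Helper5.LocalCoh.isCoh_of_isFinLocFree F hF)
      obtain ⟨d, hd⟩ := locPd_push' g hg _ hAf
      refine ⟨hcoh, hasLFRes_of_locPd hZe hcoh d (fun z => ?_)⟩
      obtain ⟨W, hW, hz, hp⟩ := hd z
      exact ⟨W, hW, hz, pd_of_iso e W _ hp⟩
    obtain ⟨zc, hc1, hc2⟩ := push_spec hZe (f ≫ g) φX φZ c hc F hF hAc
    obtain ⟨y, ha1, ha2⟩ := push_spec hYe f φX φY a ha F hF hAf
    change c (φX (KRR.cl X F)) = b (a (φX (KRR.cl X F)))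
    rw [hc1, ha1]
    have h4 : b (φY y) = T y := DFunLike.congr_fun hT y
    rw [h4]
    change φZ zc = φZ (eZ.symm (psi' g hg hZe (Phi hYe y)))
    rw [ha2]
    have h5 : psi' g hg hZe (KZero.clSub (P1 Y) ((Scheme.Modules.pushforward f).obj F)) =
        KZero.clSub (P1 Z)
          ((Scheme.Modules.pushforward g).obj ((Scheme.Modules.pushforward f).obj F)) :=
      KPull.k0Lift_clSub _ _ _ _ hAf
    have h6 : KZero.clSub (P1 Z)
          ((Scheme.Modules.pushforward g).obj ((Scheme.Modules.pushforward f).obj F)) =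
        KZero.clSub (P1 Z) ((Scheme.Modules.pushforward (f ≫ g)).obj F) :=
      EulerK.cl_iso (P1 Z) e hAg hAc h0
    rw [h5, h6, ← hc2]
    exact congrArg φZ (eZ.symm_apply_apply zc).symm)
  ext x
  obtain ⟨y, rfl⟩ := hX x
  exact DFunLike.congr_fun hg' y

end Groth.Agent.Helper1.PushCl2
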