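import Mathlib
import Groth.Prelude.Def_KRR
import Groth.Agent.Lib.Helper1.PushCl2
import Groth.Agent.Lib.Helper1.Euler3
import Groth.Agent.Lib.Helper1.TildeTens
import Groth.Agent.Lib.Helper5.ProjF.PiMap
import Groth.Agent.Lib.Helper5.LTen.Flf
import Groth.Agent.Lib.Helper5.Perf.Pull

/-!
# The projection formula for the push-forward `i_K` along a regular closed immersion (helper1)

`f_K (x · f^K y) = f_K x · y` (S3747): tensoring with a finite locally free module preserves
modules with finite locally free resolutions, and `f_* F ⊗ E ≅ f_* (F ⊗ f^* E)` (helper5).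
-/

set_option backward.isDefEq.respectTransparency.types false
set_option synthInstance.maxHeartbeats 400000
set_option maxHeartbeats 1000000
set_option autoImplicit false
set_option linter.unusedSectionVars false
set_option linter.style.haveILetI false
set_option linter.unusedVariables false

universe v₁ v₂ u₁ u₂ v w u
open CategoryTheory CategoryTheory.Limits AlgebraicGeometry TopologicalSpace Opposite ZeroObject

namespace Groth.Agent.Helper1.PushCl3

open Groth.Agent.Helper1.ResSch Groth.Agent.Helper1.ResSch2 Groth.Agent.Helper1.ResFin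
open Groth.Agent.Helper3.ResK0A Groth.Agent.Helper3.ResK0B
open Groth.Agent.Helper1.PushCl Groth.Agent.Helper1.PushCl2

section Gen

variable {C : Type u₁} [Category.{v₁} C] [Abelian C] {D : Type u₂} [Category.{v₂} D] [Abelian D]

/-- the image of a resolution datum under a functor which keeps its short exact sequences exact -/
noncomputable def mapRes (G : C ⥤ D) [G.PreservesZeroMorphisms] {P₀ : ObjectProperty C} {A : C}
    (R : ResData P₀ A)
    (hG : ∀ i, ((ShortComplex.mk (R.ι i) (R.p i) (R.w i)).map G).ShortExact)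
    (Q₀ : ObjectProperty D) (hQ : ∀ i, Q₀ (G.obj (R.L i))) : ResData Q₀ (G.obj A) where
  K i := G.obj (R.K i)
  L i := G.obj (R.L i)
  p i := G.map (R.p i)
  ι i := G.map (R.ι i)
  w i := by rw [← G.map_comp, R.w i, G.map_zero]
  se i := hG i
  e := G.mapIso R.e
  hL := hQ

end Gen

section Tensor

variable {Y : Scheme.{u}} [IsNoetherian Y]

theorem tensor_mem (E : Y.Modules) (hE : FlatMod.IsFinLocFree E) (N : Y.Modules) (hN : P1 Y N) :
    P1 Y ((DCoh.tensorBi.obj E).obj N) := by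
  have hEc := Groth.Agent.Lib.Helper5.LocalCoh.isCoh_of_isFinLocFree E hE
  have hc : Coh.IsCoh ((DCoh.tensorBi.obj E).obj N) :=
    Groth.Agent.Helper1.Euler.isCoh_tensor E N hEc hN.1
  obtain ⟨n, L, π, hres⟩ := hN.2
  let R : ResData (KRR.vbP Y) N := resDataOfRes L π hres.quasiIso hres.finLocFree
  let R' : ResData (KRR.vbP Y) ((DCoh.tensorBi.obj E).obj N) :=
    mapRes (DCoh.tensorBi.obj E) R
      (fun i => Groth.Agent.Helper1.Euler.shortExact_tensor E hE _ (R.se i)) (KRR.vbP Y)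
      (fun i => Groth.Agent.Lib.Helper5.LTenFlf.isFinLocFree_tensor E _ hE (R.hL i))
  refine ⟨hc, n, R'.cx, augmentation R',
    ⟨fun i => R'.hL i, fun i hi => ?_, quasiIso_augmentation R'⟩⟩
  exact (DCoh.tensorBi.obj E).map_isZero (hres.isZero i hi)

/-- tensoring with a finite locally free module, on `K₀` -/
noncomputable def tau (E : Y.Modules) (hE : FlatMod.IsFinLocFree E) :
    KZero.K0sub (P1 Y) →+ KZero.K0sub (P1 Y) :=
  KPull.k0Lift (P1 Y) (fun N => KZero.clSub (P1 Y) ((DCoh.tensorBi.obj E).obj N)) (by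
    intro S hS h1 h2 h3
    have hS' := Groth.Agent.Helper1.Euler.shortExact_tensor E hE S hS
    exact KPull.clSub_ses (P1 Y) _ hS' (tensor_mem E hE _ h1) (tensor_mem E hE _ h2)
      (tensor_mem E hE _ h3))

theorem tau_cl (E : Y.Modules) (hE : FlatMod.IsFinLocFree E) (N : Y.Modules) (hN : P1 Y N) :
    tau E hE (KZero.clSub (P1 Y) N) = KZero.clSub (P1 Y) ((DCoh.tensorBi.obj E).obj N) :=
  KPull.k0Lift_clSub _ _ _ N hN

end Tensor

section Main

variable {X Y : Scheme.{u}} (f : X ⟶ Y)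

theorem key (hf : Mor2.IsRegularClosedImmersion f)
    [IsNoetherian X] [IsNoetherian Y] (hYe : KRR.HasEnoughLocFree Y)
    (KX : Type v) [CommRing KX] [LambdaRing.LambdaOps KX] (PX : LambdaRing.PosStructure KX)
    (φX : SGA6.Kvb X →+ KX) (hKX : KRR.IsModel X KX PX φX)
    (KY : Type v) [CommRing KY] [LambdaRing.LambdaOps KY] (PY : LambdaRing.PosStructure KY)
    (φY : SGA6.Kvb Y →+ KY) (hKY : KRR.IsModel Y KY PY φY)
    (g : KY →+ KX) (hg : KRR.IsPull f φY φX g) (h : KX →+ KY) (hh : KRR.IsPushCl f φX φY h)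
    (F : X.Modules) (hF : FlatMod.IsFinLocFree F) (E : Y.Modules) (hE : FlatMod.IsFinLocFree E) :
    h (φX (KRR.cl X F) * g (φY (KRR.cl Y E))) = h (φX (KRR.cl X F)) * φY (KRR.cl Y E) := by
  classical
  haveI : IsClosedImmersion f := hf.1
  have hpE := Groth.Agent.Lib.Helper5.PerfPull.isFinLocFree_pullback f E hE
  have hGf : FlatMod.IsFinLocFree
      ((DCoh.tensorBi.obj F).obj ((Scheme.Modules.pullback f).obj E)) :=
    Groth.Agent.Lib.Helper5.LTenFlf.isFinLocFree_tensor F _ hF hpE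
  have hAG := push_mem f hf hYe _ hGf
  have hAf := push_mem f hf hYe F hF
  have h0 : P1 Y (0 : Y.Modules) := flf_mem hYe 0 (flf_of_isZero 0 (isZero_zero _))
  rw [hg E hE, hKX.map_mul F _ hF hpE]
  obtain ⟨y₁, h1, h1'⟩ := push_spec hYe f φX φY h hh _ hGf hAG
  obtain ⟨n, L, π, hres⟩ := hAf.2
  have h2 : h (φX (KRR.cl X F)) =
      ∑ k ∈ Finset.range (n + 1), (-1 : ℤ) ^ k • φY (KRR.cl Y (L.X k)) := hh F hF n L π hres
  have h3 : h (φX (KRR.cl X F)) * φY (KRR.cl Y E) =
      φY (∑ k ∈ Finset.range (n + 1),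
        (-1 : ℤ) ^ k • KRR.cl Y ((DCoh.tensorBi.obj E).obj (L.X k))) := by
    rw [h2, Finset.sum_mul, map_sum]
    refine Finset.sum_congr rfl (fun k _ => ?_)
    rw [map_zsmul, smul_mul_assoc, mul_comm, hKY.map_mul E (L.X k) hE (hres.finLocFree k)]
  rw [h1, h3]
  congr 1
  apply (Phi_bijective hYe).1
  rw [h1']
  have h4 : Phi hYe (∑ k ∈ Finset.range (n + 1),
        (-1 : ℤ) ^ k • KRR.cl Y ((DCoh.tensorBi.obj E).obj (L.X k))) =
      KZero.clSub (P1 Y)
        ((DCoh.tensorBi.obj E).obj ((Scheme.Modules.pushforward f).obj F)) := by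
    rw [map_sum]
    have h5 : ∀ k : ℕ, Phi hYe ((-1 : ℤ) ^ k • KRR.cl Y ((DCoh.tensorBi.obj E).obj (L.X k))) =
        tau E hE ((-1 : ℤ) ^ k • KZero.clSub (P1 Y) (L.X k)) := fun k => by
      rw [map_zsmul, map_zsmul, Phi_cl hYe _
        (Groth.Agent.Lib.Helper5.LTenFlf.isFinLocFree_tensor E _ hE (hres.finLocFree k)),
        tau_cl E hE (L.X k) (flf_mem hYe _ (hres.finLocFree k))]
    simp only [h5]
    rw [← map_sum, euler_res hYe _ hAf n L π hres]
    exact tau_cl E hE _ hAf
  rw [h4]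
  haveI := Groth.Agent.Lib.Helper5.ProjF.isIso_piMap f F E
  let e1 : (DCoh.tensorBi.obj ((Scheme.Modules.pushforward f).obj F)).obj E ≅
      (Scheme.Modules.pushforward f).obj
        ((DCoh.tensorBi.obj F).obj ((Scheme.Modules.pullback f).obj E)) :=
    asIso (Groth.Agent.Lib.Helper5.ProjF.piMap f F E)
  let e2 : (DCoh.tensorBi.obj E).obj ((Scheme.Modules.pushforward f).obj F) ≅
      (DCoh.tensorBi.obj ((Scheme.Modules.pushforward f).obj F)).obj E :=
    Groth.Agent.Helper1.TildeTens.tensorModComm E _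
  exact (EulerK.cl_iso (P1 Y) (e2 ≪≫ e1) (tensor_mem E hE _ hAf) hAG h0).symm

/-- **S3747** -/
theorem main (hf : Mor2.IsRegularClosedImmersion f)
    [IsNoetherian X] [IsNoetherian Y] (hYe : KRR.HasEnoughLocFree Y)
    (KX : Type v) [CommRing KX] [LambdaRing.LambdaOps KX] (PX : LambdaRing.PosStructure KX)
    (φX : SGA6.Kvb X →+ KX) (hKX : KRR.IsModel X KX PX φX)
    (KY : Type v) [CommRing KY] [LambdaRing.LambdaOps KY] (PY : LambdaRing.PosStructure KY)
    (φY : SGA6.Kvb Y →+ KY) (hKY : KRR.IsModel Y KY PY φY)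
    (g : KY →+ KX) (hg : KRR.IsPull f φY φX g) (h : KX →+ KY) (hh : KRR.IsPushCl f φX φY h)
    (x : KX) (y : KY) : h (x * g y) = h x * y := by
  obtain ⟨x', rfl⟩ := hKX.bijective.2 x
  obtain ⟨y', rfl⟩ := hKY.bijective.2 y
  have hv : ∀ F : X.Modules, FlatMod.IsFinLocFree F → ∀ y' : SGA6.Kvb Y,
      h (φX (KRR.cl X F) * g (φY y')) = h (φX (KRR.cl X F)) * φY y' := by
    intro F hF y'
    have hE : (h.comp ((AddMonoidHom.mulLeft (φX (KRR.cl X F))).comp g)).comp φY =
        (AddMonoidHom.mulLeft (h (φX (KRR.cl X F)))).comp φY :=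
      KPull.k0_hom_ext (KRR.vbP Y) _ _ (fun E hE =>
        key f hf hYe KX PX φX hKX KY PY φY hKY g hg h hh F hF E hE)
    exact DFunLike.congr_fun hE y'
  have hu : (h.comp (AddMonoidHom.mulRight (g (φY y')))).comp φX =
      (AddMonoidHom.mulRight (φY y')).comp (h.comp φX) :=
    KPull.k0_hom_ext (KRR.vbP X) _ _ (fun F hF => hv F hF y')
  exact DFunLike.congr_fun hu x'

end Main

end Groth.Agent.Helper1.PushCl3
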