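import Mathlib
import Groth.Prelude.Def_KRR
import Groth.Agent.Lib.Helper1.PushCl2
import Groth.Agent.Lib.Helper5.ProjF.PiMap

/-!
# Pull-back kills the push-forward from a disjoint closed subscheme (helper1)

If `h : Z ⟶ M` misses the image of the regular closed immersion `F : P ⟶ M` then
`h^K ∘ F_K = 0` (S3750): a finite locally free resolution of `F_* E` pulls back to an exact
complex of bundles on `Z`, stalkwise.
-/

set_option backward.isDefEq.respectTransparency.types false
set_option synthInstance.maxHeartbeats 400000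
set_option maxHeartbeats 1000000
set_option autoImplicit false
set_option linter.unusedSectionVars false
set_option linter.style.haveILetI false
set_option linter.unusedVariables false

universe v w u
open CategoryTheory CategoryTheory.Limits AlgebraicGeometry TopologicalSpace Opposite ZeroObject

namespace Groth.Agent.Helper1.PushCl4

open Groth.Agent.Helper1.ResSch Groth.Agent.Helper1.ResSch2 Groth.Agent.Helper1.ResFin
open Groth.Agent.Helper3.ResK0A Groth.Agent.Helper3.ResK0B
open Groth.Agent.Helper1.PushCl Groth.Agent.Helper1.PushCl2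
open Groth.Agent.Lib.Helper5.StalkAdj

theorem flat_of_projective {R : Type u} [CommRing R] (N : ModuleCat.{u} R) (hN : Projective N) :
    Module.Flat R N := by
  haveI : Module.Projective R N := (IsProjective.iff_projective N).2 hN
  infer_instance

variable {Z M : Scheme.{u}} (h : Z ⟶ M)

theorem mono_pullback_of_flat (S : ShortComplex M.Modules) (hS : S.ShortExact)
    (h3 : ∀ z : Z, Module.Flat (M.presheaf.stalk (h z)) ((stalkSh M (h z)).obj S.X₃)) :
    Mono ((Scheme.Modules.pullback h).map S.f) := by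
  apply mono_of_stalks
  intro x
  have hnat : (stalkSh Z x).map ((Scheme.Modules.pullback h).map S.f) ≫
      (stalkPullbackIso h x).hom.app S.X₂ = (stalkPullbackIso h x).hom.app S.X₁ ≫
        (ModuleCat.extendScalars.{u, u, u} (h.stalkMap x).hom).map ((stalkSh M (h x)).map S.f) :=
    (stalkPullbackIso h x).hom.naturality S.f
  have hT := hS.map_of_exact (stalkSh M (h x))
  have hfl : Module.Flat (M.presheaf.stalk (h x)) ((S.map (stalkSh M (h x))).X₃) := h3 x
  have hm2 : Mono ((ModuleCat.extendScalars.{u, u, u} (h.stalkMap x).hom).map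
      ((stalkSh M (h x)).map S.f)) :=
    mono_extendScalars_of_shortExact (h.stalkMap x).hom (S.map (stalkSh M (h x))) hT hfl
  have hm3 : Mono ((stalkPullbackIso h x).hom.app S.X₁ ≫
      (ModuleCat.extendScalars.{u, u, u} (h.stalkMap x).hom).map ((stalkSh M (h x)).map S.f)) :=
    @mono_comp _ _ _ _ _ _ (IsIso.mono_of_iso _) _ hm2
  rw [← hnat] at hm3
  exact @mono_of_mono _ _ _ _ _ _ _ hm3

theorem shortExact_pullback_of_flat (S : ShortComplex M.Modules) (hS : S.ShortExact)
    (h3 : ∀ z : Z, Module.Flat (M.presheaf.stalk (h z)) ((stalkSh M (h z)).obj S.X₃)) :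
    (S.map (Scheme.Modules.pullback h)).ShortExact := by
  haveI := hS.epi_g
  haveI := hS.mono_f
  haveI hm : Mono ((Scheme.Modules.pullback h).map S.f) := mono_pullback_of_flat h S hS h3
  haveI hpres : PreservesFiniteColimits (Scheme.Modules.pullback h) := inferInstance
  haveI he : Epi ((Scheme.Modules.pullback h).map S.g) := inferInstance
  have hex : (S.map (Scheme.Modules.pullback h)).Exact :=
    hS.exact.map_of_epi_of_preservesCokernel (Scheme.Modules.pullback h) inferInstance
      inferInstance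
  exact { exact := hex, mono_f := hm, epi_g := he }

theorem isZero_pullback_of_stalks (N : M.Modules)
    (hN : ∀ z : Z, IsZero ((stalkSh M (h z)).obj N)) :
    IsZero ((Scheme.Modules.pullback h).obj N) := by
  apply isZero_of_stalks
  intro z
  have e := (stalkPullbackIso h z).app N
  have h0 : IsZero ((ModuleCat.extendScalars.{u, u, u} (h.stalkMap z).hom).obj
      ((stalkSh M (h z)).obj N)) :=
    (ModuleCat.extendScalars.{u, u, u} (h.stalkMap z).hom).map_isZero (hN z)
  exact h0.of_iso e

/-- modules on `M` with projective stalks along the image of `h` and finite locally free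
pullback -/
def Q : ObjectProperty M.Modules := fun N =>
  (∀ z : Z, Projective ((stalkSh M (h z)).obj N)) ∧
    FlatMod.IsFinLocFree ((Scheme.Modules.pullback h).obj N)

theorem Q_of_iso {N N' : M.Modules} (e : N ≅ N') (hN : Q h N) : Q h N' :=
  ⟨fun z => Projective.of_iso ((stalkSh M (h z)).mapIso e) (hN.1 z),
    Groth.Agent.Lead.FLF.isFinLocFree_of_iso ((Scheme.Modules.pullback h).mapIso e) hN.2⟩

theorem Q_of_flf (L : M.Modules) (hL : FlatMod.IsFinLocFree L) : Q h L := by
  refine ⟨fun z => ?_, Groth.Agent.Lib.Helper5.PerfPull.isFinLocFree_pullback h L hL⟩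
  obtain ⟨h1, -⟩ :=
    Groth.Agent.Lib.Helper5.StalkFree.free_finite_stalk_of_isFinLocFree L hL (h z)
  haveI := h1
  have hp : Module.Projective (M.presheaf.stalk (h z)) ((stalkSh M (h z)).obj L) := inferInstance
  exact (IsProjective.iff_projective _).1 hp

theorem Q_of_stalk_zero (A : M.Modules)
    (hA0 : ∀ z : Z, Subsingleton ((stalkSh M (h z)).obj A)) : Q h A := by
  refine ⟨fun z => ?_, ?_⟩
  · haveI := hA0 z
    have hp : Module.Projective (M.presheaf.stalk (h z)) ((stalkSh M (h z)).obj A) :=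
      inferInstance
    exact (IsProjective.iff_projective _).1 hp
  · exact flf_of_isZero _ (isZero_pullback_of_stalks h A (fun z => by
      haveI := hA0 z
      exact ModuleCat.isZero_of_subsingleton _))

theorem Q_K [IsNoetherian Z] {A : M.Modules} (R : ResData (KRR.vbP M) A) (hA : Q h A) :
    ∀ i, Q h (R.K i)
  | 0 => Q_of_iso h R.e.symm hA
  | (i + 1) => by
      have ih := Q_K R hA i
      have hL := Q_of_flf h (R.L i) (R.hL i)
      refine ⟨fun z => ?_, ?_⟩
      · have hT := (R.se i).map_of_exact (stalkSh M (h z))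
        haveI : Projective ((stalkSh M (h z)).obj (R.L i)) := hL.1 z
        haveI : Projective ((stalkSh M (h z)).obj (R.K i)) := ih.1 z
        have h₂ : HasProjectiveDimensionLT ((stalkSh M (h z)).obj (R.L i)) 1 := inferInstance
        have h₃ : HasProjectiveDimensionLT ((stalkSh M (h z)).obj (R.K i)) (1 + 1) :=
          inferInstance
        have h₁ := hT.hasProjectiveDimensionLT_X₁ 1 h₂ h₃
        exact projective_iff_hasProjectiveDimensionLT_one.2 h₁
      · have hS' := shortExact_pullback_of_flat h _ (R.se i)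
          (fun z => flat_of_projective _ (ih.1 z))
        exact flf_ker hS' hL.2 ih.2

/-- the pull-back on `K₀`, defined on the modules of `Q` -/
noncomputable def theta : KZero.K0sub (Q h) →+ SGA6.Kvb Z :=
  KPull.k0Lift (Q h) (fun N => KRR.cl Z ((Scheme.Modules.pullback h).obj N)) (by
    intro S hS h1 h2 h3
    have hS' := shortExact_pullback_of_flat h S hS (fun z => flat_of_projective _ (h3.1 z))
    exact KPull.clSub_ses (KRR.vbP Z) _ hS' h1.2 h2.2 h3.2)

theorem theta_cl (N : M.Modules) (hN : Q h N) :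
    theta h (KZero.clSub (Q h) N) = KRR.cl Z ((Scheme.Modules.pullback h).obj N) :=
  KPull.k0Lift_clSub _ _ _ N hN

theorem alt_zero [IsNoetherian Z] (A : M.Modules)
    (hA0 : ∀ z : Z, Subsingleton ((stalkSh M (h z)).obj A))
    (n : ℕ) (L : ChainComplex M.Modules ℕ) (π : L ⟶ (ChainComplex.single₀ M.Modules).obj A)
    (hres : KRR.IsLFRes A n L π) :
    ∑ k ∈ Finset.range (n + 1),
      (-1 : ℤ) ^ k • KRR.cl Z ((Scheme.Modules.pullback h).obj (L.X k)) = 0 := by
  let R : ResData (KRR.vbP M) A := resDataOfRes L π hres.quasiIso hres.finLocFree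
  change ∑ k ∈ Finset.range (n + 1),
      (-1 : ℤ) ^ k • KRR.cl Z ((Scheme.Modules.pullback h).obj (R.L k)) = 0
  have hz : ∀ i, n < i → IsZero (R.L i) := fun i hi => hres.isZero i hi
  have hA : Q h A := Q_of_stalk_zero h A hA0
  have hK := Q_K h R hA
  have hL : ∀ i, Q h (R.L i) := fun i => Q_of_flf h _ (R.hL i)
  have h0 : Q h (0 : M.Modules) := Q_of_flf h 0 (flf_of_isZero 0 (isZero_zero _))
  have he := EulerK.euler (Q h) R hK hL hA h0 n
    (IsZero.of_epi (R.p (n + 1)) (hz (n + 1) (by omega)))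
  have h3 := congrArg (theta h) he
  rw [map_sum] at h3
  have h4 : ∀ k : ℕ, theta h ((-1 : ℤ) ^ k • KZero.clSub (Q h) (R.L k)) =
      (-1 : ℤ) ^ k • KRR.cl Z ((Scheme.Modules.pullback h).obj (R.L k)) := fun k => by
    rw [map_zsmul, theta_cl h _ (hL k)]
  simp only [h4] at h3
  rw [h3, theta_cl h A hA]
  exact EulerK.cl_zero_of_isZero (KRR.vbP Z)
    (isZero_pullback_of_stalks h A (fun z => by
      haveI := hA0 z
      exact ModuleCat.isZero_of_subsingleton _)) hA.2

/-- **S3750** (general form) -/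
theorem main' {P : Scheme.{u}} (F : P ⟶ M) (hF : Mor2.IsRegularClosedImmersion F)
    (hdisj : ∀ z : Z, h z ∉ Set.range F)
    [IsNoetherian P] [IsNoetherian Z] [IsNoetherian M] (hMe : KRR.HasEnoughLocFree M)
    {KP KM KZ : Type v} [CommRing KP] [CommRing KM] [CommRing KZ]
    (φP : SGA6.Kvb P →+ KP) (hP : Function.Surjective φP) (φM : SGA6.Kvb M →+ KM)
    (φZ : SGA6.Kvb Z →+ KZ)
    (gh : KM →+ KZ) (hgh : KRR.IsPull h φM φZ gh)
    (gF : KP →+ KM) (hgF : KRR.IsPushCl F φP φM gF) (p : KP) : gh (gF p) = 0 := by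
  classical
  haveI : IsClosedImmersion F := hF.1
  have hg' : (gh.comp gF).comp φP = 0 := KPull.k0_hom_ext (KRR.vbP P) _ _ (fun E hE => by
    have hAf := push_mem F hF hMe E hE
    obtain ⟨n, L, π, hres⟩ := hAf.2
    change gh (gF (φP (KRR.cl P E))) = 0
    rw [hgF E hE n L π hres, map_sum]
    have h1 : ∀ k : ℕ, gh ((-1 : ℤ) ^ k • φM (KRR.cl M (L.X k))) =
        φZ ((-1 : ℤ) ^ k • KRR.cl Z ((Scheme.Modules.pullback h).obj (L.X k))) := fun k => by
      rw [map_zsmul, map_zsmul, hgh (L.X k) (hres.finLocFree k)]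
    simp only [h1]
    rw [← map_sum, alt_zero h _ (fun z =>
      Groth.Agent.Lib.Helper5.ProjF.subsingleton_stalk_push F E (h z) (hdisj z)) n L π hres,
      map_zero])
  obtain ⟨y, rfl⟩ := hP p
  exact DFunLike.congr_fun hg' y

/-- **S3750** -/
theorem main {X Y P : Scheme.{u}} (F : P ⟶ M) (φ : Y ⟶ M) (f : X ⟶ Y) (ψ : X ⟶ P)
    (hsq : IsPullback f ψ φ F) (hF : Mor2.IsRegularClosedImmersion F)
    (k : Z ⟶ Y) (hk : Disjoint (Set.range k.base) (Set.range f.base))
    [IsNoetherian P] [IsNoetherian Z] [IsNoetherian M] (hMe : KRR.HasEnoughLocFree M)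
    {KP KM KZ : Type v} [CommRing KP] [CommRing KM] [CommRing KZ]
    (φP : SGA6.Kvb P →+ KP) (hP : Function.Surjective φP) (φM : SGA6.Kvb M →+ KM)
    (φZ : SGA6.Kvb Z →+ KZ)
    (gh : KM →+ KZ) (hgh : KRR.IsPull (k ≫ φ) φM φZ gh)
    (gF : KP →+ KM) (hgF : KRR.IsPushCl F φP φM gF) (p : KP) : gh (gF p) = 0 := by
  have hdisj : ∀ z : Z, (k ≫ φ) z ∉ Set.range F := by
    intro z hz
    obtain ⟨p₀, hp₀⟩ := hz
    have hxy : φ.base (k.base z) = F.base p₀ := hp₀.symm
    obtain ⟨x, hx1, -⟩ :=
      AlgebraicGeometry.Scheme.exists_preimage_of_isPullback hsq (k.base z) p₀ hxy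
    exact Set.disjoint_left.1 hk ⟨z, rfl⟩ ⟨x, hx1⟩
  exact main' (k ≫ φ) F hF hdisj hMe φP hP φM φZ gh hgh gF hgF p

end Groth.Agent.Helper1.PushCl4
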