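import Mathlib
import Groth.Prelude.Def_Mor2

/-!
# Quasi-affine morphisms (helper1 library)

`Mor2.IsQuasiAffine f` := `QuasiCompact f ∧ ∀ V affine open, (f ⁻¹ᵁ V).IsQuasiAffine`.
We prove: affine ⟹ quasi-affine, quasi-compact topological embeddings are quasi-affine,
stability under composition and base change, and cancellation for quasi-separated `g`.
-/

open AlgebraicGeometry CategoryTheory Limits TopologicalSpace

universe u

namespace Groth.Agent.Helper1.QAff

lemma image_basicOpen_topIso_hom {X : Scheme.{u}} (U : X.Opens) (s : Γ(U, ⊤)) :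
    U.ι ''ᵁ (U.toScheme.basicOpen s) = X.basicOpen (U.topIso.hom s) := by
  have := Scheme.Opens.ι_image_basicOpen_topIso_inv (U := U) (U.topIso.hom s)
  rwa [Iso.hom_inv_id_apply] at this

lemma exists_affine_basicOpen (X : Scheme.{u}) [CompactSpace X] [QuasiSeparatedSpace X]
    (r : Γ(X, ⊤)) [Scheme.IsQuasiAffine (X.basicOpen r : Scheme.{u})] (x : X)
    (hx : x ∈ X.basicOpen r) :
    ∃ t : Γ(X, ⊤), IsAffineOpen (X.basicOpen t) ∧ x ∈ X.basicOpen t := by
  obtain ⟨_, ⟨_, ⟨s, hs, rfl⟩, rfl⟩, hxs, -⟩ :=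
    (Scheme.IsQuasiAffine.isBasis_basicOpen (X.basicOpen r : Scheme.{u})).exists_subset_of_mem_open
      (Set.mem_univ (⟨x, hx⟩ : X.basicOpen r)) isOpen_univ
  obtain ⟨n, y, e⟩ := exists_eq_pow_mul_of_isCompact_of_isQuasiSeparated X ⊤
    isCompact_univ isQuasiSeparated_univ r ((X.basicOpen r).topIso.hom s)
  have h1 := image_basicOpen_topIso_hom (X.basicOpen r) s
  have h2 : X.basicOpen (y * r) = X.basicOpen ((X.basicOpen r).topIso.hom s) := by
    have e' := congrArg X.basicOpen e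
    dsimp only [TopCat.Presheaf.restrictOpenCommRingCat_apply] at e'
    have hu : IsUnit ((X.presheaf.map (homOfLE (le_top : X.basicOpen r ≤ ⊤)).op r) ^ n) :=
      (RingedSpace.isUnit_res_basicOpen _ r).pow n
    rw [Scheme.basicOpen_res, Scheme.basicOpen_mul,
      Scheme.basicOpen_of_isUnit _ hu] at e'
    rw [Scheme.basicOpen_mul, inf_comm, e']
    exact inf_eq_right.mpr (Scheme.basicOpen_le _ _)
  refine ⟨y * r, ?_, ?_⟩
  · rw [h2, ← h1]
    exact hs.image_of_isOpenImmersion _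
  · rw [h2, ← h1]
    exact ⟨⟨x, hx⟩, hxs, rfl⟩

/-- A quasi-compact scheme covered by quasi-affine basic opens of global sections is
quasi-affine. -/
lemma isQuasiAffine_of_cover (X : Scheme.{u}) [CompactSpace X] {ι : Type*} (r : ι → Γ(X, ⊤))
    (hcov : ∀ x : X, ∃ i, x ∈ X.basicOpen (r i))
    (hq : ∀ i, Scheme.IsQuasiAffine (X.basicOpen (r i) : Scheme.{u})) : X.IsQuasiAffine := by
  have : QuasiSeparatedSpace X := by
    refine .of_isOpenCover (U := fun i => X.basicOpen (r i))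
      (eq_top_iff.mpr fun x _ ↦ Opens.mem_iSup.mpr (hcov x))
      (fun _ ↦ isRetrocompact_basicOpen _) (fun i ↦ ?_)
    have := hq i
    exact (isQuasiSeparated_iff_quasiSeparatedSpace _ (X.basicOpen (r i)).2).mpr
      (inferInstance : QuasiSeparatedSpace ↥(X.basicOpen (r i)).toScheme)
  refine .of_forall_exists_mem_basicOpen _ fun x ↦ ?_
  obtain ⟨i, hi⟩ := hcov x
  have := hq i
  exact exists_affine_basicOpen X (r i) x hi

lemma isQuasiAffine_of_iso {X Y : Scheme.{u}} (e : X ≅ Y) [Y.IsQuasiAffine] : X.IsQuasiAffine :=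
  Scheme.IsQuasiAffine.of_isAffineHom e.hom

/-- Opens version of `isQuasiAffine_of_cover`. -/
lemma isQuasiAffine_opens_of_cover (X : Scheme.{u}) (U : X.Opens) (hU : IsCompact (U : Set X))
    {ι : Type*} (r : ι → Γ(X, U))
    (hcov : ∀ x ∈ U, ∃ i, x ∈ X.basicOpen (r i))
    (hq : ∀ i, Scheme.IsQuasiAffine (X.basicOpen (r i) : Scheme.{u})) :
    Scheme.IsQuasiAffine (U : Scheme.{u}) := by
  have : CompactSpace U := isCompact_iff_compactSpace.mp hU
  have key : ∀ i, U.ι ''ᵁ U.toScheme.basicOpen (U.topIso.inv (r i)) = X.basicOpen (r i) :=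
    fun i => Scheme.Opens.ι_image_basicOpen_topIso_inv U (r i)
  refine isQuasiAffine_of_cover U.toScheme (fun i => U.topIso.inv (r i)) ?_ ?_
  · intro x
    obtain ⟨i, hi⟩ := hcov x.1 x.2
    refine ⟨i, ?_⟩
    rw [← key i] at hi
    obtain ⟨y, hy, hyx⟩ := hi
    have : y = x := Subtype.ext hyx
    exact this ▸ hy
  · intro i
    have := hq i
    exact isQuasiAffine_of_iso (U.ι.isoImage _ ≪≫ X.isoOfEq (key i))

/-- Affine morphisms are quasi-affine. -/
lemma of_isAffineHom {X Y : Scheme.{u}} (f : X ⟶ Y) [IsAffineHom f] : Mor2.IsQuasiAffine f :=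
  ⟨inferInstance, fun V hV => by
    have : IsAffine (f ⁻¹ᵁ V) := hV.preimage f
    infer_instance⟩

/-- A quasi-compact morphism that is a topological embedding is quasi-affine. -/
theorem of_isEmbedding {X Y : Scheme.{u}} (f : X ⟶ Y) [QuasiCompact f]
    (hf : Topology.IsEmbedding f.base) : Mor2.IsQuasiAffine f := by
  refine ⟨inferInstance, fun V hV ↦ ?_⟩
  have H : ∀ x ∈ f ⁻¹ᵁ V, ∃ s : Γ(Y, V), x ∈ X.basicOpen (f.app V s) ∧
      IsAffineOpen (X.basicOpen (f.app V s)) := by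
    intro x hx
    obtain ⟨_, ⟨W, hW, rfl⟩, hxW, hWV⟩ :=
      X.isBasis_affineOpens.exists_subset_of_mem_open hx (f ⁻¹ᵁ V).2
    replace hW : IsAffineOpen W := hW
    obtain ⟨W₀, hW₀, hW₀W⟩ := hf.isInducing.isOpen_iff.mp W.2
    have hxW₀ : f x ∈ W₀ := by
      have : x ∈ f.base ⁻¹' W₀ := by rw [hW₀W]; exact hxW
      exact this
    obtain ⟨s, hsle, hxs⟩ := hV.exists_basicOpen_le (V := (⟨W₀, hW₀⟩ : Y.Opens))
      ⟨f x, hxW₀⟩ hx
    have hle : X.basicOpen (f.app V s) ≤ W := by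
      rw [← Scheme.preimage_basicOpen]
      intro z hz
      have h1 : f z ∈ W₀ := hsle hz
      have h2 : z ∈ f.base ⁻¹' W₀ := h1
      rw [hW₀W] at h2
      exact h2
    refine ⟨s, ?_, ?_⟩
    · rw [← Scheme.preimage_basicOpen]; exact hxs
    · have hWV' : W ≤ f ⁻¹ᵁ V := hWV
      have := hW.basicOpen (X.presheaf.map (homOfLE hWV').op (f.app V s))
      rwa [Scheme.basicOpen_res, inf_eq_right.mpr hle] at this
  choose! s hs1 hs2 using H
  refine isQuasiAffine_opens_of_cover X (f ⁻¹ᵁ V) (f.isCompact_preimage hV.isCompact)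
    (ι := (f ⁻¹ᵁ V)) (fun x => f.app V (s x.1)) (fun x hx => ⟨⟨x, hx⟩, hs1 x hx⟩) (fun x => ?_)
  have : IsAffine (X.basicOpen (f.app V (s x.1))) := hs2 x.1 x.2
  infer_instance

/-- Composition of quasi-affine morphisms. -/
theorem comp {X Y Z : Scheme.{u}} (f : X ⟶ Y) (g : Y ⟶ Z) (hf : Mor2.IsQuasiAffine f)
    (hg : Mor2.IsQuasiAffine g) : Mor2.IsQuasiAffine (f ≫ g) := by
  have := hf.1
  have := hg.1
  refine ⟨inferInstance, fun W hW => ?_⟩
  have := hg.2 W hW
  have key : Scheme.IsQuasiAffine (↑(f ⁻¹ᵁ (g ⁻¹ᵁ W)) : Scheme.{u}) := by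
    refine isQuasiAffine_opens_of_cover X (f ⁻¹ᵁ (g ⁻¹ᵁ W))
      ((f ≫ g).isCompact_preimage hW.isCompact)
      (ι := {s : Γ((g ⁻¹ᵁ W).toScheme, ⊤) // IsAffineOpen ((g ⁻¹ᵁ W).toScheme.basicOpen s)})
      (fun s => f.app (g ⁻¹ᵁ W) ((g ⁻¹ᵁ W).topIso.hom s.1)) ?_ ?_
    · intro x hx
      obtain ⟨_, ⟨_, ⟨s, hs, rfl⟩, rfl⟩, hxs, -⟩ :=
        (Scheme.IsQuasiAffine.isBasis_basicOpen ((g ⁻¹ᵁ W).toScheme)).exists_subset_of_mem_open
          (Set.mem_univ (⟨f x, hx⟩ : (g ⁻¹ᵁ W))) isOpen_univ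
      refine ⟨⟨s, hs⟩, ?_⟩
      rw [← Scheme.preimage_basicOpen, ← image_basicOpen_topIso_hom]
      exact ⟨⟨f x, hx⟩, hxs, rfl⟩
    · rintro ⟨s, hs⟩
      have haff : IsAffineOpen (Y.basicOpen ((g ⁻¹ᵁ W).topIso.hom s)) := by
        rw [← image_basicOpen_topIso_hom]
        exact hs.image_of_isOpenImmersion _
      have := hf.2 _ haff
      rwa [Scheme.preimage_basicOpen] at this
  exact key

/-- If `D ⊆ Y'` is an affine open mapping into an affine open `V ⊆ Y` then the preimage of `D` in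
`X ×_Y Y'` is quasi-affine when `f : X ⟶ Y` is quasi-affine. -/
lemma quasiAffine_preimage_of_le {X Y Y' : Scheme.{u}} (f : X ⟶ Y) (hf : Mor2.IsQuasiAffine f)
    (g : Y' ⟶ Y) (V : Y.Opens) (hV : IsAffineOpen V) (D : Y'.Opens) (hD : IsAffineOpen D)
    (hle : D ≤ g ⁻¹ᵁ V) :
    Scheme.IsQuasiAffine ((pullback.snd f g) ⁻¹ᵁ D : Scheme.{u}) := by
  have := hf.2 V hV
  have hA := (isPullback_morphismRestrict (pullback.snd f g) D).flip
  have hB := IsPullback.of_hasPullback f g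
  have hbig := hA.paste_horiz hB
  have hC := (isPullback_morphismRestrict f V).flip
  have w : ((pullback.snd f g ∣_ D) ≫ g.resLE V D hle) ≫ V.ι =
      ((pullback.snd f g ⁻¹ᵁ D).ι ≫ pullback.fst f g) ≫ f := by
    rw [Category.assoc, Scheme.Hom.resLE_comp_ι, ← Category.assoc, morphismRestrict_ι,
      Category.assoc, Category.assoc, pullback.condition]
  let φ := (isPullback_morphismRestrict f V).lift
    ((pullback.snd f g ∣_ D) ≫ g.resLE V D hle) ((pullback.snd f g ⁻¹ᵁ D).ι ≫ pullback.fst f g) w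
  have hφ1 : φ ≫ (f ⁻¹ᵁ V).ι = (pullback.snd f g ⁻¹ᵁ D).ι ≫ pullback.fst f g :=
    (isPullback_morphismRestrict f V).lift_snd _ _ _
  have hφ2 : φ ≫ (f ∣_ V) = (pullback.snd f g ∣_ D) ≫ g.resLE V D hle :=
    (isPullback_morphismRestrict f V).lift_fst _ _ _
  rw [← hφ1, ← Scheme.Hom.resLE_comp_ι g hle] at hbig
  have hleft := IsPullback.of_right hbig hφ2 hC
  have : IsAffine D := hD
  have : IsAffine V := hV
  have : IsAffineHom φ :=
    MorphismProperty.of_isPullback (P := @IsAffineHom) hleft.flip inferInstance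
  exact Scheme.IsQuasiAffine.of_isAffineHom φ

/-- Base change of a quasi-affine morphism. -/
theorem pullback_snd {X Y Y' : Scheme.{u}} (f : X ⟶ Y) (hf : Mor2.IsQuasiAffine f)
    (g : Y' ⟶ Y) : Mor2.IsQuasiAffine (pullback.snd f g) := by
  have := hf.1
  refine ⟨inferInstance, fun V' hV' => ?_⟩
  have H : ∀ y' ∈ V', ∃ s : Γ(Y', V'), y' ∈ Y'.basicOpen s ∧
      Scheme.IsQuasiAffine ((pullback.snd f g) ⁻¹ᵁ (Y'.basicOpen s) : Scheme.{u}) := by
    intro y' hy'
    obtain ⟨_, ⟨V, hV, rfl⟩, hyV, -⟩ :=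
      Y.isBasis_affineOpens.exists_subset_of_mem_open (Set.mem_univ (g y')) isOpen_univ
    replace hV : IsAffineOpen V := hV
    obtain ⟨s, hsle, hys⟩ := hV'.exists_basicOpen_le (V := g ⁻¹ᵁ V) ⟨y', hyV⟩ hy'
    exact ⟨s, hys, quasiAffine_preimage_of_le f hf g V hV (Y'.basicOpen s) (hV'.basicOpen s) hsle⟩
  choose! s hs1 hs2 using H
  refine isQuasiAffine_opens_of_cover _ ((pullback.snd f g) ⁻¹ᵁ V')
    ((pullback.snd f g).isCompact_preimage hV'.isCompact) (ι := V')
    (fun y => (pullback.snd f g).app V' (s y.1)) ?_ ?_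
  · intro x hx
    exact ⟨⟨_, hx⟩, by rw [← Scheme.preimage_basicOpen]; exact hs1 _ hx⟩
  · intro y
    rw [← Scheme.preimage_basicOpen]
    exact hs2 y.1 y.2

/-- Quasi-affine morphisms as a morphism property. -/
def P : MorphismProperty Scheme.{u} := fun _ _ f => Mor2.IsQuasiAffine f

instance : P.{u}.IsMultiplicative where
  id_mem X := of_isAffineHom (𝟙 X)
  comp_mem f g hf hg := comp f g hf hg

instance : P.{u}.RespectsIso :=
  MorphismProperty.respectsIso_of_isStableUnderComposition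
    (fun _ _ f (_ : IsIso f) => of_isAffineHom f)

instance : P.{u}.IsStableUnderBaseChange := .mk' fun X Y S f g _ hg => by
  have : pullback.fst f g = (pullbackSymmetry f g).hom ≫ pullback.snd g f := by simp
  rw [this]
  exact comp _ _ (of_isAffineHom _) (pullback_snd g hg f)

/-- If `f ≫ g` is quasi-affine and `g` quasi-separated then `f` is quasi-affine. -/
theorem of_comp {X Y Z : Scheme.{u}} (f : X ⟶ Y) (g : Y ⟶ Z) [QuasiSeparated g]
    (h : Mor2.IsQuasiAffine (f ≫ g)) : Mor2.IsQuasiAffine f := by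
  have hpb := pullback_lift_diagonal_isPullback f g
  have e : f = pullback.lift (𝟙 X) f (by simp) ≫ pullback.snd (f ≫ g) g :=
    (pullback.lift_snd _ _ _).symm
  rw [e]
  refine comp _ _ ?_ (pullback_snd _ h _)
  have : QuasiCompact (pullback.lift (𝟙 X) f (by simp) : X ⟶ pullback (f ≫ g) g) :=
    MorphismProperty.of_isPullback (P := @QuasiCompact) hpb inferInstance
  have : IsImmersion (pullback.lift (𝟙 X) f (by simp) : X ⟶ pullback (f ≫ g) g) :=
    MorphismProperty.of_isPullback (P := @IsImmersion) hpb inferInstance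
  exact of_isEmbedding _ (Scheme.Hom.isEmbedding _)

end Groth.Agent.Helper1.QAff
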