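import Mathlib
import Groth.Prelude.Def_Coh
import Groth.Agent.S0009
import Groth.Agent.Lib.Helper1.ColimCoh2
import Groth.Agent.Lib.Helper1.CohDim1
import Groth.Agent.Lib.Helper1.GlobGen

set_option autoImplicit false
universe u
open CategoryTheory CategoryTheory.Limits AlgebraicGeometry TopologicalSpace Opposite Coherent

namespace Groth.Agent.Helper1.QAff

theorem subsingleton_HH_free {X : Scheme.{u}} [CompactSpace X] [QuasiSeparatedSpace X]
    (ι : Type u) (q : ℕ) (h : Subsingleton (Coh.HH X (Coh.structureModule X) q)) :
    Subsingleton (Coh.HH X (SheafOfModules.free ι : X.Modules) q) :=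
  ColimCoh.subsingleton_HH_sigma (fun _ : ι => Coh.structureModule X) q (fun _ => h)

/-- if every quasi-coherent module is globally generated and the structure sheaf is acyclic,
then every quasi-coherent module is acyclic -/
theorem acyclic_of_globGen {X : Scheme.{u}} [CompactSpace X] [X.IsSeparated]
    (hg : ∀ (M : X.Modules) [M.IsQuasicoherent], Curv2.IsGloballyGenerated M)
    (h : ∀ p : ℕ, 0 < p → Subsingleton (Coh.HH X (Coh.structureModule X) p))
    (M : X.Modules) [M.IsQuasicoherent] (n : ℕ) (hn : 0 < n) :
    Subsingleton (Coh.HH X M n) := by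
  obtain ⟨D, hD⟩ := CohDim.exists_bound (X := X)
  have key : ∀ k n, 0 < n → D < n + k → ∀ (M : X.Modules) [M.IsQuasicoherent],
      Subsingleton (Coh.HH X M n) := by
    intro k
    induction k with
    | zero => intro n _ hn M _; exact hD M n (by omega)
    | succ k ih =>
      intro n hn0 hn M _
      obtain ⟨ι, p, hp⟩ := hg M
      have hqF : (SheafOfModules.free ι : X.Modules).IsQuasicoherent := inferInstance
      have hK : (kernel p).IsQuasicoherent := QcAbel.isQuasicoherent_kernel p
      let S : ShortComplex X.Modules := ShortComplex.mk (kernel.ι p) p (kernel.condition p)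
      have hS : S.ShortExact :=
        { exact := ShortComplex.exact_kernel p
          mono_f := inferInstanceAs (Mono (kernel.ι p))
          epi_g := hp }
      exact CohDim.subsingleton_HH_X₃ hS n (subsingleton_HH_free ι n (h n hn0))
        (@ih (n + 1) (by omega) (by omega) (kernel p) hK)
  exact key D n hn (by omega) M

end Groth.Agent.Helper1.QAff
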