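import Mathlib
import Groth.Agent.Lib.Helper1.QAff

open AlgebraicGeometry CategoryTheory Limits TopologicalSpace

universe u

namespace Groth.Agent.Helper1.QAff

set_option backward.isDefEq.respectTransparency.types false in
/-- Quasi-affineness over an affine base can be checked on an affine open cover of the base. -/
theorem isQuasiAffine_of_affine_cover {X Y : Scheme.{u}} [IsAffine Y]
    (f : X ⟶ Y) {ι : Type u} (V : ι → Y.Opens) (hV : iSup V = ⊤) (hVa : ∀ i, IsAffineOpen (V i))
    (hq : ∀ i, Scheme.IsQuasiAffine (↑(f ⁻¹ᵁ V i) : Scheme.{u})) :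
    X.IsQuasiAffine := by
  have hqc : QuasiCompact f := by
    refine IsZariskiLocalAtTarget.of_iSup_eq_top (P := @QuasiCompact) V hV fun i => ?_
    have := hq i
    have : IsAffine (V i) := hVa i
    infer_instance
  have : CompactSpace X := QuasiCompact.compactSpace_of_compactSpace f
  have H : ∀ x : X, ∃ s : Γ(Y, ⊤), x ∈ X.basicOpen (f.appTop s) ∧
      Scheme.IsQuasiAffine (X.basicOpen (f.appTop s) : Scheme.{u}) := by
    intro x
    obtain ⟨i, hi⟩ : ∃ i, f x ∈ V i := by
      have : f x ∈ (⨆ i, V i) := by rw [hV]; trivial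
      exact Opens.mem_iSup.mp this
    obtain ⟨s, hsle, hxs⟩ := (isAffineOpen_top Y).exists_basicOpen_le (V := V i) ⟨f x, hi⟩ trivial
    have hle : X.basicOpen (f.appTop s) ≤ f ⁻¹ᵁ V i := by
      rw [← Scheme.preimage_basicOpen_top]
      exact f.preimage_mono hsle
    refine ⟨s, ?_, ?_⟩
    · rw [← Scheme.preimage_basicOpen_top]; exact hxs
    · have := hq i
      have hc : IsCompact (X.basicOpen (f.appTop s) : Set X) := by
        rw [← Scheme.preimage_basicOpen_top]
        exact f.isCompact_preimage ((isAffineOpen_top Y).basicOpen s).isCompact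
      have : CompactSpace ↥((X.basicOpen (f.appTop s)).toScheme) :=
        isCompact_iff_compactSpace.mp hc
      exact Scheme.IsQuasiAffine.of_isImmersion (X.homOfLE hle)
  choose s hs1 hs2 using H
  exact isQuasiAffine_of_cover X (fun x => f.appTop (s x)) (fun x => ⟨x, hs1 x⟩) hs2

set_option backward.isDefEq.respectTransparency.types false in
/-- Proper quasi-affine morphisms are finite. -/
theorem isFinite_iff {X Y : Scheme.{u}} (f : X ⟶ Y) :
    IsFinite f ↔ IsProper f ∧ Mor2.IsQuasiAffine f := by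
  constructor
  · intro h
    exact ⟨inferInstance, of_isAffineHom f⟩
  · rintro ⟨hp, hq⟩
    rw [IsFinite.iff_isProper_and_isAffineHom]
    refine ⟨hp, ⟨fun V hV => ?_⟩⟩
    have := hq.2 V hV
    have : IsAffine V := hV
    have hpr : IsProper (f ∣_ V) := IsZariskiLocalAtTarget.restrict hp V
    have e : (f ⁻¹ᵁ V).toScheme.toSpecΓ ≫ Spec.map (f ∣_ V).appTop =
        (f ∣_ V) ≫ V.toScheme.toSpecΓ := (Scheme.toSpecΓ_naturality _).symm
    have : IsProper ((f ⁻¹ᵁ V).toScheme.toSpecΓ ≫ Spec.map (f ∣_ V).appTop) := by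
      rw [e]; infer_instance
    have hj : IsProper (f ⁻¹ᵁ V).toScheme.toSpecΓ := IsProper.of_comp _ (Spec.map (f ∣_ V).appTop)
    have : IsClosedImmersion (f ⁻¹ᵁ V).toScheme.toSpecΓ :=
      .of_isPreimmersion _ ((f ⁻¹ᵁ V).toScheme.toSpecΓ.isClosedMap.isClosed_range)
    exact isAffine_of_isAffineHom (f ⁻¹ᵁ V).toScheme.toSpecΓ

end Groth.Agent.Helper1.QAff
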