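import Mathlib

/-!
# Uniform affine covers of base changes of a quasi-compact morphism (helper1 library)
-/

open AlgebraicGeometry CategoryTheory Limits TopologicalSpace

universe u

namespace Groth.Agent.Helper1.QAff3

/-- In a fibre product `X ×_S Y`, the intersection of the preimages of affine opens `U ⊆ X`,
`V ⊆ Y` both mapping into an affine open `T ⊆ S` is affine. -/
lemma affine_inf {X Y S : Scheme.{u}} (f : X ⟶ S) (g : Y ⟶ S) (U : X.Opens) (V : Y.Opens)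
    (T : S.Opens) (hU : IsAffineOpen U) (hV : IsAffineOpen V) (hT : IsAffineOpen T)
    (hUT : U ≤ f ⁻¹ᵁ T) (hVT : V ≤ g ⁻¹ᵁ T) :
    IsAffineOpen (pullback.fst f g ⁻¹ᵁ U ⊓ pullback.snd f g ⁻¹ᵁ V) := by
  have : IsAffine U := hU
  have : IsAffine V := hV
  have : IsAffine T := hT
  let F := pullback.map (f.resLE T U hUT) (g.resLE T V hVT) f g U.ι V.ι T.ι
    (Scheme.Hom.resLE_comp_ι _ _) (Scheme.Hom.resLE_comp_ι _ _)
  have hF : F.opensRange = pullback.fst f g ⁻¹ᵁ U ⊓ pullback.snd f g ⁻¹ᵁ V := by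
    apply Opens.ext
    simp only [F, Scheme.Hom.coe_opensRange, Scheme.Pullback.range_map, Scheme.Opens.range_ι]
    rfl
  rw [← hF]
  exact isAffineOpen_opensRange F

/-- Partition-of-unity refinement: a finite open cover of `Spec B` indexed by `ι` can be refined
by basic opens with the same index. -/
lemma exists_basicOpen_refinement (B : CommRingCat.{u}) {ι : Type*} (O : ι → (Spec B).Opens)
    (hO : ∀ x : Spec B, ∃ i, x ∈ O i) :
    ∃ b : ι → B, (∀ i, (PrimeSpectrum.basicOpen (b i) : (Spec B).Opens) ≤ O i) ∧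
      ∀ x : Spec B, ∃ i, x ∈ (PrimeSpectrum.basicOpen (b i) : (Spec B).Opens) := by
  let I : ι → Ideal B := fun i => PrimeSpectrum.vanishingIdeal ((O i : Set (Spec B))ᶜ)
  have hI : ⨆ i, I i = ⊤ := by
    rw [← PrimeSpectrum.zeroLocus_empty_iff_eq_top, PrimeSpectrum.zeroLocus_iSup]
    rw [Set.eq_empty_iff_forall_notMem]
    intro x hx
    obtain ⟨i, hi⟩ := hO x
    have hx' := Set.mem_iInter.mp hx i
    rw [PrimeSpectrum.zeroLocus_vanishingIdeal_eq_closure] at hx'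
    exact (O i).isOpen.isClosed_compl.closure_subset hx' hi
  have h1 : (1 : B) ∈ ⨆ i, I i := by rw [hI]; trivial
  obtain ⟨c, hc, hsum⟩ := (Submodule.mem_iSup_iff_exists_finsupp _ _).mp h1
  refine ⟨fun i => c i, fun i x hx => ?_, fun x => ?_⟩
  · by_contra hxO
    have : c i ∈ x.asIdeal := (PrimeSpectrum.mem_vanishingIdeal _ _).mp (hc i) x hxO
    exact hx this
  · by_contra hcon
    have hcon' : ∀ i, c i ∈ x.asIdeal := by
      intro i
      by_contra hi
      exact hcon ⟨i, hi⟩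
    have : (1 : B) ∈ x.asIdeal := by
      rw [← hsum]
      exact Ideal.sum_mem _ fun i _ => hcon' i
    exact x.isPrime.ne_top ((Ideal.eq_top_iff_one _).mpr this)

theorem uniform_affine_cover {W Y : Scheme.{u}} (j : W ⟶ Y) [CompactSpace Y] [QuasiCompact j] :
    ∃ m : ℕ, ∀ (B : CommRingCat.{u}) (g : Spec B ⟶ Y),
      ∃ U : Fin m → (Limits.pullback j g).Opens, (∀ k, IsAffineOpen (U k)) ∧ ⨆ k, U k = ⊤ := by
  obtain ⟨s, hsfin, hs⟩ := (isCompact_and_isOpen_iff_finite_and_eq_biUnion_affineOpens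
    (X := Y) (U := Set.univ)).mp ⟨isCompact_univ, isOpen_univ⟩
  have H : ∀ V : Y.affineOpens, ∃ t : Set W.affineOpens, t.Finite ∧
      ((j ⁻¹ᵁ V.1 : W.Opens) : Set W) = ⋃ i ∈ t, (i : Set W) := fun V =>
    (isCompact_and_isOpen_iff_finite_and_eq_biUnion_affineOpens).mp
      ⟨j.isCompact_preimage V.2.isCompact, (j ⁻¹ᵁ V.1).2⟩
  choose t htfin ht using H
  have : Finite s := hsfin.to_subtype
  have : ∀ V : s, Finite (t V.1) := fun V => (htfin V.1).to_subtype
  let T := Σ V : s, (t V.1)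
  refine ⟨Nat.card T, fun B g => ?_⟩
  let e : T ≃ Fin (Nat.card T) := Finite.equivFin T
  obtain ⟨b, hb1, hb2⟩ := exists_basicOpen_refinement B (ι := s) (fun V => g ⁻¹ᵁ V.1.1) (by
    intro x
    have hx : g x ∈ (Set.univ : Set Y) := trivial
    rw [hs] at hx
    obtain ⟨V, hVs, hxV⟩ := Set.mem_iUnion₂.mp hx
    exact ⟨⟨V, hVs⟩, hxV⟩)
  refine ⟨fun k => pullback.fst j g ⁻¹ᵁ ((e.symm k).2.1 : W.Opens) ⊓
    pullback.snd j g ⁻¹ᵁ (PrimeSpectrum.basicOpen (b (e.symm k).1) : (Spec B).Opens), ?_, ?_⟩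
  · intro k
    refine affine_inf j g _ _ (e.symm k).1.1.1 (e.symm k).2.1.2 (IsAffineOpen.Spec_basicOpen _)
      (e.symm k).1.1.2 ?_ (hb1 _)
    intro w hw
    have : w ∈ ((j ⁻¹ᵁ (e.symm k).1.1.1 : W.Opens) : Set W) := by
      rw [ht]
      exact Set.mem_iUnion₂.mpr ⟨(e.symm k).2.1, (e.symm k).2.2, hw⟩
    exact this
  · refine eq_top_iff.mpr fun z _ => ?_
    obtain ⟨V, hV⟩ := hb2 (pullback.snd j g z)
    have hgV : g (pullback.snd j g z) ∈ V.1.1 := hb1 V hV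
    have hcond : j (pullback.fst j g z) = g (pullback.snd j g z) := by
      rw [← Scheme.Hom.comp_apply, ← Scheme.Hom.comp_apply, pullback.condition]
    have hjV : pullback.fst j g z ∈ ((j ⁻¹ᵁ V.1.1 : W.Opens) : Set W) := by
      show j (pullback.fst j g z) ∈ V.1.1
      rw [hcond]; exact hgV
    rw [ht] at hjV
    obtain ⟨W', hW't, hzW'⟩ := Set.mem_iUnion₂.mp hjV
    have key : ∀ p : T, z ∈ pullback.fst j g ⁻¹ᵁ (p.2.1 : W.Opens) ⊓
        pullback.snd j g ⁻¹ᵁ (PrimeSpectrum.basicOpen (b p.1) : (Spec B).Opens) →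
        z ∈ pullback.fst j g ⁻¹ᵁ ((e.symm (e p)).2.1 : W.Opens) ⊓
        pullback.snd j g ⁻¹ᵁ (PrimeSpectrum.basicOpen (b (e.symm (e p)).1) : (Spec B).Opens) := by
      intro p hp
      rw [e.symm_apply_apply]
      exact hp
    exact Opens.mem_iSup.mpr ⟨e ⟨V, ⟨W', hW't⟩⟩, key ⟨V, ⟨W', hW't⟩⟩ ⟨hzW', hV⟩⟩

end Groth.Agent.Helper1.QAff3
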