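import Mathlib
import Groth.Prelude.Def_RelSpec
import Groth.Prelude.Def_MoreMor
import Groth.Prelude.Def_AffAlg
import Groth.Agent.Lib.Helper1.AlgOf
import Groth.Agent.Lib.Helper1.RelSpecGamma

set_option autoImplicit false
universe u
open CategoryTheory CategoryTheory.Limits AlgebraicGeometry TopologicalSpace Opposite

namespace Groth.Agent.Helper1.QAffCanon

/-- a morphism from a quasi-affine scheme to an affine scheme inducing an iso on global sections is an open immersion -/
theorem isOpenImmersion_of_isIso_appTop {Y W : Scheme.{u}} (g : Y ⟶ W) [IsAffine W] [Y.IsQuasiAffine]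
    [IsIso g.appTop] : IsOpenImmersion g := by
  have h := Scheme.toSpecΓ_naturality g
  have : g = Y.toSpecΓ ≫ Spec.map g.appTop ≫ inv W.toSpecΓ := by
    rw [← Category.assoc, ← h, Category.assoc, IsIso.hom_inv_id, Category.comp_id]
  rw [this]
  infer_instance

variable {X S : Scheme.{u}} (f : X ⟶ S) [QuasiCompact f] [QuasiSeparated f]

theorem exists_c : ∃ (c : X ⟶ (RelSpec.QCAlg.directImage f).spec)
    (e : c ≫ (RelSpec.QCAlg.directImage f).π = f),
    (RelSpec.QCAlg.directImage f).gammaMap = AffAlg.algHom (RelSpec.QCAlg.directImage f).π f c e := by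
  obtain ⟨⟨c, e⟩, hc⟩ := (AlgOf.algOf_bijective (RelSpec.QCAlg.directImage f).π f).2
    ⟨(RelSpec.QCAlg.directImage f).gammaMap, (RelSpec.QCAlg.directImage f).π_c_gammaMap⟩
  exact ⟨c, e, (congrArg Subtype.val hc).symm⟩

theorem preimage_eq (c : X ⟶ (RelSpec.QCAlg.directImage f).spec)
    (e : c ≫ (RelSpec.QCAlg.directImage f).π = f) (V : S.Opens) :
    f ⁻¹ᵁ V = c ⁻¹ᵁ ((RelSpec.QCAlg.directImage f).π ⁻¹ᵁ V) :=
  congrArg (fun g => g ⁻¹ᵁ V) e.symm

theorem isIso_app (c : X ⟶ (RelSpec.QCAlg.directImage f).spec)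
    (e : c ≫ (RelSpec.QCAlg.directImage f).π = f)
    (hc : (RelSpec.QCAlg.directImage f).gammaMap = AffAlg.algHom (RelSpec.QCAlg.directImage f).π f c e)
    (V : S.Opens) : IsIso (c.app ((RelSpec.QCAlg.directImage f).π ⁻¹ᵁ V)) := by
  have h1 : IsIso (RelSpec.QCAlg.directImage f).gammaMap := RelSpecGamma.isIso_gammaMap _
  have h2 : IsIso ((RelSpec.QCAlg.directImage f).gammaMap.app (op V)) := inferInstance
  rw [hc, AlgOf.algHom_app', Scheme.Hom.appLE] at h2
  have h3 : IsIso (X.presheaf.map (homOfLE (preimage_eq f c e V).le).op) := by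
    have : IsIso (homOfLE (preimage_eq f c e V).le) :=
      ⟨homOfLE (preimage_eq f c e V).ge, Subsingleton.elim _ _, Subsingleton.elim _ _⟩
    infer_instance
  exact @IsIso.of_isIso_comp_right _ _ _ _ _ _ (X.presheaf.map (homOfLE (preimage_eq f c e V).le).op) h3 h2

theorem main : MoreMor.IsQuasiAffineHom f ↔
      ∃ (c : X ⟶ (RelSpec.QCAlg.directImage f).spec) (e : c ≫ (RelSpec.QCAlg.directImage f).π = f),
        (RelSpec.QCAlg.directImage f).gammaMap = AffAlg.algHom (RelSpec.QCAlg.directImage f).π f c e ∧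
          QuasiCompact c ∧ IsOpenImmersion c := by
  constructor
  · rintro ⟨-, hqa⟩
    obtain ⟨c, e, hc⟩ := exists_c f
    refine ⟨c, e, hc, ?_, ?_⟩
    · have : QuasiCompact (c ≫ (RelSpec.QCAlg.directImage f).π) := by rw [e]; infer_instance
      exact QuasiCompact.of_comp c (RelSpec.QCAlg.directImage f).π
    · refine (IsZariskiLocalAtTarget.iff_of_iSup_eq_top (P := @IsOpenImmersion)
        (fun V : S.affineOpens => (RelSpec.QCAlg.directImage f).π ⁻¹ᵁ V.1)
        (AlgOf.iSup_preimage_affineOpens _)).2 fun V => ?_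
      have : IsAffine ((RelSpec.QCAlg.directImage f).π ⁻¹ᵁ V.1 : Scheme) := (V.2.preimage _)
      have : Scheme.IsQuasiAffine (c ⁻¹ᵁ ((RelSpec.QCAlg.directImage f).π ⁻¹ᵁ V.1) : Scheme) := by
        rw [← preimage_eq f c e]; exact hqa V.1 V.2
      have key : ∀ W : (RelSpec.QCAlg.directImage f).spec.Opens,
          W = (RelSpec.QCAlg.directImage f).π ⁻¹ᵁ V.1 → IsIso (c.app W) := by
        rintro _ rfl; exact isIso_app f c e hc V.1
      have : IsIso (c ∣_ ((RelSpec.QCAlg.directImage f).π ⁻¹ᵁ V.1)).appTop := by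
        rw [morphismRestrict_appTop]
        have h1 := key _ (Scheme.Opens.ι_image_top _)
        refine IsIso.comp_isIso' h1 ?_
        exact Functor.map_isIso _ _
      exact isOpenImmersion_of_isIso_appTop _
  · rintro ⟨c, e, -, hqc, hoi⟩
    refine ⟨inferInstance, fun V hV => ?_⟩
    rw [preimage_eq f c e]
    have : IsAffine ((RelSpec.QCAlg.directImage f).π ⁻¹ᵁ V : Scheme) := hV.preimage _
    have : CompactSpace (c ⁻¹ᵁ ((RelSpec.QCAlg.directImage f).π ⁻¹ᵁ V) : Scheme) :=
      QuasiCompact.compactSpace_of_compactSpace (c ∣_ _)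
    exact Scheme.IsQuasiAffine.of_isImmersion (c ∣_ ((RelSpec.QCAlg.directImage f).π ⁻¹ᵁ V))

end Groth.Agent.Helper1.QAffCanon
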