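import Mathlib
import Groth.Prelude.Def_RelSpec
import Groth.Prelude.Def_AffAlg
import Groth.Prelude.Def_Mor2
import Groth.Agent.Lib.Helper1.QAff

set_option autoImplicit false
universe u
open CategoryTheory CategoryTheory.Limits AlgebraicGeometry TopologicalSpace Opposite

namespace Groth.Agent.Helper1.QAffFT

/-- a ring homomorphism between two localizations at the same submonoid compatible with the
structure maps is bijective -/
theorem bijective_of_isLocalization {R S₁ S₂ : Type*} [CommRing R] [CommRing S₁] [CommRing S₂]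
    (M : Submonoid R) (φ₁ : R →+* S₁) (φ₂ : R →+* S₂)
    (h₁ : @IsLocalization R _ M S₁ _ φ₁.toAlgebra) (h₂ : @IsLocalization R _ M S₂ _ φ₂.toAlgebra)
    (ψ : S₁ →+* S₂) (hψ : ψ.comp φ₁ = φ₂) : Function.Bijective ψ := by
  let _i1 : Algebra R S₁ := φ₁.toAlgebra
  let _i2 : Algebra R S₂ := φ₂.toAlgebra
  let e : S₁ ≃ₐ[R] S₂ := IsLocalization.algEquiv M S₁ S₂
  have : ψ = (e : S₁ →+* S₂) := by
    apply IsLocalization.ringHom_ext M
    refine (hψ.trans ?_ : ψ.comp φ₁ = _)
    ext r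
    exact (e.commutes r).symm
  rw [this]
  exact e.bijective

/-- finitely many elements control localizations of subrings -/
theorem exists_finset_isLocalization {R A S : Type u} [CommRing R] [CommRing A] [CommRing S]
    (ρ : R →+* A) (l : A →+* S) (a : A) (hloc : @IsLocalization.Away A _ a S _ l.toAlgebra)
    (hft : (l.comp ρ).FiniteType) :
    ∃ P : Finset A, ∀ (C : Type u) [CommRing C] (θ : C →+* A), Function.Injective θ →
      (∀ r, ρ r ∈ θ.range) → (∀ p ∈ P, p ∈ θ.range) → ∀ c, θ c = a →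
        @IsLocalization.Away C _ c S _ (l.comp θ).toAlgebra := by
  classical
  let _iA : Algebra A S := l.toAlgebra
  let _iR : Algebra R S := (l.comp ρ).toAlgebra
  have hft' : Algebra.FiniteType R S := hft
  obtain ⟨T, hT⟩ := hft'.out
  have hx : ∀ t : S, ∃ (x : A) (n : ℕ), t * l (a ^ n) = l x := by
    intro t
    obtain ⟨⟨x, ⟨_, n, rfl⟩⟩, h⟩ := IsLocalization.surj (Submonoid.powers a) t
    exact ⟨x, n, h⟩
  choose x n hxn using hx
  refine ⟨T.image x, ?_⟩
  intro C _ θ hθ hρ hP c hc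
  let _iC : Algebra C S := (l.comp θ).toAlgebra
  have halg : ∀ y : C, algebraMap C S y = l (θ y) := fun y => rfl
  change IsLocalization (Submonoid.powers c) S
  rw [isLocalization_iff]
  refine ⟨?_, ?_, ?_⟩
  · rintro ⟨_, k, rfl⟩
    rw [halg, map_pow, hc]
    exact IsLocalization.map_units (M := Submonoid.powers a) S ⟨a ^ k, k, rfl⟩
  · intro z
    have hz : z ∈ Algebra.adjoin R (T : Set S) := by rw [hT]; trivial
    suffices h : ∃ (k : ℕ) (y : C), z * l a ^ k = l (θ y) by
      obtain ⟨k, y, e⟩ := h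
      refine ⟨⟨y, ⟨_, k, rfl⟩⟩, ?_⟩
      change z * algebraMap C S (c ^ k) = algebraMap C S y
      rw [halg, halg, map_pow, hc, map_pow]
      exact e
    induction hz using Algebra.adjoin_induction with
    | mem t ht =>
      obtain ⟨y, hy⟩ := hP (x t) (Finset.mem_image_of_mem x ht)
      refine ⟨n t, y, ?_⟩
      rw [hy, ← map_pow]
      exact hxn t
    | algebraMap r =>
      obtain ⟨y, hy⟩ := hρ r
      refine ⟨0, y, ?_⟩
      rw [pow_zero, mul_one, hy]
      rfl
    | add z₁ z₂ _ _ h₁ h₂ =>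
      obtain ⟨k₁, y₁, e₁⟩ := h₁
      obtain ⟨k₂, y₂, e₂⟩ := h₂
      refine ⟨k₁ + k₂, y₁ * c ^ k₂ + y₂ * c ^ k₁, ?_⟩
      rw [map_add, map_add, map_mul, map_mul, map_mul, map_mul, map_pow, map_pow, map_pow, map_pow,
        hc, ← e₁, ← e₂]
      ring
    | mul z₁ z₂ _ _ h₁ h₂ =>
      obtain ⟨k₁, y₁, e₁⟩ := h₁
      obtain ⟨k₂, y₂, e₂⟩ := h₂
      refine ⟨k₁ + k₂, y₁ * y₂, ?_⟩
      rw [map_mul, map_mul, ← e₁, ← e₂]
      ring
  · intro y y' hyy
    rw [halg, halg] at hyy
    obtain ⟨⟨_, k, rfl⟩, hk⟩ := (IsLocalization.eq_iff_exists (Submonoid.powers a) S).1 hyy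
    refine ⟨⟨_, k, rfl⟩, hθ ?_⟩
    rw [map_mul, map_mul, map_pow, hc]
    exact hk

/-- a morphism restricts to an isomorphism over a basic open whose preimage is an affine open on
which the functions are the localization -/
theorem isIso_restrict_basicOpen {X T : Scheme.{u}} (j : X ⟶ T) {T' : T.Opens}
    (hT' : IsAffineOpen T') (c : Γ(T, T')) (haff : IsAffineOpen (X.basicOpen (j.app T' c)))
    (hloc : @IsLocalization.Away _ _ c Γ(X, X.basicOpen (j.app T' c)) _
      ((X.presheaf.map (homOfLE (X.basicOpen_le (j.app T' c))).op).hom.comp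
        (j.app T').hom).toAlgebra) :
    IsIso (j ∣_ T.basicOpen c) := by
  have e : j ⁻¹ᵁ T.basicOpen c = X.basicOpen (j.app T' c) := Scheme.preimage_basicOpen j c
  have hU : IsAffineOpen (T.basicOpen c) := hT'.basicOpen c
  have hV : IsAffineOpen (j ⁻¹ᵁ T.basicOpen c) := by rw [e]; exact haff
  have : IsAffine (T.basicOpen c : Scheme) := hU
  have : IsAffine (j ⁻¹ᵁ T.basicOpen c : Scheme) := hV
  have hψ : Function.Bijective
      ((X.presheaf.map (eqToHom e.symm).op).hom.comp (j.app (T.basicOpen c)).hom) := by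
    refine bijective_of_isLocalization (Submonoid.powers c)
      (T.presheaf.map (homOfLE (T.basicOpen_le c)).op).hom
      ((X.presheaf.map (homOfLE (X.basicOpen_le (j.app T' c))).op).hom.comp (j.app T').hom)
      (hT'.isLocalization_basicOpen c) hloc _ ?_
    have h1 := j.naturality (homOfLE (T.basicOpen_le c)).op
    ext r
    have h2 := ConcreteCategory.congr_hom h1 r
    change (X.presheaf.map (eqToHom e.symm).op).hom ((j.app (T.basicOpen c)).hom
      ((T.presheaf.map (homOfLE (T.basicOpen_le c)).op).hom r)) = _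
    refine (congrArg (X.presheaf.map (eqToHom e.symm).op).hom h2).trans ?_
    change (X.presheaf.map _ ≫ X.presheaf.map _).hom ((j.app T').hom r) = _
    rw [← Functor.map_comp]
    rfl
  have hiso : IsIso (j.app (T.basicOpen c)) := by
    have h3 : IsIso (j.app (T.basicOpen c) ≫ X.presheaf.map (eqToHom e.symm).op) := by
      rw [ConcreteCategory.isIso_iff_bijective]
      exact hψ
    exact @IsIso.of_isIso_comp_right _ _ _ _ _ _ (X.presheaf.map (eqToHom e.symm).op)
      (Functor.map_isIso _ _) h3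
  have key : ∀ W : T.Opens, W = T.basicOpen c → IsIso (j.app W) := by
    rintro _ rfl; exact hiso
  have h4 : IsIso (j ∣_ T.basicOpen c).appTop := by
    rw [morphismRestrict_appTop]
    have h5 := key _ (Scheme.Opens.ι_image_top _)
    refine IsIso.comp_isIso' h5 ?_
    exact Functor.map_isIso _ _
  exact (HasAffineProperty.iff_of_isAffine (P := MorphismProperty.isomorphisms Scheme)).2
    ⟨inferInstance, h4⟩

/-- variant of `isIso_restrict_basicOpen` with the preimage given up to equality -/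
theorem isIso_restrict_basicOpen' {X T : Scheme.{u}} (j : X ⟶ T) {T' : T.Opens}
    (hT' : IsAffineOpen T') (W : X.Opens) (hWle : W ≤ j ⁻¹ᵁ T') (hWge : j ⁻¹ᵁ T' ≤ W)
    (c : Γ(T, T')) (haff : IsAffineOpen (X.basicOpen ((j.appLE T' W hWle).hom c)))
    (hloc : @IsLocalization.Away _ _ c Γ(X, X.basicOpen ((j.appLE T' W hWle).hom c)) _
      ((X.presheaf.map (homOfLE (X.basicOpen_le ((j.appLE T' W hWle).hom c))).op).hom.comp
        (j.appLE T' W hWle).hom).toAlgebra) :
    IsIso (j ∣_ T.basicOpen c) := by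
  obtain rfl : W = j ⁻¹ᵁ T' := le_antisymm hWle hWge
  have e : j.appLE T' (j ⁻¹ᵁ T') hWle = j.app T' := Scheme.Hom.appLE_eq_app _
  revert haff hloc
  rw [e]
  intro haff hloc
  exact isIso_restrict_basicOpen j hT' c haff hloc

/-- every point of a quasi-affine open has an affine neighbourhood which is a basic open of a
function on it -/
theorem exists_affine_basicOpen_of_isQuasiAffine {X : Scheme.{u}} (W : X.Opens)
    [Scheme.IsQuasiAffine (W : Scheme.{u})] {x : X} (hx : x ∈ W) :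
    ∃ a : Γ(X, W), IsAffineOpen (X.basicOpen a) ∧ x ∈ X.basicOpen a := by
  obtain ⟨_, ⟨_, ⟨s, hs, rfl⟩, rfl⟩, hxs, -⟩ :=
    (Scheme.IsQuasiAffine.isBasis_basicOpen (W : Scheme.{u})).exists_subset_of_mem_open
      (Set.mem_univ (⟨x, hx⟩ : W)) isOpen_univ
  have h1 := QAff.image_basicOpen_topIso_hom W s
  refine ⟨W.topIso.hom s, ?_, ?_⟩
  · rw [← h1]; exact hs.image_of_isOpenImmersion _
  · rw [← h1]; exact ⟨⟨x, hx⟩, hxs, rfl⟩

/-- the finitely many functions controlling the immersion of a quasi-affine open of finite type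
over an affine open -/
theorem exists_good_finset {X Y : Scheme.{u}} (f : X ⟶ Y) [LocallyOfFiniteType f] {V : Y.Opens}
    (hV : IsAffineOpen V) [hq : Scheme.IsQuasiAffine (f ⁻¹ᵁ V : Scheme.{u})] :
    ∃ P : Finset Γ(X, f ⁻¹ᵁ V), ∀ (C : Type u) [CommRing C] (θ : C →+* Γ(X, f ⁻¹ᵁ V)),
      Function.Injective θ → (∀ r, (f.app V).hom r ∈ θ.range) → (∀ p ∈ P, p ∈ θ.range) →
        ∀ x ∈ f ⁻¹ᵁ V, ∃ c : C, x ∈ X.basicOpen (θ c) ∧ IsAffineOpen (X.basicOpen (θ c)) ∧
          @IsLocalization.Away C _ c Γ(X, X.basicOpen (θ c)) _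
            ((X.presheaf.map (homOfLE (X.basicOpen_le (θ c))).op).hom.comp θ).toAlgebra := by
  classical
  have hW : IsCompact ((f ⁻¹ᵁ V : X.Opens) : Set X) :=
    isCompact_iff_compactSpace.mpr (inferInstance : CompactSpace ↥(f ⁻¹ᵁ V : Scheme.{u}))
  have hWqs : IsQuasiSeparated ((f ⁻¹ᵁ V : X.Opens) : Set X) :=
    (isQuasiSeparated_iff_quasiSeparatedSpace _ (f ⁻¹ᵁ V).2).mpr
      (inferInstance : QuasiSeparatedSpace ↥(f ⁻¹ᵁ V : Scheme.{u}))
  obtain ⟨K, hK⟩ := hW.elim_finite_subcover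
    (fun a : {a : Γ(X, f ⁻¹ᵁ V) // IsAffineOpen (X.basicOpen a)} => (X.basicOpen a.1 : Set X))
    (fun a => (X.basicOpen a.1).isOpen) (by
      intro x hx
      obtain ⟨a, ha, hxa⟩ := exists_affine_basicOpen_of_isQuasiAffine (f ⁻¹ᵁ V) hx
      exact Set.mem_iUnion.2 ⟨⟨a, ha⟩, hxa⟩)
  have hPa : ∀ a : {a : Γ(X, f ⁻¹ᵁ V) // IsAffineOpen (X.basicOpen a)},
      ∃ P : Finset Γ(X, f ⁻¹ᵁ V), ∀ (C : Type u) [CommRing C] (θ : C →+* Γ(X, f ⁻¹ᵁ V)),
        Function.Injective θ → (∀ r, (f.app V).hom r ∈ θ.range) → (∀ p ∈ P, p ∈ θ.range) →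
          ∀ c, θ c = a.1 → @IsLocalization.Away C _ c Γ(X, X.basicOpen a.1) _
            ((X.presheaf.map (homOfLE (X.basicOpen_le a.1)).op).hom.comp θ).toAlgebra := by
    intro a
    refine exists_finset_isLocalization (f.app V).hom
      (X.presheaf.map (homOfLE (X.basicOpen_le a.1)).op).hom a.1
      (isLocalization_basicOpen_of_qcqs hW hWqs a.1) ?_
    have h := HasRingHomProperty.appLE (P := @LocallyOfFiniteType) f inferInstance ⟨V, hV⟩
      ⟨X.basicOpen a.1, a.2⟩ (X.basicOpen_le a.1)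
    rw [Scheme.Hom.appLE, CommRingCat.hom_comp] at h
    exact h
  choose Pa hPa using hPa
  refine ⟨K.image Subtype.val ∪ K.biUnion Pa, ?_⟩
  intro C _ θ hθ hρ hP x hx
  obtain ⟨a, haK, hxa⟩ : ∃ a ∈ K, x ∈ X.basicOpen a.1 := by
    have := hK hx
    simpa using this
  obtain ⟨c, hc⟩ := hP a.1 (Finset.mem_union_left _ (Finset.mem_image_of_mem _ haK))
  have h1 := hPa a C θ hθ hρ
    (fun p hp => hP p (Finset.mem_union_right _ (Finset.mem_biUnion.2 ⟨a, haK, hp⟩))) c hc
  obtain ⟨a, ha⟩ := a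
  subst hc
  exact ⟨c, hxa, ha, h1⟩

end Groth.Agent.Helper1.QAffFT
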