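import Mathlib
import Groth.Prelude.Def_RelSpec
import Groth.Agent.Lib.Helper1.SubSum
import Groth.Agent.Lib.Helper1.QCAlgQc
import Groth.Agent.Lib.Helper1.AffExt

set_option autoImplicit false
universe u
open CategoryTheory CategoryTheory.Limits AlgebraicGeometry TopologicalSpace Opposite

namespace Groth.Agent.Helper1.SubAlgGen

open Groth.Agent.Helper1.QcCech Groth.Agent.Helper1 Groth.Agent.Helper1.SubSh

variable {X : Scheme.{u}} (B : RelSpec.QCAlg X)

/-- sections of the module of an algebra, as elements of the algebra -/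
abbrev ofM {U : X.Opens} (t : Γ(B.toModule, U)) : B.presheaf.obj (op U) := t

/-- elements of the algebra as sections of its module -/
abbrev toM {U : X.Opens} (b : B.presheaf.obj (op U)) : Γ(B.toModule, U) := b

variable (N : LocalSub B.toModule)

/-- the subring of `B(U)` generated by the functions and the sections of `N` -/
def genRing (U : X.Opens) : Subring (B.presheaf.obj (op U)) :=
  Subring.closure (Set.range (B.str.app (op U)).hom ∪ {b | toM B b ∈ N.carrier U})

theorem str_mem_genRing (U : X.Opens) (r : Γ(X, U)) : (B.str.app (op U)).hom r ∈ genRing B N U :=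
  Subring.subset_closure (Or.inl ⟨r, rfl⟩)

theorem mem_genRing_of_mem (U : X.Opens) {b : B.presheaf.obj (op U)} (hb : toM B b ∈ N.carrier U) :
    b ∈ genRing B N U :=
  Subring.subset_closure (Or.inr hb)

/-- restriction maps the generated subrings into each other -/
theorem res_mem_genRing {U V : X.Opens} (h : V ≤ U) {b : B.presheaf.obj (op U)}
    (hb : b ∈ genRing B N U) : (B.presheaf.map (homOfLE h).op).hom b ∈ genRing B N V := by
  induction hb using Subring.closure_induction with
  | mem x hx =>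
    rcases hx with ⟨r, rfl⟩ | hx
    · rw [← QCAlgQc.str_res]
      exact str_mem_genRing B N V _
    · exact mem_genRing_of_mem B N V (N.res_mem h hx)
  | zero => rw [map_zero]; exact Subring.zero_mem _
  | one => rw [map_one]; exact Subring.one_mem _
  | add a b _ _ ha hb => rw [map_add]; exact Subring.add_mem _ ha hb
  | neg a _ ha => rw [map_neg]; exact Subring.neg_mem _ ha
  | mul a b _ _ ha hb => rw [map_mul]; exact Subring.mul_mem _ ha hb

/-- elements of the generated subring over a basic open lift after multiplication by a power -/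
theorem exists_lift_genRing (hN : N.ExtPOn ⊤) {U : X.Opens} (hU : IsAffineOpen U) (f : Γ(X, U))
    {w : B.presheaf.obj (op (X.basicOpen f))} (hw : w ∈ genRing B N (X.basicOpen f)) :
    ∃ (n : ℕ) (c : B.presheaf.obj (op U)), c ∈ genRing B N U ∧
      (B.presheaf.map (homOfLE (X.basicOpen_le f)).op).hom c =
        (B.str.app (op (X.basicOpen f))).hom (resR (X.basicOpen_le f) f) ^ n * w := by
  have hρf : (B.presheaf.map (homOfLE (X.basicOpen_le f)).op).hom ((B.str.app (op U)).hom f) =
      (B.str.app (op (X.basicOpen f))).hom (resR (X.basicOpen_le f) f) :=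
    (QCAlgQc.str_res B (X.basicOpen_le f) f).symm
  induction hw using Subring.closure_induction with
  | mem x hx =>
    rcases hx with ⟨a, rfl⟩ | hx
    · obtain ⟨k, c, hc⟩ := SubSh.LocalSub.exists_extend_fn hU f a
      refine ⟨k, (B.str.app (op U)).hom c, str_mem_genRing B N U c, ?_⟩
      rw [← QCAlgQc.str_res, hc, map_mul, map_pow]
    · obtain ⟨n, t, ht, e⟩ := hN U hU le_top f (toM B x) hx
      refine ⟨n, ofM B t, mem_genRing_of_mem B N U ht, ?_⟩
      have e' := e
      rw [QCAlgQc.res_toModule] at e'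
      refine e'.trans ?_
      have h1 := QCAlgQc.smul_toModule B (resR (X.basicOpen_le f) f ^ n) (toM B x)
      refine h1.trans ?_
      rw [map_pow]
  | zero => exact ⟨0, 0, Subring.zero_mem _, by rw [map_zero, mul_zero]⟩
  | one => exact ⟨0, 1, Subring.one_mem _, by rw [map_one, pow_zero, mul_one]⟩
  | add a b _ _ ha hb =>
    obtain ⟨n₁, c₁, hc₁, e₁⟩ := ha
    obtain ⟨n₂, c₂, hc₂, e₂⟩ := hb
    refine ⟨n₁ + n₂, (B.str.app (op U)).hom f ^ n₂ * c₁ + (B.str.app (op U)).hom f ^ n₁ * c₂,
      Subring.add_mem _ (Subring.mul_mem _ (Subring.pow_mem _ (str_mem_genRing B N U f) _) hc₁)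
        (Subring.mul_mem _ (Subring.pow_mem _ (str_mem_genRing B N U f) _) hc₂), ?_⟩
    rw [map_add, map_mul, map_mul, map_pow, map_pow, hρf, e₁, e₂]
    ring
  | neg a _ ha =>
    obtain ⟨n, c, hc, e⟩ := ha
    exact ⟨n, -c, Subring.neg_mem _ hc, by rw [map_neg, e, mul_neg]⟩
  | mul a b _ _ ha hb =>
    obtain ⟨n₁, c₁, hc₁, e₁⟩ := ha
    obtain ⟨n₂, c₂, hc₂, e₂⟩ := hb
    refine ⟨n₁ + n₂, c₁ * c₂, Subring.mul_mem _ hc₁ hc₂, ?_⟩
    rw [map_mul, e₁, e₂]
    ring

/-- the generated subring as a submodule over the functions -/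
def genSub (U : X.Opens) : Submodule Γ(X, U) Γ(B.toModule, U) where
  carrier := {t | ofM B t ∈ genRing B N U}
  add_mem' := fun {a b} ha hb => (Subring.add_mem (genRing B N U) ha hb : ofM B a + ofM B b ∈ _)
  zero_mem' := (Subring.zero_mem (genRing B N U) : (0 : B.presheaf.obj (op U)) ∈ _)
  smul_mem' := fun r t ht => by
    change ofM B (r • t) ∈ genRing B N U
    rw [QCAlgQc.smul_toModule]
    exact Subring.mul_mem _ (str_mem_genRing B N U r) ht

theorem mem_genSub_iff {U : X.Opens} (t : Γ(B.toModule, U)) :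
    t ∈ genSub B N U ↔ ofM B t ∈ genRing B N U := Iff.rfl

/-- if the generated subring is everything locally on an affine open, it is everything -/
theorem genRing_eq_top_of_locally (hN : N.ExtPOn ⊤) {U : X.Opens} (hU : IsAffineOpen U)
    (h : ∀ x ∈ U, ∃ f : Γ(X, U), x ∈ X.basicOpen f ∧ genRing B N (X.basicOpen f) = ⊤) :
    genRing B N U = ⊤ := by
  have hq := QCAlgQc.isQuasicoherent_toModule B
  rw [eq_top_iff]
  intro y _
  let s : Set Γ(X, U) := {f | ∃ n : ℕ, f ^ n • toM B y ∈ genSub B N U}
  have hs : Ideal.span s = ⊤ := by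
    rw [← hU.self_le_iSup_basicOpen_iff]
    intro x hx
    obtain ⟨f, hxf, hf⟩ := h x hx
    refine Opens.mem_iSup.2 ⟨⟨f, ?_⟩, hxf⟩
    have hw : (B.presheaf.map (homOfLE (X.basicOpen_le f)).op).hom y ∈
        genRing B N (X.basicOpen f) := by rw [hf]; trivial
    obtain ⟨n, c, hc, e⟩ := exists_lift_genRing B N hN hU f hw
    have h0 : res B.toModule (X.basicOpen_le f) (f ^ n • toM B y - toM B c) = 0 := by
      rw [map_sub, res_smul, sub_eq_zero, QCAlgQc.res_toModule, QCAlgQc.res_toModule,
        QCAlgQc.smul_toModule, map_pow, map_pow]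
      exact e.symm
    obtain ⟨j, hj⟩ := QcAbel.killP_of_isQuasicoherent B.toModule U hU f _ rfl _ h0
    refine ⟨j + n, ?_⟩
    rw [smul_sub, sub_eq_zero] at hj
    rw [pow_add, mul_smul, hj]
    exact (genSub B N U).smul_mem _ hc
  exact Submodule.mem_of_span_eq_top_of_smul_pow_mem (genSub B N U) s hs (toM B y) (fun r => r.2)

/-- if the generated subring is everything on an affine open, so it is on its basic opens -/
theorem genRing_basicOpen_eq_top {V : X.Opens} (hV : IsAffineOpen V) (g : Γ(X, V))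
    (h : genRing B N V = ⊤) : genRing B N (X.basicOpen g) = ⊤ := by
  have hq := QCAlgQc.isQuasicoherent_toModule B
  rw [eq_top_iff]
  intro y _
  obtain ⟨k, z, hz⟩ := QcAbel.extP_of_isQuasicoherent B.toModule V hV g _ rfl (toM B y)
  have hzm : (B.presheaf.map (homOfLE (X.basicOpen_le g)).op).hom (ofM B z) ∈
      genRing B N (X.basicOpen g) := res_mem_genRing B N _ (by rw [h]; trivial)
  have hu : IsUnit (resR (X.basicOpen_le g) g) := X.toRingedSpace.isUnit_res_basicOpen g
  obtain ⟨v, hv⟩ := hu
  have e : y = (B.str.app (op (X.basicOpen g))).hom ((↑v⁻¹ : Γ(X, X.basicOpen g)) ^ k) *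
      (B.presheaf.map (homOfLE (X.basicOpen_le g)).op).hom (ofM B z) := by
    have h1 : (B.presheaf.map (homOfLE (X.basicOpen_le g)).op).hom (ofM B z) =
        (B.str.app (op (X.basicOpen g))).hom (resR (X.basicOpen_le g) g ^ k) * y := hz
    rw [h1, ← mul_assoc, ← map_mul, ← hv, ← mul_pow, Units.inv_mul, one_pow, map_one, one_mul]
  rw [e]
  exact Subring.mul_mem _ (str_mem_genRing B N _ _) hzm

/-- a subsheaf containing algebra generators over an affine open generates there -/
theorem genRing_eq_top_of_adjoin {V : X.Opens} (P : Set (B.presheaf.obj (op V)))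
    (hP : let _ := (B.str.app (op V)).hom.toAlgebra; Algebra.adjoin Γ(X, V) P = ⊤)
    (hPN : ∀ p ∈ P, toM B p ∈ N.carrier V) : genRing B N V = ⊤ := by
  letI := (B.str.app (op V)).hom.toAlgebra
  rw [eq_top_iff]
  intro y hy0
  clear hy0
  have hy : y ∈ Algebra.adjoin Γ(X, V) P := by rw [hP]; trivial
  induction hy using Algebra.adjoin_induction with
  | mem x hx => exact mem_genRing_of_mem B N V (hPN x hx)
  | algebraMap r => exact str_mem_genRing B N V r
  | add a b _ _ ha hb => exact Subring.add_mem _ ha hb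
  | mul a b _ _ ha hb => exact Subring.mul_mem _ ha hb

theorem mem_genOn_of_mem {F : X.Modules} {U : X.Opens} (P : Set Γ(F, U)) {s : Γ(F, U)} (hs : s ∈ P) :
    s ∈ (LocalSub.genOn U P).carrier U := by
  have := LocalSub.genPre_le_genOn P (LocalSub.res_mem_genPre P (le_refl U) hs)
  rwa [res_self] at this

theorem genOn_finite_isQcFtOn {F : X.Modules} [F.IsQuasicoherent] {U : X.Opens} (hU : IsAffineOpen U)
    (P : Set Γ(F, U)) (hP : P.Finite) : (LocalSub.genOn U P).IsQcFtOn U :=
  fun _ hx => ⟨U, hx, le_rfl, hU, LocalSub.genOn_extPOn _, LocalSub.genOn_fg hU _ hP⟩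

/-- **a quasi-coherent algebra of finite type on a quasi-compact quasi-separated scheme is
generated by a quasi-coherent submodule of finite type** -/
theorem exists_generating [CompactSpace X] [QuasiSeparatedSpace X]
    (hB : ∀ U : X.affineOpens, (B.str.app (op (U : X.Opens))).hom.FiniteType) :
    ∃ E : LocalSub B.toModule, E.IsQcFtOn ⊤ ∧
      ∀ U : X.Opens, IsAffineOpen U → genRing B E U = ⊤ := by
  classical
  have hq := QCAlgQc.isQuasicoherent_toModule B
  obtain ⟨n, V, hV, hcov, -⟩ := exists_fin_cover (X := X)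
  have hgen : ∀ l, ∃ P : Finset (B.presheaf.obj (op (V l))),
      let _ := (B.str.app (op (V l))).hom.toAlgebra;
      Algebra.adjoin Γ(X, V l) (P : Set (B.presheaf.obj (op (V l)))) = ⊤ := by
    intro l
    letI := (B.str.app (op (V l))).hom.toAlgebra
    have h1 : Algebra.FiniteType Γ(X, V l) (B.presheaf.obj (op (V l))) := hB ⟨V l, hV l⟩
    exact h1.out
  choose P hP using hgen
  have hext : ∀ l, ∃ G' : LocalSub B.toModule, G'.IsQcFtOn ⊤ ∧
      ∀ W ≤ V l, G'.carrier W = (LocalSub.genOn (V l) {t | ofM B t ∈ P l}).carrier W := by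
    intro l
    refine LocalSub.exists_extension_of_qcqs (V l) (hV l).isCompact _
      (genOn_finite_isQcFtOn (hV l) _ ?_)
    exact (P l).finite_toSet
  choose G' hG' hGV using hext
  refine ⟨LocalSub.finSup n G', LocalSub.finSup_isQcFtOn n G' hG', ?_⟩
  have eE := (LocalSub.finSup n G').extPOn_top_of_isQcOn (LocalSub.finSup_isQcFtOn n G' hG').isQcOn
  have hVl : ∀ l, genRing B (LocalSub.finSup n G') (V l) = ⊤ := by
    intro l
    refine genRing_eq_top_of_adjoin B _ (P l : Set _) (hP l) ?_
    intro p hp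
    apply LocalSub.le_finSup n G' l (V l)
    rw [hGV l (V l) le_rfl]
    exact mem_genOn_of_mem _ hp
  intro U hU
  refine genRing_eq_top_of_locally B _ eE hU ?_
  intro x hx
  have hxt : x ∈ (⨆ l, V l : X.Opens) := by rw [hcov]; trivial
  obtain ⟨l, hxl⟩ := Opens.mem_iSup.1 hxt
  obtain ⟨f, g, e, hxf⟩ := AffExt.exists_basic_both hU (hV l) hx hxl
  refine ⟨f, hxf, ?_⟩
  rw [e]
  exact genRing_basicOpen_eq_top B _ (hV l) g (hVl l)

/-- categorical form -/
theorem main_generating [CompactSpace X] [QuasiSeparatedSpace X]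
    (hB : ∀ U : X.affineOpens, (B.str.app (op (U : X.Opens))).hom.FiniteType) :
    ∃ (E : X.Modules) (j : E ⟶ B.toModule), Mono j ∧ Coh.IsQCoh E ∧ CohB1.IsFT E ∧
      ∀ U : X.affineOpens,
        Subring.closure (Set.range (B.str.app (op (U : X.Opens))).hom ∪
          Set.range (fun e : E.val.obj (op (U : X.Opens)) ↦
            (show B.presheaf.obj (op (U : X.Opens)) from
              (j.val.app (op (U : X.Opens))).hom e))) = ⊤ := by
  have hq := QCAlgQc.isQuasicoherent_toModule B
  obtain ⟨E, hE, hgen⟩ := exists_generating B hB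
  refine ⟨E.obj, E.ι, inferInstance, E.isQuasicoherent_obj hE.isQcOn, E.isFiniteType_obj hE, ?_⟩
  intro U
  have h1 := hgen U.1 U.2
  have h2 : Set.range (fun e : E.obj.val.obj (op (U : X.Opens)) ↦
      (show B.presheaf.obj (op (U : X.Opens)) from (E.ι.val.app (op (U : X.Opens))).hom e)) =
      {b | toM B b ∈ E.carrier U.1} := by
    ext b
    constructor
    · rintro ⟨e, rfl⟩
      exact E.ι_app_mem e
    · intro hb
      exact ⟨E.mkSec (toM B b) hb, E.ι_app_mkSec _ hb⟩
  rw [h2]
  exact h1

end Groth.Agent.Helper1.SubAlgGen
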