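import Mathlib
import Groth.Prelude.Def_RelSpec
import Groth.Agent.Lib.Helper1.SubAlgGen
import Groth.Agent.Lib.Helper1.AffGlue
import Groth.Agent.Lib.Helper1.GrGlue

set_option autoImplicit false
universe u
open CategoryTheory CategoryTheory.Limits AlgebraicGeometry TopologicalSpace Opposite

namespace Groth.Agent.Helper1.SubAlgOf

open Groth.Agent.Helper1.QcCech Groth.Agent.Helper1 Groth.Agent.Helper1.SubSh
open Groth.Agent.Helper1.SubAlgGen

/-- subrings of a localization -/
theorem isLocalization_subring {R R' : Type*} [CommRing R] [CommRing R'] (ρ : R →+* R') (c : R)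
    (hloc : @IsLocalization.Away R _ c R' _ ρ.toAlgebra) (A : Subring R) (A' : Subring R')
    (hA : ∀ a ∈ A, ρ a ∈ A') (hc : c ∈ A)
    (hu : ∀ n : ℕ, ∃ v ∈ A', ρ c ^ n * v = 1)
    (h : ∀ a' ∈ A', ∃ (n : ℕ) (a : R), a ∈ A ∧ ρ a = ρ c ^ n * a') :
    @IsLocalization.Away A _ ⟨c, hc⟩ A' _
      ((ρ.comp A.subtype).codRestrict A' (fun x => hA x.1 x.2)).toAlgebra := by
  let _i2 : Algebra R R' := ρ.toAlgebra
  let _i1 : Algebra A A' := ((ρ.comp A.subtype).codRestrict A' (fun x => hA x.1 x.2)).toAlgebra
  have halg : ∀ a : A, ((algebraMap A A' a : A') : R') = ρ a.1 := fun a => rfl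
  change IsLocalization (Submonoid.powers (⟨c, hc⟩ : A)) _
  rw [isLocalization_iff]
  refine ⟨?_, ?_, ?_⟩
  · rintro ⟨_, n, rfl⟩
    obtain ⟨v, hv, e⟩ := hu n
    refine IsUnit.of_mul_eq_one (⟨v, hv⟩ : A') ?_
    apply Subtype.ext
    change ((algebraMap A A' ((⟨c, hc⟩ : A) ^ n) : A') : R') * v = 1
    rw [halg]
    change ρ (c ^ n) * v = 1
    rw [map_pow]
    exact e
  · intro z
    obtain ⟨n, a, ha, e⟩ := h z.1 z.2
    refine ⟨⟨⟨a, ha⟩, ⟨_, n, rfl⟩⟩, ?_⟩
    apply Subtype.ext
    change z.1 * ((algebraMap A A' ((⟨c, hc⟩ : A) ^ n) : A') : R') = ((algebraMap A A' ⟨a, ha⟩ : A') : R')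
    rw [halg, halg]
    change z.1 * ρ (c ^ n) = ρ a
    rw [e, map_pow, mul_comm]
  · intro x y hxy
    have h1 : ρ x.1 = ρ y.1 := by
      have := congrArg (fun t : A' => (t : R')) hxy
      exact this
    obtain ⟨⟨_, N, rfl⟩, hN⟩ := (IsLocalization.eq_iff_exists (Submonoid.powers c) R').1 h1
    refine ⟨⟨_, N, rfl⟩, ?_⟩
    apply Subtype.ext
    exact hN

variable {X : Scheme.{u}} (B : RelSpec.QCAlg X) (N : LocalSub B.toModule)

/-- restriction map of `B` along an arrow of the affine site -/
noncomputable abbrev resB {U V : X.AffineZariskiSite} (i : V ⟶ U) :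
    B.presheaf.obj (op U.1) →+* B.presheaf.obj (op V.1) :=
  (B.presheaf.map (homOfLE (Scheme.AffineZariskiSite.toOpens_mono i.le)).op).hom

/-- the generated subalgebra on the affine site -/
noncomputable def F : X.AffineZariskiSiteᵒᵖ ⥤ CommRingCat.{u} where
  obj U := CommRingCat.of (genRing B N U.unop.1)
  map {U V} i := CommRingCat.ofHom
    (((resB B i.unop).comp (genRing B N U.unop.1).subtype).codRestrict (genRing B N V.unop.1)
      (fun x => res_mem_genRing B N _ x.2))
  map_id U := by
    apply CommRingCat.hom_ext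
    ext a
    change (B.presheaf.map (𝟙 _)).hom a.1 = a.1
    rw [CategoryTheory.Functor.map_id]
    rfl
  map_comp {U V W} i j := by
    apply CommRingCat.hom_ext
    ext a
    change resB B (i ≫ j).unop a.1 = (B.presheaf.map _ ≫ B.presheaf.map _).hom a.1
    rw [← Functor.map_comp]
    rfl

theorem F_map_val {U V : X.AffineZariskiSite} (i : V ⟶ U) (a : genRing B N U.1) :
    (((F B N).map i.op).hom a : genRing B N V.1).1 = resB B i a.1 := rfl

/-- the inclusion -/
noncomputable def τ : F B N ⟶ (Scheme.AffineZariskiSite.toOpensFunctor X).op ⋙ B.presheaf where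
  app U := CommRingCat.ofHom (genRing B N U.unop.1).subtype
  naturality U V i := by
    apply CommRingCat.hom_ext
    ext a
    rfl

/-- the structure map -/
noncomputable def α : (Scheme.AffineZariskiSite.toOpensFunctor X).op ⋙ X.presheaf ⟶ F B N where
  app U := CommRingCat.ofHom ((B.str.app (op U.unop.1)).hom.codRestrict (genRing B N U.unop.1)
    (fun r => str_mem_genRing B N _ r))
  naturality U V i := by
    apply CommRingCat.hom_ext
    ext r
    apply Subtype.ext
    exact congrArg (fun ψ => ψ.hom r)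
      (B.str.naturality (homOfLE (Scheme.AffineZariskiSite.toOpens_mono i.unop.le)).op)

theorem α_app_val (U : X.AffineZariskiSite) (r : Γ(X, U.1)) :
    (((α B N).app (op U)).hom r : genRing B N U.1).1 = (B.str.app (op U.1)).hom r := rfl

theorem hτ (U : X.AffineZariskiSite) :
    (α B N).app (op U) ≫ (τ B N).app (op U) = B.str.app (op U.1) := by
  apply CommRingCat.hom_ext
  ext r
  rfl

theorem coequifibered (hN : N.ExtPOn ⊤) : (α B N).Coequifibered := by
  rw [Scheme.AffineZariskiSite.coequifibered_iff_forall_isLocalizationAway]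
  intro U r
  have hloc : @IsLocalization.Away _ _ ((B.str.app (op U.1)).hom r)
      (B.presheaf.obj (op (X.basicOpen r))) _
      (B.presheaf.map (homOfLE (X.basicOpen_le r)).op).hom.toAlgebra := B.isQC U.1 U.2 r
  have hρ : (B.presheaf.map (homOfLE (X.basicOpen_le r)).op).hom ((B.str.app (op U.1)).hom r) =
      (B.str.app (op (X.basicOpen r))).hom (resR (X.basicOpen_le r) r) :=
    (QCAlgQc.str_res B (X.basicOpen_le r) r).symm
  exact isLocalization_subring (B.presheaf.map (homOfLE (X.basicOpen_le r)).op).hom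
    ((B.str.app (op U.1)).hom r) hloc (genRing B N U.1) (genRing B N (X.basicOpen r))
    (fun a ha => res_mem_genRing B N _ ha) (str_mem_genRing B N _ r)
    (by
      intro n
      have hu : IsUnit (resR (X.basicOpen_le r) r) := X.toRingedSpace.isUnit_res_basicOpen r
      obtain ⟨v, hv⟩ := hu
      refine ⟨(B.str.app (op (X.basicOpen r))).hom ((↑v⁻¹ : Γ(X, X.basicOpen r)) ^ n),
        str_mem_genRing B N _ _, ?_⟩
      rw [hρ, ← map_pow, ← map_mul, ← hv, ← mul_pow, Units.mul_inv, one_pow, map_one])
    (by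
      intro a' ha'
      obtain ⟨n, c, hc, e⟩ := exists_lift_genRing B N hN U.2 r ha'
      exact ⟨n, c, hc, by rw [e, hρ]⟩)

variable (hN : N.ExtPOn ⊤)

/-- the generated quasi-coherent subalgebra -/
noncomputable def sub : RelSpec.QCAlg X := AffGlue.alg (coequifibered B N hN)

/-- its inclusion -/
noncomputable def φ : sub B N hN ⟶ B :=
  AffGlue.homOf (coequifibered B N hN) B (τ B N) (hτ B N)

theorem φ_apply (U : X.AffineZariskiSite) (y : (sub B N hN).presheaf.obj (op U.1)) :
    ((φ B N hN).hom.app (op U.1)).hom y =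
      ((GrGlue.secEquiv (coequifibered B N hN) U).symm y : genRing B N U.1).1 := by
  have := AffGlue.homOf_app (coequifibered B N hN) B (τ B N) (hτ B N) U
  exact ConcreteCategory.congr_hom this y

theorem φ_injective_affine (U : X.AffineZariskiSite) :
    Function.Injective ((φ B N hN).hom.app (op U.1)).hom := by
  intro y y' h
  rw [φ_apply, φ_apply] at h
  exact (GrGlue.secEquiv (coequifibered B N hN) U).symm.injective (Subtype.ext h)

theorem range_φ (U : X.AffineZariskiSite) :
    Set.range ((φ B N hN).hom.app (op U.1)).hom = (genRing B N U.1 : Set _) := by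
  ext b
  constructor
  · rintro ⟨y, rfl⟩
    rw [φ_apply]
    exact ((GrGlue.secEquiv (coequifibered B N hN) U).symm y).2
  · intro hb
    refine ⟨GrGlue.secEquiv (coequifibered B N hN) U ⟨b, hb⟩, ?_⟩
    rw [φ_apply, RingEquiv.symm_apply_apply]

theorem φ_injective (V : X.Opens) : Function.Injective ((φ B N hN).hom.app (op V)).hom := by
  rw [injective_iff_map_eq_zero]
  intro s hs
  let Csh : TopCat.Sheaf CommRingCat X := ⟨(sub B N hN).presheaf, (sub B N hN).isSheaf⟩
  refine Csh.eq_of_locally_eq' (fun W : {W : X.affineOpens // W.1 ≤ V} => W.1.1)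
    V (fun W => homOfLE W.2) ?_ _ _ ?_
  · intro x hx
    obtain ⟨_, ⟨W, hW : IsAffineOpen W, rfl⟩, hxW, hWV⟩ :=
      (X.isBasis_affineOpens).exists_subset_of_mem_open hx V.isOpen
    exact Opens.mem_iSup.mpr ⟨⟨⟨W, hW⟩, hWV⟩, hxW⟩
  · rintro ⟨W, hW⟩
    apply φ_injective_affine B N hN ⟨W.1, W.2⟩
    have h2 := congrArg (fun k => k.hom s) ((φ B N hN).hom.naturality (homOfLE hW).op)
    simp only [CommRingCat.hom_comp, RingHom.comp_apply] at h2
    rw [map_zero, map_zero]
    refine h2.trans ?_
    rw [hs, map_zero]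

/-- over an affine open where `N` has finitely generated sections, the generated subalgebra is of
finite type -/
theorem α_finiteType (U : X.AffineZariskiSite) (hfg : (N.carrier U.1).FG) :
    ((α B N).app (op U)).hom.FiniteType := by
  classical
  obtain ⟨S, hS⟩ := hfg
  let _i : Algebra Γ(X, U.1) (genRing B N U.1) := ((α B N).app (op U)).hom.toAlgebra
  change Algebra.FiniteType Γ(X, U.1) (genRing B N U.1)
  refine ⟨(Subalgebra.fg_def).2 ⟨{z : genRing B N U.1 | toM B z.1 ∈ (S : Set Γ(B.toModule, U.1))},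
    ?_, ?_⟩⟩
  · refine Set.Finite.preimage (f := fun z : genRing B N U.1 => toM B z.1) ?_ S.finite_toSet
    intro z _ z' _ h
    exact Subtype.ext h
  · rw [eq_top_iff]
    rintro ⟨b, hb⟩ -
    induction hb using Subring.closure_induction with
    | mem x hx =>
      rcases hx with ⟨r, rfl⟩ | hx
      · exact Subalgebra.algebraMap_mem _ r
      · have hx' : toM B x ∈ Submodule.span Γ(X, U.1) (S : Set Γ(B.toModule, U.1)) := by
          rw [hS]; exact hx
        have key : ∀ t : Γ(B.toModule, U.1), t ∈ Submodule.span Γ(X, U.1)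
            (S : Set Γ(B.toModule, U.1)) → ∀ ht : ofM B t ∈ genRing B N U.1,
            (⟨ofM B t, ht⟩ : genRing B N U.1) ∈ Algebra.adjoin Γ(X, U.1)
              {z : genRing B N U.1 | toM B z.1 ∈ (S : Set Γ(B.toModule, U.1))} := by
          intro t ht
          induction ht using Submodule.span_induction with
          | mem s hs => exact fun ht => Algebra.subset_adjoin hs
          | zero => exact fun ht => Subalgebra.zero_mem _
          | add a b ha hb iha ihb =>
            intro ht
            have ha' : ofM B a ∈ genRing B N U.1 :=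
              mem_genRing_of_mem B N _ (by rw [← hS]; exact ha)
            have hb' : ofM B b ∈ genRing B N U.1 :=
              mem_genRing_of_mem B N _ (by rw [← hS]; exact hb)
            exact Subalgebra.add_mem _ (iha ha') (ihb hb')
          | smul r a ha iha =>
            intro ht
            have ha' : ofM B a ∈ genRing B N U.1 :=
              mem_genRing_of_mem B N _ (by rw [← hS]; exact ha)
            have := Subalgebra.smul_mem _ (iha ha') r
            exact this
        exact key (toM B x) hx' _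
    | zero => exact Subalgebra.zero_mem _
    | one => exact Subalgebra.one_mem _
    | add a b ha hb iha ihb => exact Subalgebra.add_mem _ iha ihb
    | neg a ha iha => exact Subalgebra.neg_mem _ iha
    | mul a b ha hb iha ihb => exact Subalgebra.mul_mem _ iha ihb

theorem str_finiteType (U : X.AffineZariskiSite) (hfg : (N.carrier U.1).FG) :
    ((sub B N hN).str.app (op U.1)).hom.FiniteType := by
  have h1 : ((sub B N hN).str.app (op U.1)).hom =
      (GrGlue.secEquiv (coequifibered B N hN) U).toRingHom.comp ((α B N).app (op U)).hom := by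
    ext r
    exact (GrGlue.secEquiv_str (coequifibered B N hN) U r).symm
  rw [h1]
  exact RingHom.FiniteType.comp
    (RingHom.FiniteType.of_surjective _ (GrGlue.secEquiv (coequifibered B N hN) U).surjective)
    (α_finiteType B N U hfg)

/-- **the quasi-coherent subalgebra of finite type generated by a quasi-coherent submodule of
finite type** -/
theorem exists_subalgebra (hft : N.IsQcFtOn ⊤) :
    ∃ (B' : RelSpec.QCAlg X) (φ : B' ⟶ B),
      (∀ V : X.Opens, Function.Injective (φ.hom.app (op V)).hom) ∧
      (∀ V : X.affineOpens, (B'.str.app (op (V : X.Opens))).hom.FiniteType) ∧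
      ∀ (U : X.Opens) (_ : IsAffineOpen U) (b : B.presheaf.obj (op U)), toM B b ∈ N.carrier U →
        b ∈ Set.range (φ.hom.app (op U)).hom := by
  have hq := QCAlgQc.isQuasicoherent_toModule B
  have hN := N.extPOn_top_of_isQcOn hft.isQcOn
  refine ⟨sub B N hN, φ B N hN, φ_injective B N hN, ?_, ?_⟩
  · intro V
    exact str_finiteType B N hN ⟨V.1, V.2⟩ (N.fg_of_isQcFtOn hft V.2)
  · intro U hU b hb
    rw [range_φ B N hN ⟨U, hU⟩]
    exact mem_genRing_of_mem B N U hb

/-- from an extension theorem to subalgebras through a section -/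
theorem exists_subalgebra_through (U : X.affineOpens)
    (hext : ∀ G₀ : LocalSub B.toModule, G₀.IsQcFtOn U.1 →
      ∃ G' : LocalSub B.toModule, G'.IsQcFtOn ⊤ ∧ ∀ W ≤ U.1, G'.carrier W = G₀.carrier W)
    (b : B.presheaf.obj (op (U : X.Opens))) :
    ∃ (B' : RelSpec.QCAlg X) (φ : B' ⟶ B),
      (∀ V : X.Opens, Function.Injective (φ.hom.app (op V)).hom) ∧
      (∀ V : X.affineOpens, (B'.str.app (op (V : X.Opens))).hom.FiniteType) ∧
      b ∈ Set.range (φ.hom.app (op (U : X.Opens))).hom := by
  have hq := QCAlgQc.isQuasicoherent_toModule B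
  obtain ⟨G', hG', hGU⟩ := hext _ (LocalSub.genOn_singleton_isQcFtOn U.2 (toM B b))
  obtain ⟨B', φ, h1, h2, h3⟩ := exists_subalgebra B G' hG'
  refine ⟨B', φ, h1, h2, h3 U.1 U.2 b ?_⟩
  rw [hGU U.1 le_rfl]
  exact LocalSub.mem_genOn_singleton _

theorem main_qcqs [CompactSpace X] [QuasiSeparatedSpace X] (U : X.affineOpens)
    (b : B.presheaf.obj (op (U : X.Opens))) :
    ∃ (B' : RelSpec.QCAlg X) (φ : B' ⟶ B),
      (∀ V : X.Opens, Function.Injective (φ.hom.app (op V)).hom) ∧
      (∀ V : X.affineOpens, (B'.str.app (op (V : X.Opens))).hom.FiniteType) ∧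
      b ∈ Set.range (φ.hom.app (op (U : X.Opens))).hom :=
  have hq := QCAlgQc.isQuasicoherent_toModule B
  exists_subalgebra_through B U
    (fun G₀ h0 => LocalSub.exists_extension_of_qcqs U.1 U.2.isCompact G₀ h0) b

theorem main_noeth (hX : ∀ x : X, ∃ U : X.Opens, x ∈ U ∧ NoetherianSpace (U : Set X))
    (U : X.affineOpens) (b : B.presheaf.obj (op (U : X.Opens))) :
    ∃ (B' : RelSpec.QCAlg X) (φ : B' ⟶ B),
      (∀ V : X.Opens, Function.Injective (φ.hom.app (op V)).hom) ∧
      (∀ V : X.affineOpens, (B'.str.app (op (V : X.Opens))).hom.FiniteType) ∧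
      b ∈ Set.range (φ.hom.app (op (U : X.Opens))).hom :=
  have hq := QCAlgQc.isQuasicoherent_toModule B
  exists_subalgebra_through B U
    (fun G₀ h0 => LocalSub.exists_extension_of_locally_noetherian hX U.1 G₀ h0) b

end Groth.Agent.Helper1.SubAlgOf
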