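import Mathlib
import Groth.Prelude.Def_RelSpec
import Groth.Prelude.Def_AffAlg
import Groth.Prelude.Def_Mor2
import Groth.Agent.Lib.Helper1.QAffFT
import Groth.Agent.Lib.Helper1.SubAlgOf
import Groth.Agent.Lib.Helper1.AlgOf
import Groth.Agent.Lib.Helper1.RelSpecGamma

set_option autoImplicit false
universe u
open CategoryTheory CategoryTheory.Limits AlgebraicGeometry TopologicalSpace Opposite

namespace Groth.Agent.Helper1.QAffFT

open Groth.Agent.Helper1.QcCech Groth.Agent.Helper1 Groth.Agent.Helper1.SubSh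
open Groth.Agent.Helper1.SubAlgGen

variable {X Y : Scheme.{u}} (f : X ⟶ Y) [QuasiCompact f] [QuasiSeparated f]

/-- the canonical morphism to the spectrum of a subalgebra containing enough sections is an
open immersion -/
theorem isOpenImmersion_of_subalgebra
    (B' : RelSpec.QCAlg Y) (φ : B' ⟶ RelSpec.QCAlg.directImage f)
    (hinj : ∀ V : Y.Opens, Function.Injective (φ.hom.app (op V)).hom)
    (hgood : ∀ x : X, ∃ V : Y.Opens, IsAffineOpen V ∧ x ∈ f ⁻¹ᵁ V ∧
      ∃ P : Finset Γ(X, f ⁻¹ᵁ V),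
        (∀ p ∈ P, p ∈ Set.range (φ.hom.app (op V)).hom) ∧
        ∀ (C : Type u) [CommRing C] (θ : C →+* Γ(X, f ⁻¹ᵁ V)),
          Function.Injective θ → (∀ r, (f.app V).hom r ∈ θ.range) → (∀ p ∈ P, p ∈ θ.range) →
          ∀ x ∈ f ⁻¹ᵁ V, ∃ c : C, x ∈ X.basicOpen (θ c) ∧ IsAffineOpen (X.basicOpen (θ c)) ∧
            @IsLocalization.Away C _ c Γ(X, X.basicOpen (θ c)) _
              ((X.presheaf.map (homOfLE (X.basicOpen_le (θ c))).op).hom.comp θ).toAlgebra)
    (j : X ⟶ B'.spec) (w : j ≫ B'.π = f)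
    (hj : AffAlg.algHom B'.π f j w = B'.gammaMap ≫ φ.hom) : IsOpenImmersion j := by
  refine IsZariskiLocalAtTarget.of_forall_source_exists_preimage j fun x => ?_
  obtain ⟨V, hV, hxV, P, hPφ, hP⟩ := hgood x
  have hpre : f ⁻¹ᵁ V = j ⁻¹ᵁ (B'.π ⁻¹ᵁ V) := congrArg (fun k => k ⁻¹ᵁ V) w.symm
  have hT' : IsAffineOpen (B'.π ⁻¹ᵁ V) := hV.preimage _
  have hθ : (j.appLE (B'.π ⁻¹ᵁ V) (f ⁻¹ᵁ V) hpre.le) =
      B'.gammaMap.app (op V) ≫ φ.hom.app (op V) := by
    rw [← AlgOf.algHom_app' B'.π f j w V, hj]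
    rfl
  have h1 : IsIso B'.gammaMap := RelSpecGamma.isIso_gammaMap _
  have h2 : IsIso (B'.gammaMap.app (op V)) := inferInstance
  have b2 : Function.Bijective (B'.gammaMap.app (op V)).hom :=
    ConcreteCategory.bijective_of_isIso _
  have hθa : ∀ t, (j.appLE (B'.π ⁻¹ᵁ V) (f ⁻¹ᵁ V) hpre.le).hom t =
      (φ.hom.app (op V)).hom ((B'.gammaMap.app (op V)).hom t) := fun t => by rw [hθ]; rfl
  obtain ⟨c, hxc, haff, hloc⟩ := hP Γ(B'.spec, B'.π ⁻¹ᵁ V)
    (j.appLE (B'.π ⁻¹ᵁ V) (f ⁻¹ᵁ V) hpre.le).hom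
    (by
      intro t t' h
      rw [hθa, hθa] at h
      exact b2.1 (hinj V h))
    (by
      intro r
      obtain ⟨t, ht⟩ := b2.2 ((B'.str.app (op V)).hom r)
      refine ⟨t, ?_⟩
      rw [hθa, ht]
      have := NatTrans.congr_app φ.comm (op V)
      exact ConcreteCategory.congr_hom this r)
    (by
      intro p hp
      obtain ⟨b, hb⟩ := hPφ p hp
      obtain ⟨t, ht⟩ := b2.2 b
      exact ⟨t, by rw [hθa, ht, hb]⟩)
    x hxV
  have hiso := isIso_restrict_basicOpen' j hT' (f ⁻¹ᵁ V) hpre.le hpre.ge c haff hloc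
  refine ⟨B'.spec.basicOpen c, ?_, ?_⟩
  · have e : j ⁻¹ᵁ B'.spec.basicOpen c = X.basicOpen ((j.app (B'.π ⁻¹ᵁ V)).hom c) :=
      Scheme.preimage_basicOpen j c
    change x ∈ j ⁻¹ᵁ B'.spec.basicOpen c
    rw [e]
    have h3 : (j.appLE (B'.π ⁻¹ᵁ V) (f ⁻¹ᵁ V) hpre.le).hom c =
        (X.presheaf.map (homOfLE hpre.le).op).hom ((j.app (B'.π ⁻¹ᵁ V)).hom c) := rfl
    rw [h3, Scheme.basicOpen_res] at hxc
    exact hxc.2
  · rw [← morphismRestrict_ι]
    infer_instance

/-- the relative spectrum of an algebra of finite type is locally of finite type -/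
theorem locallyOfFiniteType_π (A : RelSpec.QCAlg Y)
    (hA : ∀ U : Y.affineOpens, (A.str.app (op (U : Y.Opens))).hom.FiniteType) :
    LocallyOfFiniteType A.π := by
  refine (IsZariskiLocalAtSource.iff_of_openCover (P := @LocallyOfFiniteType)
    (f := A.π) (show A.spec.OpenCover from A.glueData.cover)).2 ?_
  intro U
  change LocallyOfFiniteType (A.ι U.1 U.2 ≫ A.π)
  rw [A.ι_π]
  have : LocallyOfFiniteType (Spec.map (A.str.app (op U.1))) := by
    rw [HasRingHomProperty.Spec_iff (P := @LocallyOfFiniteType)]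
    exact hA ⟨U.1, U.2⟩
  infer_instance

omit [QuasiCompact f] [QuasiSeparated f] in
/-- **a quasi-affine morphism of finite type over a quasi-compact quasi-separated base factors
as an open immersion followed by an affine morphism of finite type** -/
theorem main [CompactSpace Y] [QuasiSeparatedSpace Y] (hf : Mor2.IsQuasiAffine f)
    [LocallyOfFiniteType f] :
    ∃ (X'' : Scheme.{u}) (g : X'' ⟶ Y) (j : X ⟶ X''), IsAffineHom g ∧ LocallyOfFiniteType g ∧
      IsOpenImmersion j ∧ j ≫ g = f := by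
  classical
  have : QuasiCompact f := hf.1
  have : QuasiSeparated f :=
    HasAffineProperty.of_iSup_eq_top (P := @QuasiSeparated) (fun U : Y.affineOpens => U)
      (iSup_affineOpens_eq_top Y) (fun U => by
        have := hf.2 U.1 U.2
        exact (inferInstance : QuasiSeparatedSpace ↥(f ⁻¹ᵁ U.1 : Scheme.{u})))
  have hq := QCAlgQc.isQuasicoherent_toModule (RelSpec.QCAlg.directImage f)
  obtain ⟨n, V, hV, hcov, -⟩ := exists_fin_cover (X := Y)
  have hP : ∀ l, ∃ P : Finset Γ(X, f ⁻¹ᵁ V l), ∀ (C : Type u) [CommRing C]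
      (θ : C →+* Γ(X, f ⁻¹ᵁ V l)), Function.Injective θ → (∀ r, (f.app (V l)).hom r ∈ θ.range) →
      (∀ p ∈ P, p ∈ θ.range) →
        ∀ x ∈ f ⁻¹ᵁ V l, ∃ c : C, x ∈ X.basicOpen (θ c) ∧ IsAffineOpen (X.basicOpen (θ c)) ∧
          @IsLocalization.Away C _ c Γ(X, X.basicOpen (θ c)) _
            ((X.presheaf.map (homOfLE (X.basicOpen_le (θ c))).op).hom.comp θ).toAlgebra := by
    intro l
    have := hf.2 (V l) (hV l)
    exact exists_good_finset f (hV l)
  choose P hP using hP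
  have hext : ∀ l, ∃ G' : LocalSub (RelSpec.QCAlg.directImage f).toModule, G'.IsQcFtOn ⊤ ∧
      ∀ W ≤ V l, G'.carrier W = (LocalSub.genOn (V l)
        {t | ofM (RelSpec.QCAlg.directImage f) t ∈ P l}).carrier W := by
    intro l
    refine LocalSub.exists_extension_of_qcqs (V l) (hV l).isCompact _
      (genOn_finite_isQcFtOn (hV l) _ ?_)
    exact (P l).finite_toSet
  choose G' hG' hGV using hext
  have hN := LocalSub.finSup_isQcFtOn n G' hG'
  obtain ⟨B', φ, hinj, hft, hmem⟩ :=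
    SubAlgOf.exists_subalgebra (RelSpec.QCAlg.directImage f) (LocalSub.finSup n G') hN
  obtain ⟨⟨j, w⟩, hj⟩ := (AlgOf.algOf_bijective B'.π f).2
    ⟨B'.gammaMap ≫ φ.hom, by
      rw [← Category.assoc, RelSpec.QCAlg.π_c_gammaMap]
      exact φ.comm⟩
  have hj' : AffAlg.algHom B'.π f j w = B'.gammaMap ≫ φ.hom := congrArg Subtype.val hj
  refine ⟨B'.spec, B'.π, j, inferInstance, locallyOfFiniteType_π B' hft, ?_, w⟩
  refine isOpenImmersion_of_subalgebra f B' φ hinj ?_ j w hj'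
  intro x
  have hxt : f x ∈ (⨆ l, V l : Y.Opens) := by rw [hcov]; trivial
  obtain ⟨l, hxl⟩ := Opens.mem_iSup.1 hxt
  refine ⟨V l, hV l, hxl, P l, ?_, hP l⟩
  intro p hp
  refine hmem (V l) (hV l) p ?_
  apply LocalSub.le_finSup n G' l (V l)
  rw [hGV l (V l) le_rfl]
  exact mem_genOn_of_mem _ hp

end Groth.Agent.Helper1.QAffFT
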