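import Mathlib
import Groth.Prelude.Def_Mor2
import Groth.Agent.Lib.Helper1.CounitLib
import Groth.Agent.Lib.Helper1.QAft

set_option autoImplicit false
universe u
open CategoryTheory CategoryTheory.Limits AlgebraicGeometry TopologicalSpace Opposite

namespace Groth.Agent.Helper1.QAffHom

open Groth.Agent.Helper1.QcCech Groth.Agent.Helper1.SubSh Groth.Agent.Helper1
open Groth.Agent.Helper1.AmpleLib Groth.Agent.Helper1.CounitLib

variable {X S : Scheme.{u}}

/-- a quasi-coherent module on a quasi-affine scheme is globally generated -/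
theorem isGloballyGenerated_of_isQuasiAffine [X.IsQuasiAffine] (M : X.Modules)
    [M.IsQuasicoherent] : Curv2.IsGloballyGenerated M := by
  apply isGloballyGenerated_of_spannedOn
  intro x
  obtain ⟨_, ⟨_, ⟨r, hr, rfl⟩, rfl⟩, hxr, -⟩ :=
    (Scheme.IsQuasiAffine.isBasis_basicOpen X).exists_subset_of_mem_open (Set.mem_univ x)
      isOpen_univ
  refine ⟨X.basicOpen r, hxr, ?_⟩
  intro O hO t y hy
  obtain ⟨O', hO', hyO', hm⟩ := affine_local_span M hr O hO t y hy
  refine ⟨O', hO', hyO', ?_⟩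
  have hO'r : O' ≤ X.basicOpen r := hO'.trans hO
  have hu : IsUnit (resR (le_top : O' ≤ ⊤) r) := (GenLoc.isUnit_res_iff r _ _).2 hO'r
  obtain ⟨u, hu'⟩ := hu
  refine Submodule.span_le.2 ?_ hm
  rintro _ ⟨h, rfl⟩
  have hle0 : (⊤ ⊓ X.basicOpen r : X.Opens) ≤ X.basicOpen r := inf_le_right
  obtain ⟨n, τ, hτ⟩ := QcsLoc.ext_of_isCompact M r ⊤ (IsQuasiSeparated.of_quasiSeparatedSpace _)
    ⊤ isCompact_univ le_rfl le_rfl (QcCech.res M hle0 h)
  have h1 := congrArg (QcCech.res M (le_inf le_top hO'r : O' ≤ ⊤ ⊓ X.basicOpen r)) hτ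
  rw [QcCech.res_res, QcCech.res_rsmul, QcCech.res_res, QcCech.rsmul, map_pow] at h1
  have h2 : QcCech.res M hO'r h =
      ((u⁻¹ ^ n : (Γ(X, O'))ˣ) : Γ(X, O')) • QcCech.res M (le_top : O' ≤ ⊤) τ := by
    rw [h1, ← hu', smul_smul, ← Units.val_pow_eq_pow_val, ← Units.val_mul, ← mul_pow,
      inv_mul_cancel, one_pow, Units.val_one, one_smul]
  change QcCech.res M _ h ∈ _
  rw [h2]
  exact Submodule.smul_mem _ _ (Submodule.subset_span ⟨τ, rfl⟩)

/-- if the counit of `f^* ⊣ f_*` is an epimorphism at all quasi-coherent modules, preimages of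
affine opens are quasi-affine -/
theorem isQuasiAffine_preimage_of_epi_counit (f : X ⟶ S) (V : S.Opens) (hV : IsAffineOpen V)
    (hc : IsCompact (f ⁻¹ᵁ V : Set X)) (hqs : IsQuasiSeparated (f ⁻¹ᵁ V : Set X))
    (h : ∀ F : X.Modules, F.IsQuasicoherent →
      Epi ((Scheme.Modules.pullbackPushforwardAdjunction f).counit.app F)) :
    Scheme.IsQuasiAffine (↑(f ⁻¹ᵁ V) : Scheme.{u}) := by
  set U : X.Opens := f ⁻¹ᵁ V with hU
  have hcs : CompactSpace (↑U : Scheme.{u}) := isCompact_iff_compactSpace.mp hc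
  refine Scheme.IsQuasiAffine.of_forall_exists_mem_basicOpen _ fun x' => ?_
  have hxU : x'.1 ∈ U := x'.2
  obtain ⟨_, ⟨W, hW, rfl⟩, hxW, hWU⟩ :=
    X.isBasis_affineOpens.exists_subset_of_mem_open hxU U.isOpen
  have hWU' : W ≤ U := hWU
  set I := Scheme.IdealSheafData.vanishingIdeal ⟨(W : Set X)ᶜ, W.isOpen.isClosed_compl⟩ with hI
  have hrange : Set.range I.subschemeι = (W : Set X)ᶜ := by
    rw [I.range_subschemeι]
    simp [hI]
  have hpre : I.subschemeι ⁻¹ᵁ W = ⊥ := by
    ext z
    simp only [Scheme.Hom.mem_preimage, SetLike.mem_coe, Opens.coe_bot, Set.mem_empty_iff_false,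
      iff_false]
    intro hz
    have : I.subschemeι z ∈ Set.range I.subschemeι := ⟨z, rfl⟩
    rw [hrange] at this
    exact this hz
  have hsub : Subsingleton Γ(I.subscheme, I.subschemeι ⁻¹ᵁ W) := by
    rw [hpre]
    infer_instance
  obtain ⟨y, hy⟩ := IdealModL.exists_of_app_eq_zero I W 1 (Subsingleton.elim _ _)
  let j := ClSub.idealModι I
  have hsp := spannedBy_of_epi_counit' f (ClSub.idealMod I) (h _ inferInstance) V hV hc hqs
  obtain ⟨O', hO', hxO', hm⟩ := hsp W hWU' y x'.1 hxW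
  have key : ∀ t : Γ(ClSub.idealMod I, O'), t ∈ Submodule.span Γ(X, O')
      (Set.range fun τ : Γ(ClSub.idealMod I, U) => QcCech.res _ (hO'.trans hWU') τ) →
      x'.1 ∈ X.basicOpen (show Γ(X, O') from j.app O' t) →
      ∃ k : Γ(ClSub.idealMod I, U), x'.1 ∈ X.basicOpen (show Γ(X, U) from j.app U k) := by
    intro t ht
    induction ht using Submodule.span_induction with
    | mem t ht =>
      obtain ⟨k, rfl⟩ := ht
      intro hx
      refine ⟨k, ?_⟩
      rw [QcExt.app_res] at hx
      change x'.1 ∈ X.basicOpen (X.presheaf.map (homOfLE (hO'.trans hWU')).op (j.app U k)) at hx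
      rw [Scheme.basicOpen_res] at hx
      exact hx.2
    | zero =>
      intro hx
      rw [map_zero] at hx
      change x'.1 ∈ X.basicOpen (0 : Γ(X, O')) at hx
      rw [Scheme.basicOpen_zero] at hx
      exact hx.elim
    | add a b _ _ ha hb =>
      intro hx
      rw [map_add] at hx
      have := X.basicOpen_add_le (show Γ(X, O') from j.app O' a)
        (show Γ(X, O') from j.app O' b) hx
      rcases this with h1 | h1
      · exact ha h1
      · exact hb h1
    | smul r a _ ha =>
      intro hx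
      rw [Scheme.Modules.Hom.app_smul] at hx
      change x'.1 ∈ X.basicOpen (r * (show Γ(X, O') from j.app O' a)) at hx
      rw [Scheme.basicOpen_mul] at hx
      exact ha hx.2
  have hy' : j.app W y = (1 : Γ(X, W)) := hy
  have h1 : x'.1 ∈ X.basicOpen (show Γ(X, O') from j.app O' (QcCech.res _ hO' y)) := by
    rw [QcExt.app_res, hy']
    change x'.1 ∈ X.basicOpen (X.presheaf.map (homOfLE hO').op (1 : Γ(X, W)))
    rw [map_one, Scheme.basicOpen_of_isUnit _ isUnit_one]
    exact hxO'
  obtain ⟨k, hk⟩ := key _ hm h1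
  set r : Γ(X, U) := j.app U k with hr
  have hrW : X.basicOpen r ≤ W := by
    intro z hz
    by_contra hzW
    have : z ∈ Set.range I.subschemeι := by rw [hrange]; exact hzW
    obtain ⟨z', rfl⟩ := this
    have h0 : (I.subschemeι.app U).hom r = 0 := IdealModL.toSubscheme_ι I U k
    have h2 : z' ∈ I.subschemeι ⁻¹ᵁ X.basicOpen r := hz
    rw [Scheme.preimage_basicOpen, h0, Scheme.basicOpen_zero] at h2
    exact h2
  have haff : IsAffineOpen (X.basicOpen r) := by
    have e : X.basicOpen r = X.basicOpen (X.presheaf.map (homOfLE hWU').op r) := by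
      rw [Scheme.basicOpen_res]
      exact (inf_eq_right.2 hrW).symm
    rw [e]
    exact hW.basicOpen _
  have h3 := Scheme.Opens.ι_image_basicOpen_topIso_inv U r
  refine ⟨U.topIso.inv.hom r, ?_, ?_⟩
  · apply (Scheme.Hom.isAffineOpen_iff_of_isOpenImmersion U.ι).1
    rw [h3]
    exact haff
  · have h2 : x'.1 ∈ X.basicOpen r := hk
    rw [← h3] at h2
    obtain ⟨z, hz, hzx⟩ := h2
    have : z = x' := Subtype.ext hzx
    rw [← this]
    exact hz

end Groth.Agent.Helper1.QAffHom
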