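import Mathlib
import Groth.Agent.Lib.Helper1.VeryAmple2

set_option autoImplicit false
universe u
open CategoryTheory CategoryTheory.Limits AlgebraicGeometry TopologicalSpace Opposite
open scoped HomogeneousIdeal

namespace Groth.Agent.Helper1.VeryAmple

open Groth.Agent.Helper1.HasBase Groth.Agent.Helper1 Groth.Agent.Helper1.AmpleLib

theorem isRelAmple_of_iso {X Y : Scheme.{u}} (f : X ⟶ Y) {L L' : X.Modules} (e : L ≅ L')
    (h : RelAmple.IsRelAmple f L) : RelAmple.IsRelAmple f L' := by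
  refine ⟨h.1, fun V => ?_⟩
  exact TwistAmpleOpen.isAmple_of_iso
    ((Scheme.Modules.restrictFunctor (f ⁻¹ᵁ V.1).ι).mapIso e) (h.2 V)

theorem main5721 {X Y : Scheme.{u}} (f : X ⟶ Y) [QuasiCompact f] (L : X.Modules)
    (h : RelProj.IsRelVeryAmple f L) : RelAmple.IsRelAmple f L := by
  obtain ⟨E, hE, 𝒮, j, hj, P, p, chart, hP, O1, lam, hO1, i, hi, hip, ⟨e⟩⟩ := h
  have : E.IsQuasicoherent := hE
  have hemb : Topology.IsEmbedding i.base := i.isEmbedding
  exact isRelAmple_of_iso f e.symm (main5722 f hj hO1 i hip hemb)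

end Groth.Agent.Helper1.VeryAmple
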