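import Mathlib
import Groth.Agent.Lib.Helper1.CoprodMod2
import Groth.Agent.Lib.Helper1.CoprodAmple
import Groth.Agent.Lib.Helper1.VeryAmple3

set_option autoImplicit false
universe u

open CategoryTheory CategoryTheory.Limits AlgebraicGeometry TopologicalSpace Opposite

namespace Groth.Agent.Helper1.QProjCoprod

theorem locallyOfFiniteType_desc {X X' Y : Scheme.{u}} (f : X ⟶ Y) (f' : X' ⟶ Y)
    [LocallyOfFiniteType f] [LocallyOfFiniteType f'] :
    LocallyOfFiniteType (coprod.desc f f') := by
  apply IsZariskiLocalAtSource.of_openCover (P := @LocallyOfFiniteType)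
    (coprodOpenCover.{u, u} X X')
  rintro (_ | _)
  · change LocallyOfFiniteType (coprod.inl ≫ coprod.desc f f')
    rw [coprod.inl_desc]; infer_instance
  · change LocallyOfFiniteType (coprod.inr ≫ coprod.desc f f')
    rw [coprod.inr_desc]; infer_instance

/-- **S4417** -/
theorem main4417 {X X' Y : Scheme.{u}} (f : X ⟶ Y) (f' : X' ⟶ Y)
    (hf : RelProj.IsQuasiProjective f) (hf' : RelProj.IsQuasiProjective f') :
    RelProj.IsQuasiProjective (coprod.desc f f') := by
  obtain ⟨h1, h2, L, hL⟩ := hf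
  obtain ⟨h1', h2', L', hL'⟩ := hf'
  have hinf : (coprod.inl : X ⟶ X ⨿ X').opensRange ⊓ (coprod.inr : X' ⟶ X ⨿ X').opensRange = ⊥ := by
    apply Opens.ext
    exact (isCompl_range_inl_inr X X').inf_eq_bot
  refine ⟨locallyOfFiniteType_desc f f', inferInstance,
    CoprodMod.glueMod coprod.inl coprod.inr L L', ?_⟩
  obtain ⟨e1⟩ := CoprodMod.nonempty_pullback_glueMod_left coprod.inl coprod.inr hinf L L'
  obtain ⟨e2⟩ := CoprodMod.nonempty_pullback_glueMod_right coprod.inl coprod.inr hinf L L'
  exact CoprodAmple.isRelAmple_coprod_desc f f' _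
    (VeryAmple.isRelAmple_of_iso f e1.symm hL) (VeryAmple.isRelAmple_of_iso f' e2.symm hL')

end Groth.Agent.Helper1.QProjCoprod
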