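import Mathlib
import Groth.Prelude.Def_QCohCat
import Groth.Agent.Lib.Helper1.CohACC
import Groth.Agent.Lib.Helper1.SubSum
import Groth.Agent.Lib.Helper1.SubExt7
import Groth.Agent.Lib.Helper1.FtLocal

set_option autoImplicit false
universe u
open CategoryTheory CategoryTheory.Limits AlgebraicGeometry TopologicalSpace Opposite

namespace Groth.Agent.Helper1.QcNoeth

open QCohCat Groth.Agent.Helper1.SubSh Groth.Agent.Helper1.QcCech

variable {Y : Scheme.{u}}

/-- the inclusion of quasi-coherent modules into all modules preserves monomorphisms -/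
theorem mono_hom {A B : QCoh Y} (f : A ⟶ B) [Mono f] : Mono f.hom := by
  haveI : A.obj.IsQuasicoherent := A.property
  haveI : B.obj.IsQuasicoherent := B.property
  apply Preadditive.mono_of_kernel_zero
  have hK : (kernel f.hom).IsQuasicoherent := QcAbel.isQuasicoherent_kernel f.hom
  let K : QCoh Y := ⟨kernel f.hom, hK⟩
  let k : K ⟶ A := ObjectProperty.homMk (kernel.ι f.hom)
  have h1 : k ≫ f = 0 ≫ f := by
    apply ObjectProperty.hom_ext
    simp [k]
  have hk : k = 0 := (cancel_mono f).1 h1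
  exact congrArg (fun φ => φ.hom) hk

/-- a coherent module on a noetherian scheme is a noetherian object of `QCoh` -/
theorem isNoetherianObject_of_isCoh [IsNoetherian Y] (M : QCoh Y) (hM : Coh.IsCoh M.obj) :
    IsNoetherianObject M := by
  rw [isNoetherianObject_iff_monotone_chain_condition]
  intro F
  haveI : ∀ n, Mono (F n).arrow.hom := fun n => mono_hom _
  let G : ℕ →o Subobject M.obj :=
    { toFun := fun n => Subobject.mk (F n).arrow.hom
      monotone' := by
        intro n m hnm
        refine Subobject.mk_le_mk_of_comm (Subobject.ofLE _ _ (F.monotone hnm)).hom ?_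
        rw [← ObjectProperty.FullSubcategory.comp_hom, Subobject.ofLE_arrow] }
  have hG : ∀ n, ((G n : Subobject M.obj) : Y.Modules).IsQuasicoherent := by
    intro n
    haveI : ((F n : Subobject M) : QCoh Y).obj.IsQuasicoherent := ((F n : Subobject M) : QCoh Y).property
    exact QcAbel.isQuasicoherent_of_iso (Subobject.underlyingIso (F n).arrow.hom).symm
  obtain ⟨n, hn⟩ := CohACC.acc M.obj hM G hG
  refine ⟨n, fun m hm => ?_⟩
  apply le_antisymm (F.monotone hm)
  have h1 : G m ≤ G n := (hn m hm).le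
  let k : ((F m : Subobject M) : QCoh Y) ⟶ ((F n : Subobject M) : QCoh Y) :=
    ObjectProperty.homMk (Subobject.ofMkLEMk _ _ h1)
  refine Subobject.le_of_comm k ?_
  apply ObjectProperty.hom_ext
  rw [ObjectProperty.FullSubcategory.comp_hom]
  exact Subobject.ofMkLEMk_comp h1


section sub

variable (M : QCoh Y)

instance mono_homMk_ι (G : LocalSub M.obj) (hG : G.obj.IsQuasicoherent) :
    Mono (ObjectProperty.homMk G.ι : (⟨G.obj, hG⟩ : QCoh Y) ⟶ M) :=
  (isQCoh Y).ι.mono_of_mono_map (inferInstanceAs (Mono G.ι))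

/-- the subobject of `M` in `QCoh` attached to a quasi-coherent subsheaf -/
noncomputable def subOf (G : LocalSub M.obj) (hG : G.obj.IsQuasicoherent) : Subobject M :=
  Subobject.mk (ObjectProperty.homMk G.ι : (⟨G.obj, hG⟩ : QCoh Y) ⟶ M)

theorem subOf_le_iff (G G' : LocalSub M.obj) (hG : G.obj.IsQuasicoherent)
    (hG' : G'.obj.IsQuasicoherent) :
    subOf M G hG ≤ subOf M G' hG' ↔ ∀ U : Y.Opens, G.carrier U ≤ G'.carrier U := by
  constructor
  · intro h U t ht
    have h1 := Subobject.ofMkLEMk_comp h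
    have h2 : (Subobject.ofMkLEMk _ _ h).hom ≫ G'.ι = G.ι :=
      congrArg (fun φ => φ.hom) h1
    have h3 : t = G'.ι.app U ((Subobject.ofMkLEMk _ _ h).hom.app U (G.mkSec t ht)) := by
      change t = ((Subobject.ofMkLEMk _ _ h).hom.app U ≫ G'.ι.app U) (G.mkSec t ht)
      rw [← Scheme.Modules.Hom.comp_app, h2]
      rfl
    rw [h3]
    exact G'.ι_app_mem _
  · intro h
    refine Subobject.mk_le_mk_of_comm
      (ObjectProperty.homMk (G'.lift G.ι (fun U s => h U (G.ι_app_mem s)))) ?_
    apply ObjectProperty.hom_ext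
    simp

end sub

/-- a noetherian object of `QCoh` of a noetherian scheme is coherent -/
theorem isCoh_of_isNoetherianObject [IsNoetherian Y] (M : QCoh Y) [IsNoetherianObject M] :
    Coh.IsCoh M.obj := by
  haveI hq : M.obj.IsQuasicoherent := M.property
  let 𝒮 : Set (Subobject M) := {S | ∃ (G : LocalSub M.obj) (hG : G.IsQcFtOn ⊤),
    S = subOf M G (G.isQuasicoherent_obj hG.isQcOn)}
  have hne : 𝒮.Nonempty := ⟨_, LocalSub.bot M.obj, LocalSub.bot_isQcFtOn, rfl⟩
  obtain ⟨S₀, ⟨G, hG, rfl⟩, hmax⟩ :=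
    WellFounded.has_min (wellFounded_gt (α := Subobject M)) 𝒮 hne
  haveI hGq : G.obj.IsQuasicoherent := G.isQuasicoherent_obj hG.isQcOn
  have hall : ∀ (V : Y.Opens), IsAffineOpen V → ∀ s : Γ(M.obj, V), s ∈ G.carrier V := by
    intro V hV s
    obtain ⟨H, hH, hHV⟩ := LocalSub.exists_extension_of_qcqs V hV.isCompact
      (LocalSub.genOn V {s}) (LocalSub.genOn_singleton_isQcFtOn hV s)
    have hsH : s ∈ H.carrier V := by
      rw [hHV V le_rfl]
      exact LocalSub.mem_genOn_singleton s
    have hG' := LocalSub.sup_isQcFtOn G H hG hH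
    have hle : subOf M G hGq ≤ subOf M (LocalSub.sup G H)
        ((LocalSub.sup G H).isQuasicoherent_obj hG'.isQcOn) :=
      (subOf_le_iff M _ _ _ _).2 (fun U => LocalSub.le_sup_left G H U)
    have hnot := hmax _ ⟨LocalSub.sup G H, hG', rfl⟩
    have hge : subOf M (LocalSub.sup G H) ((LocalSub.sup G H).isQuasicoherent_obj hG'.isQcOn) ≤
        subOf M G hGq := by
      by_contra h
      exact hnot (lt_of_le_not_ge hle h)
    exact (subOf_le_iff M _ _ _ _).1 hge V (LocalSub.le_sup_right G H V hsH)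
  have hcov : ⨆ i : Y.affineOpens, (i.1 : Y.Opens) = ⊤ := by
    apply le_antisymm le_top
    intro x _
    obtain ⟨_, ⟨W, hW, rfl⟩, hxW, -⟩ := Y.isBasis_affineOpens.exists_subset_of_mem_open
      (Set.mem_univ x) isOpen_univ
    exact Opens.mem_iSup.2 ⟨⟨W, hW⟩, hxW⟩
  haveI hiso : IsIso G.ι := CohACC.isIso_of_surjective_on_cover G.ι
    (fun i : Y.affineOpens => i.1) (fun i => i.2) hcov
    (fun i s => ⟨G.mkSec s (hall i.1 i.2 s), rfl⟩)
  exact FtLocal.isCoh_of_mono (inv G.ι) ⟨hGq, G.isFiniteType_obj hG⟩ hq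

end Groth.Agent.Helper1.QcNoeth
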