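import Mathlib
import Groth.Agent.Lib.Helper1.SymPoly
import Groth.Agent.Lib.Helper1.AlgOf

set_option autoImplicit false
universe u
open CategoryTheory CategoryTheory.Limits AlgebraicGeometry TopologicalSpace Opposite

namespace Groth.Agent.Helper1.QcPushout


/-- naturality of descent from pushouts -/
theorem desc_natural {𝒞 : Type*} [Category 𝒞] {P₀ P₁ P₂ P₃ Q₀ Q₁ Q₂ Q₃ T T' : 𝒞}
    {f₁ : P₀ ⟶ P₁} {f₂ : P₀ ⟶ P₂} {g₁ : P₁ ⟶ P₃} {g₂ : P₂ ⟶ P₃}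
    {f₁' : Q₀ ⟶ Q₁} {f₂' : Q₀ ⟶ Q₂} {g₁' : Q₁ ⟶ Q₃} {g₂' : Q₂ ⟶ Q₃}
    (hP : IsPushout f₁ f₂ g₁ g₂) (hQ : IsPushout f₁' f₂' g₁' g₂')
    (r₁ : P₁ ⟶ Q₁) (r₂ : P₂ ⟶ Q₂) (r₃ : P₃ ⟶ Q₃) (rT : T ⟶ T')
    (h1 : g₁ ≫ r₃ = r₁ ≫ g₁') (h2 : g₂ ≫ r₃ = r₂ ≫ g₂')
    (a : P₁ ⟶ T) (b : P₂ ⟶ T) (a' : Q₁ ⟶ T') (b' : Q₂ ⟶ T')
    (w : f₁ ≫ a = f₂ ≫ b) (w' : f₁' ≫ a' = f₂' ≫ b')
    (ha : a ≫ rT = r₁ ≫ a') (hb : b ≫ rT = r₂ ≫ b') :
    hP.desc a b w ≫ rT = r₃ ≫ hQ.desc a' b' w' := by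
  apply hP.hom_ext
  · rw [IsPushout.inl_desc_assoc, ha, reassoc_of% h1, IsPushout.inl_desc]
  · rw [IsPushout.inr_desc_assoc, hb, reassoc_of% h2, IsPushout.inr_desc]

variable {S : Scheme.{u}} {A₀ A₁ A₂ A₃ : RelSpec.QCAlg S}
  (i₁ : A₀ ⟶ A₁) (i₂ : A₀ ⟶ A₂) (j₁ : A₁ ⟶ A₃) (j₂ : A₂ ⟶ A₃)

section Desc
variable (hPO : ∀ U : S.AffineZariskiSite, IsPushout (i₁.hom.app (op U.1)) (i₂.hom.app (op U.1))
    (j₁.hom.app (op U.1)) (j₂.hom.app (op U.1)))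
  {C : RelSpec.QCAlg S} (a : A₁ ⟶ C) (b : A₂ ⟶ C) (hab : i₁ ≫ a = i₂ ≫ b)

include hab in
theorem hab_app (U : S.AffineZariskiSite) :
    i₁.hom.app (op U.1) ≫ a.hom.app (op U.1) = i₂.hom.app (op U.1) ≫ b.hom.app (op U.1) := by
  have := congrArg (fun ψ : A₀ ⟶ C => ψ.hom.app (op U.1)) hab
  exact this

/-- the descended family -/
noncomputable def τ : (Scheme.AffineZariskiSite.toOpensFunctor S).op ⋙ A₃.presheaf ⟶
    (Scheme.AffineZariskiSite.toOpensFunctor S).op ⋙ C.presheaf where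
  app U := (hPO U.unop).desc (a.hom.app (op U.unop.1)) (b.hom.app (op U.unop.1))
    (hab_app i₁ i₂ a b hab U.unop)
  naturality U V k :=
    (desc_natural (hPO U.unop) (hPO V.unop)
      (A₁.presheaf.map ((Scheme.AffineZariskiSite.toOpensFunctor S).op.map k))
      (A₂.presheaf.map ((Scheme.AffineZariskiSite.toOpensFunctor S).op.map k))
      (A₃.presheaf.map ((Scheme.AffineZariskiSite.toOpensFunctor S).op.map k))
      (C.presheaf.map ((Scheme.AffineZariskiSite.toOpensFunctor S).op.map k))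
      (j₁.hom.naturality ((Scheme.AffineZariskiSite.toOpensFunctor S).op.map k)).symm
      (j₂.hom.naturality ((Scheme.AffineZariskiSite.toOpensFunctor S).op.map k)).symm
      (a.hom.app (op U.unop.1)) (b.hom.app (op U.unop.1))
      (a.hom.app (op V.unop.1)) (b.hom.app (op V.unop.1))
      (hab_app i₁ i₂ a b hab U.unop) (hab_app i₁ i₂ a b hab V.unop)
      (a.hom.naturality ((Scheme.AffineZariskiSite.toOpensFunctor S).op.map k)).symm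
      (b.hom.naturality ((Scheme.AffineZariskiSite.toOpensFunctor S).op.map k)).symm).symm

/-- the descended morphism -/
noncomputable def desc : A₃ ⟶ C :=
  SymPoly.homOfAffine A₃ C (τ i₁ i₂ j₁ j₂ hPO a b hab) (by
    intro U
    have h1 : A₃.str.app (op U.1) = A₁.str.app (op U.1) ≫ j₁.hom.app (op U.1) := by
      have := congrArg (fun ψ => ψ.app (op U.1)) j₁.comm
      exact this.symm
    have h2 : A₁.str.app (op U.1) ≫ a.hom.app (op U.1) = C.str.app (op U.1) := by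
      have := congrArg (fun ψ => ψ.app (op U.1)) a.comm
      exact this
    rw [h1, Category.assoc]
    have e1 : j₁.hom.app (op U.1) ≫ (τ i₁ i₂ j₁ j₂ hPO a b hab).app (op U) =
        a.hom.app (op U.1) := (hPO U).inl_desc _ _ _
    rw [e1]
    exact h2)

theorem desc_app (U : S.AffineZariskiSite) :
    (desc i₁ i₂ j₁ j₂ hPO a b hab).hom.app (op U.1) =
      (hPO U).desc (a.hom.app (op U.1)) (b.hom.app (op U.1)) (hab_app i₁ i₂ a b hab U) :=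
  SymPoly.homOfAffine_app _ _ _ _ U

end Desc

/-- **a square of quasi-coherent algebras which is a pushout of rings over every affine open is a
pushout** -/
theorem isPushout_of_affine (hcomm : i₁ ≫ j₁ = i₂ ≫ j₂)
    (hPO : ∀ U : S.AffineZariskiSite, IsPushout (i₁.hom.app (op U.1)) (i₂.hom.app (op U.1))
      (j₁.hom.app (op U.1)) (j₂.hom.app (op U.1))) :
    IsPushout i₁ i₂ j₁ j₂ := by
  refine ⟨⟨hcomm⟩, ⟨PushoutCocone.IsColimit.mk _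
    (fun s => desc i₁ i₂ j₁ j₂ hPO s.inl s.inr s.condition) ?_ ?_ ?_⟩⟩
  · intro s
    apply AffGlue.hom_ext_affine
    intro U
    change j₁.hom.app (op U.1) ≫ (desc i₁ i₂ j₁ j₂ hPO s.inl s.inr s.condition).hom.app (op U.1) = _
    rw [desc_app, IsPushout.inl_desc]
  · intro s
    apply AffGlue.hom_ext_affine
    intro U
    change j₂.hom.app (op U.1) ≫ (desc i₁ i₂ j₁ j₂ hPO s.inl s.inr s.condition).hom.app (op U.1) = _
    rw [desc_app, IsPushout.inr_desc]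
  · intro s m h1 h2
    apply AffGlue.hom_ext_affine
    intro U
    rw [desc_app]
    apply (hPO U).hom_ext
    · rw [IsPushout.inl_desc]
      have := congrArg (fun ψ : A₁ ⟶ s.pt => ψ.hom.app (op U.1)) h1
      exact this
    · rw [IsPushout.inr_desc]
      have := congrArg (fun ψ : A₂ ⟶ s.pt => ψ.hom.app (op U.1)) h2
      exact this

end Groth.Agent.Helper1.QcPushout

namespace Groth.Agent.Helper1.QcPushout

section Aff
variable {X X' Y Z : Scheme.{u}} (f : X ⟶ Y) (f' : X' ⟶ Y) (p : Z ⟶ X) (p' : Z ⟶ X')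

/-- ring-level pushout over an affine open of `Y` -/
theorem isPushout_appLE (hZ : IsPullback p p' f f') (V : Y.Opens) (hV : IsAffineOpen V)
    (hX : IsAffineOpen (f ⁻¹ᵁ V)) (hX' : IsAffineOpen (f' ⁻¹ᵁ V))
    (W : Z.Opens) (hW : W = p ⁻¹ᵁ (f ⁻¹ᵁ V) ⊓ p' ⁻¹ᵁ (f' ⁻¹ᵁ V)) :
    IsPushout (f.appLE V (f ⁻¹ᵁ V) le_rfl) (f'.appLE V (f' ⁻¹ᵁ V) le_rfl)
      (p.appLE (f ⁻¹ᵁ V) W (by rw [hW]; exact inf_le_left))
      (p'.appLE (f' ⁻¹ᵁ V) W (by rw [hW]; exact inf_le_right)) := by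
  have H := Scheme.Hom.isPullback_resLE hZ (US := V) (UT := f' ⁻¹ᵁ V) (UX := f ⁻¹ᵁ V)
    le_rfl le_rfl hW
  have : IsAffine (V : Scheme.{u}) := hV
  have : IsAffine ((f ⁻¹ᵁ V : X.Opens) : Scheme.{u}) := hX
  have : IsAffine ((f' ⁻¹ᵁ V : X'.Opens) : Scheme.{u}) := hX'
  have hPO := isPushout_appTop_of_isPullback H
  refine hPO.of_iso V.topIso (f ⁻¹ᵁ V).topIso (f' ⁻¹ᵁ V).topIso W.topIso ?_ ?_ ?_ ?_
  · show (f.resLE V (f ⁻¹ᵁ V) le_rfl).app ⊤ ≫ _ = _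
    rw [Scheme.Hom.resLE_app_top]
    erw [Category.assoc, Category.assoc, Iso.inv_hom_id, Category.comp_id]
  · show (f'.resLE V (f' ⁻¹ᵁ V) le_rfl).app ⊤ ≫ _ = _
    rw [Scheme.Hom.resLE_app_top]
    erw [Category.assoc, Category.assoc, Iso.inv_hom_id, Category.comp_id]
  · show (p.resLE (f ⁻¹ᵁ V) W _).app ⊤ ≫ _ = _
    rw [Scheme.Hom.resLE_app_top]
    erw [Category.assoc, Category.assoc, Iso.inv_hom_id, Category.comp_id]
  · show (p'.resLE (f' ⁻¹ᵁ V) W _).app ⊤ ≫ _ = _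
    rw [Scheme.Hom.resLE_app_top]
    erw [Category.assoc, Category.assoc, Iso.inv_hom_id, Category.comp_id]

end Aff

end Groth.Agent.Helper1.QcPushout

namespace Groth.Agent.Helper1.QcPushout

/-- **S8256** -/
theorem main8256 {X X' Y Z S : Scheme.{u}} (g : Y ⟶ S) [IsAffineHom g]
    (f : X ⟶ Y) [IsAffineHom f] (f' : X' ⟶ Y) [IsAffineHom f'] (p : Z ⟶ X) (p' : Z ⟶ X')
    [IsAffineHom p] (hZ : IsPullback p p' f f') :
    IsPushout
      (C := RelSpec.QCAlg S)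
      (⟨AffAlg.algHom g (f ≫ g) f rfl, AffAlg.algHom_comm g (f ≫ g) f rfl⟩ :
        RelSpec.QCAlg.directImage g ⟶ RelSpec.QCAlg.directImage (f ≫ g))
      (⟨AffAlg.algHom g (f' ≫ g) f' rfl, AffAlg.algHom_comm g (f' ≫ g) f' rfl⟩ :
        RelSpec.QCAlg.directImage g ⟶ RelSpec.QCAlg.directImage (f' ≫ g))
      (⟨AffAlg.algHom (f ≫ g) (p ≫ f ≫ g) p rfl, AffAlg.algHom_comm (f ≫ g) (p ≫ f ≫ g) p rfl⟩ :
        RelSpec.QCAlg.directImage (f ≫ g) ⟶ RelSpec.QCAlg.directImage (p ≫ f ≫ g))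
      (⟨AffAlg.algHom (f' ≫ g) (p ≫ f ≫ g) p'
          ((Category.assoc p' f' g).symm.trans ((congrArg (· ≫ g) hZ.w.symm).trans (Category.assoc p f g))),
        AffAlg.algHom_comm (f' ≫ g) (p ≫ f ≫ g) p'
          ((Category.assoc p' f' g).symm.trans ((congrArg (· ≫ g) hZ.w.symm).trans (Category.assoc p f g)))⟩ :
        RelSpec.QCAlg.directImage (f' ≫ g) ⟶ RelSpec.QCAlg.directImage (p ≫ f ≫ g)) := by
  have hPO : ∀ U : S.AffineZariskiSite, IsPushout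
      ((AffAlg.algHom g (f ≫ g) f rfl).app (op U.1))
      ((AffAlg.algHom g (f' ≫ g) f' rfl).app (op U.1))
      ((AffAlg.algHom (f ≫ g) (p ≫ f ≫ g) p rfl).app (op U.1))
      ((AffAlg.algHom (f' ≫ g) (p ≫ f ≫ g) p'
          ((Category.assoc p' f' g).symm.trans
            ((congrArg (· ≫ g) hZ.w.symm).trans (Category.assoc p f g)))).app (op U.1)) := by
    intro U
    have hU : IsAffineOpen U.1 := U.2
    rw [AlgOf.algHom_app', AlgOf.algHom_app', AlgOf.algHom_app', AlgOf.algHom_app']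
    have hW : (p ≫ f ≫ g) ⁻¹ᵁ U.1 = p ⁻¹ᵁ (f ⁻¹ᵁ (g ⁻¹ᵁ U.1)) ⊓ p' ⁻¹ᵁ (f' ⁻¹ᵁ (g ⁻¹ᵁ U.1)) := by
      have e1 : p' ⁻¹ᵁ (f' ⁻¹ᵁ (g ⁻¹ᵁ U.1)) = p ⁻¹ᵁ (f ⁻¹ᵁ (g ⁻¹ᵁ U.1)) := by
        show (p' ≫ f') ⁻¹ᵁ (g ⁻¹ᵁ U.1) = (p ≫ f) ⁻¹ᵁ (g ⁻¹ᵁ U.1)
        rw [hZ.w]
      rw [e1, inf_idem]
      rfl
    exact isPushout_appLE f f' p p' hZ (g ⁻¹ᵁ U.1) (hU.preimage g)
      ((hU.preimage g).preimage f) ((hU.preimage g).preimage f') _ hW
  exact isPushout_of_affine _ _ _ _ (AffGlue.hom_ext_affine _ fun U => (hPO U).w) hPO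

end Groth.Agent.Helper1.QcPushout
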