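import Mathlib
import Groth.Prelude.Def_Coh
import Groth.Agent.Lib.Helper1.QcAbel
import Groth.Agent.Lib.Lead.QB3
import Groth.Agent.Lib.Helper3.ModGroth

set_option autoImplicit false
universe u
open CategoryTheory CategoryTheory.Limits AlgebraicGeometry TopologicalSpace Opposite

namespace Groth.Agent.Helper1.QcSub

variable {X : Scheme.{u}}

theorem isQuasicoherent_of_iso {M N : X.Modules} (e : M ≅ N) [M.IsQuasicoherent] :
    N.IsQuasicoherent := by
  exact (SheafOfModules.isQuasicoherent (R := X.ringCatSheaf)).prop_of_iso e ‹_›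

/-- the image of a map from a qcoh module into a submodule of a qcoh module is qcoh -/
theorem isQuasicoherent_image_of_mono {F G H : X.Modules} [F.IsQuasicoherent] [H.IsQuasicoherent]
    (j : G ⟶ F) [Mono j] (ψ : H ⟶ G) : (Abelian.image ψ).IsQuasicoherent := by
  have := QcAbel.isQuasicoherent_image (ψ ≫ j)
  haveI : StrongEpi (Abelian.factorThruImage ψ) := strongEpi_of_epi _
  let e : Abelian.image ψ ≅ Limits.image (ψ ≫ j) :=
    Limits.image.isoStrongEpiMono (Abelian.factorThruImage ψ) (Abelian.image.ι ψ ≫ j)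
      (by rw [← Category.assoc, Abelian.image.fac])
  exact isQuasicoherent_of_iso ((Abelian.imageIsoImage (ψ ≫ j)) ≪≫ e.symm)

/-- transport along equality of subobjects -/
theorem exists_iso_of_eq {C : Type*} [Category C] {G : C} {S T : Subobject G} (h : S = T) :
    ∃ e : (S : C) ≅ (T : C), e.hom ≫ T.arrow = S.arrow := by
  subst h; exact ⟨Iso.refl _, Category.id_comp _⟩

theorem exists_largest (F G : X.Modules) [F.IsQuasicoherent] (j : G ⟶ F) [Mono j] :
    ∃ (G' : X.Modules) (k : G' ⟶ G), G'.IsQuasicoherent ∧ Mono k ∧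
      ∀ H : X.Modules, H.IsQuasicoherent → Function.Bijective (fun φ : H ⟶ G' => φ ≫ k) := by
  haveI : IsGrothendieckAbelian.{u} X.Modules :=
    Groth.Agent.Helper3.ModGroth.isGrothendieckAbelian _ X.ringCatSheaf
  haveI : WellPowered.{u} X.Modules := IsGrothendieckAbelian.wellPowered _
  let ι₀ := {S : Subobject G // (S : X.Modules).IsQuasicoherent}
  let ι := Shrink.{u} ι₀
  let B : ι → X.Modules := fun i => (((equivShrink ι₀).symm i).1 : X.Modules)
  haveI : ∀ i, (B i).IsQuasicoherent := fun i => ((equivShrink ι₀).symm i).2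
  let σ : ∐ B ⟶ G := Sigma.desc (fun i => ((equivShrink ι₀).symm i).1.arrow)
  haveI : (∐ B).IsQuasicoherent := Groth.Agent.Lead.QB.isQuasicoherent_sigma B
  refine ⟨Abelian.image σ, Abelian.image.ι σ, isQuasicoherent_image_of_mono j σ, inferInstance, ?_⟩
  intro H hH
  haveI := hH
  refine ⟨fun a b h => (cancel_mono _).1 h, fun ψ => ?_⟩
  haveI : (Abelian.image ψ).IsQuasicoherent := isQuasicoherent_image_of_mono j ψ
  let S : Subobject G := Subobject.mk (Abelian.image.ι ψ)
  haveI hS : (S : X.Modules).IsQuasicoherent :=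
    isQuasicoherent_of_iso (Subobject.underlyingIso (Abelian.image.ι ψ)).symm
  let s : ι₀ := ⟨S, hS⟩
  let i : ι := equivShrink ι₀ s
  have hi : ((equivShrink ι₀).symm i).1 = S := by
    simp [i, s]
  obtain ⟨e, he⟩ := exists_iso_of_eq hi.symm
  refine ⟨Abelian.factorThruImage ψ ≫ (Subobject.underlyingIso (Abelian.image.ι ψ)).inv ≫ e.hom ≫
    Sigma.ι B i ≫ Abelian.factorThruImage σ, ?_⟩
  change (_ ≫ _) ≫ _ = _
  simp only [Category.assoc, Abelian.image.fac]
  rw [show Sigma.ι B i ≫ σ = ((equivShrink ι₀).symm i).1.arrow from Sigma.ι_desc _ _, he]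
  rw [Subobject.underlyingIso_arrow, Abelian.image.fac]

end Groth.Agent.Helper1.QcSub
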