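import Mathlib
universe u v
open Polynomial
namespace Groth.Agent.Helper1.QuadExt
variable {F : Type u} {K : Type v} [Field F] [Field K] [Algebra F K]

theorem adjoin_eq_top (hdeg : Module.finrank F K = 2) (z : K)
    (hz : z ∉ Set.range (algebraMap F K)) : IntermediateField.adjoin F ({z} : Set K) = ⊤ := by
  have hprime : (Module.finrank F K).Prime := by rw [hdeg]; exact Nat.prime_two
  have := IntermediateField.isSimpleOrder_of_finrank_prime F K hprime
  rcases eq_bot_or_eq_top (IntermediateField.adjoin F ({z} : Set K)) with h | h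
  · exfalso
    apply hz
    rw [IntermediateField.adjoin_simple_eq_bot_iff, IntermediateField.mem_bot] at h
    exact h
  · exact h

theorem exists_quadratic (hdeg : Module.finrank F K = 2) (z : K)
    (hz : z ∉ Set.range (algebraMap F K)) :
    ∃ b c : F, minpoly F z = X ^ 2 + C b * X + C c ∧
      z ^ 2 + algebraMap F K b * z + algebraMap F K c = 0 := by
  have hfin : FiniteDimensional F K := Module.finite_of_finrank_pos (by rw [hdeg]; norm_num)
  have hint : IsIntegral F z := Algebra.IsIntegral.isIntegral z
  have htop := adjoin_eq_top hdeg z hz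
  have hnd : (minpoly F z).natDegree = 2 := by
    rw [← IntermediateField.adjoin.finrank hint, htop, IntermediateField.finrank_top', hdeg]
  have hmonic := minpoly.monic hint
  have hform : minpoly F z = X ^ 2 + C ((minpoly F z).coeff 1) * X + C ((minpoly F z).coeff 0) := by
    conv_lhs => rw [(minpoly F z).as_sum_range_C_mul_X_pow, hnd]
    rw [Finset.sum_range_succ, Finset.sum_range_succ, Finset.sum_range_one]
    have : (minpoly F z).coeff 2 = 1 := by
      have := hmonic.coeff_natDegree
      rwa [hnd] at this
    rw [this]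
    simp
    ring
  refine ⟨_, _, hform, ?_⟩
  have h0 := minpoly.aeval F z
  rw [hform] at h0
  simpa using h0

theorem exists_not_mem_range (hdeg : Module.finrank F K = 2) :
    ∃ z : K, z ∉ Set.range (algebraMap F K) := by
  by_contra h
  push Not at h
  have hsurj : Function.Surjective (algebraMap F K) := h
  have hbij : Function.Bijective (algebraMap F K) := ⟨(algebraMap F K).injective, hsurj⟩
  have e : F ≃ₗ[F] K := LinearEquiv.ofBijective (Algebra.linearMap F K) hbij
  have := e.finrank_eq
  rw [hdeg, Module.finrank_self] at this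
  omega

/-- Artin–Schreier form of separable quadratic extensions in characteristic 2 -/
theorem artinSchreier [CharP F 2] (hdeg : Module.finrank F K = 2) [Algebra.IsSeparable F K] :
    ∃ (y : K) (f : F), y ^ 2 + y = algebraMap F K f ∧
      IntermediateField.adjoin F ({y} : Set K) = ⊤ := by
  obtain ⟨z, hz⟩ := exists_not_mem_range hdeg
  obtain ⟨b, c, hform, hrel⟩ := exists_quadratic hdeg z hz
  have hsep : (minpoly F z).Separable := Algebra.IsSeparable.isSeparable F z
  have hb : b ≠ 0 := by
    intro hb0
    rw [hform, hb0, Polynomial.separable_def] at hsep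
    have h2 : (2 : F) = 0 := CharTwo.two_eq_zero
    have hder : derivative (X ^ 2 + C (0 : F) * X + C c) = 0 := by
      rw [map_zero, zero_mul, add_zero, derivative_add, derivative_C, add_zero, derivative_X_pow,
        Nat.cast_ofNat, h2, map_zero, zero_mul]
    rw [hder, isCoprime_zero_right] at hsep
    have := Polynomial.natDegree_eq_zero_of_isUnit hsep
    have h3 : (X ^ 2 + C (0 : F) * X + C c).natDegree = 2 := by
      rw [map_zero, zero_mul, add_zero]
      exact natDegree_X_pow_add_C
    omega
  have hbK : algebraMap F K b ≠ 0 := fun h => hb ((algebraMap F K).injective (by rw [h, map_zero]))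
  refine ⟨(algebraMap F K b)⁻¹ * z, -c / b ^ 2, ?_, ?_⟩
  · rw [map_div₀, map_neg, map_pow]
    field_simp
    linear_combination hrel
  · apply adjoin_eq_top hdeg
    rintro ⟨w, hw⟩
    apply hz
    refine ⟨b * w, ?_⟩
    rw [map_mul, hw, mul_inv_cancel_left₀ hbK]

theorem exists_sq_mul_squarefree {k : Type u} [Field k] :
    ∀ (n : ℕ) (g : k[X]), g.natDegree = n → g ≠ 0 → ∃ s f : k[X], g = s ^ 2 * f ∧ Squarefree f := by
  intro n
  induction n using Nat.strong_induction_on with
  | _ n ih =>
    intro g hn hg
    by_cases hsq : Squarefree g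
    · exact ⟨1, g, by simp, hsq⟩
    · unfold Squarefree at hsq
      push Not at hsq
      obtain ⟨a, ⟨h, hh⟩, hau⟩ := hsq
      have ha0 : a ≠ 0 := by rintro rfl; apply hg; rw [hh]; simp
      have hh0 : h ≠ 0 := by rintro rfl; apply hg; rw [hh]; simp
      have had : 0 < a.natDegree := by
        rw [Nat.pos_iff_ne_zero]
        intro h0
        apply hau
        rw [Polynomial.isUnit_iff]
        obtain ⟨r, hr⟩ := Polynomial.natDegree_eq_zero.mp h0
        refine ⟨r, ?_, hr⟩
        rw [isUnit_iff_ne_zero]
        rintro rfl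
        apply ha0
        rw [← hr, map_zero]
      have hdeg : g.natDegree = a.natDegree + a.natDegree + h.natDegree := by
        rw [hh, natDegree_mul (mul_ne_zero ha0 ha0) hh0, natDegree_mul ha0 ha0]
      obtain ⟨s, f, hsf, hf⟩ := ih h.natDegree (by omega) h rfl hh0
      refine ⟨a * s, f, ?_, hf⟩
      rw [hh, hsf]
      ring

variable {k : Type u} {K : Type v} [Field k] [Field K] [Algebra (RatFunc k) K]

theorem quadratic_normal_form (h2 : ringChar k ≠ 2) (hdeg : Module.finrank (RatFunc k) K = 2) :
    ∃ (y : K) (f : Polynomial k), Squarefree f ∧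
      y ^ 2 = algebraMap (RatFunc k) K (algebraMap (Polynomial k) (RatFunc k) f) ∧
      IntermediateField.adjoin (RatFunc k) ({y} : Set K) = ⊤ := by
  obtain ⟨z, hz⟩ := exists_not_mem_range hdeg
  obtain ⟨b, c, -, hrel⟩ := exists_quadratic hdeg z hz
  have h2k : (2 : k) ≠ 0 := Ring.two_ne_zero h2
  have h2F : (2 : RatFunc k) ≠ 0 := by
    intro h
    apply h2k
    apply (algebraMap k (RatFunc k)).injective
    rw [map_zero, map_ofNat]
    exact h
  have h2K : (2 : K) ≠ 0 := by
    intro h
    apply h2F
    apply (algebraMap (RatFunc k) K).injective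
    rw [map_zero, map_ofNat]
    exact h
  have h4K : (4 : K) ≠ 0 := by
    have : (4 : K) = 2 * 2 := by norm_num
    rw [this]; exact mul_ne_zero h2K h2K
  set d : RatFunc k := b ^ 2 / 4 - c with hd
  set y₀ : K := z + algebraMap _ K (b / 2) with hy₀
  have hy₀sq : y₀ ^ 2 = algebraMap _ K d := by
    rw [hy₀, hd, map_sub, map_div₀, map_div₀, map_pow, map_ofNat, map_ofNat]
    field_simp
    linear_combination 16 * hrel
  have hy₀F : ∀ w : RatFunc k, w ≠ 0 → algebraMap _ K w * y₀ ∉ Set.range (algebraMap (RatFunc k) K) := by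
    rintro w hw ⟨v, hv⟩
    apply hz
    refine ⟨v / w - b / 2, ?_⟩
    have hwK : algebraMap (RatFunc k) K w ≠ 0 := fun h =>
      hw ((algebraMap (RatFunc k) K).injective (by rw [h, map_zero]))
    rw [map_sub, map_div₀, hv, hy₀]
    field_simp
    ring
  set num := d.num with hnum
  set den := d.denom with hden
  have hden0 : den ≠ 0 := RatFunc.denom_ne_zero d
  have hnd : algebraMap k[X] (RatFunc k) num / algebraMap k[X] (RatFunc k) den = d :=
    RatFunc.num_div_denom d
  have hdenF : algebraMap k[X] (RatFunc k) den ≠ 0 := by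
    intro h
    apply hden0
    exact (IsFractionRing.injective k[X] (RatFunc k)) (by rw [h, map_zero])
  have hd0 : d ≠ 0 := by
    intro h
    have h1 : y₀ ^ 2 = 0 := by rw [hy₀sq, h, map_zero]
    have h3 : y₀ = 0 := pow_eq_zero_iff (two_ne_zero) |>.mp h1
    have := hy₀F 1 one_ne_zero
    apply this
    rw [h3, mul_zero]
    exact ⟨0, map_zero _⟩
  have hnum0 : num ≠ 0 := by
    intro h
    apply hd0
    rw [← hnd, h, map_zero, zero_div]
  obtain ⟨s, f, hsf, hf⟩ := exists_sq_mul_squarefree _ (num * den) rfl (mul_ne_zero hnum0 hden0)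
  have hs0 : s ≠ 0 := by rintro rfl; exact (mul_ne_zero hnum0 hden0) (by rw [hsf]; simp)
  have hsF : algebraMap k[X] (RatFunc k) s ≠ 0 := by
    intro h
    apply hs0
    exact (IsFractionRing.injective k[X] (RatFunc k)) (by rw [h, map_zero])
  set w : RatFunc k := algebraMap k[X] (RatFunc k) den / algebraMap k[X] (RatFunc k) s with hw
  have hw0 : w ≠ 0 := div_ne_zero hdenF hsF
  refine ⟨algebraMap _ K w * y₀, f, hf, ?_, adjoin_eq_top hdeg _ (hy₀F w hw0)⟩
  rw [mul_pow, hy₀sq, ← map_pow, ← map_mul]
  congr 1
  have h3 : algebraMap k[X] (RatFunc k) (num * den) = algebraMap k[X] (RatFunc k) (s ^ 2 * f) := by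
    rw [hsf]
  rw [map_mul, map_mul, map_pow] at h3
  rw [hw, ← hnd]
  field_simp
  linear_combination h3

end Groth.Agent.Helper1.QuadExt
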