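import Mathlib
import Groth.Prelude.Def_Coh
import Groth.Prelude.Def_FlatMod2
import Groth.Agent.Lib.Helper1.QcExt
import Groth.Agent.Lib.Helper1.QcAbel
import Groth.Agent.Lib.Helper1.H1Ext
import Groth.Agent.Lib.Helper1.FinSigma
import Groth.Agent.Lib.Helper1.IdealModL

set_option autoImplicit false
universe u
open CategoryTheory CategoryTheory.Limits AlgebraicGeometry TopologicalSpace Opposite

namespace Groth.Agent.Helper1.SubMid

open Groth.Agent.Helper1.QcCech Groth.Agent.Helper1 CategoryTheory.Abelian Groth.Agent.Helper1.H1Ext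

variable {X : Scheme.{u}} (P : X.Modules → Prop)

/-- every quasi-coherent subobject has property `P` -/
def Sub (G : X.Modules) : Prop :=
  ∀ (F : X.Modules) (i : F ⟶ G), Mono i → F.IsQuasicoherent → P F

variable {P}

theorem sub_of_iso {G G' : X.Modules} (e : G ≅ G') (h : Sub P G) : Sub P G' := by
  intro F i hi hF
  exact h F (i ≫ e.inv) (mono_comp _ _) hF

variable (hmid : ∀ S : ShortComplex X.Modules, S.ShortExact → P S.X₁ → P S.X₃ → P S.X₂)
  (hzero : ∀ F : X.Modules, IsZero F → P F)

include hzero in
theorem sub_of_isZero {G : X.Modules} (hG : IsZero G) : Sub P G := by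
  intro F i hi hF
  apply hzero
  rw [IsZero.iff_id_eq_zero, ← cancel_mono i]
  exact hG.eq_of_tgt _ _

include hmid in
/-- `Sub P` is closed under extensions of quasi-coherent modules -/
theorem sub_of_shortExact {S : ShortComplex X.Modules} (hS : S.ShortExact)
    [S.X₃.IsQuasicoherent] (h1 : Sub P S.X₁) (h3 : Sub P S.X₃) : Sub P S.X₂ := by
  intro F i hi hF
  let φ : F ⟶ S.X₃ := i ≫ S.g
  have hK : (kernel φ).IsQuasicoherent := QcAbel.isQuasicoherent_kernel φ
  have hI : (Abelian.image φ).IsQuasicoherent := QcAbel.isQuasicoherent_image φ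
  have hex := kerIm_shortExact φ
  refine hmid _ hex ?_ ?_
  · have hz : (kernel.ι φ ≫ i) ≫ S.g = 0 := by
      rw [Category.assoc]; exact kernel.condition φ
    have := hS.mono_f
    let l : kernel φ ⟶ S.X₁ := hS.exact.lift (kernel.ι φ ≫ i) hz
    have hl : l ≫ S.f = kernel.ι φ ≫ i := hS.exact.lift_f _ hz
    have : Mono (l ≫ S.f) := by rw [hl]; exact mono_comp _ _
    have : Mono l := mono_of_mono l S.f
    exact h1 _ l this hK
  · exact h3 _ (Abelian.image.ι φ) (inferInstanceAs (Mono (kernel.ι _))) hI

include hmid in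
theorem sub_biprod {G₁ G₂ : X.Modules} [G₂.IsQuasicoherent] (h1 : Sub P G₁) (h2 : Sub P G₂) :
    Sub P (G₁ ⊞ G₂) := by
  have hS := (ShortComplex.Splitting.ofHasBinaryBiproduct G₁ G₂).shortExact
  have : (ShortComplex.mk (biprod.inl : G₁ ⟶ G₁ ⊞ G₂) (biprod.snd : G₁ ⊞ G₂ ⟶ G₂)
    biprod.inl_snd).X₃.IsQuasicoherent := ‹G₂.IsQuasicoherent›
  exact sub_of_shortExact hmid hS h1 h2

include hmid hzero in
theorem sub_freeMod (hO : Sub P (Coh.structureModule X)) (n : ℕ) :
    Sub P (FlatMod.freeMod X n) := by
  induction n with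
  | zero =>
    apply sub_of_isZero hzero
    have : IsEmpty (Fin 0) := inferInstance
    have hI : IsInitial (∐ fun _ : Fin 0 => Coh.structureModule X) := by
      refine IsInitial.ofUniqueHom (fun Y => Sigma.desc (fun i => i.elim0)) ?_
      intro Y m
      ext i
      exact i.elim0
    exact (isZero_zero _).of_iso (hI.uniqueUpToIso (isZero_zero _).isInitial)
  | succ n ih =>
    have hq : (FlatMod.freeMod X n).IsQuasicoherent :=
      have := IdealModL.isQuasicoherent_structureModule (X := X)
      FinSigma.isQuasicoherent_sigma (fun _ : Fin n => Coh.structureModule X)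
    have hb := sub_biprod hmid hO ih
    let e1 := biprod.isoCoprod (Coh.structureModule X) (FlatMod.freeMod X n)
    let e2 := (extendCofanIsColimit (fun _ : Fin (n + 1) => Coh.structureModule X)
      (colimit.isColimit _) (colimit.isColimit _)).coconePointUniqueUpToIso
        (colimit.isColimit (Discrete.functor fun _ : Fin (n + 1) => Coh.structureModule X))
    exact sub_of_iso (e1 ≪≫ e2) hb

end Groth.Agent.Helper1.SubMid
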