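import Mathlib
import Groth.Prelude.Def_Coh
import Groth.Agent.Lib.Helper1.RpushComp
import Groth.Agent.Lib.Helper3.RDerL
import Groth.Agent.Lib.Helper1.SubMid

set_option autoImplicit false
universe u
open CategoryTheory CategoryTheory.Limits AlgebraicGeometry TopologicalSpace Opposite

namespace Groth.Agent.Helper1.R1Epi

open Groth.Agent.Helper1.QcCech Groth.Agent.Helper1 CategoryTheory.Abelian Groth.Agent.Helper1.QcExt

variable {X Y : Scheme.{u}} (f : X ⟶ Y)

instance : PreservesFiniteLimits (Coh.pushAb f) := by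
  have : PreservesLimitsOfSize.{0, 0} (Coh.pushAb f) :=
    (TopCat.Sheaf.pullbackPushforwardAdjunction AddCommGrpCat.{u} f.base).rightAdjoint_preservesLimits
  exact PreservesLimitsOfSize.preservesFiniteLimits _

/-- vanishing of higher direct images passes to the middle term of a short exact sequence -/
theorem isZero_rpush_mid {S : ShortComplex X.Modules} (hS : S.ShortExact) (n : ℕ)
    (h1 : IsZero ((Coh.RpushAb f n).obj (Coh.toAb S.X₁)))
    (h3 : IsZero ((Coh.RpushAb f n).obj (Coh.toAb S.X₃))) :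
    IsZero ((Coh.RpushAb f n).obj (Coh.toAb S.X₂)) := by
  have hSab := QcExt.Sab_shortExact hS
  have Δ := Groth.Agent.Helper3.RDerL.derivedLES (Coh.pushAb f)
  have hex := Δ.exact₂ (QcExt.Sab S) hSab n
  exact hex.isZero_X₂ (h1.eq_of_src _ _) (h3.eq_of_tgt _ _)

theorem isZero_rpush_of_isZero {F : X.Modules} (hF : IsZero F) (n : ℕ) :
    IsZero ((Coh.RpushAb f n).obj (Coh.toAb F)) := by
  have h0 : IsZero (Coh.toAb F) := (QcExt.T X).map_isZero hF
  exact (Coh.RpushAb f n).map_isZero h0

/-- if `R¹f_*` of the kernel vanishes, the direct image of the epimorphism is an epimorphism -/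
theorem epi_pushforward_of_R1 {S : ShortComplex X.Modules} (hS : S.ShortExact)
    (h1 : IsZero ((Coh.RpushAb f 1).obj (Coh.toAb S.X₁))) :
    Epi ((Scheme.Modules.pushforward f).map S.g) := by
  have hSab := QcExt.Sab_shortExact hS
  have Δ := Groth.Agent.Helper3.RDerL.derivedLES (Coh.pushAb f)
  have hex := Δ.exact₃ (QcExt.Sab S) hSab 0 1 rfl
  have hepi : Epi (((Coh.pushAb f).rightDerived 0).map (QcExt.Sab S).g) :=
    hex.epi_f (h1.eq_of_tgt _ _)
  let e := (Coh.pushAb f).rightDerivedZeroIsoSelf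
  have hnat : (Coh.pushAb f).map (QcExt.Sab S).g =
      e.inv.app _ ≫ ((Coh.pushAb f).rightDerived 0).map (QcExt.Sab S).g ≫ e.hom.app _ := by
    rw [e.hom.naturality, ← Category.assoc, ← NatTrans.comp_app, e.inv_hom_id, NatTrans.id_app,
      Category.id_comp]
  have hepi2 : Epi ((Coh.pushAb f).map (QcExt.Sab S).g) := by
    rw [hnat]
    infer_instance
  have hf : (T Y).Faithful :=
    inferInstanceAs (SheafOfModules.toSheaf.{u} Y.ringCatSheaf).Faithful
  apply (T Y).epi_of_epi_map
  exact hepi2

end Groth.Agent.Helper1.R1Epi
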