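import Mathlib
import Groth.Agent.Lib.Helper1.SurfNef1
import Groth.Agent.Lib.Helper1.NumEq1

/-!
# Ample real divisors on a surface are stable under numerically trivial translation (helper1)
-/

set_option autoImplicit false
set_option linter.style.haveILetI false
set_option linter.unusedSectionVars false
universe u
open CategoryTheory CategoryTheory.Limits AlgebraicGeometry TopologicalSpace Opposite

namespace Groth.Agent.Helper1.RDivAmple

open Groth.Agent.Helper1 Groth.Agent.Helper1.Euler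
open Groth.Agent.Helper1.SurfCurve Groth.Agent.Helper1.SurfNef Groth.Agent.Helper1.NumEq

section Alg

/-- a finitely supported real vector is an integral combination of `ℤ`-independent reals -/
theorem int_structure {ι : Type*} (N : ι →₀ ℝ) :
    ∃ (q : ℕ) (u : Fin q → ℝ) (a : Fin q → ι →₀ ℤ),
      (∀ C, N C = ∑ l, u l * ((a l C : ℤ) : ℝ)) ∧
      (∀ z : Fin q → ℤ, ∑ l, (z l : ℝ) * u l = 0 → ∀ l, z l = 0) := by
  classical
  obtain ⟨U, hU⟩ : ∃ U : Submodule ℤ ℝ, U = Submodule.span ℤ (N '' (N.support : Set ι)) := ⟨_, rfl⟩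
  have hfg : U.FG := by
    rw [hU]; exact Submodule.fg_span ((N.support.finite_toSet).image N)
  haveI : Module.Finite ℤ U := Module.Finite.iff_fg.2 hfg
  obtain ⟨q, b⟩ := Module.basisOfFiniteTypeTorsionFree' (R := ℤ) (M := U)
  have hmem : ∀ C, N C ∈ U := by
    intro C
    by_cases hC : C ∈ N.support
    · rw [hU]; exact Submodule.subset_span ⟨C, hC, rfl⟩
    · rw [Finsupp.notMem_support_iff.1 hC]; exact U.zero_mem
  refine ⟨q, fun l => (b l : ℝ), fun l => Finsupp.onFinset N.support
    (fun C => b.repr ⟨N C, hmem C⟩ l) ?_, ?_, ?_⟩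
  · intro C hne
    by_contra hC
    apply hne
    have h0 : (⟨N C, hmem C⟩ : U) = 0 := Subtype.ext (Finsupp.notMem_support_iff.1 hC)
    rw [h0, map_zero]; rfl
  · intro C
    have h := congrArg Subtype.val (b.sum_repr ⟨N C, hmem C⟩)
    simp only [Submodule.coe_sum, Submodule.coe_smul, zsmul_eq_mul] at h
    rw [← h]
    refine Finset.sum_congr rfl fun l _ => ?_
    rw [Finsupp.onFinset_apply, mul_comm]
  · intro z hz l
    have h : ∑ l, z l • b l = 0 := by
      apply Subtype.ext
      simp only [Submodule.coe_sum, Submodule.coe_smul, zsmul_eq_mul, Submodule.coe_zero]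
      exact hz
    exact Fintype.linearIndependent_iff.1 b.linearIndependent z h l

theorem lin_identity {V : Type*} [AddCommGroup V] [Module ℝ V] {n : ℕ} (e : Fin n → V) (m : V)
    (t : Fin n → ℝ) (w u : ℝ) (p : ℕ) (hu : (n : ℝ) * (w * p) = u) :
    ∑ i, ((t i - w) / 2) • (e i + (-(p : ℤ)) • m) + ∑ i, ((t i + w) / 2) • (e i + (p : ℤ) • m)
      = ∑ i, t i • e i + u • m := by
  rw [← Finset.sum_add_distrib]
  have h : ∀ i, ((t i - w) / 2) • (e i + (-(p : ℤ)) • m) + ((t i + w) / 2) • (e i + (p : ℤ) • m)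
      = t i • e i + (w * p) • m := by
    intro i
    rw [← Int.cast_smul_eq_zsmul ℝ (-(p : ℤ)) m, ← Int.cast_smul_eq_zsmul ℝ (p : ℤ) m]
    push_cast
    module
  rw [Finset.sum_congr rfl (fun i _ => h i), Finset.sum_add_distrib, Finset.sum_const,
    Finset.card_univ, Fintype.card_fin, ← hu, ← Nat.cast_smul_eq_nsmul ℝ n, smul_smul]

end Alg

section Surf

variable (k : Type u) [Field k] (X : Scheme.{u}) [X.Over (Spec (CommRingCat.of k))]
  [IsProper (X ↘ (Spec (CommRingCat.of k)))] [IsIntegral X] [PicGrp.Law X]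

/-- the real class of an integral divisor is the class of an invertible module -/
theorem exists_clR_eq (E : NumR.CDiv X) : ∃ (P : X.Modules) (hP : PicF.IsInvertible P),
    Additive.ofMul (PicGrp.cls P hP) = NumR.divCl X E ∧
    NumR.divClR k X (NumR.CDiv.toR X E) = NumR.clR k X P hP := by
  obtain ⟨P, hP, hPe⟩ := PicGrp.exists_eq_cls (Additive.toMul (NumR.divCl X E))
  have h1 : Additive.ofMul (PicGrp.cls P hP) = NumR.divCl X E := by
    rw [← hPe]; rfl
  refine ⟨P, hP, h1, ?_⟩
  rw [NumR.divClR_toR, ← h1]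
  rfl

/-- the intersection form is integral on integral divisors -/
theorem int_valued (B : NumR.N1R k X →ₗ[ℝ] NumR.N1R k X →ₗ[ℝ] ℝ) (hB : NumR.IsIntForm₂ k X B)
    (E₁ E₂ : NumR.CDiv X) :
    ∃ z : ℤ, B (NumR.divClR k X (NumR.CDiv.toR X E₁)) (NumR.divClR k X (NumR.CDiv.toR X E₂)) =
      z := by
  obtain ⟨P, hP, -, h1⟩ := exists_clR_eq k X E₁
  obtain ⟨Q, hQ, -, h2⟩ := exists_clR_eq k X E₂
  exact ⟨_, by rw [h1, h2, hB P Q hP hQ]⟩

theorem divClR_single (C : NumR.Curve X) :
    NumR.divClR k X (NumR.CDiv.toR X (Finsupp.single C 1)) = NumR.curveCl k X C.1 C.2.2.2 := by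
  have h1 : NumR.CDiv.toR X (Finsupp.single C (1 : ℤ)) = Finsupp.single C (1 : ℝ) := by
    simp [NumR.CDiv.toR]
  rw [h1, NumR.divClR, Finsupp.linearCombination_single, one_smul]

variable [Smooth (X ↘ (Spec (CommRingCat.of k)))]

/-- translating an ample integral divisor by a numerically trivial one keeps it ample -/
theorem ample_shift (hdim : topologicalKrullDim X = 2)
    (B : NumR.N1R k X →ₗ[ℝ] NumR.N1R k X →ₗ[ℝ] ℝ) (hB : NumR.IsIntForm₂ k X B)
    (E M : NumR.CDiv X)
    (hE : ∃ (L : X.Modules) (hL : PicF.IsInvertible L), CohB1.IsAmple L ∧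
      Additive.ofMul (PicGrp.cls L hL) = NumR.divCl X E)
    (hM : ∀ E' : NumR.CDiv X, B (NumR.divClR k X (NumR.CDiv.toR X M))
      (NumR.divClR k X (NumR.CDiv.toR X E')) = 0) (z : ℤ) :
    ∃ (L : X.Modules) (hL : PicF.IsInvertible L), CohB1.IsAmple L ∧
      Additive.ofMul (PicGrp.cls L hL) = NumR.divCl X (E + z • M) := by
  haveI : AlgebraicGeometry.IsNoetherian X := isNoetherian_of_proper k X
  obtain ⟨L, hL, hamp, hLE⟩ := hE
  obtain ⟨L', hL', hL'E, hcl'⟩ := exists_clR_eq k X (E + z • M)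
  refine ⟨L', hL', ?_, hL'E⟩
  have hcl : NumR.divClR k X (NumR.CDiv.toR X E) = NumR.clR k X L hL := by
    rw [NumR.divClR_toR, ← hLE]; rfl
  refine isAmple_of_numEquiv k X L L' hL' hamp ?_
  intro I hIi hI1
  have hI := isInvertible_idealMod_curve k X hdim I hIi hI1
  have e1 := B_clR_curveCl k X hdim B hB L hL I hI
  have e2 := B_clR_curveCl k X hdim B hB L' hL' I hI
  have e3 : B (NumR.clR k X L' hL') (NumR.curveCl k X I hI) =
      B (NumR.clR k X L hL) (NumR.curveCl k X I hI) := by
    rw [← hcl', ← hcl, ← divClR_single k X ⟨I, hIi, hI1, hI⟩]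
    simp only [map_add, map_zsmul, LinearMap.add_apply, LinearMap.smul_apply, hM, smul_zero,
      add_zero]
  rw [e1, e2] at e3
  have e4 : Curv2.euler k X (CohB1.tensorMod (ClSub.quotMod I) L') -
      Curv2.euler k X (ClSub.quotMod I) =
    Curv2.euler k X (CohB1.tensorMod (ClSub.quotMod I) L) -
      Curv2.euler k X (ClSub.quotMod I) := by exact_mod_cast e3
  linarith

/-- an ample real divisor plus a real multiple of a numerically trivial integral divisor is ample -/
theorem ample_add_numTriv (hdim : topologicalKrullDim X = 2)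
    (B : NumR.N1R k X →ₗ[ℝ] NumR.N1R k X →ₗ[ℝ] ℝ) (hB : NumR.IsIntForm₂ k X B)
    (D : NumR.CDivR X) (hD : NumR.IsAmpleRDiv X D) (M : NumR.CDiv X)
    (hM : ∀ E' : NumR.CDiv X, B (NumR.divClR k X (NumR.CDiv.toR X M))
      (NumR.divClR k X (NumR.CDiv.toR X E')) = 0) (u : ℝ) :
    NumR.IsAmpleRDiv X (D + u • NumR.CDiv.toR X M) := by
  obtain ⟨n, E, t, hn, ht, hE, rfl⟩ := hD
  obtain ⟨i₀, -, hi₀⟩ := Finset.exists_min_image Finset.univ t ⟨⟨0, hn⟩, Finset.mem_univ _⟩
  obtain ⟨p, hp⟩ := exists_nat_gt (|u| / t i₀)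
  have hδ := ht i₀
  have hp0 : (0 : ℝ) < p := lt_of_le_of_lt (div_nonneg (abs_nonneg u) hδ.le) hp
  have hn0 : (0 : ℝ) < n := by exact_mod_cast hn
  have hn1 : (1 : ℝ) ≤ n := by exact_mod_cast hn
  obtain ⟨w, hw⟩ : ∃ w : ℝ, w = u / (n * p) := ⟨_, rfl⟩
  have hwabs : ∀ i, |w| < t i := by
    intro i
    have h1 : |u| < p * t i₀ := by rwa [div_lt_iff₀ hδ] at hp
    have h2 : t i₀ ≤ t i := hi₀ i (Finset.mem_univ _)
    rw [hw, abs_div, abs_of_pos (mul_pos hn0 hp0), div_lt_iff₀ (mul_pos hn0 hp0)]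
    have h3 := mul_le_mul_of_nonneg_left h2 hp0.le
    have h4 := mul_le_mul_of_nonneg_right hn1 (mul_pos hp0 (ht i)).le
    linarith
  have hu : (n : ℝ) * (w * p) = u := by
    rw [hw]; field_simp
  have hto : ∀ (i : Fin n) (z : ℤ), NumR.CDiv.toR X (E i + z • M) =
      NumR.CDiv.toR X (E i) + z • NumR.CDiv.toR X M := fun i z => by rw [map_add, map_zsmul]
  refine ⟨n + n, Fin.append (fun i => E i + (-(p : ℤ)) • M) (fun i => E i + (p : ℤ) • M),
    Fin.append (fun i => (t i - w) / 2) (fun i => (t i + w) / 2), by omega, ?_, ?_, ?_⟩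
  · intro i
    refine Fin.addCases (fun j => ?_) (fun j => ?_) i
    · rw [Fin.append_left]
      have := hwabs j
      have := le_abs_self w
      show 0 < (t j - w) / 2
      linarith
    · rw [Fin.append_right]
      have := hwabs j
      have := neg_abs_le w
      show 0 < (t j + w) / 2
      linarith
  · intro i
    refine Fin.addCases (fun j => ?_) (fun j => ?_) i
    · rw [Fin.append_left]
      exact ample_shift k X hdim B hB (E j) M (hE j) hM _
    · rw [Fin.append_right]
      exact ample_shift k X hdim B hB (E j) M (hE j) hM _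
  · rw [Fin.sum_univ_add]
    simp only [Fin.append_left, Fin.append_right, hto]
    exact (lin_identity (fun i => NumR.CDiv.toR X (E i)) (NumR.CDiv.toR X M) t w u p hu).symm

/-- **an ample real divisor stays ample after adding a numerically trivial real divisor** -/
theorem main (hdim : topologicalKrullDim X = 2)
    (B : NumR.N1R k X →ₗ[ℝ] NumR.N1R k X →ₗ[ℝ] ℝ) (hB : NumR.IsIntForm₂ k X B)
    (D D' : NumR.CDivR X) (hD : NumR.IsAmpleRDiv X D)
    (h : NumR.IsNumTrivialRDiv k X B (D' - D)) : NumR.IsAmpleRDiv X D' := by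
  obtain ⟨q, u, a, hdec, hind⟩ := int_structure (D' - D)
  have hN : D' - D = ∑ l, u l • NumR.CDiv.toR X (a l) := by
    ext C
    rw [hdec C, Finsupp.finsetSum_apply]
    refine Finset.sum_congr rfl fun l _ => ?_
    rw [Finsupp.smul_apply, smul_eq_mul]
    congr 1
  have htriv : ∀ l, ∀ E' : NumR.CDiv X, B (NumR.divClR k X (NumR.CDiv.toR X (a l)))
      (NumR.divClR k X (NumR.CDiv.toR X E')) = 0 := by
    intro l E'
    have hz : ∀ l, ∃ z : ℤ, B (NumR.divClR k X (NumR.CDiv.toR X (a l)))
        (NumR.divClR k X (NumR.CDiv.toR X E')) = z := fun l => int_valued k X B hB (a l) E'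
    choose z hz using hz
    have h0 := h E'
    rw [hN, map_sum, map_sum, LinearMap.sum_apply] at h0
    have h1 : ∑ l, (z l : ℝ) * u l = 0 := by
      rw [← h0]
      refine Finset.sum_congr rfl fun l _ => ?_
      rw [map_smul, map_smul, LinearMap.smul_apply, smul_eq_mul, hz l, mul_comm]
    rw [hz l, hind z h1 l]
    simp
  have key : ∀ s : Finset (Fin q),
      NumR.IsAmpleRDiv X (D + ∑ l ∈ s, u l • NumR.CDiv.toR X (a l)) := by
    classical
    intro s
    induction s using Finset.induction_on with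
    | empty => rw [Finset.sum_empty, add_zero]; exact hD
    | insert l s hl ih =>
      rw [Finset.sum_insert hl, add_comm (u l • _) _, ← add_assoc]
      exact ample_add_numTriv k X hdim B hB _ ih (a l) (htriv l) (u l)
  have hfin := key Finset.univ
  rw [← hN] at hfin
  have e : D + (D' - D) = D' := by abel
  rwa [e] at hfin

end Surf

end Groth.Agent.Helper1.RDivAmple
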