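import Mathlib
import Groth.Prelude.Def_Found
import Groth.Prelude.Def_CAlgX
import Groth.Agent.Lib.Helper1.ML5
import Groth.Agent.Lib.Helper1.ML8
import Groth.Agent.Lib.Helper1.Kap2
import Groth.Agent.Lib.Helper1.LocalCrit
set_option autoImplicit false
open TensorProduct
universe u
namespace Groth.Agent.Helper1.RG
open Groth.Agent.Helper1 Groth.Agent.Helper1.Kap

variable {R S : Type u} [CommRing R] [CommRing S] [Algebra R S]

section Desc
variable [Module.FaithfullyFlat R S]

theorem flat_of_bc (S : Type u) [CommRing S] [Algebra R S] [Module.FaithfullyFlat R S]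
    (X : Type u) [AddCommGroup X] [Module R X] [Module.Flat S (S ⊗[R] X)] :
    Module.Flat R X := by
  have : Module.Flat R (S ⊗[R] X) := Module.Flat.trans R S (S ⊗[R] X)
  exact LocalCrit.flat_of_flat_tensorProduct_of_faithfullyFlat (R := R) (S := R) S X

theorem projective_of_bc_projective_cg (X : Type u) [AddCommGroup X] [Module R X]
    (hcg : CAlg.IsCountablyGenerated R X) [Module.Projective S (S ⊗[R] X)] :
    Module.Projective R X := by
  have : Module.Flat R X := flat_of_bc S X
  exact ML7.projective_of_flat_ml_cg (ML5.S0586 R S X ML8.ml_of_projective) hcg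

end Desc

section BC
variable {M : Type u} [AddCommGroup M] [Module R M]

/-- the `S`-span of `1 ⊗ A` -/
def bc (A : Submodule R M) : Submodule S (S ⊗[R] M) :=
  Submodule.span S ((TensorProduct.mk R S M 1) '' (A : Set M))

lemma bc_eq_baseChange (A : Submodule R M) : bc (S := S) A = Submodule.baseChange S A := by
  rw [Submodule.baseChange_eq_span, Submodule.map_coe, bc]

lemma bc_span (s : Set M) :
    bc (S := S) (Submodule.span R s) = Submodule.span S ((TensorProduct.mk R S M 1) '' s) :=
  Kap2.span_mk_span s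

lemma bc_mono {A B : Submodule R M} (h : A ≤ B) : bc (S := S) A ≤ bc B :=
  Submodule.span_mono (Set.image_mono h)

lemma bc_iSup {κ : Sort*} (A : κ → Submodule R M) : bc (S := S) (⨆ c, A c) = ⨆ c, bc (A c) := by
  rw [Submodule.iSup_eq_span, bc_span, Set.image_iUnion, Submodule.span_iUnion]
  rfl

lemma bc_sup (A B : Submodule R M) : bc (S := S) (A ⊔ B) = bc A ⊔ bc B := by
  rw [sup_eq_iSup, bc_iSup, sup_eq_iSup]
  refine iSup_congr fun b => ?_
  cases b <;> rfl

lemma bc_map {M' : Type u} [AddCommGroup M'] [Module R M'] (f : M →ₗ[R] M') (A : Submodule R M) :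
    bc (S := S) (A.map f) = (bc A).map (f.baseChange S) := by
  rw [bc, bc, Submodule.map_span, Submodule.map_coe, Set.image_image, Set.image_image]
  simp

lemma ker_mkQ_baseChange (A : Submodule R M) :
    LinearMap.ker (A.mkQ.baseChange S) = bc (S := S) A := by
  rw [bc_eq_baseChange, Submodule.baseChange]
  ext x
  have hex := lTensor_exact S (LinearMap.exact_subtype_mkQ A) A.mkQ_surjective
  rw [LinearMap.mem_ker, LinearMap.mem_range]
  exact hex x

end BC

section Gen
variable {A : Type u} [CommRing A]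

/-- two injective maps with the same range have isomorphic sources -/
noncomputable def equivOfRangeEq {U V W : Type u} [AddCommGroup U] [Module A U] [AddCommGroup V]
    [Module A V] [AddCommGroup W] [Module A W] (f : U →ₗ[A] W) (g : V →ₗ[A] W)
    (hf : Function.Injective f) (hg : Function.Injective g)
    (h : LinearMap.range f = LinearMap.range g) : U ≃ₗ[A] V :=
  (LinearEquiv.ofInjective f hf).trans ((LinearEquiv.ofEq _ _ h).trans
    (LinearEquiv.ofInjective g hg).symm)

variable {T : Type u} [AddCommGroup T] [Module A T] {ι : Type u} (Q : ι → Submodule A T)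

lemma isCompl_MJ (hind : iSupIndep Q) (htop : ⨆ i, Q i = ⊤) (J : Set ι) :
    IsCompl (MJ Q J) (MJ Q Jᶜ) := by
  refine ⟨hind.disjoint_biSup_biSup disjoint_compl_right, ?_⟩
  rw [codisjoint_iff, ← MJ_union, Set.union_compl_self, MJ, ← htop]
  simp

lemma projective_MJ [Module.Projective A T] (hind : iSupIndep Q) (htop : ⨆ i, Q i = ⊤) (J : Set ι) :
    Module.Projective A (MJ Q J) :=
  Module.Projective.of_split (MJ Q J).subtype
    ((MJ Q J).projectionOnto (MJ Q Jᶜ) (isCompl_MJ Q hind htop J))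
    (Submodule.projectionOnto_comp_subtype _)

end Gen

section Step
variable [Module.FaithfullyFlat R S] {M : Type u} [AddCommGroup M] [Module R M]
  {ι : Type u} (Q : ι → Submodule S (S ⊗[R] M)) (hind : iSupIndep Q) (htop : ⨆ i, Q i = ⊤)
  [Module.Projective S (S ⊗[R] M)]

include hind htop in
theorem projective_bc_quot (A A'' : Submodule R M) (J J'' : Set ι) (hJ : bc (S := S) A = MJ Q J)
    (hJ'' : bc (S := S) A'' = MJ Q J'') (hJJ : J ⊆ J'') :
    Module.Projective S (S ⊗[R] (A''.map A.mkQ : Submodule R (M ⧸ A))) := by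
  let X : Submodule R (M ⧸ A) := A''.map A.mkQ
  let π : (S ⊗[R] M) →ₗ[S] S ⊗[R] (M ⧸ A) := A.mkQ.baseChange S
  let C' : Set ι := J'' \ J
  have hker : LinearMap.ker π = MJ Q J := by rw [← hJ]; exact ker_mkQ_baseChange A
  let f : (MJ Q C') →ₗ[S] S ⊗[R] (M ⧸ A) := π ∘ₗ (MJ Q C').subtype
  have hf : Function.Injective f := by
    rw [injective_iff_map_eq_zero]
    intro x hx
    have h1 : (x : S ⊗[R] M) ∈ MJ Q J := by rw [← hker]; exact hx
    have hdis : Disjoint (MJ Q J) (MJ Q C') :=
      hind.disjoint_biSup_biSup Set.disjoint_sdiff_right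
    exact Subtype.ext (Submodule.disjoint_def.mp hdis _ h1 x.2)
  let g : (S ⊗[R] X) →ₗ[S] S ⊗[R] (M ⧸ A) := X.subtype.baseChange S
  have hg : Function.Injective g :=
    Module.Flat.lTensor_preserves_injective_linearMap X.subtype X.subtype_injective
  have hrange : LinearMap.range f = LinearMap.range g := by
    have h1 : LinearMap.range g = bc (S := S) X := by
      rw [bc_eq_baseChange]; rfl
    have h2 : LinearMap.range f = (MJ Q C').map π := by
      rw [LinearMap.range_comp, Submodule.range_subtype]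
    have h3 : J'' = J ∪ C' := (Set.union_sdiff_cancel hJJ).symm
    rw [h1, h2, bc_map, hJ'', h3, MJ_union, Submodule.map_sup]
    have h4 : (MJ Q J).map π = ⊥ := by
      rw [Submodule.eq_bot_iff]
      rintro _ ⟨x, hx, rfl⟩
      rw [← hker] at hx
      exact hx
    rw [h4, bot_sup_eq]
  have : Module.Projective S (MJ Q C') := projective_MJ Q hind htop C'
  exact Module.Projective.of_equiv (equivOfRangeEq (A := S) (U := MJ Q C') (V := S ⊗[R] X)
    (W := S ⊗[R] (M ⧸ A)) f g hf hg hrange)

include hind htop in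
theorem exists_compl_RG (A N' : Submodule R M) (hN' : CG N') (J J'' : Set ι)
    (hJ : bc (S := S) A = MJ Q J) (hJ'' : bc (S := S) (A ⊔ N') = MJ Q J'') (hJJ : J ⊆ J'') :
    ∃ C : Submodule R M, CG C ∧ Disjoint A C ∧ A ⊔ C = A ⊔ N' := by
  let A'' := A ⊔ N'
  let X : Submodule R (M ⧸ A) := A''.map A.mkQ
  have hXeq : X = N'.map A.mkQ := by
    simp only [X, A'']
    rw [Submodule.map_sup]
    have : A.map A.mkQ = ⊥ := by
      rw [Submodule.eq_bot_iff]
      rintro _ ⟨x, hx, rfl⟩
      exact (Submodule.Quotient.mk_eq_zero A).mpr hx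
    rw [this, bot_sup_eq]
  have hXcg : CAlg.IsCountablyGenerated R X := by
    apply module_of_cg
    rw [hXeq]
    exact hN'.map A.mkQ
  have hproj : Module.Projective S (S ⊗[R] X) :=
    projective_bc_quot Q hind htop A A'' J J'' hJ hJ'' hJJ
  have hXproj : Module.Projective R X := projective_of_bc_projective_cg (S := S) X hXcg
  let φ : A'' →ₗ[R] X := A.mkQ.restrict (fun x hx => Submodule.mem_map_of_mem hx)
  have hφ : Function.Surjective φ := by
    rintro ⟨_, ⟨x, hx, rfl⟩⟩
    exact ⟨⟨x, hx⟩, rfl⟩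
  obtain ⟨σ, hσ⟩ := Module.projective_lifting_property φ LinearMap.id hφ
  have hσ' : ∀ y : X, A.mkQ ((σ y : A'') : M) = (y : M ⧸ A) := by
    intro y
    have := LinearMap.congr_fun hσ y
    simp only [LinearMap.comp_apply, LinearMap.id_apply] at this
    exact congrArg Subtype.val this
  obtain ⟨s, hs, hstop⟩ := hXcg
  refine ⟨LinearMap.range (A''.subtype ∘ₗ σ), ?_, ?_, ?_⟩
  · rw [LinearMap.range_eq_map]
    exact CG.map _ ⟨s, hs, hstop⟩
  · rw [Submodule.disjoint_def]
    rintro x hxA ⟨y, rfl⟩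
    have h1 : (y : M ⧸ A) = 0 := by
      rw [← hσ' y]
      exact (Submodule.Quotient.mk_eq_zero A).mpr hxA
    have h2 : y = 0 := Subtype.ext h1
    rw [h2, map_zero]
  · apply le_antisymm
    · refine sup_le le_sup_left ?_
      rintro _ ⟨y, rfl⟩
      exact (σ y).2
    · intro a ha
      let a' : A'' := ⟨a, ha⟩
      have h1 : a - ((σ (φ a') : A'') : M) ∈ A := by
        rw [← Submodule.Quotient.mk_eq_zero A, Submodule.Quotient.mk_sub]
        have := hσ' (φ a')
        rw [Submodule.mkQ_apply] at this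
        rw [this]
        simp [φ, a']
      have h2 : a = (a - ((σ (φ a') : A'') : M)) + ((σ (φ a') : A'') : M) := by abel
      rw [h2]
      exact Submodule.add_mem_sup h1 ⟨φ a', rfl⟩

/-- the set of partial decompositions adapted to `Q` -/
def good (Q : ι → Submodule S (S ⊗[R] M)) : Set (Submodule R M × Set (Submodule R M)) :=
  {x | (∃ J, bc (S := S) x.1 = MJ Q J) ∧ (∀ l ∈ x.2, CG l) ∧ sSupIndep x.2 ∧ sSup x.2 = x.1}

omit [Module.FaithfullyFlat R S] [Module.Projective S (S ⊗[R] M)] in
lemma good_chain (c : Set (Submodule R M × Set (Submodule R M))) (hc : c ⊆ good Q)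
    (hchain : IsChain (· ≤ ·) c) : ∃ ub ∈ good Q, ∀ z ∈ c, z ≤ ub := by
  have hJ : ∀ x : c, ∃ J, bc (S := S) x.1.1 = MJ Q J := fun x => (hc x.2).1
  choose Jc hJc using hJ
  refine ⟨(sSup (Prod.fst '' c), ⋃₀ (Prod.snd '' c)), ⟨?_, ?_, ?_, ?_⟩, ?_⟩
  · refine ⟨⋃ x : c, Jc x, ?_⟩
    change bc (sSup (Prod.fst '' c)) = MJ Q (⋃ x : c, Jc x)
    rw [sSup_image', bc_iSup, MJ, iSup_iUnion]
    exact iSup_congr fun x => hJc x
  · rintro l ⟨_, ⟨x, hx, rfl⟩, hl⟩
    exact (hc hx).2.1 l hl
  · apply iSupIndep_sUnion_of_directed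
    · exact (hchain.image_of_map_rel (· ≤ ·) (· ⊆ ·) Prod.snd
        (fun (x y : Submodule R M × Set (Submodule R M)) (hxy : x ≤ y) => hxy.2)).directedOn
    · rintro _ ⟨x, hx, rfl⟩
      exact (hc hx).2.2.1
  · change sSup (⋃₀ (Prod.snd '' c)) = sSup (Prod.fst '' c)
    rw [sSup_sUnion, sSup_image, iSup_image]
    refine iSup_congr fun x => iSup_congr fun hx => ?_
    exact (hc hx).2.2.2
  · intro z hz
    exact ⟨le_sSup ⟨z, hz, rfl⟩, Set.subset_sUnion_of_mem ⟨z, hz, rfl⟩⟩

include hind htop in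
theorem exists_decomp_RG (hcg : ∀ i, CG (Q i)) :
    ∃ L : Set (Submodule R M), (∀ l ∈ L, CG l) ∧ sSupIndep L ∧ sSup L = ⊤ := by
  obtain ⟨⟨A, L⟩, hm⟩ := zorn_le₀ (good Q) (fun c hc hchain => good_chain Q c hc hchain)
  obtain ⟨⟨J, hJ⟩, hLcg, hLind, hLsup⟩ := hm.prop
  change bc A = MJ Q J at hJ
  change sSup L = A at hLsup
  have hAtop : A = ⊤ := by
    by_contra hne
    obtain ⟨x, hx⟩ : ∃ x, x ∉ A := by
      by_contra h
      push Not at h
      exact hne (eq_top_iff.mpr fun x _ => h x)
    obtain ⟨N', I', hxN', -, hN'cg, hN'bc⟩ := Kap2.S6383' Q htop hcg (Submodule.span R {x})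
      ⟨{x}, Set.countable_singleton x, rfl⟩
    have hbc'' : bc (S := S) (A ⊔ N') = MJ Q (J ∪ I') := by
      rw [bc_sup, hJ, MJ_union]
      congr 1
    obtain ⟨C, hCcg, hCdis, hCsup⟩ := exists_compl_RG Q hind htop A N' hN'cg J (J ∪ I') hJ hbc''
      Set.subset_union_left
    have hgood : (A ⊔ N', insert C L) ∈ good Q := by
      refine ⟨⟨J ∪ I', hbc''⟩, ?_, ?_, ?_⟩
      · rintro l (rfl | hl)
        · exact hCcg
        · exact hLcg l hl
      · exact sSupIndep_insert hLind (by rw [hLsup]; exact hCdis)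
      · change sSup (insert C L) = A ⊔ N'
        rw [sSup_insert, sup_comm, hLsup]
        exact hCsup
    have hle : ((A, L) : Submodule R M × Set (Submodule R M)) ≤ (A ⊔ N', insert C L) :=
      ⟨le_sup_left, Set.subset_insert _ _⟩
    have h1 := hm.le_of_ge hgood hle
    have h2 : A ⊔ N' ≤ A := h1.1
    exact hx (h2 (Submodule.mem_sup_right (hxN' (Submodule.subset_span rfl))))
  exact ⟨L, hLcg, hLind, hLsup.trans hAtop⟩

end Step

open scoped Classical in
theorem S0585 (R : Type u) [CommRing R] (S : Type u) [CommRing S]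
    [Algebra R S] [Module.FaithfullyFlat R S] (M : Type u) [AddCommGroup M] [Module R M]
    [Module.Projective S (TensorProduct R S M)] : Module.Projective R M := by
  obtain ⟨ι, Q, hQ, hQcg⟩ := ML8.exists_internal_cg_of_projective (R := S) (M := S ⊗[R] M)
  obtain ⟨L, hLcg, hLind, hLsup⟩ := exists_decomp_RG Q hQ.submodule_iSupIndep
    hQ.submodule_iSup_eq_top (fun i => cg_of_module (hQcg i))
  have hflat : Module.Flat R M := flat_of_bc S M
  have hML : CAlg.IsMittagLeffler R M := ML5.S0586 R S M ML8.ml_of_projective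
  obtain ⟨κ, Lf, hLf, hLfcg⟩ := ML8.internal_of_set' (LinearMap.id : M →ₗ[R] M)
    Function.injective_id L hLcg hLind (by rw [hLsup, LinearMap.range_id])
  exact ML8.projective_of_internal hML Lf hLf hLfcg

end Groth.Agent.Helper1.RG

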