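import Mathlib
import Groth.Agent.Lib.Helper1.RPQ1
import Groth.Agent.Lib.Helper1.RP14
import Groth.Agent.Lib.Helper1.TwBC
import Groth.Agent.Lib.Helper1.BCTrans
import Groth.Agent.Lib.Helper1.GrBCAlg

/-!
# Base change of the twisting sheaves of a relative Proj, general case (helper1 library)
-/

set_option autoImplicit false
universe u

open CategoryTheory CategoryTheory.Limits AlgebraicGeometry TopologicalSpace Opposite
open scoped HomogeneousIdeal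

namespace Groth.Agent.Helper1.RPQ2

open Groth.Agent.Helper1.ProjBC Groth.Agent.Helper1.QcCech

theorem mem_comp_image {X₁ X₂ X₃ : Scheme.{u}} (a : X₁ ⟶ X₂) (e : X₂ ⟶ X₃) [IsOpenImmersion a]
    [IsOpenImmersion e] (y : X₂) (hy : y ∈ a ''ᵁ (⊤ : X₁.Opens)) :
    e.base y ∈ (a ≫ e) ''ᵁ (⊤ : X₁.Opens) := by
  obtain ⟨z, hz, rfl⟩ := hy
  exact ⟨z, hz, rfl⟩

section sval
variable {A σ : Type u} [CommRing A] [SetLike σ A] [AddSubgroupClass σ A] (𝒜 : ℕ → σ) [GradedRing 𝒜]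
variable {M τ : Type u} [AddCommGroup M] [Module A M] [SetLike τ M] [AddSubgroupClass τ M]
  (ℳ : ℕ → τ) [SetLike.GradedSMul 𝒜 ℳ] (n : ℤ)
variable {f : A} {d : ℕ} (hf : f ∈ 𝒜 d) (hd : 0 < d)

/-- value of a chart section at a point -/
noncomputable abbrev sval (s : FracSec.Sec 𝒜 ℳ n hf hd) (y : FracSec.W 𝒜 hf hd) :
    GrMod.LocMod 𝒜 (M := M) y.1 :=
  ((((show GrMod.sect 𝒜 ℳ n (op (FracSec.W 𝒜 hf hd)) from s)).1 y : GrMod.tildeAt 𝒜 ℳ n y.1) :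
    GrMod.LocMod 𝒜 (M := M) y.1)

theorem sval_ext {s t : FracSec.Sec 𝒜 ℳ n hf hd}
    (h : ∀ y, sval 𝒜 ℳ n hf hd s y = sval 𝒜 ℳ n hf hd t y) : s = t :=
  FracSec.sec_ext 𝒜 ℳ n hf hd h

end sval

section ring
variable {B σ' : Type u} [CommRing B] [SetLike σ' B] [AddSubgroupClass σ' B] {ℬ : ℕ → σ'} [GradedRing ℬ]
variable {A σ : Type u} [CommRing A] [SetLike σ A] [AddSubgroupClass σ A] {𝒜 : ℕ → σ} [GradedRing 𝒜]
variable (φ : ℬ →+*ᵍ 𝒜) (hφ : 𝒜₊ ≤ (ℬ₊).map φ)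

theorem locMap_eq_locModMap (y : ProjectiveSpectrum 𝒜)
    (q : GrTwist.Loc ℬ (ProjectiveSpectrum.comap φ hφ y)) :
    GrTwist.locMap φ hφ y q = GrMod.locModMap φ hφ (GrBCAlg.vφ φ) y q := by
  induction q using Localization.induction_on with
  | H p =>
    obtain ⟨a, s⟩ := p
    exact (GrTwist.locMap_mk φ hφ y a s).trans
      (GrMod.locModMap_mk φ hφ (GrBCAlg.vφ φ) y a s).symm

theorem projMap_congr {φ₁ φ₂ : ℬ →+*ᵍ 𝒜} (h : φ₁ = φ₂) (h₁ : 𝒜₊ ≤ (ℬ₊).map φ₁)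
    (h₂ : 𝒜₊ ≤ (ℬ₊).map φ₂) : Proj.map φ₁ h₁ = Proj.map φ₂ h₂ := by
  subst h; rfl

variable {M τ : Type u} [AddCommGroup M] [Module B M] [SetLike τ M] [AddSubgroupClass τ M]
  (ℳ : ℕ → τ) [SetLike.GradedSMul ℬ ℳ]
variable {N τ' : Type u} [AddCommGroup N] [Module A N] [SetLike τ' N] [AddSubgroupClass τ' N]
  (𝒩 : ℕ → τ') [SetLike.GradedSMul 𝒜 𝒩]
variable (v : M →ₛₗ[φ.toRingHom] N) (hv : ∀ (i : ℕ) (m : M), m ∈ ℳ i → v m ∈ 𝒩 i)
variable (n : ℤ) {f : B} {d : ℕ} (hf : f ∈ ℬ d) (hd : 0 < d)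

include hφ in
theorem comap_mem_W (y : FracSec.W 𝒜 (φ.map_mem hf) hd) :
    ProjectiveSpectrum.comap φ hφ y.1 ∈ FracSec.W ℬ hf hd := by
  rw [FracSec.W_eq]
  exact FracSec.not_mem 𝒜 (φ.map_mem hf) hd y

theorem vbar_val (s : FracSec.Sec ℬ ℳ n hf hd) (y : FracSec.W 𝒜 (φ.map_mem hf) hd) :
    sval 𝒜 𝒩 n (φ.map_mem hf) hd (TwBC.vbar φ hφ ℳ 𝒩 v hv n hf hd s) y =
      GrMod.locModMap φ hφ v y.1
        (sval ℬ ℳ n hf hd s ⟨ProjectiveSpectrum.comap φ hφ y.1, comap_mem_W φ hφ hf hd y⟩) := rfl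

end ring

section one
variable {Y P : Scheme.{u}} {𝒮 : RelProj.QCGrAlg Y} {p : P ⟶ Y}
  {chart : ∀ (U : Y.Opens) (hU : IsAffineOpen U), ((p ⁻¹ᵁ U : P.Opens) : Scheme.{u}) ≅ Proj (𝒮.deg U hU)}
  {n : ℤ} {L : P.Modules}
  {lam : ∀ (U : Y.Opens) (hU : IsAffineOpen U),
    L ⟶ (Scheme.Modules.pushforward (RelProj.emb p chart U hU)).obj (GrTwist.twist (𝒮.deg U hU) n)}
  (hL : RelProj.IsRelTwist 𝒮 p chart n L lam) (U : Y.Opens) (hU : IsAffineOpen U)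
  {d : ℕ} (hd : 0 < d) (f : 𝒮.presheaf.obj (op U)) (hf : f ∈ 𝒮.deg U hU d)

/-- the chart iso, with target the restriction of `GrTwist.twist` -/
noncomputable def eL₀ :
    L.restrict (Proj.awayι (𝒮.deg U hU) f hf hd ≫ RelProj.emb p chart U hU) ≅
      (GrTwist.twist (𝒮.deg U hU) n).restrict (Proj.awayι (𝒮.deg U hU) f hf hd) :=
  (Scheme.Modules.restrictFunctorComp (Proj.awayι (𝒮.deg U hU) f hf hd)
      (RelProj.emb p chart U hU)).app L ≪≫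
    (Scheme.Modules.restrictFunctor (Proj.awayι (𝒮.deg U hU) f hf hd)).mapIso
      (@asIso _ _ _ _ (RP3.adj lam U hU) (RP3.isIso_adj hL U hU))

/-- the chart iso -/
noncomputable def eL :
    L.restrict (Proj.awayι (𝒮.deg U hU) f hf hd ≫ RelProj.emb p chart U hU) ≅
      (GrMod.tilde (𝒮.deg U hU) (𝒮.deg U hU) n).restrict (Proj.awayι (𝒮.deg U hU) f hf hd) :=
  eL₀ hL U hU hd f hf

set_option maxHeartbeats 1600000 in
theorem eL_val (x : Γ(L, (Proj.awayι (𝒮.deg U hU) f hf hd ≫ RelProj.emb p chart U hU) ''ᵁ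
      (⊤ : (Spec (CommRingCat.of (HomogeneousLocalization.Away (𝒮.deg U hU) f))).Opens)))
    (y : FracSec.W (𝒮.deg U hU) hf hd)
    (hy : (RelProj.emb p chart U hU).base y.1 ∈
      (Proj.awayι (𝒮.deg U hU) f hf hd ≫ RelProj.emb p chart U hU) ''ᵁ
        (⊤ : (Spec (CommRingCat.of (HomogeneousLocalization.Away (𝒮.deg U hU) f))).Opens)) :
    sval (𝒮.deg U hU) (𝒮.deg U hU) n hf hd ((eL hL U hU hd f hf).hom.app ⊤ x) y =
      RP6.rd lam U hU x y.1 hy := by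
  have hle : RelProj.emb p chart U hU ''ᵁ (Proj.awayι (𝒮.deg U hU) f hf hd ''ᵁ ⊤) ≤
      (Proj.awayι (𝒮.deg U hU) f hf hd ≫ RelProj.emb p chart U hU) ''ᵁ ⊤ := by
    rintro _ ⟨_, ⟨z, hz, rfl⟩, rfl⟩
    exact ⟨z, hz, rfl⟩
  have hy1 : (RelProj.emb p chart U hU).base y.1 ∈
      RelProj.emb p chart U hU ''ᵁ (Proj.awayι (𝒮.deg U hU) f hf hd ''ᵁ ⊤) := ⟨y.1, y.2, rfl⟩
  have h1 : sval (𝒮.deg U hU) (𝒮.deg U hU) n hf hd ((eL hL U hU hd f hf).hom.app ⊤ x) y =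
      RP6.rd lam U hU (QcCech.res L hle x) y.1 hy1 := rfl
  exact h1.trans (RP6.rd_res (lam := lam) U hU hle x y.1 hy1)

include hL in
theorem isIso_fromTildeΓ_chart :
    IsIso (Scheme.Modules.fromTildeΓ
      (R := CommRingCat.of (HomogeneousLocalization.Away (𝒮.deg U hU) f)) (L.restrict
      (Proj.awayι (𝒮.deg U hU) f hf hd ≫ RelProj.emb p chart U hU))) :=
  RP14.isIso_fromTildeΓ_of_iso (eL hL U hU hd f hf).symm
    (GrModQC.isIso_fromTildeΓ_restrict (𝒮.deg U hU) (𝒮.deg U hU) n f hf hd)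

end one

section two
variable {Y Y' P P' : Scheme.{u}} {𝒮 : RelProj.QCGrAlg Y} {𝒮' : RelProj.QCGrAlg Y'}
  {p : P ⟶ Y}
  {chart : ∀ (U : Y.Opens) (hU : IsAffineOpen U), ((p ⁻¹ᵁ U : P.Opens) : Scheme.{u}) ≅ Proj (𝒮.deg U hU)}
  {p' : P' ⟶ Y'}
  {chart' : ∀ (U : Y'.Opens) (hU : IsAffineOpen U),
    ((p' ⁻¹ᵁ U : P'.Opens) : Scheme.{u}) ≅ Proj (𝒮'.deg U hU)}
  {g : P' ⟶ P} {n : ℤ} {L : P.Modules}
  {lam : ∀ (U : Y.Opens) (hU : IsAffineOpen U),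
    L ⟶ (Scheme.Modules.pushforward (RelProj.emb p chart U hU)).obj (GrTwist.twist (𝒮.deg U hU) n)}
  {L' : P'.Modules}
  {lam' : ∀ (U : Y'.Opens) (hU : IsAffineOpen U),
    L' ⟶ (Scheme.Modules.pushforward (RelProj.emb p' chart' U hU)).obj
      (GrTwist.twist (𝒮'.deg U hU) n)}

set_option maxHeartbeats 3200000 in
theorem isIso_restrict_chart (hL : RelProj.IsRelTwist 𝒮 p chart n L lam)
    (hL' : RelProj.IsRelTwist 𝒮' p' chart' n L' lam')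
    (U : Y.Opens) (hU : IsAffineOpen U) (U' : Y'.Opens) (hU' : IsAffineOpen U')
    (φ : 𝒮.deg U hU →+*ᵍ 𝒮'.deg U' hU') (hφ : (𝒮'.deg U' hU')₊ ≤ ((𝒮.deg U hU)₊).map φ)
    (hgc : RelProj.emb p' chart' U' hU' ≫ g = Proj.map φ hφ ≫ RelProj.emb p chart U hU)
    (θm : L ⟶ (Scheme.Modules.pushforward g).obj L')
    (hθ : ∀ (W : P.Opens) (s : Γ(L, W)) (y : ProjectiveSpectrum (𝒮'.deg U' hU'))
      (hy : (RelProj.emb p' chart' U' hU').base y ∈ g ⁻¹ᵁ W)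
      (hy' : (RelProj.emb p chart U hU).base (ProjectiveSpectrum.comap φ hφ y) ∈ W),
      RP6.rd lam' U' hU' (show Γ(L', g ⁻¹ᵁ W) from θm.app W s) y hy =
        GrTwist.locMap φ hφ y (RP6.rd lam U hU s _ hy'))
    {d : ℕ} (hd : 0 < d) (f : 𝒮.presheaf.obj (op U)) (hf : f ∈ 𝒮.deg U hU d)
    (hBC₀ : AdjBC.IsBC (Proj.map φ hφ) (CommRingCat.ofHom (HomogeneousLocalization.Away.map φ f))
      (Proj.awayι (𝒮.deg U hU) f hf hd) (Proj.awayι (𝒮'.deg U' hU') (φ f) (φ.map_mem hf) hd)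
      (Proj.awayι_comp_map φ hφ hd f hf)
      (GrMod.tilde (𝒮.deg U hU) (𝒮.deg U hU) n) (GrMod.tilde (𝒮'.deg U' hU') (𝒮'.deg U' hU') n)
      (GrMod.comap φ hφ (GrBCAlg.vφ φ) (GrBCAlg.vφ_mem φ) n)) :
    IsIso ((Scheme.Modules.restrictFunctor
      (Proj.awayι (𝒮'.deg U' hU') (φ f) (φ.map_mem hf) hd ≫ RelProj.emb p' chart' U' hU')).map
      (((Scheme.Modules.pullbackPushforwardAdjunction g).homEquiv L L').symm θm)) := by
  have comm : (Proj.awayι (𝒮'.deg U' hU') (φ f) (φ.map_mem hf) hd ≫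
        RelProj.emb p' chart' U' hU') ≫ g =
      Spec.map (CommRingCat.ofHom (HomogeneousLocalization.Away.map φ f)) ≫
        (Proj.awayι (𝒮.deg U hU) f hf hd ≫ RelProj.emb p chart U hU) := by
    rw [Category.assoc, hgc, Proj.awayι_comp_map_assoc φ hφ hd f hf]
  haveI h1 := isIso_fromTildeΓ_chart hL U hU hd f hf
  haveI h2 := isIso_fromTildeΓ_chart hL' U' hU' hd (φ f) (φ.map_mem hf)
  refine AdjBC.isIso_restrict_adjunct g
    (CommRingCat.ofHom (HomogeneousLocalization.Away.map φ f))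
    (Proj.awayι (𝒮.deg U hU) f hf hd ≫ RelProj.emb p chart U hU)
    (Proj.awayι (𝒮'.deg U' hU') (φ f) (φ.map_mem hf) hd ≫ RelProj.emb p' chart' U' hU')
    comm L L' θm ?_
  refine BCTrans.isBC_of_iso (eL hL U hU hd f hf) (eL hL' U' hU' hd (φ f) (φ.map_mem hf)) ?_ hBC₀
  intro x
  refine sval_ext (𝒮'.deg U' hU') (𝒮'.deg U' hU') n (φ.map_mem hf) hd ?_
  intro y
  have hyU := comap_mem_W φ hφ hf hd y
  have hyj := mem_comp_image (Proj.awayι (𝒮'.deg U' hU') (φ f) (φ.map_mem hf) hd)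
    (RelProj.emb p' chart' U' hU') y.1 y.2
  have hyi := mem_comp_image (Proj.awayι (𝒮.deg U hU) f hf hd) (RelProj.emb p chart U hU) _ hyU
  have hle' := AdjBC.image_le_preimage g
    (CommRingCat.ofHom (HomogeneousLocalization.Away.map φ f))
    (Proj.awayι (𝒮.deg U hU) f hf hd ≫ RelProj.emb p chart U hU)
    (Proj.awayι (𝒮'.deg U' hU') (φ f) (φ.map_mem hf) hd ≫ RelProj.emb p' chart' U' hU') comm
  have hA := eL_val hL' U' hU' hd (φ f) (φ.map_mem hf)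
    (AdjBC.vmap g (CommRingCat.ofHom (HomogeneousLocalization.Away.map φ f))
      (Proj.awayι (𝒮.deg U hU) f hf hd ≫ RelProj.emb p chart U hU)
      (Proj.awayι (𝒮'.deg U' hU') (φ f) (φ.map_mem hf) hd ≫ RelProj.emb p' chart' U' hU')
      comm L L' θm x) y hyj
  have hB := RP6.rd_res (lam := lam') U' hU' hle'
    (show Γ(L', g ⁻¹ᵁ ((Proj.awayι (𝒮.deg U hU) f hf hd ≫ RelProj.emb p chart U hU) ''ᵁ ⊤)) from
      θm.app ((Proj.awayι (𝒮.deg U hU) f hf hd ≫ RelProj.emb p chart U hU) ''ᵁ ⊤) x) y.1 hyj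
  have hC := hθ ((Proj.awayι (𝒮.deg U hU) f hf hd ≫ RelProj.emb p chart U hU) ''ᵁ ⊤) x y.1
    (hle' hyj) hyi
  have hD := locMap_eq_locModMap φ hφ y.1 (RP6.rd lam U hU x _ hyi)
  have hE := vbar_val φ hφ (𝒮.deg U hU) (𝒮'.deg U' hU') (GrBCAlg.vφ φ) (GrBCAlg.vφ_mem φ) n hf hd
    ((eL hL U hU hd f hf).hom.app ⊤ x) y
  have hF := eL_val hL U hU hd f hf x ⟨_, hyU⟩ hyi
  refine hA.trans ?_
  refine hB.trans ?_
  refine hC.trans ?_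
  refine hD.trans ?_
  refine Eq.trans (congrArg (fun t => GrMod.locModMap φ hφ (GrBCAlg.vφ φ) y.1 t) hF).symm ?_
  exact hE.symm

end two

section three

theorem isBC₀ {Y Y' : Scheme.{u}} {𝒮 : RelProj.QCGrAlg Y} {𝒮' : RelProj.QCGrAlg Y'}
    (U : Y.Opens) (hU : IsAffineOpen U) (U' : Y'.Opens) (hU' : IsAffineOpen U')
    (φ : 𝒮.deg U hU →+*ᵍ 𝒮'.deg U' hU') (hφ : (𝒮'.deg U' hU')₊ ≤ ((𝒮.deg U hU)₊).map φ)
    (ρ : Γ(Y, U) →+* Γ(Y', U'))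
    (hpo : IsPushout (CommRingCat.ofHom ρ) (CommRingCat.ofHom (𝒮.str.app (op U)).hom)
      (CommRingCat.ofHom (𝒮'.str.app (op U')).hom) (CommRingCat.ofHom φ.toRingHom))
    (n : ℤ) {d : ℕ} (hd : 0 < d) (f : 𝒮.presheaf.obj (op U)) (hf : f ∈ 𝒮.deg U hU d) :
    AdjBC.IsBC (Proj.map φ hφ) (CommRingCat.ofHom (HomogeneousLocalization.Away.map φ f))
      (Proj.awayι (𝒮.deg U hU) f hf hd) (Proj.awayι (𝒮'.deg U' hU') (φ f) (φ.map_mem hf) hd)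
      (Proj.awayι_comp_map φ hφ hd f hf)
      (GrMod.tilde (𝒮.deg U hU) (𝒮.deg U hU) n) (GrMod.tilde (𝒮'.deg U' hU') (𝒮'.deg U' hU') n)
      (GrMod.comap φ hφ (GrBCAlg.vφ φ) (GrBCAlg.vφ_mem φ) n) :=
  TwBC.isBC_chart φ hφ (𝒮.deg U hU) (𝒮'.deg U' hU') (GrBCAlg.vφ φ) (GrBCAlg.vφ_mem φ) n hf hd
    ρ (𝒮.str.app (op U)).hom (𝒮'.str.app (op U')).hom (𝒮.str_mem U hU) (𝒮'.str_mem U' hU')
    (GrBCAlg.hcomm ρ _ _ φ hpo)
    (fun Q' _ _ g hg => GrBCAlg.hBCmod ρ _ _ φ hpo Q' g hg)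
    (fun j c hc => GrBCAlg.hgen ρ _ _ φ hpo (𝒮'.str_mem U' hU') j c hc)

variable {Y Y' P P' : Scheme.{u}} {ψ : Y' ⟶ Y} {𝒮 : RelProj.QCGrAlg Y} {𝒮' : RelProj.QCGrAlg Y'}
  {u : RelProj.QGrHom ψ 𝒮 𝒮'}
  {hirr : ∀ (U : Y.Opens) (hU : IsAffineOpen U) (U' : Y'.Opens) (hU' : IsAffineOpen U')
    (hle : U' ≤ ψ ⁻¹ᵁ U), (𝒮'.deg U' hU')₊ ≤ ((𝒮.deg U hU)₊).map (u.gradedAt U hU U' hU' hle)}
  {p : P ⟶ Y}
  {chart : ∀ (U : Y.Opens) (hU : IsAffineOpen U), ((p ⁻¹ᵁ U : P.Opens) : Scheme.{u}) ≅ Proj (𝒮.deg U hU)}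
  {p' : P' ⟶ Y'}
  {chart' : ∀ (U : Y'.Opens) (hU : IsAffineOpen U),
    ((p' ⁻¹ᵁ U : P'.Opens) : Scheme.{u}) ≅ Proj (𝒮'.deg U hU)}
  {g : P' ⟶ P} {n : ℤ} {L : P.Modules}
  {lam : ∀ (U : Y.Opens) (hU : IsAffineOpen U),
    L ⟶ (Scheme.Modules.pushforward (RelProj.emb p chart U hU)).obj (GrTwist.twist (𝒮.deg U hU) n)}
  {L' : P'.Modules}
  {lam' : ∀ (U : Y'.Opens) (hU : IsAffineOpen U),
    L' ⟶ (Scheme.Modules.pushforward (RelProj.emb p' chart' U hU)).obj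
      (GrTwist.twist (𝒮'.deg U hU) n)}

set_option maxHeartbeats 1600000 in
/-- base change of the twisting sheaves of a relative Proj, no generation hypothesis -/
theorem nonempty_pullback_iso (hu : RelSpec.IsQBaseChange u.toQHom)
    (hP : RelProj.IsRelProj 𝒮 p chart) (hP' : RelProj.IsRelProj 𝒮' p' chart')
    (hg : RPQ.IsChartMap u hirr p chart p' chart' g)
    (hL : RelProj.IsRelTwist 𝒮 p chart n L lam) (hL' : RelProj.IsRelTwist 𝒮' p' chart' n L' lam') :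
    Nonempty ((Scheme.Modules.pullback g).obj L ≅ L') := by
  suffices h : IsIso (((Scheme.Modules.pullbackPushforwardAdjunction g).homEquiv L L').symm
      (RPQ.theta hP hP' hg hL hL')) from ⟨@asIso _ _ _ _ _ h⟩
  apply AdjBC.isIso_of_restrict
  intro x
  obtain ⟨q, hxU'⟩ := RPQ.exists_idx ψ (p'.base x)
  obtain ⟨⟨⟨U, hU⟩, ⟨U', hU'⟩⟩, hle⟩ := q
  change p'.base x ∈ U' at hxU'
  change U' ≤ ψ ⁻¹ᵁ U at hle
  have hx : x ∈ (RelProj.emb p' chart' U' hU').opensRange := by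
    rw [ProjBC.opensRange_emb]; exact hxU'
  obtain ⟨y, rfl⟩ := hx
  obtain ⟨d, hd, f, hf, hfy⟩ :=
    TwBC.exists_chart (u.gradedAt U hU U' hU' hle) (hirr U hU U' hU' hle) y
  refine ⟨_, Proj.awayι (𝒮'.deg U' hU') (u.gradedAt U hU U' hU' hle f)
    ((u.gradedAt U hU U' hU' hle).map_mem hf) hd ≫ RelProj.emb p' chart' U' hU', inferInstance,
    ?_, ?_⟩
  · have hy : y ∈ (Proj.awayι (𝒮'.deg U' hU') (u.gradedAt U hU U' hU' hle f)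
        ((u.gradedAt U hU U' hU' hle).map_mem hf) hd).opensRange := by
      rw [Proj.opensRange_awayι]; exact hfy
    obtain ⟨z, hz⟩ := hy
    exact ⟨z, by rw [← hz]; rfl⟩
  · exact isIso_restrict_chart hL hL' U hU U' hU' (u.gradedAt U hU U' hU' hle)
      (hirr U hU U' hU' hle) (hg U hU U' hU' hle) (RPQ.theta hP hP' hg hL hL')
      (fun W s y hy hy' =>
        (congrArg (fun t : Γ(GrTwist.twist (𝒮'.deg U' hU') n,
            RelProj.emb p' chart' U' hU' ⁻¹ᵁ (g ⁻¹ᵁ W)) => GrTwist.val t ⟨y, hy⟩)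
          (RPQ.lam_thetaSec hP hP' hg hL hL' W s U hU U' hU' hle)).trans
          (RPQ.Θ_val hg U hU U' hU' hle W s y hy hy'))
      hd f hf
      (isBC₀ U hU U' hU' (u.gradedAt U hU U' hU' hle) (hirr U hU U' hU' hle)
        (ψ.appLE U U' hle).hom (hu U hU U' hU' hle) n hd f hf)

end three

section raw

/-- packing a raw graded morphism into a `QGrHom` -/
def packU {Y Y' : Scheme.{u}} (ψ : Y' ⟶ Y) (𝒮 : RelProj.QCGrAlg Y) (𝒮' : RelProj.QCGrAlg Y')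
    (v : 𝒮.presheaf ⟶ ψ.base _* 𝒮'.presheaf)
    (hv : 𝒮.str ≫ v = ψ.c ≫ (TopCat.Presheaf.pushforward CommRingCat.{u} ψ.base).map 𝒮'.str)
    (hmm : ∀ (U : Y.Opens) (hU : IsAffineOpen U) (U' : Y'.Opens) (hU' : IsAffineOpen U')
      (hle : U' ≤ ψ ⁻¹ᵁ U) {d : ℕ} {x : 𝒮.presheaf.obj (op U)}, x ∈ 𝒮.deg U hU d →
      (𝒮'.presheaf.map (homOfLE hle).op).hom ((v.app (op U)).hom x) ∈ 𝒮'.deg U' hU' d) :
    RelProj.QGrHom ψ 𝒮 𝒮' where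
  app U := v.app (op U)
  naturality i := (v.naturality (homOfLE i).op).symm
  str_app U := NatTrans.congr_app hv (op U)
  map_mem := hmm

set_option maxHeartbeats 1600000 in
theorem main_raw {Y Y' P P' : Scheme.{u}} (ψ : Y' ⟶ Y) (𝒮 : RelProj.QCGrAlg Y)
    (𝒮' : RelProj.QCGrAlg Y') (v : 𝒮.presheaf ⟶ ψ.base _* 𝒮'.presheaf)
    (hv : 𝒮.str ≫ v = ψ.c ≫ (TopCat.Presheaf.pushforward CommRingCat.{u} ψ.base).map 𝒮'.str)
    (φ : ∀ (U : Y.Opens) (hU : IsAffineOpen U) (U' : Y'.Opens) (hU' : IsAffineOpen U') (_ : U' ≤ ψ ⁻¹ᵁ U),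
      𝒮.deg U hU →+*ᵍ 𝒮'.deg U' hU')
    (hφ : ∀ (U : Y.Opens) (hU : IsAffineOpen U) (U' : Y'.Opens) (hU' : IsAffineOpen U') (hle : U' ≤ ψ ⁻¹ᵁ U),
      (φ U hU U' hU' hle).toRingHom =
        ((v.app (op U) : 𝒮.presheaf.obj (op U) ⟶ 𝒮'.presheaf.obj (op (ψ ⁻¹ᵁ U))) ≫
          𝒮'.presheaf.map (homOfLE hle).op).hom)
    (hpo : ∀ (U : Y.Opens) (hU : IsAffineOpen U) (U' : Y'.Opens) (hU' : IsAffineOpen U') (hle : U' ≤ ψ ⁻¹ᵁ U),
      IsPushout (ψ.appLE U U' hle) (𝒮.str.app (op U)) (𝒮'.str.app (op U'))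
        ((v.app (op U) : 𝒮.presheaf.obj (op U) ⟶ 𝒮'.presheaf.obj (op (ψ ⁻¹ᵁ U))) ≫
          𝒮'.presheaf.map (homOfLE hle).op))
    (hirr : ∀ (U : Y.Opens) (hU : IsAffineOpen U) (U' : Y'.Opens) (hU' : IsAffineOpen U') (hle : U' ≤ ψ ⁻¹ᵁ U),
      (𝒮'.deg U' hU')₊ ≤ ((𝒮.deg U hU)₊).map (φ U hU U' hU' hle))
    (p : P ⟶ Y)
    (chart : ∀ (U : Y.Opens) (hU : IsAffineOpen U), (((p ⁻¹ᵁ U : P.Opens) : Scheme.{u}) ≅ Proj (𝒮.deg U hU)))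
    (hP : RelProj.IsRelProj 𝒮 p chart) (p' : P' ⟶ Y')
    (chart' : ∀ (U' : Y'.Opens) (hU' : IsAffineOpen U'), (((p' ⁻¹ᵁ U' : P'.Opens) : Scheme.{u}) ≅ Proj (𝒮'.deg U' hU')))
    (hP' : RelProj.IsRelProj 𝒮' p' chart') (g : P' ⟶ P)
    (hg : ∀ (U : Y.Opens) (hU : IsAffineOpen U) (U' : Y'.Opens) (hU' : IsAffineOpen U') (hle : U' ≤ ψ ⁻¹ᵁ U),
      (p' ⁻¹ᵁ U').ι ≫ g =
        (chart' U' hU').hom ≫ Proj.map (φ U hU U' hU' hle) (hirr U hU U' hU' hle) ≫ RelProj.emb p chart U hU)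
    (n : ℤ) (L : P.Modules)
    (lam : ∀ (U : Y.Opens) (hU : IsAffineOpen U),
      L ⟶ (Scheme.Modules.pushforward (RelProj.emb p chart U hU)).obj (GrTwist.twist (𝒮.deg U hU) n))
    (hL : RelProj.IsRelTwist 𝒮 p chart n L lam) (L' : P'.Modules)
    (lam' : ∀ (U' : Y'.Opens) (hU' : IsAffineOpen U'),
      L' ⟶ (Scheme.Modules.pushforward (RelProj.emb p' chart' U' hU')).obj (GrTwist.twist (𝒮'.deg U' hU') n))
    (hL' : RelProj.IsRelTwist 𝒮' p' chart' n L' lam') :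
    Nonempty ((Scheme.Modules.pullback g).obj L ≅ L') := by
  have hmm : ∀ (U : Y.Opens) (hU : IsAffineOpen U) (U' : Y'.Opens) (hU' : IsAffineOpen U')
      (hle : U' ≤ ψ ⁻¹ᵁ U) {d : ℕ} {x : 𝒮.presheaf.obj (op U)}, x ∈ 𝒮.deg U hU d →
      (𝒮'.presheaf.map (homOfLE hle).op).hom ((v.app (op U)).hom x) ∈ 𝒮'.deg U' hU' d := by
    intro U hU U' hU' hle d x hx
    have h1 := (φ U hU U' hU' hle).map_mem hx
    have h2 : (φ U hU U' hU' hle).toRingHom x =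
        (𝒮'.presheaf.map (homOfLE hle).op).hom ((v.app (op U)).hom x) :=
      congrArg (fun F : _ →+* _ => F x) (hφ U hU U' hU' hle)
    rw [← h2]
    exact h1
  have hφe : ∀ (U : Y.Opens) (hU : IsAffineOpen U) (U' : Y'.Opens) (hU' : IsAffineOpen U')
      (hle : U' ≤ ψ ⁻¹ᵁ U),
      φ U hU U' hU' hle = (packU ψ 𝒮 𝒮' v hv hmm).gradedAt U hU U' hU' hle := by
    intro U hU U' hU' hle
    apply GradedRingHom.ext
    intro x
    exact congrArg (fun F : _ →+* _ => F x) (hφ U hU U' hU' hle)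
  have hirr' : ∀ (U : Y.Opens) (hU : IsAffineOpen U) (U' : Y'.Opens) (hU' : IsAffineOpen U')
      (hle : U' ≤ ψ ⁻¹ᵁ U), (𝒮'.deg U' hU')₊ ≤
        ((𝒮.deg U hU)₊).map ((packU ψ 𝒮 𝒮' v hv hmm).gradedAt U hU U' hU' hle) := by
    intro U hU U' hU' hle
    rw [← hφe U hU U' hU' hle]
    exact hirr U hU U' hU' hle
  have hgc : RPQ.IsChartMap (packU ψ 𝒮 𝒮' v hv hmm) hirr' p chart p' chart' g := by
    intro U hU U' hU' hle
    have h1 : RelProj.emb p' chart' U' hU' ≫ g =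
        Proj.map (φ U hU U' hU' hle) (hirr U hU U' hU' hle) ≫ RelProj.emb p chart U hU := by
      change ((chart' U' hU').inv ≫ (p' ⁻¹ᵁ U').ι) ≫ g = _
      rw [Category.assoc, hg U hU U' hU' hle, Iso.inv_hom_id_assoc]
    rw [h1, projMap_congr (hφe U hU U' hU' hle) (hirr U hU U' hU' hle) (hirr' U hU U' hU' hle)]
  have hu' : RelSpec.IsQBaseChange (packU ψ 𝒮 𝒮' v hv hmm).toQHom :=
    fun U hU U' hU' hle => hpo U hU U' hU' hle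
  exact nonempty_pullback_iso hu' hP hP' hgc hL hL'

end raw

end Groth.Agent.Helper1.RPQ2
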