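import Mathlib
import Groth.Agent.Lib.Helper1.RT14
import Groth.Agent.Lib.Helper1.GrModTens
import Groth.Agent.Lib.Helper1.RP8

set_option autoImplicit false
universe u

open CategoryTheory CategoryTheory.Limits AlgebraicGeometry TopologicalSpace Opposite
open scoped HomogeneousIdeal

namespace Groth.Agent.Helper1.RT15

open Groth.Agent.Helper1.ProjBC Groth.Agent.Helper1.RP3 Groth.Agent.Helper1.QcCech Groth.Agent.Helper1.RT6
open Groth.Agent.Helper1.RT11

variable {Y P : Scheme.{u}} {𝒮 : RelProj.QCGrAlg Y} {p : P ⟶ Y}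
  {chart : ∀ (U : Y.Opens) (hU : IsAffineOpen U), ((p ⁻¹ᵁ U : P.Opens) : Scheme.{u}) ≅ Proj (𝒮.deg U hU)}
  {ℳ : RelProj.GrModule 𝒮}

section Basic
variable {n : ℤ} {F : P.Modules}
  {lam : ∀ (U : Y.Opens) (hU : IsAffineOpen U),
    F ⟶ (Scheme.Modules.pushforward (RelProj.emb p chart U hU)).obj
      (GrMod.tilde (𝒮.deg U hU) (ℳ.deg U hU) n)}

theorem lam_smul (U : Y.Opens) (hU : IsAffineOpen U) (W : P.Opens) (r : Γ(P, W)) (s : Γ(F, W)) :
    (lam U hU).app W (r • s) =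
      (show Γ(Proj (𝒮.deg U hU), RelProj.emb p chart U hU ⁻¹ᵁ W) from
        (RelProj.emb p chart U hU).app W r) •
      (show Γ(GrMod.tilde (𝒮.deg U hU) (ℳ.deg U hU) n, RelProj.emb p chart U hU ⁻¹ᵁ W) from
        (lam U hU).app W s) := by
  rw [Scheme.Modules.Hom.app_smul]
  rfl

theorem lam_res' (U : Y.Opens) (hU : IsAffineOpen U) {W W' : P.Opens} (h : W' ≤ W) (s : Γ(F, W)) :
    (lam U hU).app W' (res F h s) =
      res (GrMod.tilde (𝒮.deg U hU) (ℳ.deg U hU) n) ((RelProj.emb p chart U hU).preimage_mono h)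
        ((lam U hU).app W s) := by
  apply val_ext
  rintro ⟨y, hy⟩
  exact rd_res (lam := lam) U hU h s y hy

end Basic

section Pair
variable {m n k : ℤ} (hk : k = m + n) {L F F'' : P.Modules}
  {lamL : ∀ (U : Y.Opens) (hU : IsAffineOpen U),
    L ⟶ (Scheme.Modules.pushforward (RelProj.emb p chart U hU)).obj (GrTwist.twist (𝒮.deg U hU) m)}
  {lam : ∀ (U : Y.Opens) (hU : IsAffineOpen U),
    F ⟶ (Scheme.Modules.pushforward (RelProj.emb p chart U hU)).obj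
      (GrMod.tilde (𝒮.deg U hU) (ℳ.deg U hU) n)}
  {lam'' : ∀ (U : Y.Opens) (hU : IsAffineOpen U),
    F'' ⟶ (Scheme.Modules.pushforward (RelProj.emb p chart U hU)).obj
      (GrMod.tilde (𝒮.deg U hU) (ℳ.deg U hU) k)}

/-- chartwise product -/
noncomputable def cmul (lamL : ∀ (U : Y.Opens) (hU : IsAffineOpen U),
      L ⟶ (Scheme.Modules.pushforward (RelProj.emb p chart U hU)).obj (GrTwist.twist (𝒮.deg U hU) m))
    (lam : ∀ (U : Y.Opens) (hU : IsAffineOpen U),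
      F ⟶ (Scheme.Modules.pushforward (RelProj.emb p chart U hU)).obj
        (GrMod.tilde (𝒮.deg U hU) (ℳ.deg U hU) n))
    (U : Y.Opens) (hU : IsAffineOpen U) {W : P.Opens} (s : Γ(L, W)) (t : Γ(F, W)) :
    Γ(GrMod.tilde (𝒮.deg U hU) (ℳ.deg U hU) k, RelProj.emb p chart U hU ⁻¹ᵁ W) :=
  GrModTens.smulSec (𝒮.deg U hU) (ℳ.deg U hU) hk (U := op (RelProj.emb p chart U hU ⁻¹ᵁ W))
    ((lamL U hU).app W s) ((lam U hU).app W t)

theorem exists_mul (hP : RelProj.IsRelProj 𝒮 p chart) (hL : RelProj.IsRelTwist 𝒮 p chart m L lamL)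
    (hF : RelProj.IsRelTilde 𝒮 p chart ℳ n F lam) (hF'' : RelProj.IsRelTilde 𝒮 p chart ℳ k F'' lam'')
    {W : P.Opens} (s : Γ(L, W)) (t : Γ(F, W)) :
    ∃ b : Γ(F'', W), ∀ (U : Y.Opens) (hU : IsAffineOpen U),
      (lam'' U hU).app W b = cmul hk lamL lam U hU s t := by
  apply exists_sec hP hF''
  intro U' U h y hy hy'
  change RP6.rd lamL U'.1 U'.2 s y hy • rd lam U'.1 U'.2 t y hy = _
  rw [RP6.compat' hL h s y hy hy', compat' hF h t y hy hy', ← GrMod.locModMap_smul]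
  rfl

/-- the relative multiplication pairing on sections -/
noncomputable def mulP (hP : RelProj.IsRelProj 𝒮 p chart) (hL : RelProj.IsRelTwist 𝒮 p chart m L lamL)
    (hF : RelProj.IsRelTilde 𝒮 p chart ℳ n F lam) (hF'' : RelProj.IsRelTilde 𝒮 p chart ℳ k F'' lam'')
    {W : P.Opens} (s : Γ(L, W)) (t : Γ(F, W)) : Γ(F'', W) :=
  (exists_mul hk hP hL hF hF'' s t).choose

theorem lam_mulP (hP : RelProj.IsRelProj 𝒮 p chart) (hL : RelProj.IsRelTwist 𝒮 p chart m L lamL)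
    (hF : RelProj.IsRelTilde 𝒮 p chart ℳ n F lam) (hF'' : RelProj.IsRelTilde 𝒮 p chart ℳ k F'' lam'')
    {W : P.Opens} (s : Γ(L, W)) (t : Γ(F, W)) (U : Y.Opens) (hU : IsAffineOpen U) :
    (lam'' U hU).app W (mulP hk hP hL hF hF'' s t) = cmul hk lamL lam U hU s t :=
  (exists_mul hk hP hL hF hF'' s t).choose_spec U hU

section
variable (hP : RelProj.IsRelProj 𝒮 p chart) (hL : RelProj.IsRelTwist 𝒮 p chart m L lamL)
    (hF : RelProj.IsRelTilde 𝒮 p chart ℳ n F lam) (hF'' : RelProj.IsRelTilde 𝒮 p chart ℳ k F'' lam'')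

theorem mulP_add_left {W : P.Opens} (s₁ s₂ : Γ(L, W)) (t : Γ(F, W)) :
    mulP hk hP hL hF hF'' (s₁ + s₂) t = mulP hk hP hL hF hF'' s₁ t + mulP hk hP hL hF hF'' s₂ t := by
  apply lam_ext hF''
  intro V hV
  rw [map_add, lam_mulP, lam_mulP, lam_mulP]
  unfold cmul
  rw [map_add]
  exact GrModTens.smulSec_add_left (𝒮.deg V hV) (ℳ.deg V hV) hk _ _ _

theorem mulP_add_right {W : P.Opens} (s : Γ(L, W)) (t₁ t₂ : Γ(F, W)) :
    mulP hk hP hL hF hF'' s (t₁ + t₂) = mulP hk hP hL hF hF'' s t₁ + mulP hk hP hL hF hF'' s t₂ := by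
  apply lam_ext hF''
  intro V hV
  rw [map_add, lam_mulP, lam_mulP, lam_mulP]
  unfold cmul
  rw [map_add]
  exact GrModTens.smulSec_add_right (𝒮.deg V hV) (ℳ.deg V hV) hk _ _ _

theorem mulP_smul_left {W : P.Opens} (a : Γ(P, W)) (s : Γ(L, W)) (t : Γ(F, W)) :
    mulP hk hP hL hF hF'' (a • s) t = a • mulP hk hP hL hF hF'' s t := by
  apply lam_ext hF''
  intro V hV
  rw [lam_mulP]
  refine Eq.trans ?_ (lam_smul (lam := lam'') V hV W a _).symm
  rw [lam_mulP]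
  unfold cmul
  rw [RP7.lam_smul]
  exact GrModTens.smulSec_smul_left (𝒮.deg V hV) (ℳ.deg V hV) hk _ _ _

theorem mulP_smul_right {W : P.Opens} (a : Γ(P, W)) (s : Γ(L, W)) (t : Γ(F, W)) :
    mulP hk hP hL hF hF'' s (a • t) = a • mulP hk hP hL hF hF'' s t := by
  apply lam_ext hF''
  intro V hV
  rw [lam_mulP]
  refine Eq.trans ?_ (lam_smul (lam := lam'') V hV W a _).symm
  rw [lam_mulP]
  unfold cmul
  rw [lam_smul]
  exact GrModTens.smulSec_smul_right (𝒮.deg V hV) (ℳ.deg V hV) hk _ _ _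

theorem mulP_res {W W' : P.Opens} (h : W' ≤ W) (s : Γ(L, W)) (t : Γ(F, W)) :
    res F'' h (mulP hk hP hL hF hF'' s t) = mulP hk hP hL hF hF'' (res L h s) (res F h t) := by
  apply lam_ext hF''
  intro V hV
  rw [lam_res', lam_mulP, lam_mulP]
  unfold cmul
  rw [RP7.lam_res', lam_res']
  rfl

end

noncomputable def pairing (hP : RelProj.IsRelProj 𝒮 p chart)
    (hL : RelProj.IsRelTwist 𝒮 p chart m L lamL)
    (hF : RelProj.IsRelTilde 𝒮 p chart ℳ n F lam) (hF'' : RelProj.IsRelTilde 𝒮 p chart ℳ k F'' lam'') :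
    TensLib.Pairing L F F'' where
  β U s t := mulP hk hP hL hF hF'' (W := U.unop) s t
  add_left U s₁ s₂ t := mulP_add_left hk hP hL hF hF'' (W := U.unop) s₁ s₂ t
  smul_left U a s t := mulP_smul_left hk hP hL hF hF'' (W := U.unop) a s t
  add_right U s t₁ t₂ := mulP_add_right hk hP hL hF hF'' (W := U.unop) s t₁ t₂
  smul_right U a s t := mulP_smul_right hk hP hL hF hF'' (W := U.unop) a s t
  nat {U V} f s t := by
    have hle : V.unop ≤ U.unop := f.unop.le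
    exact mulP_res hk hP hL hF hF'' hle s t

include hk in
/-- `O_P(m) ⊗ (ℳ(n))~ ≅ (ℳ(m+n))~` when `P` is covered by chart opens on which `O(m)` has a
monomial generator -/
theorem nonempty_tensorMod_iso (hP : RelProj.IsRelProj 𝒮 p chart)
    (hL : RelProj.IsRelTwist 𝒮 p chart m L lamL)
    (hF : RelProj.IsRelTilde 𝒮 p chart ℳ n F lam) (hF'' : RelProj.IsRelTilde 𝒮 p chart ℳ k F'' lam'')
    (hcov : ∀ x : P, ∃ (U : Y.Opens) (hU : IsAffineOpen U) (i j : ℕ) (a b : 𝒮.presheaf.obj (op U)),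
      a ∈ 𝒮.deg U hU i ∧ b ∈ 𝒮.deg U hU j ∧ (i : ℤ) = j + m ∧
        ∃ y : ProjectiveSpectrum (𝒮.deg U hU), (RelProj.emb p chart U hU).base y = x ∧
          a ∉ y.asHomogeneousIdeal ∧ b ∉ y.asHomogeneousIdeal) :
    Nonempty (CohB1.tensorMod L F ≅ F'') := by
  refine (pairing hk hP hL hF hF'').nonempty_tensorMod_iso
    (fun V : P.Opens => ∃ (U : Y.Opens) (hU : IsAffineOpen U) (i j : ℕ)
      (a b : 𝒮.presheaf.obj (op U)), a ∈ 𝒮.deg U hU i ∧ b ∈ 𝒮.deg U hU j ∧ (i : ℤ) = j + m ∧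
        V ≤ p ⁻¹ᵁ U ∧ ∀ y : ProjectiveSpectrum (𝒮.deg U hU), (RelProj.emb p chart U hU).base y ∈ V →
          a ∉ y.asHomogeneousIdeal ∧ b ∉ y.asHomogeneousIdeal) ?_ ?_ ?_
  · intro x
    obtain ⟨U, hU, i, j, a, b, ha, hb, hm, y, rfl, hay, hby⟩ := hcov x
    refine ⟨RelProj.emb p chart U hU ''ᵁ
      (Proj.basicOpen (𝒮.deg U hU) a ⊓ Proj.basicOpen (𝒮.deg U hU) b),
      ⟨U, hU, i, j, a, b, ha, hb, hm, ?_, ?_⟩, ?_⟩
    · rw [← opensRange_emb (p := p) (chart := chart) U hU]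
      exact (RelProj.emb p chart U hU).image_le_opensRange _
    · rintro z ⟨w, hw, hwz⟩
      have : w = z := (RelProj.emb p chart U hU).isOpenEmbedding.injective hwz
      subst this
      exact ⟨(Proj.mem_basicOpen _ a w).1 hw.1, (Proj.mem_basicOpen _ b w).1 hw.2⟩
    · exact ⟨y, ⟨(Proj.mem_basicOpen _ a y).2 hay, (Proj.mem_basicOpen _ b y).2 hby⟩, rfl⟩
  · rintro V V' ⟨U, hU, i, j, a, b, ha, hb, hm, hV, h⟩ hle
    exact ⟨U, hU, i, j, a, b, ha, hb, hm, hle.trans hV, fun y hy => h y (hle hy)⟩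
  · rintro V ⟨U, hU, i, j, a, b, ha, hb, hm, hV, h⟩
    obtain ⟨σ, hσ⟩ := (hL.bijective U hU V hV).2
      (GrTwTriv.fracSec (𝒮.deg U hU) ha hb hm (RelProj.emb p chart U hU ⁻¹ᵁ V)
        (fun x => (h x.1 x.2).2))
    refine ⟨σ, ?_, ?_⟩
    · apply RP8.bijective_smul_of_lam hL U hU hV σ
      rw [hσ]
      exact GrTwTriv.fracSec_bijective (𝒮.deg U hU) ha hb hm _ (fun x => (h x.1 x.2).2)
        (fun x => (h x.1 x.2).1)
    · let g' : Γ(F, V) → Γ(GrMod.tilde (𝒮.deg U hU) (ℳ.deg U hU) n, RelProj.emb p chart U hU ⁻¹ᵁ V) :=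
        fun s => (lam U hU).app V s
      have h1' : Function.Bijective g' := hF.bijective U hU V hV
      let g'' : Γ(F'', V) → Γ(GrMod.tilde (𝒮.deg U hU) (ℳ.deg U hU) k, RelProj.emb p chart U hU ⁻¹ᵁ V) :=
        fun s => (lam'' U hU).app V s
      have h1'' : Function.Bijective g'' := hF''.bijective U hU V hV
      have h2 := GrModTens.smulSec_fracSec_bijective (𝒮.deg U hU) (ℳ.deg U hU) ha hb hm hk
        (RelProj.emb p chart U hU ⁻¹ᵁ V) (fun x => (h x.1 x.2).2) (fun x => (h x.1 x.2).1)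
      change Function.Bijective (fun t : Γ(F, V) => mulP hk hP hL hF hF'' σ t)
      rw [← Function.Bijective.of_comp_iff' h1'']
      have h3 : (g'' ∘ fun t : Γ(F, V) => mulP hk hP hL hF hF'' σ t) =
          (fun t => GrModTens.smulSec (𝒮.deg U hU) (ℳ.deg U hU) hk
            (GrTwTriv.fracSec (𝒮.deg U hU) ha hb hm (RelProj.emb p chart U hU ⁻¹ᵁ V)
              (fun x => (h x.1 x.2).2)) t) ∘ g' := by
        funext t
        simp only [Function.comp, g'', g']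
        rw [lam_mulP]
        unfold cmul
        rw [hσ]
      rw [h3]
      exact h2.comp h1'

end Pair

end Groth.Agent.Helper1.RT15
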