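import Mathlib
import Groth.Agent.Lib.Helper1.RT15
import Groth.Agent.Lib.Helper1.GrModFT
import Groth.Agent.Lib.Helper1.FtLocal

set_option autoImplicit false
universe u

open CategoryTheory CategoryTheory.Limits AlgebraicGeometry TopologicalSpace Opposite
open scoped HomogeneousIdeal

namespace Groth.Agent.Helper1.RT16

open Groth.Agent.Helper1.ProjBC Groth.Agent.Helper1.RP3 Groth.Agent.Helper1.QcCech Groth.Agent.Helper1.RT6
open Groth.Agent.Helper1.RT11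

theorem finite_of_iso {R : CommRingCat.{u}} {M N : (Spec R).Modules} (e : M ≅ N)
    (h : Module.Finite R Γ(M, ⊤)) : Module.Finite R Γ(N, ⊤) := by
  let L : Γ(M, ⊤) →ₗ[R] Γ(N, ⊤) :=
    { toFun := fun x => e.hom.app ⊤ x
      map_add' := fun x y => map_add _ x y
      map_smul' := fun r x => by
        rw [Scheme.Modules.smul_Spec_def, Scheme.Modules.Hom.app_smul]
        rfl }
  refine Module.Finite.of_surjective L (fun y => ⟨e.inv.app ⊤ y, ?_⟩)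
  change e.hom.app ⊤ (e.inv.app ⊤ y) = y
  have := congrArg (fun χ => χ.app ⊤ y) e.inv_hom_id
  exact this

variable {Y P : Scheme.{u}} {𝒮 : RelProj.QCGrAlg Y} {p : P ⟶ Y}
  {chart : ∀ (U : Y.Opens) (hU : IsAffineOpen U), ((p ⁻¹ᵁ U : P.Opens) : Scheme.{u}) ≅ Proj (𝒮.deg U hU)}
  {ℳ : RelProj.GrModule 𝒮} {F : P.Modules}
  {lam : ∀ (U : Y.Opens) (hU : IsAffineOpen U),
    F ⟶ (Scheme.Modules.pushforward (RelProj.emb p chart U hU)).obj
      (GrMod.tilde (𝒮.deg U hU) (ℳ.deg U hU) 0)}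

/-- S8325 -/
theorem isFT_of_TF (hgen : 𝒮.IsGenDegOne) (hF : RelProj.IsRelTilde 𝒮 p chart ℳ 0 F lam)
    (hTF : ℳ.IsTF) : CohB1.IsFT F := by
  have hq : F.IsQuasicoherent := RT10.isQCoh hF
  obtain ⟨n₀, hn₀⟩ := hTF
  let I : Type u := (U : Y.AffineZariskiSite) ×
    {f : 𝒮.presheaf.obj (op U.1) // f ∈ 𝒮.deg U.1 U.2 1}
  refine FtLocal.isFiniteType_of_affine_charts F (I := I)
    (fun i => CommRingCat.of (HomogeneousLocalization.Away (𝒮.deg i.1.1 i.1.2) i.2.1))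
    (fun i => Proj.awayι (𝒮.deg i.1.1 i.1.2) i.2.1 i.2.2 Nat.one_pos ≫
      RelProj.emb p chart i.1.1 i.1.2) ?_ ?_
  · rw [eq_top_iff]
    intro x _
    obtain ⟨U, hU, hxU⟩ := exists_affine_mem (p.base x)
    obtain ⟨y, rfl⟩ := RT14.exists_pt (chart := chart) x U hU hxU
    obtain ⟨g, hg, hgy⟩ := RP3.exists_deg_one_notMem _ (hgen U hU) y
    rw [Opens.mem_iSup]
    refine ⟨⟨⟨U, hU⟩, g, hg⟩, ?_⟩
    have hy' : y ∈ (Proj.awayι (𝒮.deg U hU) g hg Nat.one_pos).opensRange := by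
      rw [Proj.opensRange_awayι]; exact (Proj.mem_basicOpen _ g y).2 hgy
    obtain ⟨z, hz⟩ := hy'
    refine ⟨z, ?_⟩
    rw [← hz]
    rfl
  · intro i
    obtain ⟨e⟩ := RT10.nonempty_restrict_emb_iso hF i.1.1 i.1.2
    have e2 := (Scheme.Modules.restrictFunctorComp
      (Proj.awayι (𝒮.deg i.1.1 i.1.2) i.2.1 i.2.2 Nat.one_pos)
      (RelProj.emb p chart i.1.1 i.1.2)).app F ≪≫
      (Scheme.Modules.restrictFunctor
        (Proj.awayι (𝒮.deg i.1.1 i.1.2) i.2.1 i.2.2 Nat.one_pos)).mapIso e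
    exact finite_of_iso e2.symm
      (GrModFT.finite_of_TF (𝒮.deg i.1.1 i.1.2) (ℳ.deg i.1.1 i.1.2) i.2.1 i.2.2 ⟨n₀, hn₀ i.1.1 i.1.2⟩)

end Groth.Agent.Helper1.RT16
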