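import Mathlib
import Groth.Agent.Lib.Helper1.RT16
import Groth.Agent.Lib.Helper1.GrModTN

set_option autoImplicit false
universe u

open CategoryTheory CategoryTheory.Limits AlgebraicGeometry TopologicalSpace Opposite
open scoped HomogeneousIdeal

namespace Groth.Agent.Helper1.RT17

open Groth.Agent.Helper1.ProjBC Groth.Agent.Helper1.RP3 Groth.Agent.Helper1.QcCech Groth.Agent.Helper1.RT6
open Groth.Agent.Helper1.RT11

variable {Y P : Scheme.{u}} {𝒮 : RelProj.QCGrAlg Y} {p : P ⟶ Y}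
  {chart : ∀ (U : Y.Opens) (hU : IsAffineOpen U), ((p ⁻¹ᵁ U : P.Opens) : Scheme.{u}) ≅ Proj (𝒮.deg U hU)}
  {ℳ : RelProj.GrModule 𝒮} {n : ℤ} {F : P.Modules}
  {lam : ∀ (U : Y.Opens) (hU : IsAffineOpen U),
    F ⟶ (Scheme.Modules.pushforward (RelProj.emb p chart U hU)).obj
      (GrMod.tilde (𝒮.deg U hU) (ℳ.deg U hU) n)}

/-- if the glued module vanishes, so do the chartwise modules -/
theorem isZero_tilde_of_isZero (hF : RelProj.IsRelTilde 𝒮 p chart ℳ n F lam) (h0 : IsZero F)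
    (U : Y.Opens) (hU : IsAffineOpen U) :
    IsZero (GrMod.tilde (𝒮.deg U hU) (ℳ.deg U hU) n) := by
  apply Groth.Agent.Helper7.FinType.isZero_of_forall_subsingleton
  intro V
  have h1 := Groth.Agent.Helper7.FinType.subsingleton_sections_of_isZero F h0
    (RelProj.emb p chart U hU ''ᵁ V)
  have h2 := (hF.bijective U hU (RelProj.emb p chart U hU ''ᵁ V)
    (RT14.image_le_preimage (p := p) (chart := chart) U hU V)).2
  have h3 : Subsingleton Γ(GrMod.tilde (𝒮.deg U hU) (ℳ.deg U hU) n,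
      RelProj.emb p chart U hU ⁻¹ᵁ (RelProj.emb p chart U hU ''ᵁ V)) :=
    ⟨fun a b => by
      obtain ⟨a', rfl⟩ := h2 a
      obtain ⟨b', rfl⟩ := h2 b
      rw [Subsingleton.elim a' b']⟩
  rw [(RelProj.emb p chart U hU).preimage_image_eq V] at h3
  exact h3

/-- S8326 -/
theorem isTN_of_isZero [CompactSpace Y] (hgen : 𝒮.IsGenDegOne) (hft : 𝒮.IsFTDeg 1)
    (hℳ : Coh.IsQCoh ((AMod.toOS 𝒮.toQCAlg).obj ℳ.mod)) (hTF : ℳ.IsTF)
    {lam₀ : ∀ (U : Y.Opens) (hU : IsAffineOpen U),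
      F ⟶ (Scheme.Modules.pushforward (RelProj.emb p chart U hU)).obj
        (GrMod.tilde (𝒮.deg U hU) (ℳ.deg U hU) 0)}
    (hF : RelProj.IsRelTilde 𝒮 p chart ℳ 0 F lam₀) (h0 : IsZero F) : ℳ.IsTN := by
  classical
  have hBd : ∀ (U : Y.Opens) (hU : IsAffineOpen U),
      ∃ B : ℕ, ∀ k : ℕ, B ≤ k → ∀ m ∈ ℳ.deg U hU k, m = 0 := by
    intro U hU
    obtain ⟨T, hT, hspan⟩ := hft U hU
    obtain ⟨n₀, hn₀⟩ := hTF
    exact GrModTN.exists_bound (𝒮.deg U hU) (ℳ.deg U hU) (𝒮.strZero U hU).hom (hgen U hU) T hT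
      (fun x hx => hspan x hx) ⟨n₀, hn₀ U hU⟩ (isZero_tilde_of_isZero hF h0 U hU)
  have hnb : ∀ z : Y, ∃ (V : Y.Opens), IsAffineOpen V ∧ z ∈ V := fun z => exists_affine_mem z
  choose V hV hzV using hnb
  choose B hB using fun z => hBd (V z) (hV z)
  obtain ⟨t, ht⟩ := isCompact_univ.elim_finite_subcover (fun z => ((V z : Y.Opens) : Set Y))
    (fun z => (V z).isOpen) (fun z _ => Set.mem_iUnion.2 ⟨z, hzV z⟩)
  refine ⟨t.sup B, fun W hW k hk m hm => ?_⟩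
  apply TwistSec.eq_of_locally ((AMod.toOS 𝒮.toQCAlg).obj ℳ.mod) (O := W)
  intro y hyW
  obtain ⟨z, hz⟩ := Set.mem_iUnion.1 (ht (Set.mem_univ y))
  obtain ⟨hzt, hz⟩ := Set.mem_iUnion.1 hz
  obtain ⟨D, hDW, hDV, hyD⟩ := RP5.exists_common_basicOpen hW (hV z) y ⟨hyW, hz⟩
  refine ⟨D.1, Scheme.AffineZariskiSite.toOpens_mono hDW, hyD, ?_⟩
  have hmD : ℳ.res hW D.2 (Scheme.AffineZariskiSite.toOpens_mono hDW) m ∈ ℳ.deg D.1 D.2 k :=
    ℳ.res_mem hW D.2 _ k m hm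
  obtain ⟨c, hc, hcM⟩ := RT9.isAwayLoc_res ℳ hℳ (D := D) (V := ⟨V z, hV z⟩) hDV
  obtain ⟨a, j, ha, hj⟩ := hcM.lift (ℳ.res_mem (hV z) D.2 (Scheme.AffineZariskiSite.toOpens_mono hDV))
    hc hmD
  have ha0 : a = 0 := hB z k (le_trans (Finset.le_sup hzt) hk) a ha
  rw [ha0, map_zero] at hj
  have hu : IsUnit ((𝒮.res (hV z) D.2 (Scheme.AffineZariskiSite.toOpens_mono hDV)) c ^ j) :=
    hc.unit.pow j
  have h5 : ℳ.res hW D.2 (Scheme.AffineZariskiSite.toOpens_mono hDW) m = 0 := by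
    have := congrArg (fun w => (hu.unit⁻¹ : (𝒮.presheaf.obj (op D.1))ˣ) • w) hj
    simpa [Units.smul_def, smul_smul] using this
  exact h5.trans (map_zero _).symm

end Groth.Agent.Helper1.RT17
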