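import Mathlib

universe u

open AlgebraicGeometry CategoryTheory CategoryTheory.Limits TopologicalSpace

namespace Groth.Agent.Helper1.RedOpenImm

instance isReduced_nilradical_subscheme (X : Scheme.{u}) : IsReduced X.nilradical.subscheme := by
  have key : ∀ U : X.nilradical.subschemeCover.openCover.I₀,
      IsReduced (X.nilradical.subschemeCover.openCover.X U) := by
    intro U
    change IsReduced (Spec (.of <| Γ(X, U.1) ⧸ X.nilradical.ideal U))
    have : _root_.IsReduced (Γ(X, U.1) ⧸ X.nilradical.ideal U) := by
      rw [← Ideal.isRadical_iff_quotient_reduced]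
      change ((⊥ : X.IdealSheafData).radical.ideal U).IsRadical
      exact Ideal.radical_isRadical _
    infer_instance
  exact AlgebraicGeometry.IsReduced.of_openCover _ X.nilradical.subschemeCover.openCover

instance surjective_nilradical_subschemeι (X : Scheme.{u}) :
    Surjective X.nilradical.subschemeι := by
  constructor
  rw [← Set.range_eq_univ, Scheme.IdealSheafData.range_subschemeι, Scheme.support_nilradical]
  rfl

theorem isOpenImmersion_red {X Y : Scheme.{u}} (f : X ⟶ Y) [IsOpenImmersion f]
    (g : X.nilradical.subscheme ⟶ Y.nilradical.subscheme)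
    (hg : g ≫ Y.nilradical.subschemeι = X.nilradical.subschemeι ≫ f) :
    IsOpenImmersion g := by
  let ιX := X.nilradical.subschemeι
  let ιY := Y.nilradical.subschemeι
  let p1 := pullback.fst f ιY
  let p2 := pullback.snd f ιY
  let h : X.nilradical.subscheme ⟶ pullback f ιY := pullback.lift ιX g hg.symm
  have h1 : h ≫ p1 = ιX := pullback.lift_fst _ _ _
  have h2 : h ≫ p2 = g := pullback.lift_snd _ _ _
  have : IsReduced (pullback f ιY) := isReduced_of_isOpenImmersion p2
  have : IsClosedImmersion (h ≫ p1) := by rw [h1]; infer_instance
  have : IsClosedImmersion h := IsClosedImmersion.of_comp h p1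
  have : Surjective h := by
    constructor
    intro p
    obtain ⟨x, hx⟩ := ιX.surjective (p1 p)
    refine ⟨x, p1.isEmbedding.injective ?_⟩
    have : p1 (h x) = (h ≫ p1) x := rfl
    rw [this, h1, hx]
  have : IsIso h := isIso_of_isClosedImmersion_of_surjective h
  rw [← h2]
  infer_instance

end Groth.Agent.Helper1.RedOpenImm
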