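import Mathlib

universe u

open TensorProduct

namespace Groth.Agent.Helper1.RedRank

variable {R : Type u} [CommRing R] {M : Type u} [AddCommGroup M] [Module R M]

/-- The fibre is spanned by the `1 ⊗ x i` when `g • m ∈ span x` for all `m` and `g ∉ q`. -/
lemma fiber_span (q : Ideal R) [q.IsPrime] {ι : Type*} (x : ι → M) (g : R) (hg : g ∉ q)
    (hgen : ∀ m : M, g • m ∈ Submodule.span R (Set.range x)) :
    ⊤ ≤ Submodule.span q.ResidueField
      (Set.range fun i => (1 : q.ResidueField) ⊗ₜ[R] x i) := by
  suffices h : ∀ z : q.ResidueField ⊗[R] M, z ∈ Submodule.span q.ResidueField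
      (Set.range fun i => (1 : q.ResidueField) ⊗ₜ[R] x i) from fun z _ => h z
  intro z
  induction z using TensorProduct.induction_on with
  | zero => exact zero_mem _
  | add a b ha hb => exact add_mem ha hb
  | tmul c m =>
    have hgu : algebraMap R q.ResidueField g ≠ 0 := by
      rw [Ne, Ideal.algebraMap_residueField_eq_zero]; exact hg
    have h1 : c ⊗ₜ[R] m = (c * (algebraMap R q.ResidueField g)⁻¹) •
        ((1 : q.ResidueField) ⊗ₜ[R] (g • m)) := by
      rw [TensorProduct.smul_tmul', smul_eq_mul, mul_one, ← TensorProduct.smul_tmul,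
        Algebra.smul_def]
      congr 1
      field_simp
    rw [h1]
    refine Submodule.smul_mem _ _ ?_
    have h2 : ∀ y ∈ Submodule.span R (Set.range x), (1 : q.ResidueField) ⊗ₜ[R] y ∈
        Submodule.span q.ResidueField (Set.range fun i => (1 : q.ResidueField) ⊗ₜ[R] x i) := by
      intro y hy
      induction hy using Submodule.span_induction with
      | mem y hy =>
        obtain ⟨i, rfl⟩ := hy
        exact Submodule.subset_span ⟨i, rfl⟩
      | zero => rw [TensorProduct.tmul_zero]; exact zero_mem _
      | add a b _ _ ha hb => rw [TensorProduct.tmul_add]; exact add_mem ha hb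
      | smul r a _ ha =>
        have : (1 : q.ResidueField) ⊗ₜ[R] (r • a) =
            (algebraMap R q.ResidueField r) • ((1 : q.ResidueField) ⊗ₜ[R] a) := by
          rw [TensorProduct.smul_tmul', ← TensorProduct.smul_tmul, Algebra.smul_def, smul_eq_mul,
            mul_one]
        rw [this]
        exact Submodule.smul_mem _ _ ha
    exact h2 _ (hgen m)

lemma one_tmul_smul (q : Ideal R) [q.IsPrime] (r : R) (m : M) :
    (algebraMap R q.ResidueField r) • ((1 : q.ResidueField) ⊗ₜ[R] m) =
      (1 : q.ResidueField) ⊗ₜ[R] (r • m) := by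
  rw [TensorProduct.smul_tmul', ← TensorProduct.smul_tmul, smul_eq_mul, mul_one,
    Algebra.smul_def, mul_one]

/-- Core relation. -/
lemma relation_zero [IsReduced R] {n : ℕ} (x : Fin n → M) (g : R)
    (hgen : ∀ m : M, g • m ∈ Submodule.span R (Set.range x))
    (hrank : ∀ q : PrimeSpectrum R, g ∉ q.asIdeal →
      Module.finrank q.asIdeal.ResidueField (q.asIdeal.ResidueField ⊗[R] M) = n)
    (a : Fin n → R) (ha : ∑ i, a i • x i = 0) (i : Fin n) : g * a i = 0 := by
  apply IsNilpotent.eq_zero
  rw [nilpotent_iff_mem_prime]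
  intro q hq
  by_cases hg : g ∈ q
  · exact q.mul_mem_right _ hg
  · refine q.mul_mem_left _ ?_
    have hspan := fiber_span q x g hg hgen
    have hcard : Fintype.card (Fin n) =
        Module.finrank q.ResidueField (q.ResidueField ⊗[R] M) := by
      rw [Fintype.card_fin]; exact (hrank ⟨q, hq⟩ hg).symm
    have hli := linearIndependent_of_top_le_span_of_card_eq_finrank hspan hcard
    rw [Fintype.linearIndependent_iff] at hli
    have h0 : ∑ j, (algebraMap R q.ResidueField (a j)) • ((1 : q.ResidueField) ⊗ₜ[R] x j) = 0 := by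
      simp_rw [one_tmul_smul]
      rw [← TensorProduct.tmul_sum, ha, TensorProduct.tmul_zero]
    have := hli _ h0 i
    exact Ideal.algebraMap_residueField_eq_zero.mp this

theorem free_localized [IsReduced R] {n : ℕ} (x : Fin n → M) (g : R)
    (hgen : ∀ m : M, g • m ∈ Submodule.span R (Set.range x))
    (hrank : ∀ q : PrimeSpectrum R, g ∉ q.asIdeal →
      Module.finrank q.asIdeal.ResidueField (q.asIdeal.ResidueField ⊗[R] M) = n)
    (S : Submonoid R) (hgS : g ∈ S) :
    Module.Free (Localization S) (LocalizedModule S M) ∧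
      Module.Finite (Localization S) (LocalizedModule S M) := by
  let f := LocalizedModule.mkLinearMap S M
  let y : Fin n → LocalizedModule S M := fun i => f (x i)
  have hunit : ∀ s : S, IsUnit (algebraMap R (Localization S) s) := IsLocalization.map_units _
  have hli : LinearIndependent (Localization S) y := by
    rw [Fintype.linearIndependent_iff]
    intro c hc i
    obtain ⟨b, hb⟩ := IsLocalization.exist_integer_multiples_of_finite S c
    choose a ha using hb
    have h1 : f (∑ j, a j • x j) = 0 := by
      rw [map_sum]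
      have : ∀ j, f (a j • x j) = (b : R) • (c j • y j) := by
        intro j
        rw [map_smul, ← algebraMap_smul (Localization S) (a j), ha j, smul_assoc]
      simp_rw [this]
      rw [← Finset.smul_sum, hc, smul_zero]
    obtain ⟨t, ht⟩ := (IsLocalizedModule.eq_zero_iff S f).mp h1
    have h2 : ∑ j, ((t : R) * a j) • x j = 0 := by
      simp_rw [mul_smul]
      rw [← Finset.smul_sum]
      exact ht
    have h3 := relation_zero x g hgen hrank _ h2 i
    have h4 : algebraMap R (Localization S) (a i) = 0 := by
      rw [IsLocalization.map_eq_zero_iff S]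
      exact ⟨⟨g, hgS⟩ * t, by simpa [mul_assoc] using h3⟩
    rw [ha i, Algebra.smul_def] at h4
    exact ((hunit b).mul_right_eq_zero).mp h4
  have hsp : ⊤ ≤ Submodule.span (Localization S) (Set.range y) := by
    intro z _
    obtain ⟨⟨m, s⟩, rfl⟩ := IsLocalizedModule.mk'_surjective S f z
    have h1 : f (g • m) ∈ Submodule.span (Localization S) (Set.range y) := by
      have h2 : ∀ w ∈ Submodule.span R (Set.range x),
          f w ∈ Submodule.span (Localization S) (Set.range y) := by
        intro w hw
        induction hw using Submodule.span_induction with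
        | mem w hw =>
          obtain ⟨i, rfl⟩ := hw
          exact Submodule.subset_span ⟨i, rfl⟩
        | zero => rw [map_zero]; exact zero_mem _
        | add a b _ _ ha hb => rw [map_add]; exact add_mem ha hb
        | smul r a _ ha =>
          rw [map_smul, ← algebraMap_smul (Localization S) r]
          exact Submodule.smul_mem _ _ ha
      exact h2 _ (hgen m)
    have h3 : (algebraMap R (Localization S) ((⟨g, hgS⟩ * s : S) : R)) •
        IsLocalizedModule.mk' f m s = f (g • m) := by
      rw [algebraMap_smul, Submonoid.coe_mul, mul_smul]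
      have : (s : R) • IsLocalizedModule.mk' f m s = f m := IsLocalizedModule.mk'_cancel' f m s
      rw [this, map_smul]
    have hu := hunit (⟨g, hgS⟩ * s)
    simp only [Function.uncurry_apply_pair]
    rw [← inv_smul_smul hu.unit (IsLocalizedModule.mk' f m s), Units.smul_def]
    refine Submodule.smul_mem _ _ ?_
    rw [Units.smul_def, hu.unit_spec, h3]
    exact h1
  let B := Module.Basis.mk hli hsp
  exact ⟨Module.Free.of_basis B, Module.Finite.of_basis B⟩

/-- A family of elements of `M` whose images form a basis of the fibre. -/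
lemma exists_fiber_basis [Module.Finite R M] (p : Ideal R) [p.IsPrime] :
    ∃ x : Fin (Module.finrank p.ResidueField (p.ResidueField ⊗[R] M)) → M,
      ⊤ ≤ Submodule.span p.ResidueField
        (Set.range fun i => (1 : p.ResidueField) ⊗ₜ[R] x i) := by
  let κ := p.ResidueField
  have hs : ⊤ ≤ Submodule.span κ (Set.range fun m : M => (1 : κ) ⊗ₜ[R] m) :=
    fiber_span p (fun m : M => m) 1 (fun h => (inferInstance : p.IsPrime).ne_top
      ((Ideal.eq_top_iff_one p).mpr h))
      (fun m => Submodule.subset_span ⟨(1 : R) • m, rfl⟩)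
  let B := Module.Basis.ofSpan hs
  have hBsub : ∀ j, ∃ m : M, (1 : κ) ⊗ₜ[R] m = B j := fun j =>
    Module.Basis.ofSpan_subset hs ⟨j, rfl⟩
  have hfin := Module.Finite.finite_basis B
  let e := (Finite.equivFinOfCardEq (Module.finrank_eq_nat_card_basis B).symm).symm
  choose m hm using hBsub
  refine ⟨fun i => m (e i), ?_⟩
  have : (Set.range fun i => (1 : κ) ⊗ₜ[R] m (e i)) = Set.range B := by
    ext z
    constructor
    · rintro ⟨i, rfl⟩
      exact ⟨e i, (hm (e i)).symm⟩
    · rintro ⟨j, rfl⟩
      exact ⟨e.symm j, by simp [hm]⟩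
  rw [this, B.span_eq]

/-- Nakayama: the chosen elements generate `M` near `p`. -/
lemma exists_smul_mem_span [Module.Finite R M] (p : PrimeSpectrum R) {ι : Type*} (x : ι → M)
    (hx : ⊤ ≤ Submodule.span p.asIdeal.ResidueField
        (Set.range fun i => (1 : p.asIdeal.ResidueField) ⊗ₜ[R] x i)) :
    ∃ g : R, g ∉ p.asIdeal ∧ ∀ m : M, g • m ∈ Submodule.span R (Set.range x) := by
  let κ := p.asIdeal.ResidueField
  let N := Submodule.span R (Set.range x)
  let T : κ ⊗[R] M →ₗ[κ] κ ⊗[R] (M ⧸ N) := N.mkQ.baseChange κ
  have hT : Function.Surjective T := LinearMap.lTensor_surjective _ N.mkQ_surjective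
  have hT0 : T = 0 := by
    apply LinearMap.ext_on_range (top_le_iff.mp hx)
    intro i
    change T ((1 : κ) ⊗ₜ[R] x i) = 0
    rw [LinearMap.baseChange_tmul]
    have : N.mkQ (x i) = 0 := (Submodule.Quotient.mk_eq_zero N).mpr (Submodule.subset_span ⟨i, rfl⟩)
    rw [this, TensorProduct.tmul_zero]
  have hsub : Subsingleton (κ ⊗[R] (M ⧸ N)) := by
    refine ⟨fun a b => ?_⟩
    obtain ⟨a', rfl⟩ := hT a
    obtain ⟨b', rfl⟩ := hT b
    rw [hT0]; rfl
  have hsupp : p ∉ Module.support R (M ⧸ N) := by
    rw [Module.mem_support_iff_nontrivial_residueField_tensorProduct]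
    exact not_nontrivial _
  rw [Module.notMem_support_iff'] at hsupp
  have key : ∀ m : M, ∃ r : R, r ∉ p.asIdeal ∧ r • m ∈ N := by
    intro m
    obtain ⟨r, hr, h0⟩ := hsupp (N.mkQ m)
    refine ⟨r, hr, ?_⟩
    rw [← map_smul] at h0
    exact (Submodule.Quotient.mk_eq_zero N).mp h0
  choose r hr hrN using key
  obtain ⟨G, hG⟩ := (Module.Finite.fg_top : (⊤ : Submodule R M).FG)
  classical
  refine ⟨∏ m ∈ G, r m, ?_, ?_⟩
  · intro hmem
    obtain ⟨m, -, hm⟩ := Ideal.IsPrime.prod_mem_iff.mp hmem
    exact hr m hm
  · intro m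
    have hm : m ∈ Submodule.span R (G : Set M) := hG ▸ Submodule.mem_top
    induction hm using Submodule.span_induction with
    | mem m hm =>
      rw [← Finset.mul_prod_erase G r hm, mul_comm, mul_smul]
      exact Submodule.smul_mem _ _ (hrN m)
    | zero => rw [smul_zero]; exact zero_mem _
    | add a b _ _ ha hb => rw [smul_add]; exact add_mem ha hb
    | smul c a _ ha => rw [smul_comm]; exact Submodule.smul_mem _ _ ha

theorem exists_local_data [Module.Finite R M]
    (hd : IsLocallyConstant (fun p : PrimeSpectrum R =>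
      Module.finrank p.asIdeal.ResidueField (p.asIdeal.ResidueField ⊗[R] M)))
    (p : PrimeSpectrum R) :
    ∃ (g : R) (n : ℕ) (x : Fin n → M), g ∉ p.asIdeal ∧
      (∀ m : M, g • m ∈ Submodule.span R (Set.range x)) ∧
      (∀ q : PrimeSpectrum R, g ∉ q.asIdeal →
        Module.finrank q.asIdeal.ResidueField (q.asIdeal.ResidueField ⊗[R] M) = n) := by
  obtain ⟨x, hx⟩ := exists_fiber_basis (M := M) p.asIdeal
  obtain ⟨g₂, hg₂, hgen⟩ := exists_smul_mem_span p x hx
  have hopen := hd.isOpen_fiber
    (Module.finrank p.asIdeal.ResidueField (p.asIdeal.ResidueField ⊗[R] M))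
  obtain ⟨_, ⟨g₁, rfl⟩, hp1, hsub⟩ :=
    PrimeSpectrum.isTopologicalBasis_basic_opens.exists_subset_of_mem_open
      (a := p) (u := {x : PrimeSpectrum R |
        Module.finrank x.asIdeal.ResidueField (x.asIdeal.ResidueField ⊗[R] M) =
        Module.finrank p.asIdeal.ResidueField (p.asIdeal.ResidueField ⊗[R] M)}) rfl hopen
  refine ⟨g₁ * g₂, _, x, ?_, ?_, ?_⟩
  · intro h
    rcases p.2.mem_or_mem h with h | h
    · exact hp1 h
    · exact hg₂ h
  · intro m
    rw [mul_smul]
    exact Submodule.smul_mem _ _ (hgen m)
  · intro q hq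
    have : g₁ ∉ q.asIdeal := fun h => hq (q.asIdeal.mul_mem_right _ h)
    exact hsub this

theorem projective_of_isLocallyConstant [IsReduced R] [Module.Finite R M]
    (hd : IsLocallyConstant (fun p : PrimeSpectrum R =>
      Module.finrank p.asIdeal.ResidueField (p.asIdeal.ResidueField ⊗[R] M))) :
    Module.Projective R M := by
  let s : Set R := {g | ∃ (n : ℕ) (x : Fin n → M),
    (∀ m : M, g • m ∈ Submodule.span R (Set.range x)) ∧
    (∀ q : PrimeSpectrum R, g ∉ q.asIdeal →
        Module.finrank q.asIdeal.ResidueField (q.asIdeal.ResidueField ⊗[R] M) = n)}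
  have hs : Ideal.span s = ⊤ := by
    by_contra hne
    obtain ⟨m, hm, hle⟩ := Ideal.exists_le_maximal _ hne
    obtain ⟨g, n, x, hg, hgen, hrank⟩ := exists_local_data hd ⟨m, hm.isPrime⟩
    exact hg (hle (Ideal.subset_span ⟨n, x, hgen, hrank⟩))
  have hfp : Module.FinitePresentation R M := by
    apply Module.FinitePresentation.of_localizationSpan s hs
    rintro ⟨g, n, x, hgen, hrank⟩
    obtain ⟨h1, h2⟩ := free_localized x g hgen hrank (Submonoid.powers g) (Submonoid.mem_powers g)
    exact Module.finitePresentation_of_projective _ _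
  apply Module.projective_of_localization_maximal
  intro I hI
  obtain ⟨g, n, x, hg, hgen, hrank⟩ := exists_local_data hd ⟨I, hI.isPrime⟩
  obtain ⟨h1, h2⟩ := free_localized x g hgen hrank I.primeCompl hg
  infer_instance

theorem result (R : Type u) [CommRing R] [IsReduced R] (M : Type u) [AddCommGroup M] [Module R M] :
    (Module.Finite R M ∧ Module.Projective R M) ↔
      (Module.Finite R M ∧ IsLocallyConstant (fun p : PrimeSpectrum R =>
        Module.finrank p.asIdeal.ResidueField (p.asIdeal.ResidueField ⊗[R] M))) := by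
  constructor
  · rintro ⟨hfin, hproj⟩
    refine ⟨hfin, ?_⟩
    have hfp : Module.FinitePresentation R M := Module.finitePresentation_of_projective _ _
    have := Module.isLocallyConstant_rankAtStalk (R := R) (M := M)
    convert this using 1
    funext p
    exact (Module.rankAtStalk_eq p).symm
  · rintro ⟨hfin, hd⟩
    exact ⟨hfin, projective_of_isLocallyConstant hd⟩

end Groth.Agent.Helper1.RedRank
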