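import Mathlib
import Groth.Agent.Lib.Helper1.RedRank

universe u

open TensorProduct

namespace Groth.Agent.Helper1.RedRank

variable {B : Type u} [CommRing B]

/-- Fibre dimension of a cokernel. -/
lemma finrank_fiber_coker {K K' : Type u} [AddCommGroup K] [Module B K] [AddCommGroup K']
    [Module B K'] [Module.Finite B K'] (φ : K →ₗ[B] K') (κ : Type u) [Field κ] [Algebra B κ] :
    Module.finrank κ (κ ⊗[B] (K' ⧸ LinearMap.range φ)) +
      Module.finrank κ ↥(LinearMap.range (φ.baseChange κ)) = Module.finrank κ (κ ⊗[B] K') := by
  let T : κ ⊗[B] K' →ₗ[κ] κ ⊗[B] (K' ⧸ LinearMap.range φ) :=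
    (LinearMap.range φ).mkQ.baseChange κ
  have hT : Function.Surjective T :=
    LinearMap.lTensor_surjective _ (LinearMap.range φ).mkQ_surjective
  have hex : Function.Exact (φ.baseChange κ) T :=
    lTensor_exact κ (LinearMap.exact_map_mkQ_range φ) (LinearMap.range φ).mkQ_surjective
  have hker : LinearMap.ker T = LinearMap.range (φ.baseChange κ) := by
    ext z
    rw [LinearMap.mem_ker, LinearMap.mem_range]
    exact hex z
  have h1 := LinearMap.finrank_range_add_finrank_ker T
  rw [LinearMap.range_eq_top.mpr hT, finrank_top, hker] at h1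
  exact h1

theorem result2 (B : Type u) [CommRing B] [IsNoetherianRing B] (K K' : Type u) [AddCommGroup K]
    [Module B K] [Module.Finite B K] [Module.Flat B K] [AddCommGroup K'] [Module B K']
    [Module.Finite B K'] [Module.Flat B K'] (φ : K →ₗ[B] K') [IsReduced B]
    (hconst : ∃ c : ℕ, ∀ y : PrimeSpectrum B, Module.finrank y.asIdeal.ResidueField
      ↥(LinearMap.range (φ.baseChange y.asIdeal.ResidueField)) = c) :
    Module.Projective B (K' ⧸ LinearMap.range φ) ∧ Module.Projective B ↥(LinearMap.range φ) := by
  obtain ⟨c, hc⟩ := hconst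
  have hfp : Module.FinitePresentation B K' := Module.finitePresentation_of_finite B K'
  have hK' : Module.Projective B K' := Module.Flat.projective_of_finitePresentation
  have hdK' : IsLocallyConstant (fun p : PrimeSpectrum B =>
      Module.finrank p.asIdeal.ResidueField (p.asIdeal.ResidueField ⊗[B] K')) := by
    have := Module.isLocallyConstant_rankAtStalk (R := B) (M := K')
    convert this using 1
    funext p
    exact (Module.rankAtStalk_eq p).symm
  have hdC : IsLocallyConstant (fun p : PrimeSpectrum B =>
      Module.finrank p.asIdeal.ResidueField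
        (p.asIdeal.ResidueField ⊗[B] (K' ⧸ LinearMap.range φ))) := by
    have h1 := hdK'.comp (fun n => n - c)
    convert h1 using 1
    funext p
    have h2 := finrank_fiber_coker φ p.asIdeal.ResidueField
    rw [hc p] at h2
    simp only [Function.comp_apply]
    omega
  have hC : Module.Projective B (K' ⧸ LinearMap.range φ) := projective_of_isLocallyConstant hdC
  refine ⟨hC, ?_⟩
  obtain ⟨σ, hσ⟩ := Module.projective_lifting_property (LinearMap.range φ).mkQ LinearMap.id
    (LinearMap.range φ).mkQ_surjective
  let r : K' →ₗ[B] ↥(LinearMap.range φ) :=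
    (LinearMap.id - σ.comp (LinearMap.range φ).mkQ).codRestrict (LinearMap.range φ) (by
      intro k
      rw [← Submodule.Quotient.mk_eq_zero, ← Submodule.mkQ_apply, LinearMap.sub_apply, map_sub]
      have : (LinearMap.range φ).mkQ (σ ((LinearMap.range φ).mkQ k)) =
          (LinearMap.range φ).mkQ k := congr($hσ ((LinearMap.range φ).mkQ k))
      simp only [LinearMap.id_apply, LinearMap.comp_apply]
      rw [this, sub_self])
  refine Module.Projective.of_split (LinearMap.range φ).subtype r ?_
  ext ⟨k, hk⟩
  simp only [LinearMap.comp_apply, Submodule.subtype_apply, LinearMap.id_apply, r,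
    LinearMap.codRestrict_apply, LinearMap.sub_apply]
  have : (LinearMap.range φ).mkQ k = 0 := (Submodule.Quotient.mk_eq_zero _).mpr hk
  rw [this, map_zero, sub_zero]

end Groth.Agent.Helper1.RedRank
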