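import Mathlib
import Groth.Prelude
import Groth.Agent.Lib.Helper1.FinLen9
import Groth.Agent.Lib.Helper1.CIcA
import Groth.Agent.Lib.Helper1.Euler3
import Groth.Agent.Lib.Helper1.VA5
import Groth.Agent.Lib.Lead.RkSch

/-!
# Classes of generically isomorphic coherent modules agree modulo lower-dimensional classes
(helper1)

On an integral Noetherian scheme of dimension `n`, two coherent modules with the same length at
the generic point have the same class in `K₀(Coh_{≤ a}) / K₀(Coh_{≤ b})` for any dimension function
`δ` with `δ(η) ≤ a`, `δ(η) ≤ b + 1`.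
-/

set_option autoImplicit false
set_option backward.isDefEq.respectTransparency.types false
set_option synthInstance.maxHeartbeats 400000
set_option linter.style.haveILetI false
set_option linter.unusedSectionVars false
set_option linter.unusedVariables false

universe u

open CategoryTheory CategoryTheory.Limits AlgebraicGeometry TopologicalSpace Opposite

namespace Groth.Agent.Helper1.RefK0

open Groth.Agent.Lead Groth.Agent.Helper1 Groth.Agent.Helper1.Dv Groth.Agent.Helper1.FinLen

variable {X : Scheme.{u}}

/-- a module invertible on a dense open has length one at the generic point -/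
theorem length_stalk_generic_eq_one [IsIntegral X] (F : X.Modules)
    (hrk : RefHull.GenInvertible F) :
    Module.length (X.presheaf.stalk (genericPoint X)) (F.presheaf.stalk (genericPoint X)) = 1 := by
  obtain ⟨W, a, hη, ha⟩ := Groth.Agent.Lead.RkSch.exists_isGen_generic hrk
  letI : Field (X.presheaf.stalk (genericPoint X)) := inferInstanceAs (Field X.functionField)
  have h := (Groth.Agent.Helper1.CIc.stalkEquiv ha hη).length_eq
  have h1 : Module.length (X.presheaf.stalk (genericPoint X))
      (X.presheaf.stalk (genericPoint X)) = 1 :=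
    Module.length_eq_one _ _
  exact h.symm.trans h1

/-- the top-dimensional cycle only depends on the length at the generic point -/
theorem cyc_eq_of_generic [IsIntegral X] (n : ℕ) (hdim : topologicalKrullDim X ≤ (n : ℕ))
    (M N : X.Modules)
    (h : Module.length (X.presheaf.stalk (genericPoint X)) (M.presheaf.stalk (genericPoint X)) =
      Module.length (X.presheaf.stalk (genericPoint X)) (N.presheaf.stalk (genericPoint X))) :
    cyc n M = cyc n N := by
  unfold cyc
  congr 1
  funext x
  by_cases hx : topologicalKrullDim ↥(closure ({x} : Set ↥X)) = n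
  · have hxe : genericPoint X = x :=
      eq_of_specializes_of_dim_eq (closure {genericPoint X}) isClosed_closure n
        ((topologicalKrullDim_subspace_le X _).trans hdim) x hx (genericPoint X)
        (subset_closure rfl) (genericPoint_specializes x)
    subst hxe
    rw [if_pos hx, if_pos hx, h]
  · rw [if_neg hx, if_neg hx]

/-- coherent modules with the same generic length agree modulo lower-dimensional classes -/
theorem sub_mem_lower [IsIntegral X] [IsNoetherian X] (n : ℕ)
    (hdim : topologicalKrullDim X ≤ (n : ℕ)) (M N : X.Modules) (hM : Coh.IsCoh M)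
    (hN : Coh.IsCoh N)
    (h : Module.length (X.presheaf.stalk (genericPoint X)) (M.presheaf.stalk (genericPoint X)) =
      Module.length (X.presheaf.stalk (genericPoint X)) (N.presheaf.stalk (genericPoint X))) :
    KZero.clSub (PC X) M - KZero.clSub (PC X) N ∈
      AddSubgroup.closure {c : KZero.K0sub (PC X) |
        ∃ G : X.Modules, Coh.IsCoh G ∧ topologicalKrullDim ↥(CohB1.support G) < n ∧
          c = KZero.clSub (PC X) G} := by
  have h1 := k0_cycle_congr n M hM ((topologicalKrullDim_subspace_le X _).trans hdim)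
  have h2 := k0_cycle_congr n N hN ((topologicalKrullDim_subspace_le X _).trans hdim)
  rw [cyc_eq_of_generic n hdim M N h] at h1
  have e : KZero.clSub (PC X) M - KZero.clSub (PC X) N =
      (KZero.clSub (PC X) M - cyc n N) - (KZero.clSub (PC X) N - cyc n N) := by abel
  rw [e]
  exact AddSubgroup.sub_mem _ h1 h2

section Delta

variable (δ : X → ℤ)

theorem cohLe_of_isCoh [IsIntegral X] (hδ : Cyc.IsDimFun X δ) (a : ℤ)
    (ha : δ (genericPoint X) ≤ a) (G : X.Modules) (hG : Coh.IsCoh G) : Cyc.CohLe δ a G := by
  refine ⟨hG, fun x _ => ?_⟩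
  by_cases hx : genericPoint X = x
  · rw [← hx]; exact ha
  · exact ((hδ _ _ (genericPoint_specializes x) hx).1.le).trans ha

theorem cohLe_of_dim_lt [IsIntegral X] (hδ : Cyc.IsDimFun X δ) (n : ℕ)
    (hdim : topologicalKrullDim X = (n : ℕ)) (b : ℤ) (hb : δ (genericPoint X) ≤ b + 1)
    (G : X.Modules) (hG : Coh.IsCoh G)
    (hlt : topologicalKrullDim ↥(CohB1.support G) < (n : ℕ)) : Cyc.CohLe δ b G := by
  refine ⟨hG, fun x hx => ?_⟩
  have hxs : x ∈ CohB1.support G := not_subsingleton_iff_nontrivial.2 hx
  have hne : genericPoint X ≠ x := by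
    intro he
    have hcl : IsClosed (CohB1.support G) := FtGen.isClosed_support G hG.2
    have hsub : closure ({genericPoint X} : Set X) ⊆ CohB1.support G :=
      closure_minimal (by rw [Set.singleton_subset_iff, he]; exact hxs) hcl
    have h1 := krullDim_le_of_subset hsub
    have h2 : topologicalKrullDim ↥(closure ({genericPoint X} : Set X)) = (n : ℕ) := by
      rw [genericPoint_closure]
      have := IsHomeomorph.topologicalKrullDim_eq _ (Homeomorph.Set.univ X).isHomeomorph
      rw [this, hdim]
    rw [h2] at h1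
    exact absurd (h1.trans_lt hlt) (lt_irrefl _)
  have h3 := (hδ _ _ (genericPoint_specializes x) hne).1
  omega

/-- the comparison map `K₀(Coh X) → K₀(Coh_{≤ a} X)` when every coherent module lies in
`Coh_{≤ a}` -/
noncomputable def toCohLe (a : ℤ) (hP : ∀ G : X.Modules, Coh.IsCoh G → Cyc.CohLe δ a G) :
    KZero.K0sub (PC X) →+ KZero.K0sub (Cyc.CohLe δ a) :=
  SGA6.mapSub (𝟭 X.Modules) (PC X) (Cyc.CohLe δ a) hP

theorem toCohLe_clSub (a : ℤ) (hP : ∀ G : X.Modules, Coh.IsCoh G → Cyc.CohLe δ a G)
    (G : X.Modules) (hG : Coh.IsCoh G) :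
    toCohLe δ a hP (KZero.clSub (PC X) G) = KZero.clSub (Cyc.CohLe δ a) G := by
  rw [clSub_of G hG]
  have h2 : KZero.clSub (Cyc.CohLe δ a) G =
      QuotientAddGroup.mk (FreeAbelianGroup.of ⟨G, hP G hG⟩) := dif_pos (hP G hG)
  rw [h2]
  unfold toCohLe SGA6.mapSub
  rw [QuotientAddGroup.map_mk, FreeAbelianGroup.map_of_apply]
  rfl

theorem main [IsIntegral X] [IsNoetherian X] (n : ℕ) (hdim : topologicalKrullDim X = (n : ℕ))
    (hδ : Cyc.IsDimFun X δ) (a b : ℤ) (ha : δ (genericPoint X) ≤ a)
    (hb : δ (genericPoint X) ≤ b + 1) (M N : X.Modules) (hM : Coh.IsCoh M) (hN : Coh.IsCoh N)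
    (h : Module.length (X.presheaf.stalk (genericPoint X)) (M.presheaf.stalk (genericPoint X)) =
      Module.length (X.presheaf.stalk (genericPoint X)) (N.presheaf.stalk (genericPoint X))) :
    Cyc.toK0CohQuot δ a b M = Cyc.toK0CohQuot δ a b N := by
  have hP : ∀ G : X.Modules, Coh.IsCoh G → Cyc.CohLe δ a G := fun G hG =>
    cohLe_of_isCoh δ hδ a ha G hG
  have hmem := sub_mem_lower n hdim.le N M hN hM h.symm
  have hle : AddSubgroup.closure {c : KZero.K0sub (PC X) |
        ∃ G : X.Modules, Coh.IsCoh G ∧ topologicalKrullDim ↥(CohB1.support G) < n ∧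
          c = KZero.clSub (PC X) G} ≤
      (AddSubgroup.closure {c : KZero.K0sub (Cyc.CohLe δ a) |
        ∃ F : X.Modules, Cyc.CohLe δ b F ∧ c = KZero.clSub (Cyc.CohLe δ a) F}).comap
        (toCohLe δ a hP) := by
    rw [AddSubgroup.closure_le]
    rintro c ⟨G, hG, hlt, rfl⟩
    refine AddSubgroup.mem_comap.2 ?_
    rw [toCohLe_clSub δ a hP G hG]
    exact AddSubgroup.subset_closure ⟨G, cohLe_of_dim_lt δ hδ n hdim b hb G hG hlt, rfl⟩
  have hmap := AddSubgroup.mem_comap.1 (hle hmem)
  rw [map_sub, toCohLe_clSub δ a hP N hN, toCohLe_clSub δ a hP M hM] at hmap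
  unfold Cyc.toK0CohQuot
  rw [QuotientAddGroup.eq, neg_add_eq_sub]
  exact hmap

end Delta

end Groth.Agent.Helper1.RefK0
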