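import Mathlib
import Groth.Agent.Lib.Helper4.RegRes1
import Groth.Agent.Lib.Helper4.ClBridge2
import Groth.Agent.Lib.Helper1.Big5
import Groth.Agent.Lib.Helper1.Dv15
import Groth.Agent.Lib.Helper1.NegVan1

/-!
# Regularity of the cokernel and the image of the last differential of a complex of regular
modules on projective space whose higher homology is supported in dimension `≤ 1` (helper1)
-/

set_option backward.isDefEq.respectTransparency.types false
set_option synthInstance.maxHeartbeats 400000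
set_option autoImplicit false
universe u
open CategoryTheory CategoryTheory.Limits AlgebraicGeometry TopologicalSpace Opposite

namespace Groth.Agent.Helper1.RegCx

open Groth.Agent.Lib.Helper4 Groth.Agent.Lib.Helper4.SerreVan Groth.Agent.Helper1
open Groth.Agent.Lib.Helper4.KosC1

section Gen

variable {X : Scheme.{u}} (E : ChainComplex X.Modules ℕ)

/-- the cycles of a complex of coherent modules are coherent -/
theorem isCoh_cycles [IsLocallyNoetherian X] (hcoh : ∀ s, Coh.IsCoh (E.X s)) (s : ℕ) :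
    Coh.IsCoh (E.cycles (s + 1)) := by
  have h1 := E.cyclesIsKernel (s + 1) s (ChainComplex.next_nat_succ s)
  have h2 := kernelIsKernel (E.d (s + 1) s)
  have e := IsLimit.conePointUniqueUpToIso h1 h2
  exact Dv.isCoh_of_iso e.symm (FtLocal.isCoh_kernel (hcoh (s + 1)) (hcoh s) _)

/-- the sequence `Z_{s+1} → E_{s+1} → I` for a factorisation of the differential through an
epimorphism followed by a monomorphism -/
theorem cyc_shortExact (s : ℕ) {I : X.Modules} (π : E.X (s + 1) ⟶ I) (m : I ⟶ E.X s) [Epi π]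
    [Mono m] (hfac : π ≫ m = E.d (s + 1) s) (w : E.iCycles (s + 1) ≫ π = 0) :
    (ShortComplex.mk (E.iCycles (s + 1)) π w).ShortExact := by
  have hk := isKernelOfComp (f := π) m (E.d (s + 1) s)
    (E.cyclesIsKernel (s + 1) s (ChainComplex.next_nat_succ s)) w hfac
  have hS : (ShortComplex.mk (E.iCycles (s + 1)) π w).Exact :=
    ShortComplex.exact_of_f_is_kernel _ hk
  haveI : Mono (ShortComplex.mk (E.iCycles (s + 1)) π w).f :=
    inferInstanceAs (Mono (E.iCycles (s + 1)))
  haveI : Epi (ShortComplex.mk (E.iCycles (s + 1)) π w).g := inferInstanceAs (Epi π)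
  exact { exact := hS }

theorem cyc_zero (s : ℕ) {I : X.Modules} (π : E.X (s + 1) ⟶ I) (m : I ⟶ E.X s)
    [Mono m] (hfac : π ≫ m = E.d (s + 1) s) : E.iCycles (s + 1) ≫ π = 0 := by
  rw [← cancel_mono m, Category.assoc, hfac, zero_comp]
  exact E.iCycles_d (s + 1) s

/-- the comparison of the cokernel of `toCycles` with the homology -/
noncomputable def cokerIso (s : ℕ) : cokernel (E.toCycles (s + 1) s) ≅ E.homology s :=
  IsColimit.coconePointUniqueUpToIso (cokernelIsCokernel (E.toCycles (s + 1) s))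
    (E.homologyIsCokernel (s + 1) s (ChainComplex.prev ℕ s))

theorem cokerIso_hom (s : ℕ) :
    cokernel.π (E.toCycles (s + 1) s) ≫ (cokerIso E s).hom = E.homologyπ s :=
  IsColimit.comp_coconePointUniqueUpToIso_hom (cokernelIsCokernel (E.toCycles (s + 1) s))
    (E.homologyIsCokernel (s + 1) s (ChainComplex.prev ℕ s)) WalkingParallelPair.one

theorem im_zero (s : ℕ) :
    Abelian.image.ι (E.toCycles (s + 1) s) ≫ E.homologyπ s = 0 := by
  rw [← cokerIso_hom, ← Category.assoc]
  have : Abelian.image.ι (E.toCycles (s + 1) s) ≫ cokernel.π (E.toCycles (s + 1) s) = 0 :=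
    kernel.condition _
  rw [this, zero_comp]

/-- the sequence `B_s → Z_s → H_s` -/
theorem im_shortExact (s : ℕ) :
    (ShortComplex.mk (Abelian.image.ι (E.toCycles (s + 1) s)) (E.homologyπ s)
      (im_zero E s)).ShortExact := by
  let S₁ : ShortComplex X.Modules := ShortComplex.mk (Abelian.image.ι (E.toCycles (s + 1) s))
    (cokernel.π (E.toCycles (s + 1) s)) (kernel.condition _)
  let S₂ : ShortComplex X.Modules := ShortComplex.mk (Abelian.image.ι (E.toCycles (s + 1) s))
    (E.homologyπ s) (im_zero E s)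
  have hS₁ : S₁.Exact :=
    ShortComplex.exact_of_f_is_kernel _ (kernelIsKernel (cokernel.π (E.toCycles (s + 1) s)))
  let α : S₁ ⟶ S₂ :=
    { τ₁ := 𝟙 _
      τ₂ := 𝟙 _
      τ₃ := (cokerIso E s).hom
      comm₁₂ := by simp [S₁, S₂]
      comm₂₃ := by
        change 𝟙 _ ≫ E.homologyπ s = cokernel.π (E.toCycles (s + 1) s) ≫ (cokerIso E s).hom
        rw [cokerIso_hom, Category.id_comp] }
  have : Epi α.τ₁ := inferInstanceAs (Epi (𝟙 _))
  have : IsIso α.τ₂ := inferInstanceAs (IsIso (𝟙 _))
  have : Mono α.τ₃ := inferInstanceAs (Mono (cokerIso E s).hom)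
  have hS₂ : S₂.Exact := (ShortComplex.exact_iff_of_epi_of_isIso_of_mono α).1 hS₁
  haveI : Mono S₂.f := inferInstanceAs (Mono (Abelian.image.ι (E.toCycles (s + 1) s)))
  haveI : Epi S₂.g := inferInstanceAs (Epi (E.homologyπ s))
  exact { exact := hS₂ }

/-- the image--cokernel sequence of a morphism -/
theorem imCoker_shortExact {G G' : X.Modules} (μ : G ⟶ G') :
    (ShortComplex.mk (Abelian.image.ι μ) (cokernel.π μ) (kernel.condition _)).ShortExact := by
  let S₂ : ShortComplex X.Modules := ShortComplex.mk (Abelian.image.ι μ)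
    (cokernel.π μ) (kernel.condition _)
  have hS₂ : S₂.Exact :=
    ShortComplex.exact_of_f_is_kernel _ (kernelIsKernel (cokernel.π μ))
  haveI : Mono S₂.f := inferInstanceAs (Mono (Abelian.image.ι μ))
  haveI : Epi S₂.g := inferInstanceAs (Epi (cokernel.π μ))
  exact { exact := hS₂ }

theorem isCoh_image [IsLocallyNoetherian X] {G G' : X.Modules} (hG : Coh.IsCoh G)
    (hG' : Coh.IsCoh G') (μ : G ⟶ G') : Coh.IsCoh (Abelian.image μ) :=
  FtLocal.isCoh_kernel hG' (FtLocal.isCoh_cokernel hG hG' μ) _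

theorem isCoh_homology [IsLocallyNoetherian X] (hcoh : ∀ s, Coh.IsCoh (E.X s)) (s : ℕ) :
    Coh.IsCoh (E.homology (s + 1)) :=
  Dv.isCoh_of_iso (cokerIso E (s + 1))
    (FtLocal.isCoh_cokernel (hcoh (s + 2)) (isCoh_cycles E hcoh s) _)

end Gen

section Pn

variable (k : Type u) [Field k] (n : ℕ)

theorem isNoetherian_projSpace : AlgebraicGeometry.IsNoetherian (CohB1.ProjSpace n k) := by
  haveI : IsLocallyNoetherian (CohB1.ProjSpace n k) := SerreFin.instLN n k
  haveI : CompactSpace (CohB1.ProjSpace n k) :=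
    QuasiCompact.compactSpace_of_compactSpace (CohB1.ProjSpace.toSpec n k)
  exact {}

/-- vanishing of the twists of a zero module -/
theorem subsingleton_Tw_of_isZero (I : (CohB1.ProjSpace n k).Modules) (hI : IsZero I) (c : ℤ)
    (j : ℕ) : Subsingleton (Coh.HH (CohB1.ProjSpace n k) ((Tw n k c).obj I) j) := by
  have hz' : IsZero ((Tw n k c).obj I) :=
    Groth.Agent.Lib.Helper5.SPTensor.isZero_tensor_left I (Twist.twistProjSpace n k c) hI
  exact H1Ext.subsingleton_HH_of_isZero hz' j

/-- vanishing of the higher cohomology of the twists of a module supported in dimension `≤ 1` -/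
theorem subsingleton_Tw_of_dim_le_one (H : (CohB1.ProjSpace n k).Modules) (hH : Coh.IsCoh H)
    (hd : topologicalKrullDim (CohB1.support H) ≤ 1) (c : ℤ) (j : ℕ) (hj : 2 ≤ j) :
    Subsingleton (Coh.HH (CohB1.ProjSpace n k) ((Tw n k c).obj H) j) := by
  haveI := isNoetherian_projSpace k n
  have hsub : CohB1.support ((Tw n k c).obj H) ⊆ CohB1.support H := fun x hx =>
    NegVan.support_tensor_subset (ClBridge2.isInvertible_twist n k c) x hx
  have hd' : topologicalKrullDim ↥(CohB1.support ((Tw n k c).obj H)) ≤ ((1 : ℕ) : WithBot ℕ∞) := by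
    rw [Nat.cast_one]
    exact (Dv.krullDim_le_of_subset hsub).trans hd
  exact Big.subsingleton_HH_of_dim_support_lt _ (isCoh_Tw n k c H hH) 1 hd' j (by omega)

variable (E : ChainComplex ((CohB1.ProjSpace n k).Modules) ℕ)
  (hcoh : ∀ s : ℕ, Coh.IsCoh (E.X s)) (d : ℤ)
  (hreg : ∀ s : ℕ, Curv2.IsMRegular k n (E.X s) (d + s))
  (hsupp : ∀ i : ℕ, 0 < i → topologicalKrullDim (CohB1.support (E.homology i)) ≤ 1)

/-- the vanishing statement for the boundaries in degree `s` -/
def BdVan (s : ℕ) : Prop :=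
  ∀ j : ℕ, s + 1 ≤ j → j ≤ n →
    Subsingleton (Coh.HH (CohB1.ProjSpace n k)
      ((Tw n k (d + s + 1 - j)).obj (Abelian.image (E.toCycles (s + 1) s))) j)

include hcoh hreg hsupp

theorem step (s : ℕ) {I : (CohB1.ProjSpace n k).Modules} (π : E.X (s + 1) ⟶ I) (m : I ⟶ E.X s)
    [Epi π] [Mono m] (hfac : π ≫ m = E.d (s + 1) s) (hP : BdVan k n E d (s + 1)) :
    ∀ j : ℕ, s + 1 ≤ j → j ≤ n →
      Subsingleton (Coh.HH (CohB1.ProjSpace n k) ((Tw n k (d + s + 1 - j)).obj I) j) := by
  intro j hj hjn
  haveI := isNoetherian_projSpace k n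
  obtain ⟨c, hc⟩ : ∃ c : ℤ, c = d + s + 1 - j := ⟨_, rfl⟩
  rw [← hc]
  have hA := cyc_shortExact E s π m hfac (cyc_zero E s π m hfac)
  have hAt := TwExact.shortExact_map (SerreVan.locGen_twist n k c) hA
  have hB := im_shortExact E (s + 1)
  have hBt := TwExact.shortExact_map (SerreVan.locGen_twist n k c) hB
  -- the middle term of the first sequence
  have h2 : Subsingleton (Coh.HH (CohB1.ProjSpace n k) ((Tw n k c).obj (E.X (s + 1))) j) := by
    have := hreg (s + 1) j (by omega) hjn
    exact subsingleton_twist_congr n k (E.X (s + 1)) (by rw [hc]; push_cast; ring) j this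
  -- the cycles
  have hZc : Coh.IsCoh (E.cycles (s + 1)) := isCoh_cycles E hcoh s
  have hIc : Coh.IsCoh (Abelian.image (E.toCycles (s + 1 + 1) (s + 1))) :=
    isCoh_image (hcoh (s + 2)) hZc _
  have hI1 : Subsingleton (Coh.HH (CohB1.ProjSpace n k)
      ((Tw n k c).obj (Abelian.image (E.toCycles (s + 1 + 1) (s + 1)))) (j + 1)) := by
    by_cases hlt : j + 1 ≤ n
    · have := hP (j + 1) (by omega) hlt
      exact subsingleton_twist_congr n k _ (by rw [hc]; push_cast; ring) (j + 1) this
    · haveI : (Abelian.image (E.toCycles (s + 1 + 1) (s + 1))).IsQuasicoherent := hIc.1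
      haveI := RegRes1.isQCoh_Tw n k c (Abelian.image (E.toCycles (s + 1 + 1) (s + 1)))
      exact Groth.Agent.S0022.result n k _ (j + 1) (by omega)
  have hH1 : Subsingleton (Coh.HH (CohB1.ProjSpace n k)
      ((Tw n k c).obj (E.homology (s + 1))) (j + 1)) :=
    subsingleton_Tw_of_dim_le_one k n _ (isCoh_homology E hcoh s) (hsupp (s + 1) (by omega)) c
      (j + 1) (by omega)
  have h1 : Subsingleton (Coh.HH (CohB1.ProjSpace n k) ((Tw n k c).obj (E.cycles (s + 1)))
      (j + 1)) :=
    H1Ext.subsingleton_HH_mid hBt (j + 1) hI1 hH1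
  exact subsingleton_X₃ k hAt j h2 h1

theorem bdVan_all (t : ℕ) (hbdd : ∀ s : ℕ, t < s → IsZero (E.X s)) :
    ∀ r s : ℕ, s + r = t + 1 → BdVan k n E d s := by
  intro r
  induction r with
  | zero =>
    intro s hs j _ _
    have hz : IsZero (E.X (s + 1)) := hbdd (s + 1) (by omega)
    have hI : IsZero (Abelian.image (E.toCycles (s + 1) s)) :=
      IsZero.of_epi (Abelian.factorThruImage (E.toCycles (s + 1) s)) hz
    exact subsingleton_Tw_of_isZero k n _ hI _ j
  | succ r ih =>
    intro s hs
    have hP := ih (s + 1) (by omega)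
    have hfac : Abelian.factorThruImage (E.toCycles (s + 1) s) ≫
        (Abelian.image.ι (E.toCycles (s + 1) s) ≫ E.iCycles s) = E.d (s + 1) s := by
      rw [← Category.assoc, Abelian.image.fac, E.toCycles_i]
    exact step k n E hcoh d hreg hsupp s (Abelian.factorThruImage (E.toCycles (s + 1) s))
      (Abelian.image.ι (E.toCycles (s + 1) s) ≫ E.iCycles s) hfac hP

/-- **regularity of the image and the cokernel of the last differential** -/
theorem main (t : ℕ) (hbdd : ∀ s : ℕ, t < s → IsZero (E.X s)) :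
    Curv2.IsMRegular k n (cokernel (E.d 1 0)) d ∧
      Curv2.IsMRegular k n (Abelian.image (E.d 1 0)) (d + 1) := by
  haveI := isNoetherian_projSpace k n
  have hP1 : BdVan k n E d 1 := bdVan_all k n E hcoh d hreg hsupp t hbdd t 1 (by omega)
  have him : ∀ j : ℕ, 1 ≤ j → j ≤ n →
      Subsingleton (Coh.HH (CohB1.ProjSpace n k)
        ((Tw n k (d + (0 : ℕ) + 1 - j)).obj (Abelian.image (E.d 1 0))) j) := fun j hj hjn =>
    step k n E hcoh d hreg hsupp 0 (Abelian.factorThruImage (E.d 1 0))
      (Abelian.image.ι (E.d 1 0)) (Abelian.image.fac _) hP1 j (by omega) hjn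
  have hreg1 : Curv2.IsMRegular k n (Abelian.image (E.d 1 0)) (d + 1) := by
    intro i hi hin
    exact subsingleton_twist_congr n k _ (by push_cast; ring) i (him i hi hin)
  refine ⟨?_, hreg1⟩
  intro i hi hin
  have hS := imCoker_shortExact (E.d 1 0)
  have hSt := TwExact.shortExact_map (SerreVan.locGen_twist n k (d - i)) hS
  have h2 : Subsingleton (Coh.HH (CohB1.ProjSpace n k) ((Tw n k (d - i)).obj (E.X 0)) i) := by
    have := hreg 0 i hi hin
    exact subsingleton_twist_congr n k (E.X 0) (by push_cast; ring) i this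
  have hIc : Coh.IsCoh (Abelian.image (E.d 1 0)) := isCoh_image (hcoh 1) (hcoh 0) _
  have h1 : Subsingleton (Coh.HH (CohB1.ProjSpace n k)
      ((Tw n k (d - i)).obj (Abelian.image (E.d 1 0))) (i + 1)) := by
    by_cases hlt : i + 1 ≤ n
    · have := hreg1 (i + 1) (by omega) hlt
      exact subsingleton_twist_congr n k _ (by push_cast; ring) (i + 1) this
    · haveI : (Abelian.image (E.d 1 0)).IsQuasicoherent := hIc.1
      haveI := RegRes1.isQCoh_Tw n k (d - i) (Abelian.image (E.d 1 0))
      exact Groth.Agent.S0022.result n k _ (i + 1) (by omega)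
  exact subsingleton_X₃ k hSt i h2 h1

end Pn

end Groth.Agent.Helper1.RegCx
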