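import Mathlib
import Groth.Agent.Lib.Helper1.RegLift
import Groth.Agent.Lib.Helper1.NilNak

universe u v

namespace Groth.Agent.Helper1.RegLiftRing
open RingTheory.Sequence

variable {A' : Type u} [CommRing A'] [IsArtinianRing A'] [IsLocalRing A'] (I : Ideal A')
    {S' : Type v} [CommRing S'] [Algebra A' S']

lemma isNilpotent_max : IsNilpotent (IsLocalRing.maximalIdeal A') := by
  have h1 : IsNilpotent (Ideal.jacobson (⊥ : Ideal A')) :=
    IsArtinianRing.isNilpotent_jacobson_bot
  rwa [IsLocalRing.jacobson_eq_maximalIdeal ⊥ bot_ne_top] at h1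

include I in
lemma isNilpotent_of_ne_top (hI : I ≠ ⊤) : IsNilpotent I := by
  have hIm : I ≤ IsLocalRing.maximalIdeal A' := IsLocalRing.le_maximalIdeal hI
  obtain ⟨j, hj⟩ := isNilpotent_max (A' := A')
  refine ⟨j, le_bot_iff.mp ?_⟩
  have := Ideal.pow_right_mono hIm j
  rwa [hj] at this

theorem isRegular_iff [Module.Flat A' S'] (hI : I ≠ ⊤) (rs : List S') :
    IsRegular S' rs ↔ IsRegular (S' ⧸ I.map (algebraMap A' S'))
      (rs.map (algebraMap S' (S' ⧸ I.map (algebraMap A' S')))) := by
  classical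
  have hnil := isNilpotent_max (A' := A')
  have hInil := isNilpotent_of_ne_top I hI
  obtain ⟨hT, _⟩ := Groth.Agent.Helper1.RegLift.main (S := S') hnil I hI rs S'
  have hW : RingTheory.Sequence.IsWeaklyRegular (S' ⧸ I.map (algebraMap A' S'))
      (rs.map (algebraMap S' (S' ⧸ I.map (algebraMap A' S')))) ↔
      RingTheory.Sequence.IsWeaklyRegular S' rs := by
    rw [RingTheory.Sequence.isWeaklyRegular_map_algebraMap_iff]
    have e : (S' ⧸ (I.map (algebraMap A' S') • (⊤ : Submodule S' S'))) ≃ₗ[S']
        (S' ⧸ I.map (algebraMap A' S')) :=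
      Submodule.quotEquivOfEq _ _ (by rw [smul_eq_mul, Ideal.mul_top])
    rw [← e.isWeaklyRegular_congr rs]
    exact hT
  have hTop : ((⊤ : Submodule (S' ⧸ I.map (algebraMap A' S')) (S' ⧸ I.map (algebraMap A' S'))) =
      Ideal.ofList (rs.map (algebraMap S' (S' ⧸ I.map (algebraMap A' S')))) • ⊤) ↔
      ((⊤ : Submodule S' S') = Ideal.ofList rs • ⊤) := by
    rw [smul_eq_mul, Ideal.mul_top, smul_eq_mul, Ideal.mul_top, ← Ideal.map_ofList]
    constructor
    · intro h
      have h1 : Ideal.ofList rs ⊔ I.map (algebraMap A' S') = ⊤ := by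
        have := congrArg (Ideal.comap (algebraMap S' (S' ⧸ I.map (algebraMap A' S')))) h
        rw [Ideal.comap_top, Ideal.Quotient.algebraMap_eq,
          Ideal.comap_map_of_surjective _ Ideal.Quotient.mk_surjective,
          ← RingHom.ker_eq_comap_bot, Ideal.mk_ker] at this
        exact this.symm
      have h2 : (⊤ : Submodule A' S') ≤ (Ideal.ofList rs).restrictScalars A' ⊔ I • ⊤ := by
        rw [Ideal.smul_top_eq_map]
        intro x _
        have : x ∈ Ideal.ofList rs ⊔ I.map (algebraMap A' S') := by rw [h1]; trivial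
        obtain ⟨y, hy, z, hz, rfl⟩ := Submodule.mem_sup.mp this
        exact Submodule.add_mem_sup hy hz
      have h3 := Groth.Agent.Helper1.NilNak.le_of_le_sup_smul I hInil _ _ h2
      symm
      rw [eq_top_iff]
      intro x _
      exact h3 (Submodule.mem_top : x ∈ ⊤)
    · intro h
      rw [← h, Ideal.map_top]
  rw [RingTheory.Sequence.isRegular_iff, RingTheory.Sequence.isRegular_iff, hW, Ne, Ne, hTop]

theorem isRegular_ofFn_iff [Module.Flat A' S'] (hI : I ≠ ⊤) {n : ℕ} (f' : Fin n → S') :
    IsRegular S' (List.ofFn f') ↔ IsRegular (S' ⧸ I.map (algebraMap A' S'))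
      (List.ofFn fun i => Ideal.Quotient.mk (I.map (algebraMap A' S')) (f' i)) := by
  have hmap : (List.ofFn fun i => Ideal.Quotient.mk (I.map (algebraMap A' S')) (f' i)) =
      (List.ofFn f').map (algebraMap S' (S' ⧸ I.map (algebraMap A' S'))) := by
    rw [List.map_ofFn]; rfl
  rw [hmap]
  exact isRegular_iff I hI _

theorem flat_quot [Module.Flat A' S'] (rs : List S') (h : IsWeaklyRegular S' rs) :
    Module.Flat A' (S' ⧸ Ideal.ofList rs) := by
  have hnil := isNilpotent_max (A' := A')
  obtain ⟨_, hT⟩ := Groth.Agent.Helper1.RegLift.main (S := S') hnil (⊥ : Ideal A') bot_ne_top rs S'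
  have := hT h
  have e : (S' ⧸ (Ideal.ofList rs • (⊤ : Submodule S' S'))) ≃ₗ[S'] (S' ⧸ Ideal.ofList rs) :=
    Submodule.quotEquivOfEq _ _ (by rw [smul_eq_mul, Ideal.mul_top])
  exact Module.Flat.of_linearEquiv (e.symm.restrictScalars A')

lemma ofList_ofFn {n : ℕ} (f' : Fin n → S') :
    Ideal.ofList (List.ofFn f') = Ideal.span (Set.range f') := by
  unfold Ideal.ofList
  congr 1
  ext x
  simp [List.mem_ofFn]

theorem flat_quot_span [Module.Flat A' S'] {n : ℕ} (f' : Fin n → S')
    (h : IsWeaklyRegular S' (List.ofFn f')) :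
    Module.Flat A' (S' ⧸ Ideal.span (Set.range f')) := by
  have := flat_quot (A' := A') _ h
  rw [ofList_ofFn] at this
  exact this

/-- an ideal with flat quotient is generated by lifts of generators of its image mod `I` -/
theorem eq_span_of_flat (hI : I ≠ ⊤) (I' : Ideal S') [Module.Flat A' (S' ⧸ I')] [Module.Flat A' S']
    {n : ℕ} (a' : Fin n → S') (ha' : ∀ i, a' i ∈ I')
    (h : I'.map (Ideal.Quotient.mk (I.map (algebraMap A' S'))) ≤
      (Ideal.span (Set.range a')).map (Ideal.Quotient.mk (I.map (algebraMap A' S')))) :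
    I' = Ideal.span (Set.range a') := by
  have hInil := isNilpotent_of_ne_top I hI
  have hle : Ideal.span (Set.range a') ≤ I' := by
    rw [Ideal.span_le]; rintro _ ⟨i, rfl⟩; exact ha' i
  refine le_antisymm ?_ hle
  set π : S' →ₗ[A'] (S' ⧸ I') := (Submodule.mkQ I').restrictScalars A' with hπ
  have hπs : Function.Surjective π := Submodule.mkQ_surjective I'
  have hflat := LinearMap.ker_inf_smul_top_eq_smul_of_flat I π hπs
  have hker : LinearMap.ker π = I'.restrictScalars A' := by
    ext x
    simp [hπ]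
  have h1 : I'.restrictScalars A' ≤
      (Ideal.span (Set.range a')).restrictScalars A' ⊔ I • (I'.restrictScalars A') := by
    intro x hx
    have hx' : x ∈ I' := hx
    have h2 : Ideal.Quotient.mk (I.map (algebraMap A' S')) x ∈
        (Ideal.span (Set.range a')).map (Ideal.Quotient.mk (I.map (algebraMap A' S'))) :=
      h (Ideal.mem_map_of_mem _ hx')
    obtain ⟨y, hy, hyx⟩ := (Ideal.mem_map_iff_of_surjective _ Ideal.Quotient.mk_surjective).mp h2
    have h3 : x - y ∈ I.map (algebraMap A' S') := by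
      rw [← Ideal.Quotient.eq_zero_iff_mem, map_sub, hyx, sub_self]
    have h4 : x - y ∈ LinearMap.ker π ⊓ I • (⊤ : Submodule A' S') := by
      refine ⟨?_, ?_⟩
      · rw [hker]
        exact I'.sub_mem hx' (hle hy)
      · rw [Ideal.smul_top_eq_map]; exact h3
    rw [hflat, hker] at h4
    have : x = y + (x - y) := by ring
    rw [this]
    exact Submodule.add_mem_sup hy h4
  have := Groth.Agent.Helper1.NilNak.le_of_le_sup_smul I hInil _ _ h1
  exact this

end Groth.Agent.Helper1.RegLiftRing
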