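import Mathlib
import Groth.Agent.Lib.Helper1.ExtTensor
import Groth.Agent.Lib.Helper1.RelAmpleLib

set_option autoImplicit false
universe u
open CategoryTheory CategoryTheory.Limits AlgebraicGeometry TopologicalSpace Opposite

namespace Groth.Agent.Helper1.ExtTensor

open Groth.Agent.Helper1.QcCech Groth.Agent.Helper1.SubSh Groth.Agent.Helper1.LGen
open Groth.Agent.Helper1.TmulLib Groth.Agent.Helper1 Groth.Agent.Helper1.TwistSec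
open Groth.Agent.Helper1.TensGen Groth.Agent.Helper1.TwForm Groth.Agent.Helper1.AmpleLib
open Groth.Agent.Helper1.PullAmple

/-- external tensor products of ample modules are ample, for any cartesian square -/
theorem isAmple_externalTensor_of_isPullback {Z X Y S : Scheme.{u}} [QuasiSeparatedSpace S]
    {p₁ : Z ⟶ X} {p₂ : Z ⟶ Y} {f : X ⟶ S} {g : Y ⟶ S} (sq : IsPullback p₁ p₂ f g)
    {L : X.Modules} {N : Y.Modules} (hL : CohB1.IsAmple L) (hN : CohB1.IsAmple N) :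
    CohB1.IsAmple (CohB1.tensorMod ((Scheme.Modules.pullback p₁).obj L)
      ((Scheme.Modules.pullback p₂).obj N)) := by
  have : CompactSpace X := hL.2.1
  have : CompactSpace Y := hN.2.1
  have : CompactSpace ↑(pullback f g) := inferInstance
  have : CompactSpace Z := QuasiCompact.compactSpace_of_compactSpace sq.isoPullback.hom
  apply isAmple_tensor_of_sections (PullGen.isInvertible_pullback _ hL.1)
    (PullGen.isInvertible_pullback _ hN.1)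
  intro z
  obtain ⟨_, ⟨S₀, hS₀, rfl⟩, hzS₀, -⟩ := S.isBasis_affineOpens.exists_subset_of_mem_open
    (Set.mem_univ (f (p₁ z))) isOpen_univ
  have hzS₀' : g (p₂ z) ∈ S₀ := by
    have : f (p₁ z) = g (p₂ z) := by
      rw [← Scheme.Hom.comp_apply, ← Scheme.Hom.comp_apply, sq.w]
    rw [← this]; exact hzS₀
  obtain ⟨a, s, hxs, hsS, haffs⟩ := exists_genLocus_nbhd hL (f ⁻¹ᵁ S₀) (p₁ z) hzS₀
  obtain ⟨b, t, hyt, htS, hafft⟩ := exists_genLocus_nbhd hN (g ⁻¹ᵁ S₀) (p₂ z) hzS₀'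
  refine ⟨a, b, pullPowSec p₁ hL.1 (a + 1) s, pullPowSec p₂ hN.1 (b + 1) t, ?_, ?_⟩
  · rw [genLocus_pullPowSec, genLocus_pullPowSec]
    exact ⟨hxs, hyt⟩
  · rw [genLocus_pullPowSec, genLocus_pullPowSec]
    have h1 := isAffineOpen_preimage_inf_preimage f g _ _ S₀ haffs hafft hS₀ hsS htS
    have h2 := h1.preimage_of_isIso sq.isoPullback.hom
    have e1 : ∀ W : X.Opens, p₁ ⁻¹ᵁ W = sq.isoPullback.hom ⁻¹ᵁ (pullback.fst f g ⁻¹ᵁ W) := by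
      intro W
      rw [← Scheme.Hom.comp_preimage, sq.isoPullback_hom_fst]
    have e2 : ∀ W : Y.Opens, p₂ ⁻¹ᵁ W = sq.isoPullback.hom ⁻¹ᵁ (pullback.snd f g ⁻¹ᵁ W) := by
      intro W
      rw [← Scheme.Hom.comp_preimage, sq.isoPullback_hom_snd]
    rw [e1, e2]
    exact h2

/-- pullback commutes with restriction along open immersions, general form -/
noncomputable def restrictPullbackIso'' {Z S Z' S' : Scheme.{u}} (u : Z ⟶ S) (j : Z' ⟶ Z)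
    [IsOpenImmersion j] (i : S' ⟶ S) [IsOpenImmersion i] (q : Z' ⟶ S') (hq : q ≫ i = j ≫ u)
    (L : S.Modules) :
    ((Scheme.Modules.pullback u).obj L).restrict j ≅
      (Scheme.Modules.pullback q).obj (L.restrict i) :=
  (Scheme.Modules.restrictFunctorIsoPullback j).app _ ≪≫
    (Scheme.Modules.pullbackComp j u).app L ≪≫
    (Scheme.Modules.pullbackCongr hq.symm).app L ≪≫
    ((Scheme.Modules.pullbackComp q i).app L).symm ≪≫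
    (Scheme.Modules.pullback q).mapIso
      ((Scheme.Modules.restrictFunctorIsoPullback i).app L).symm

/-- the external tensor product restricted to a product of opens over an affine open of the
base -/
theorem isAmple_restrict_externalTensor {X₁ X₂ S : Scheme.{u}} (h₁ : X₁ ⟶ S) (h₂ : X₂ ⟶ S)
    (S₀ : S.Opens) (hS₀ : IsAffineOpen S₀) (U₁ : X₁.Opens) (U₂ : X₂.Opens)
    (hU₁ : U₁ ≤ h₁ ⁻¹ᵁ S₀) (hU₂ : U₂ ≤ h₂ ⁻¹ᵁ S₀) {L₁ : X₁.Modules} {L₂ : X₂.Modules}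
    (hL₁ : CohB1.IsAmple (L₁.restrict U₁.ι)) (hL₂ : CohB1.IsAmple (L₂.restrict U₂.ι)) :
    CohB1.IsAmple ((CohB1.tensorMod ((Scheme.Modules.pullback (pullback.fst h₁ h₂)).obj L₁)
      ((Scheme.Modules.pullback (pullback.snd h₁ h₂)).obj L₂)).restrict
        ((pullback.fst h₁ h₂) ⁻¹ᵁ U₁ ⊓ (pullback.snd h₁ h₂) ⁻¹ᵁ U₂).ι) := by
  have : IsAffine (↑S₀ : Scheme.{u}) := hS₀
  have r1 : Set.range (U₁.ι ≫ h₁) ⊆ Set.range S₀.ι := by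
    rintro _ ⟨x, rfl⟩
    rw [Scheme.Opens.range_ι]
    exact hU₁ x.2
  have r2 : Set.range (U₂.ι ≫ h₂) ⊆ Set.range S₀.ι := by
    rintro _ ⟨x, rfl⟩
    rw [Scheme.Opens.range_ι]
    exact hU₂ x.2
  let h₁' : (↑U₁ : Scheme.{u}) ⟶ ↑S₀ := IsOpenImmersion.lift S₀.ι (U₁.ι ≫ h₁) r1
  let h₂' : (↑U₂ : Scheme.{u}) ⟶ ↑S₀ := IsOpenImmersion.lift S₀.ι (U₂.ι ≫ h₂) r2
  have e₁ : h₁' ≫ S₀.ι = U₁.ι ≫ h₁ := IsOpenImmersion.lift_fac _ _ r1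
  have e₂ : h₂' ≫ S₀.ι = U₂.ι ≫ h₂ := IsOpenImmersion.lift_fac _ _ r2
  let j := pullback.map h₁' h₂' h₁ h₂ U₁.ι U₂.ι S₀.ι e₁ e₂
  have hj : j.opensRange = (pullback.fst h₁ h₂) ⁻¹ᵁ U₁ ⊓ (pullback.snd h₁ h₂) ⁻¹ᵁ U₂ := by
    ext z
    have := Scheme.Pullback.range_map h₁' h₂' h₁ h₂ U₁.ι U₂.ι S₀.ι e₁ e₂
    change z ∈ Set.range j ↔ _
    rw [this, Scheme.Opens.range_ι, Scheme.Opens.range_ι]
    rfl
  rw [← isAmple_restrict_iff_of_opensRange_eq j _ _ hj]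
  have hq1 : pullback.fst h₁' h₂' ≫ U₁.ι = j ≫ pullback.fst h₁ h₂ :=
    (pullback.lift_fst _ _ _).symm
  have hq2 : pullback.snd h₁' h₂' ≫ U₂.ι = j ≫ pullback.snd h₁ h₂ :=
    (pullback.lift_snd _ _ _).symm
  let eA := restrictPullbackIso'' (pullback.fst h₁ h₂) j U₁.ι (pullback.fst h₁' h₂') hq1 L₁
  let eB := restrictPullbackIso'' (pullback.snd h₁ h₂) j U₂.ι (pullback.snd h₁' h₂') hq2 L₂
  have amp := isAmple_externalTensor_of_isPullback (IsPullback.of_hasPullback h₁' h₂') hL₁ hL₂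
  have hA := TwistAmpleOpen.isInvertible_of_iso eA.symm (PullGen.isInvertible_pullback _ hL₁.1)
  have hB := TwistAmpleOpen.isInvertible_of_iso eB.symm (PullGen.isInvertible_pullback _ hL₂.1)
  have hloc := locFrame_of_isInvertible hA hB
  let e := RelAmpleLib.restrictTensorModIso j hloc ≪≫
    TwistTens.tensorModCongrLeft eA _ ≪≫ TwistTens.tensorModCongrRight _ eB
  exact TwistAmpleOpen.isAmple_of_iso e.symm amp

/-- **EGA II 4.6.13 (iv)**: external tensor products of relatively ample modules are ample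
relative to the product morphism -/
theorem isRelAmple_externalTensor {X₁ X₂ Y₁ Y₂ S : Scheme.{u}} (a₁ : Y₁ ⟶ S) (a₂ : Y₂ ⟶ S)
    (f₁ : X₁ ⟶ Y₁) (f₂ : X₂ ⟶ Y₂) [QuasiCompact f₁] [QuasiCompact f₂] (L₁ : X₁.Modules)
    (L₂ : X₂.Modules) (hL₁ : RelAmple.IsRelAmple f₁ L₁) (hL₂ : RelAmple.IsRelAmple f₂ L₂) :
    RelAmple.IsRelAmple
      (pullback.map (f₁ ≫ a₁) (f₂ ≫ a₂) a₁ a₂ f₁ f₂ (𝟙 S) (Category.comp_id (f₁ ≫ a₁))
        (Category.comp_id (f₂ ≫ a₂)))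
      (CohB1.tensorMod ((Scheme.Modules.pullback (pullback.fst (f₁ ≫ a₁) (f₂ ≫ a₂))).obj L₁)
        ((Scheme.Modules.pullback (pullback.snd (f₁ ≫ a₁) (f₂ ≫ a₂))).obj L₂)) := by
  set F := pullback.map (f₁ ≫ a₁) (f₂ ≫ a₂) a₁ a₂ f₁ f₂ (𝟙 S) (Category.comp_id (f₁ ≫ a₁))
    (Category.comp_id (f₂ ≫ a₂)) with hF
  have hqc : QuasiCompact F :=
    MorphismProperty.pullbackMap (P := @QuasiCompact) (f := f₁ ≫ a₁) (g := f₂ ≫ a₂)
      (f' := a₁) (g' := a₂) (i₁ := f₁) (i₂ := f₂) inferInstance inferInstance rfl rfl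
  have hF1 : F ≫ pullback.fst a₁ a₂ = pullback.fst (f₁ ≫ a₁) (f₂ ≫ a₂) ≫ f₁ :=
    pullback.lift_fst _ _ _
  have hF2 : F ≫ pullback.snd a₁ a₂ = pullback.snd (f₁ ≫ a₁) (f₂ ≫ a₂) ≫ f₂ :=
    pullback.lift_snd _ _ _
  refine ⟨hqc, fun V => ?_⟩
  apply isAmple_restrict_preimage_of_locally F _ V.1 V.2
  intro z hz
  -- affine opens around the images
  obtain ⟨_, ⟨S₀, hS₀, rfl⟩, hzS₀, -⟩ := S.isBasis_affineOpens.exists_subset_of_mem_open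
    (Set.mem_univ (a₁ (pullback.fst a₁ a₂ (F z)))) isOpen_univ
  have hzS₀' : a₂ (pullback.snd a₁ a₂ (F z)) ∈ S₀ := by
    have : a₁ (pullback.fst a₁ a₂ (F z)) = a₂ (pullback.snd a₁ a₂ (F z)) := by
      have h := congrArg (fun φ : pullback a₁ a₂ ⟶ S => φ (F z)) (pullback.condition (f := a₁) (g := a₂))
      simpa only [Scheme.Hom.comp_apply] using h
    rw [← this]; exact hzS₀
  obtain ⟨_, ⟨V₁, hV₁, rfl⟩, hzV₁, hV₁S⟩ := Y₁.isBasis_affineOpens.exists_subset_of_mem_open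
    (show pullback.fst a₁ a₂ (F z) ∈ ((a₁ ⁻¹ᵁ S₀ : Y₁.Opens) : Set Y₁) from hzS₀)
    (a₁ ⁻¹ᵁ S₀).isOpen
  obtain ⟨_, ⟨V₂, hV₂, rfl⟩, hzV₂, hV₂S⟩ := Y₂.isBasis_affineOpens.exists_subset_of_mem_open
    (show pullback.snd a₁ a₂ (F z) ∈ ((a₂ ⁻¹ᵁ S₀ : Y₂.Opens) : Set Y₂) from hzS₀')
    (a₂ ⁻¹ᵁ S₀).isOpen
  set W : (pullback a₁ a₂).Opens := pullback.fst a₁ a₂ ⁻¹ᵁ V₁ ⊓ pullback.snd a₁ a₂ ⁻¹ᵁ V₂ with hW
  have hzW : F z ∈ W := ⟨hzV₁, hzV₂⟩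
  obtain ⟨r, hrle, hzr⟩ := V.2.exists_basicOpen_le (V := V.1 ⊓ W) ⟨F z, hz, hzW⟩ hz
  refine ⟨r, hzr, ?_⟩
  have hFW : F ⁻¹ᵁ W = pullback.fst (f₁ ≫ a₁) (f₂ ≫ a₂) ⁻¹ᵁ (f₁ ⁻¹ᵁ V₁) ⊓
      pullback.snd (f₁ ≫ a₁) (f₂ ≫ a₂) ⁻¹ᵁ (f₂ ⁻¹ᵁ V₂) := by
    rw [hW, Scheme.Hom.preimage_inf, ← Scheme.Hom.comp_preimage, ← Scheme.Hom.comp_preimage,
      hF1, hF2, Scheme.Hom.comp_preimage, Scheme.Hom.comp_preimage]
  have hle : F ⁻¹ᵁ (pullback a₁ a₂).basicOpen r ≤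
      pullback.fst (f₁ ≫ a₁) (f₂ ≫ a₂) ⁻¹ᵁ (f₁ ⁻¹ᵁ V₁) ⊓
        pullback.snd (f₁ ≫ a₁) (f₂ ≫ a₂) ⁻¹ᵁ (f₂ ⁻¹ᵁ V₂) := by
    rw [← hFW]
    exact F.preimage_mono (hrle.trans inf_le_right)
  have hc : IsCompact ((F ⁻¹ᵁ (pullback a₁ a₂).basicOpen r : (pullback (f₁ ≫ a₁) (f₂ ≫ a₂)).Opens) :
      Set ↑(pullback (f₁ ≫ a₁) (f₂ ≫ a₂))) :=
    F.isCompact_preimage (V.2.basicOpen r).isCompact
  refine isAmple_restrict_of_le _ hle hc ?_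
  apply isAmple_restrict_externalTensor (f₁ ≫ a₁) (f₂ ≫ a₂) S₀ hS₀
  · intro x hx
    exact hV₁S hx
  · intro x hx
    exact hV₂S hx
  · exact hL₁.2 ⟨V₁, hV₁⟩
  · exact hL₂.2 ⟨V₂, hV₂⟩

end Groth.Agent.Helper1.ExtTensor
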