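import Mathlib
import Groth.Prelude.Def_RelProj
import Groth.Agent.Lib.Helper1.RelProjLoc
import Groth.Agent.Lib.Helper1.RelProjGlue

/-!
# Integrality of relative Proj (helper1 library)
-/

open CategoryTheory CategoryTheory.Limits AlgebraicGeometry Opposite TopologicalSpace
open HomogeneousLocalization
open scoped HomogeneousIdeal

universe u

namespace Groth.Agent.Helper1.RelProjInt

section Graded
variable {σ A : Type u} [CommRing A] [SetLike σ A] [AddSubgroupClass σ A] (𝒜 : ℕ → σ)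
  [GradedRing 𝒜]

/-- the generic point of `Proj` of a graded domain with nonzero irrelevant ideal -/
def eta [IsDomain A] (hne : ((𝒜)₊).toIdeal ≠ ⊥) : ProjectiveSpectrum 𝒜 where
  asHomogeneousIdeal := ⊥
  isPrime := by
    rw [HomogeneousIdeal.toIdeal_bot]
    exact Ideal.isPrime_bot
  not_irrelevant_le h := by
    apply hne
    have : ((𝒜)₊).toIdeal ≤ (⊥ : HomogeneousIdeal 𝒜).toIdeal := h
    rw [HomogeneousIdeal.toIdeal_bot] at this
    exact le_bot_iff.mp this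

theorem closure_eta [IsDomain A] (hne : ((𝒜)₊).toIdeal ≠ ⊥) :
    closure ({eta 𝒜 hne} : Set (ProjectiveSpectrum 𝒜)) = Set.univ := by
  refine Set.eq_univ_of_forall fun y => ?_
  rw [← ProjectiveSpectrum.le_iff_mem_closure, ← ProjectiveSpectrum.as_ideal_le_as_ideal]
  exact bot_le

theorem irreducibleSpace_proj [IsDomain A] (hne : ((𝒜)₊).toIdeal ≠ ⊥) :
    IrreducibleSpace (Proj 𝒜) := by
  have h1 : IsIrreducible (Set.univ : Set (ProjectiveSpectrum 𝒜)) := by
    rw [← closure_eta 𝒜 hne]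
    exact isIrreducible_singleton.closure
  have h2 : IrreducibleSpace (ProjectiveSpectrum 𝒜) :=
    { isPreirreducible_univ := h1.isPreirreducible
      toNonempty := ⟨eta 𝒜 hne⟩ }
  exact h2

end Graded

section Top

/-- a space covered by a "directed" family of irreducible open subsets is irreducible -/
theorem irreducibleSpace_of_cover {X I : Type*} [TopologicalSpace X] [Nonempty I] (V : I → Set X)
    (hopen : ∀ i, IsOpen (V i)) (hirr : ∀ i, IsIrreducible (V i))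
    (hcov : ∀ x : X, ∃ i, x ∈ V i) (hdir : ∀ i j, ∃ k, V k ⊆ V i ∩ V j) : IrreducibleSpace X := by
  obtain ⟨i₀⟩ := ‹Nonempty I›
  obtain ⟨x₀, -⟩ := (hirr i₀).nonempty
  refine { isPreirreducible_univ := ?_, toNonempty := ⟨x₀⟩ }
  rintro W₁ W₂ hW₁ hW₂ ⟨x, -, hx⟩ ⟨y, -, hy⟩
  obtain ⟨i, hi⟩ := hcov x
  obtain ⟨j, hj⟩ := hcov y
  obtain ⟨k, hk⟩ := hdir i j
  obtain ⟨z, hzk⟩ := (hirr k).nonempty
  have h1 : (V k ∩ W₁).Nonempty := by
    obtain ⟨w, hwi, hw1, hwk⟩ := (hirr i).isPreirreducible W₁ (V k) hW₁ (hopen k) ⟨x, hi, hx⟩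
      ⟨z, (hk hzk).1, hzk⟩
    exact ⟨w, hwk, hw1⟩
  have h2 : (V k ∩ W₂).Nonempty := by
    obtain ⟨w, hwj, hw2, hwk⟩ := (hirr j).isPreirreducible W₂ (V k) hW₂ (hopen k) ⟨y, hj, hy⟩
      ⟨z, (hk hzk).2, hzk⟩
    exact ⟨w, hwk, hw2⟩
  obtain ⟨w, -, hw⟩ := (hirr k).isPreirreducible W₁ W₂ hW₁ hW₂ h1 h2
  exact ⟨w, trivial, hw⟩

end Top

section Rel
variable {Y P : Scheme.{u}} (𝒮 : RelProj.QCGrAlg Y) (p : P ⟶ Y)
  (chart : ∀ (U : Y.Opens) (hU : IsAffineOpen U),
    (((p ⁻¹ᵁ U : P.Opens) : Scheme.{u}) ≅ Proj (𝒮.deg U hU)))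

include chart in
theorem isIntegral_relProj [IsIntegral Y]
    (h0 : ∀ (U : Y.Opens) (hU : IsAffineOpen U), Function.Bijective (𝒮.strZero U hU).hom)
    (hint : ∀ (U : Y.Opens) (hU : IsAffineOpen U), (U : Set Y).Nonempty →
      IsDomain (𝒮.presheaf.obj (op U)) ∧ ((𝒮.deg U hU)₊).toIdeal ≠ ⊥) :
    IsIntegral P ∧ DenseRange p := by
  -- irreducibility of the charts
  have hirrU : ∀ (U : Y.Opens) (hU : IsAffineOpen U), (U : Set Y).Nonempty →
      IrreducibleSpace ↥(p ⁻¹ᵁ U) := by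
    intro U hU hne
    obtain ⟨hdom, hirr⟩ := hint U hU hne
    have := irreducibleSpace_proj (𝒮.deg U hU) hirr
    exact (chart U hU).hom.homeomorph.irreducibleSpace_iff.mpr this
  -- reducedness
  have hred : AlgebraicGeometry.IsReduced P := by
    refine RelProjLoc.isReduced 𝒮 p chart fun U hU x hx hnil => ?_
    by_cases hne : (U : Set Y).Nonempty
    · obtain ⟨hdom, -⟩ := hint U hU hne
      exact hnil.eq_zero
    · have hbot : U = ⊥ := by
        ext y
        simp only [Opens.coe_bot, Set.mem_empty_iff_false, iff_false]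
        exact fun hy => hne ⟨y, hy⟩
      subst hbot
      have h1 : (1 : Γ(Y, (⊥ : Y.Opens))) = 0 := Subsingleton.elim _ _
      have h2 := congrArg (fun r => ((𝒮.strZero ⊥ hU).hom r : 𝒮.presheaf.obj (op ⊥))) h1
      simp only [map_one, map_zero, ZeroMemClass.coe_zero] at h2
      have h2' : (1 : 𝒮.presheaf.obj (op ⊥)) = 0 := h2
      calc x = x * 1 := (mul_one x).symm
        _ = 0 := by rw [h2', mul_zero]
  -- the index type of nonempty affine opens
  let I := {U : Y.affineOpens // (U.1 : Set Y).Nonempty}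
  have hYne : Nonempty Y := inferInstance
  have hIne : Nonempty I := by
    obtain ⟨y⟩ := hYne
    obtain ⟨U, hU, hyU, -⟩ := Opens.isBasis_iff_nbhd.mp Y.isBasis_affineOpens
      (show y ∈ (⊤ : Y.Opens) from trivial)
    exact ⟨⟨⟨U, hU⟩, ⟨y, hyU⟩⟩⟩
  have hirrP : IrreducibleSpace P := by
    refine irreducibleSpace_of_cover (I := I) (fun U => ((p ⁻¹ᵁ U.1.1 : P.Opens) : Set P))
      (fun U => (p ⁻¹ᵁ U.1.1).isOpen) (fun U => ?_) (fun x => ?_) (fun U V => ?_)
    · have := hirrU U.1.1 U.1.2 U.2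
      exact IsIrreducible.of_subtype
    · obtain ⟨U, hU, hyU, -⟩ := Opens.isBasis_iff_nbhd.mp Y.isBasis_affineOpens
        (show p x ∈ (⊤ : Y.Opens) from trivial)
      exact ⟨⟨⟨U, hU⟩, ⟨p x, hyU⟩⟩, hyU⟩
    · obtain ⟨y, -, hyU, hyV⟩ := (IrreducibleSpace.isIrreducible_univ Y).isPreirreducible
        U.1.1 V.1.1 U.1.1.isOpen V.1.1.isOpen (by simpa using U.2) (by simpa using V.2)
      obtain ⟨W, hW, hyW, hWUV⟩ := Opens.isBasis_iff_nbhd.mp Y.isBasis_affineOpens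
        (show y ∈ U.1.1 ⊓ V.1.1 from ⟨hyU, hyV⟩)
      exact ⟨⟨⟨W, hW⟩, ⟨y, hyW⟩⟩, fun z hz => ⟨(hWUV hz).1, (hWUV hz).2⟩⟩
  refine ⟨isIntegral_of_irreducibleSpace_of_isReduced P, ?_⟩
  rw [DenseRange, dense_iff_inter_open]
  intro V hV ⟨y, hyV⟩
  obtain ⟨W, hW, hyW, hWV⟩ := Opens.isBasis_iff_nbhd.mp Y.isBasis_affineOpens
    (show y ∈ (⟨V, hV⟩ : Y.Opens) from hyV)
  have := hirrU W hW ⟨y, hyW⟩
  obtain ⟨z⟩ : Nonempty ↥(p ⁻¹ᵁ W) := inferInstance
  exact ⟨p z.1, hWV z.2, z.1, rfl⟩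

end Rel

section Graded2
variable {σ A : Type u} [CommRing A] [SetLike σ A] [AddSubgroupClass σ A] (𝒜 : ℕ → σ)
  [GradedRing 𝒜]

/-- a homogeneous element of positive degree lying in every point of `Proj` is nilpotent -/
theorem isNilpotent_of_forall_mem {i : ℕ} (hi : 0 < i) {f : A} (hf : f ∈ 𝒜 i)
    (h : ∀ x : ProjectiveSpectrum 𝒜, f ∈ x.asHomogeneousIdeal) : IsNilpotent f := by
  classical
  rw [← mem_nilradical, nilradical, Ideal.zero_eq_bot,
    Ideal.IsHomogeneous.radical_eq (Ideal.IsHomogeneous.bot 𝒜)]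
  rw [Ideal.mem_sInf]
  rintro J ⟨hJhom, -, hJprime⟩
  by_contra hfJ
  have hirr : ¬ (𝒜)₊ ≤ (⟨J, hJhom⟩ : HomogeneousIdeal 𝒜) := fun hle =>
    hfJ (hle (HomogeneousIdeal.mem_irrelevant_of_mem 𝒜 hi hf))
  exact hfJ (h ⟨⟨J, hJhom⟩, hJprime, hirr⟩)

theorem isEmpty_proj_of_irrelevant_eq_bot (h : ((𝒜)₊).toIdeal = ⊥) :
    IsEmpty (ProjectiveSpectrum 𝒜) := by
  refine ⟨fun x => x.not_irrelevant_le ?_⟩
  have : ((𝒜)₊).toIdeal ≤ x.asHomogeneousIdeal.toIdeal := by rw [h]; exact bot_le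
  exact this

end Graded2

section Rel2
variable {Y P : Scheme.{u}} (𝒮 : RelProj.QCGrAlg Y) (p : P ⟶ Y)
  (chart : ∀ (U : Y.Opens) (hU : IsAffineOpen U),
    (((p ⁻¹ᵁ U : P.Opens) : Scheme.{u}) ≅ Proj (𝒮.deg U hU)))

/-- if `a ∈ 𝒮(U)` is the image of `r` and kills the irrelevant ideal, the irrelevant ideal of
`𝒮(D(r))` vanishes -/
theorem irrelevant_basicOpen_eq_bot (U : Y.Opens) (hU : IsAffineOpen U) (r : Γ(Y, U))
    (hr : ∀ x ∈ (𝒮.deg U hU)₊, (𝒮.str.app (op U)).hom r * x = 0) :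
    ((𝒮.deg (Y.basicOpen r) (hU.basicOpen r))₊).toIdeal = ⊥ := by
  rw [eq_bot_iff]
  have hle : ((𝒮.deg (Y.basicOpen r) (hU.basicOpen r))₊).toIdeal ≤
      (((𝒮.deg U hU)₊).map (𝒮.res hU (hU.basicOpen r) (Y.basicOpen_le r))).toIdeal :=
    𝒮.irrelevant_le_map U hU r
  refine hle.trans ?_
  rw [HomogeneousIdeal.toIdeal_map, Ideal.map_le_iff_le_comap]
  intro x hx
  rw [Ideal.mem_comap, Ideal.mem_bot]
  letI := (𝒮.presheaf.map (homOfLE (Y.basicOpen_le r)).op).hom.toAlgebra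
  have hloc : IsLocalization.Away ((𝒮.str.app (op U)).hom r)
      (𝒮.presheaf.obj (op (Y.basicOpen r))) := 𝒮.isQC U hU r
  have hu : IsUnit (algebraMap (𝒮.presheaf.obj (op U)) (𝒮.presheaf.obj (op (Y.basicOpen r)))
      ((𝒮.str.app (op U)).hom r)) := IsLocalization.Away.algebraMap_isUnit _
  have h1 := congrArg (algebraMap (𝒮.presheaf.obj (op U)) (𝒮.presheaf.obj (op (Y.basicOpen r))))
    (hr x hx)
  rw [map_mul, map_zero] at h1
  exact (hu.mul_right_eq_zero).mp h1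

include chart in
theorem integral_of_isIntegral_relProj [IsIntegral Y]
    (h0 : ∀ (U : Y.Opens) (hU : IsAffineOpen U), Function.Bijective (𝒮.strZero U hU).hom)
    (hred : ∀ (U : Y.Opens) (hU : IsAffineOpen U) (x : 𝒮.presheaf.obj (op U)),
      x ∈ (𝒮.deg U hU)₊ → IsNilpotent x → x = 0)
    [IsIntegral P] (hdom : DenseRange p)
    (U : Y.Opens) (hU : IsAffineOpen U) (hne : (U : Set Y).Nonempty) :
    IsDomain (𝒮.presheaf.obj (op U)) ∧ ((𝒮.deg U hU)₊).toIdeal ≠ ⊥ := by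
  classical
  -- `Proj 𝒮(U)` is integral
  have hne' : Nonempty ↥(p ⁻¹ᵁ U) := by
    obtain ⟨z, hz⟩ := hdom.exists_mem_open U.isOpen hne
    exact ⟨⟨z, hz⟩⟩
  have hne'' : Nonempty ((p ⁻¹ᵁ U : P.Opens) : Scheme.{u}) := hne'
  have hintU : IsIntegral ((p ⁻¹ᵁ U : P.Opens) : Scheme.{u}) :=
    isIntegral_of_isOpenImmersion (p ⁻¹ᵁ U).ι
  have hneProj : Nonempty (Proj (𝒮.deg U hU)) := Nonempty.map (chart U hU).hom hne'
  have hintProj : IsIntegral (Proj (𝒮.deg U hU)) :=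
    isIntegral_of_isOpenImmersion (chart U hU).inv
  have hirrProj : IrreducibleSpace (ProjectiveSpectrum (𝒮.deg U hU)) :=
    inferInstanceAs (IrreducibleSpace (Proj (𝒮.deg U hU)))
  have hsob : QuasiSober (ProjectiveSpectrum (𝒮.deg U hU)) :=
    inferInstanceAs (QuasiSober (Proj (𝒮.deg U hU)))
  set η : ProjectiveSpectrum (𝒮.deg U hU) := genericPoint (ProjectiveSpectrum (𝒮.deg U hU))
    with hη
  have hηle : ∀ x : ProjectiveSpectrum (𝒮.deg U hU), η ≤ x := by
    intro x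
    rw [ProjectiveSpectrum.le_iff_mem_closure]
    have := genericPoint_spec (ProjectiveSpectrum (𝒮.deg U hU))
    rw [IsGenericPoint] at this
    rw [this]; trivial
  -- homogeneous elements of positive degree in `η` vanish
  have h4b : ∀ (i : ℕ), 0 < i → ∀ f ∈ 𝒮.deg U hU i, f ∈ η.asHomogeneousIdeal → f = 0 := by
    intro i hi f hf hfη
    refine hred U hU f (HomogeneousIdeal.mem_irrelevant_of_mem _ hi hf) ?_
    exact isNilpotent_of_forall_mem (𝒮.deg U hU) hi hf fun x => (hηle x) hfη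
  -- degree zero elements of `η` vanish
  have h4c : ∀ a ∈ 𝒮.deg U hU 0, a ∈ η.asHomogeneousIdeal → a = 0 := by
    intro a ha haη
    obtain ⟨r, hr⟩ := (h0 U hU).2 ⟨a, ha⟩
    have hra : (𝒮.str.app (op U)).hom r = a := congrArg Subtype.val hr
    have hkill : ∀ x ∈ (𝒮.deg U hU)₊, (𝒮.str.app (op U)).hom r * x = 0 := by
      intro x hx
      rw [hra, ← DirectSum.sum_support_decompose (𝒮.deg U hU) x, Finset.mul_sum]
      refine Finset.sum_eq_zero fun i _ => ?_
      by_cases hi : i = 0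
      · subst hi
        have := (HomogeneousIdeal.mem_irrelevant_iff _ _).mp hx
        rw [GradedRing.proj_apply] at this
        rw [this, mul_zero]
      · refine h4b (0 + i) (by omega) _ (SetLike.mul_mem_graded ha (SetLike.coe_mem _)) ?_
        exact Ideal.mul_mem_right _ _ haη
    have hbot := irrelevant_basicOpen_eq_bot 𝒮 U hU r hkill
    have hempty := isEmpty_proj_of_irrelevant_eq_bot _ hbot
    have hr0 : r = 0 := by
      rw [← basicOpen_eq_bot_iff]
      by_contra hne2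
      have hne3 : ((Y.basicOpen r : Y.Opens) : Set Y).Nonempty :=
        (Opens.ne_bot_iff_nonempty _).mp hne2
      obtain ⟨z, hz⟩ := hdom.exists_mem_open (Y.basicOpen r).isOpen hne3
      exact hempty.false ((chart (Y.basicOpen r) (hU.basicOpen r)).hom ⟨z, hz⟩)
    rw [← hra, hr0, map_zero]
  -- hence `η` is the zero ideal
  have hηbot : η.asHomogeneousIdeal.toIdeal = ⊥ := by
    rw [eq_bot_iff]
    intro x hx
    rw [Ideal.mem_bot, ← DirectSum.sum_support_decompose (𝒮.deg U hU) x]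
    refine Finset.sum_eq_zero fun i _ => ?_
    have hxi : (DirectSum.decompose (𝒮.deg U hU) x i : 𝒮.presheaf.obj (op U)) ∈
        η.asHomogeneousIdeal := η.asHomogeneousIdeal.isHomogeneous i hx
    by_cases hi : i = 0
    · subst hi
      exact h4c _ (SetLike.coe_mem _) hxi
    · exact h4b i (Nat.pos_of_ne_zero hi) _ (SetLike.coe_mem _) hxi
  have hprime : (⊥ : Ideal (𝒮.presheaf.obj (op U))).IsPrime := hηbot ▸ η.isPrime
  refine ⟨?_, ?_⟩
  · have : Nontrivial (𝒮.presheaf.obj (op U)) := by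
      by_contra hnt
      rw [not_nontrivial_iff_subsingleton] at hnt
      exact hprime.ne_top (Subsingleton.elim _ _)
    have : NoZeroDivisors (𝒮.presheaf.obj (op U)) := ⟨fun {a b} hab => by
      have := hprime.mem_or_mem (show a * b ∈ (⊥ : Ideal _) from hab)
      simpa using this⟩
    exact NoZeroDivisors.to_isDomain _
  · intro hbot
    exact (isEmpty_proj_of_irrelevant_eq_bot _ hbot).false η

end Rel2

end Groth.Agent.Helper1.RelProjInt
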