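import Mathlib
import Groth.Prelude.Def_RelProj
import Groth.Agent.Lib.Helper1.RelProjMap

/-!
# Proj only depends on the positive degrees (helper1 library)
-/

open CategoryTheory CategoryTheory.Limits AlgebraicGeometry Opposite TopologicalSpace
open HomogeneousLocalization
open scoped HomogeneousIdeal

universe u

namespace Groth.Agent.Helper1.RelProjIso

section Graded
variable {σ τ A B : Type*} [CommRing A] [SetLike σ A] [AddSubgroupClass σ A] {𝒜 : ℕ → σ}
  [GradedRing 𝒜] [CommRing B] [SetLike τ B] [AddSubgroupClass τ B] {ℬ : ℕ → τ} [GradedRing ℬ]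

lemma awayMap_bijective (f : 𝒜 →+*ᵍ ℬ)
    (hbij : ∀ n : ℕ, 0 < n → Set.BijOn f (𝒜 n) (ℬ n)) {d : ℕ} (hd : 0 < d) (s : A)
    (hs : s ∈ 𝒜 d) : Function.Bijective (Away.map f s) := by
  constructor
  · rw [injective_iff_map_eq_zero]
    intro z hz
    obtain ⟨n, a, ha, rfl⟩ := Away.mk_surjective 𝒜 hs z
    rw [Away.map_mk] at hz
    have h1 := congrArg HomogeneousLocalization.val hz
    rw [Away.val_mk, HomogeneousLocalization.val_zero, Localization.mk_eq_mk',
      IsLocalization.mk'_eq_zero_iff] at h1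
    obtain ⟨⟨_, m, rfl⟩, hm⟩ := h1
    have hm' : (f s) ^ m * f a = 0 := hm
    have hdeg : s ^ (m + 1) * a ∈ 𝒜 ((m + 1) • d + n • d) :=
      SetLike.mul_mem_graded (SetLike.pow_mem_graded _ hs) ha
    have hpos : 0 < (m + 1) • d + n • d := by
      simp only [smul_eq_mul]; positivity
    have h2 : f (s ^ (m + 1) * a) = f 0 := by
      rw [map_mul, map_pow, pow_succ, mul_assoc, mul_comm (f s), ← mul_assoc, hm', zero_mul,
        map_zero]
    have h3 : s ^ (m + 1) * a = 0 := (hbij _ hpos).injOn hdeg (zero_mem _) h2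
    apply HomogeneousLocalization.val_injective
    rw [Away.val_mk, HomogeneousLocalization.val_zero, Localization.mk_eq_mk',
      IsLocalization.mk'_eq_zero_iff]
    exact ⟨⟨s ^ (m + 1), m + 1, rfl⟩, h3⟩
  · intro z
    obtain ⟨n, b, hb, rfl⟩ := Away.mk_surjective ℬ (f.map_mem hs) z
    have hdeg : b * f s ∈ ℬ ((n + 1) • d) := by
      rw [succ_nsmul]
      exact SetLike.mul_mem_graded hb (f.map_mem hs)
    have hpos : 0 < (n + 1) • d := by
      simp only [smul_eq_mul]; positivity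
    obtain ⟨a, ha, hab⟩ := (hbij _ hpos).surjOn hdeg
    refine ⟨Away.mk 𝒜 hs (n + 1) a ha, ?_⟩
    rw [Away.map_mk]
    apply HomogeneousLocalization.val_injective
    rw [Away.val_mk, Away.val_mk, hab, Localization.mk_eq_mk_iff, Localization.r_iff_exists]
    refine ⟨1, ?_⟩
    simp only [OneMemClass.coe_one, one_mul]
    show f s ^ n * (b * f s) = f s ^ (n + 1) * b
    ring

end Graded

section Univ
variable {σ τ A B : Type u} [CommRing A] [SetLike σ A] [AddSubgroupClass σ A] {𝒜 : ℕ → σ}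
  [GradedRing 𝒜] [CommRing B] [SetLike τ B] [AddSubgroupClass τ B] {ℬ : ℕ → τ} [GradedRing ℬ]

set_option backward.isDefEq.respectTransparency.types false in
theorem isIso_map (f : 𝒜 →+*ᵍ ℬ) (hf : (ℬ)₊ ≤ ((𝒜)₊).map f)
    (hbij : ∀ n : ℕ, 0 < n → Set.BijOn f (𝒜 n) (ℬ n)) : IsIso (Proj.map f hf) := by
  refine (MorphismProperty.isomorphisms.iff _).mp
    (IsZariskiLocalAtTarget.of_openCover (P := MorphismProperty.isomorphisms Scheme)
    (Proj.affineOpenCover 𝒜).openCover ?_)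
  rintro (s : Σ i : PNat, 𝒜 i)
  have sq := RelProjMap.isPullback_awayι f hf s.1.2 (s.2 : A) s.2.2
  have hg : IsIso (CommRingCat.ofHom (Away.map f (s.2 : A))) :=
    (ConcreteCategory.isIso_iff_bijective _).mpr (awayMap_bijective f hbij s.1.2 _ s.2.2)
  have h2 : IsIso (sq.flip.isoPullback.inv ≫
      Spec.map (CommRingCat.ofHom (Away.map f (s.2 : A)))) := inferInstance
  rw [sq.flip.isoPullback_inv_snd] at h2
  exact (MorphismProperty.isomorphisms.iff _).mpr h2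

end Univ

section Rel
variable {Y PA PB : Scheme.{u}} {𝒜 ℬ : RelProj.QCGrAlg Y}
    (φ : 𝒜.toQCAlg ⟶ ℬ.toQCAlg) (hφ : RelProj.IsGradedHom φ)
    (hirr : ∀ (U : Y.Opens) (hU : IsAffineOpen U),
      (ℬ.deg U hU)₊ ≤ ((𝒜.deg U hU)₊).map (RelProj.gradedHomAt φ hφ U hU))
    (pA : PA ⟶ Y) (pB : PB ⟶ Y)
    (chartA : ∀ (U : Y.Opens) (hU : IsAffineOpen U),
      (((pA ⁻¹ᵁ U : PA.Opens) : Scheme.{u}) ≅ Proj (𝒜.deg U hU)))
    (chartB : ∀ (U : Y.Opens) (hU : IsAffineOpen U),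
      (((pB ⁻¹ᵁ U : PB.Opens) : Scheme.{u}) ≅ Proj (ℬ.deg U hU)))

include hφ hirr in
set_option backward.isDefEq.respectTransparency.types false in
theorem isIso
    (hpos : ∀ (U : Y.Opens) (hU : IsAffineOpen U) (n : ℕ), 0 < n →
      Set.BijOn (φ.hom.app (op U)).hom (𝒜.deg U hU n) (ℬ.deg U hU n))
    (hA : RelProj.IsRelProj 𝒜 pA chartA) (hB : RelProj.IsRelProj ℬ pB chartB)
    (h : PB ⟶ PA) (hh : RelProj.IsRelProjMap φ hφ hirr chartA chartB h) :
    IsIso h := by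
  have hcomp := RelProjMap.comp_eq φ hφ hirr pA pB chartA chartB hA hB h hh
  have hcov : ⨆ U : Y.affineOpens, pA ⁻¹ᵁ U.1 = ⊤ := by
    refine eq_top_iff.mpr fun x _ => ?_
    have : pA x ∈ (⨆ i : Y.affineOpens, (i : Y.Opens)) := by
      rw [iSup_affineOpens_eq_top]; trivial
    obtain ⟨U, hU⟩ := Opens.mem_iSup.mp this
    exact Opens.mem_iSup.mpr ⟨U, hU⟩
  refine (MorphismProperty.isomorphisms.iff _).mp
    (IsZariskiLocalAtTarget.of_iSup_eq_top (P := MorphismProperty.isomorphisms Scheme)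
    (fun U : Y.affineOpens => pA ⁻¹ᵁ U.1) hcov fun U => ?_)
  have hU : IsAffineOpen U.1 := U.2
  have hpre : h ⁻¹ᵁ (pA ⁻¹ᵁ U.1) = pB ⁻¹ᵁ U.1 := by
    rw [← Scheme.Hom.comp_preimage, hcomp]
  have key : h ∣_ (pA ⁻¹ᵁ U.1) = (PB.isoOfEq hpre).hom ≫ (chartB U.1 hU).hom ≫
      Proj.map (RelProj.gradedHomAt φ hφ U.1 hU) (hirr U.1 hU) ≫ (chartA U.1 hU).inv := by
    rw [← cancel_mono (pA ⁻¹ᵁ U.1).ι]
    simp only [Category.assoc]
    rw [morphismRestrict_ι, ← hh U.1 hU, Scheme.isoOfEq_hom_ι_assoc]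
  rw [key]
  have : IsIso (Proj.map (RelProj.gradedHomAt φ hφ U.1 hU) (hirr U.1 hU)) :=
    isIso_map _ _ (hpos U.1 hU)
  exact (MorphismProperty.isomorphisms.iff _).mpr inferInstance

end Rel

end Groth.Agent.Helper1.RelProjIso
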