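import Mathlib
import Groth.Prelude.Def_RelProj

/-!
# The opens `X_f` of a relative Proj (helper1 library)
-/

open CategoryTheory CategoryTheory.Limits AlgebraicGeometry Opposite TopologicalSpace
open scoped HomogeneousIdeal

universe u

namespace Groth.Agent.Helper1.RelProjOpen

variable {Y P : Scheme.{u}} (𝒮 : RelProj.QCGrAlg Y) (p : P ⟶ Y)
  (chart : ∀ (U : Y.Opens) (hU : IsAffineOpen U),
    (((p ⁻¹ᵁ U : P.Opens) : Scheme.{u}) ≅ Proj (𝒮.deg U hU)))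

/-- restriction of a global section of `𝒮` to `U` -/
def rs (f : 𝒮.presheaf.obj (op ⊤)) (U : Y.Opens) : 𝒮.presheaf.obj (op U) :=
  (𝒮.presheaf.map (homOfLE (le_top : U ≤ ⊤)).op).hom f

/-- The open `D₊(f|U)` of `Proj 𝒮(U)` transported to `P`. -/
def E (f : 𝒮.presheaf.obj (op ⊤)) (U : Y.Opens) (hU : IsAffineOpen U) : P.Opens :=
  (p ⁻¹ᵁ U).ι ''ᵁ ((chart U hU).hom ⁻¹ᵁ Proj.basicOpen (𝒮.deg U hU) (rs 𝒮 f U))

/-- a point of `p⁻¹(U)` as a point of the open subscheme -/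
def pt (U : Y.Opens) (x : P) (hx : x ∈ p ⁻¹ᵁ U) : ↥((p ⁻¹ᵁ U : P.Opens).toScheme) := ⟨x, hx⟩

lemma mem_E_iff (f : 𝒮.presheaf.obj (op ⊤)) (U : Y.Opens) (hU : IsAffineOpen U) (x : P) :
    x ∈ E 𝒮 p chart f U hU ↔ ∃ hx : x ∈ p ⁻¹ᵁ U,
      (chart U hU).hom (pt p U x hx) ∈ Proj.basicOpen (𝒮.deg U hU) (rs 𝒮 f U) := by
  constructor
  · rintro ⟨y, hy, rfl⟩
    exact ⟨y.2, hy⟩
  · rintro ⟨hx, h⟩
    exact ⟨pt p U x hx, h, rfl⟩

lemma E_le (f : 𝒮.presheaf.obj (op ⊤)) (U : Y.Opens) (hU : IsAffineOpen U) :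
    E 𝒮 p chart f U hU ≤ p ⁻¹ᵁ U := fun x hx => ((mem_E_iff 𝒮 p chart f U hU x).mp hx).1

lemma E_basicOpen (hP : RelProj.IsRelProj 𝒮 p chart) (f : 𝒮.presheaf.obj (op ⊤))
    (U : Y.Opens) (hU : IsAffineOpen U) (r : Γ(Y, U)) :
    E 𝒮 p chart f (Y.basicOpen r) (hU.basicOpen r) =
      E 𝒮 p chart f U hU ⊓ p ⁻¹ᵁ (Y.basicOpen r) := by
  have hres : 𝒮.res hU (hU.basicOpen r) (Y.basicOpen_le r) (rs 𝒮 f U) =
      rs 𝒮 f (Y.basicOpen r) := by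
    simp only [RelProj.QCGrAlg.res_apply, rs]
    rw [← CommRingCat.comp_apply, ← Functor.map_comp]
    rfl
  have key : ∀ (x : P) (hxW : x ∈ p ⁻¹ᵁ (Y.basicOpen r)),
      (chart U hU).hom (pt p U x (p.preimage_mono (Y.basicOpen_le r) hxW)) ∈
        Proj.basicOpen (𝒮.deg U hU) (rs 𝒮 f U) ↔
      (chart _ (hU.basicOpen r)).hom (pt p _ x hxW) ∈
        Proj.basicOpen (𝒮.deg _ (hU.basicOpen r)) (rs 𝒮 f (Y.basicOpen r)) := by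
    intro x hxW
    have h1 : (chart U hU).hom
        ((P.homOfLE (p.preimage_mono (Y.basicOpen_le r))) (pt p _ x hxW)) =
        (Proj.map (𝒮.res hU (hU.basicOpen r) (Y.basicOpen_le r)) (𝒮.irrelevant_le_map U hU r))
          ((chart _ (hU.basicOpen r)).hom (pt p _ x hxW)) := by
      rw [← Scheme.Hom.comp_apply, ← Scheme.Hom.comp_apply, hP.chart_res U hU r]
    have h0 : (P.homOfLE (p.preimage_mono (Y.basicOpen_le r))) (pt p _ x hxW) =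
        pt p U x (p.preimage_mono (Y.basicOpen_le r) hxW) :=
      Scheme.homOfLE_apply' _ _ _
    rw [h0] at h1
    rw [h1, ← hres]
    exact Iff.rfl
  ext x
  rw [SetLike.mem_coe, SetLike.mem_coe, mem_E_iff]
  constructor
  · rintro ⟨hxW, h⟩
    exact ⟨(mem_E_iff 𝒮 p chart f U hU x).mpr
      ⟨p.preimage_mono (Y.basicOpen_le r) hxW, (key x hxW).mpr h⟩, hxW⟩
  · rintro ⟨h, hxW⟩
    obtain ⟨hxU, h'⟩ := (mem_E_iff 𝒮 p chart f U hU x).mp h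
    exact ⟨hxW, (key x hxW).mp h'⟩

lemma E_congr (f : 𝒮.presheaf.obj (op ⊤)) {W W' : Y.Opens} (h : W = W') (hW : IsAffineOpen W)
    (hW' : IsAffineOpen W') : E 𝒮 p chart f W hW = E 𝒮 p chart f W' hW' := by
  subst h; rfl

lemma mem_E_iff_of_mem (hP : RelProj.IsRelProj 𝒮 p chart) (f : 𝒮.presheaf.obj (op ⊤))
    (U : Y.Opens) (hU : IsAffineOpen U) (V : Y.Opens) (hV : IsAffineOpen V) (x : P)
    (hxU : x ∈ p ⁻¹ᵁ U) (hxV : x ∈ p ⁻¹ᵁ V) :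
    x ∈ E 𝒮 p chart f U hU ↔ x ∈ E 𝒮 p chart f V hV := by
  obtain ⟨r, r', hrr', hxr⟩ := exists_basicOpen_le_affine_inter hU hV (p x) ⟨hxU, hxV⟩
  have hxW : x ∈ p ⁻¹ᵁ (Y.basicOpen r) := hxr
  have hxW' : x ∈ p ⁻¹ᵁ (Y.basicOpen r') := hrr' ▸ hxr
  have h1 : x ∈ E 𝒮 p chart f U hU ↔ x ∈ E 𝒮 p chart f (Y.basicOpen r) (hU.basicOpen r) := by
    rw [E_basicOpen 𝒮 p chart hP f U hU r]
    exact ⟨fun h => ⟨h, hxW⟩, fun h => h.1⟩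
  have h2 : x ∈ E 𝒮 p chart f V hV ↔ x ∈ E 𝒮 p chart f (Y.basicOpen r') (hV.basicOpen r') := by
    rw [E_basicOpen 𝒮 p chart hP f V hV r']
    exact ⟨fun h => ⟨h, hxW'⟩, fun h => h.1⟩
  rw [h1, h2, E_congr 𝒮 p chart f hrr']

theorem exists_open (hP : RelProj.IsRelProj 𝒮 p chart) {d : ℕ} (hd : 0 < d)
    (f : 𝒮.presheaf.obj (op ⊤))
    (hf : ∀ (U : Y.Opens) (hU : IsAffineOpen U), rs 𝒮 f U ∈ 𝒮.deg U hU d) :
    ∃ Xf : P.Opens, (∀ (U : Y.Opens) (hU : IsAffineOpen U),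
      Xf ⊓ p ⁻¹ᵁ U = E 𝒮 p chart f U hU) ∧ IsAffineHom (Xf.ι ≫ p) := by
  let Xf : P.Opens := ⨆ U : Y.affineOpens, E 𝒮 p chart f U.1 U.2
  have h1 : ∀ (U : Y.Opens) (hU : IsAffineOpen U), Xf ⊓ p ⁻¹ᵁ U = E 𝒮 p chart f U hU := by
    intro U hU
    apply le_antisymm
    · rintro x ⟨hx, hxU⟩
      obtain ⟨V, hxV⟩ := Opens.mem_iSup.mp hx
      exact (mem_E_iff_of_mem 𝒮 p chart hP f V.1 V.2 U hU x (E_le 𝒮 p chart f _ _ hxV) hxU).mp hxV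
    · exact le_inf (le_iSup (fun U : Y.affineOpens => E 𝒮 p chart f U.1 U.2) ⟨U, hU⟩)
        (E_le 𝒮 p chart f U hU)
  refine ⟨Xf, h1, ⟨fun U hU => ?_⟩⟩
  have haff : IsAffineOpen (E 𝒮 p chart f U hU) := by
    unfold E
    apply IsAffineOpen.image_of_isOpenImmersion
    exact (Proj.isAffineOpen_basicOpen (𝒮.deg U hU) _ (hf U hU) hd).preimage_of_isIso
      (chart U hU).hom
  rw [← Scheme.Hom.isAffineOpen_iff_of_isOpenImmersion Xf.ι]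
  have : Xf.ι ''ᵁ ((Xf.ι ≫ p) ⁻¹ᵁ U) = E 𝒮 p chart f U hU := by
    rw [Scheme.Hom.comp_preimage, Scheme.Hom.image_preimage_eq_opensRange_inf,
      Scheme.Opens.opensRange_ι, h1]
  rw [this]
  exact haff

theorem iSup_eq_top {ι : Type*} (f : ι → 𝒮.presheaf.obj (op ⊤))
    (hgen : ∀ (U : Y.Opens) (hU : IsAffineOpen U), ∃ n₀ : ℕ, ∀ n, n₀ ≤ n →
      (𝒮.deg U hU n : Set (𝒮.presheaf.obj (op U))) ⊆
        (Ideal.span (Set.range fun a => rs 𝒮 (f a) U) : Set (𝒮.presheaf.obj (op U))))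
    (X : ι → P.Opens)
    (hX : ∀ (a : ι) (U : Y.Opens) (hU : IsAffineOpen U),
      X a ⊓ p ⁻¹ᵁ U = E 𝒮 p chart (f a) U hU) :
    ⨆ a, X a = ⊤ := by
  refine eq_top_iff.mpr fun x _ => ?_
  obtain ⟨U, hxU⟩ : ∃ U : Y.affineOpens, p x ∈ U.1 := by
    have : p x ∈ (⨆ i : Y.affineOpens, (i : Y.Opens)) := by
      rw [iSup_affineOpens_eq_top]; trivial
    exact Opens.mem_iSup.mp this
  have hU : IsAffineOpen U.1 := U.2
  have hxU' : x ∈ p ⁻¹ᵁ U.1 := hxU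
  set y := (chart U.1 hU).hom (pt p U.1 x hxU') with hy
  obtain ⟨a, ha⟩ : ∃ a, rs 𝒮 (f a) U.1 ∉ y.asHomogeneousIdeal := by
    by_contra hcon
    push Not at hcon
    obtain ⟨n₀, hn₀⟩ := hgen U.1 hU
    apply y.not_irrelevant_le
    rw [HomogeneousIdeal.irrelevant_le]
    intro i hi b hb
    have hspan : Ideal.span (Set.range fun a => rs 𝒮 (f a) U.1) ≤
        y.asHomogeneousIdeal.toIdeal :=
      Ideal.span_le.mpr (by rintro _ ⟨a, rfl⟩; exact hcon a)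
    have hb' : b ^ (n₀ + 1) ∈ 𝒮.deg U.1 hU ((n₀ + 1) • i) := SetLike.pow_mem_graded _ hb
    have hle : n₀ ≤ (n₀ + 1) • i := by
      simp only [smul_eq_mul]; nlinarith
    have h3 : b ^ (n₀ + 1) ∈ y.asHomogeneousIdeal.toIdeal :=
      hspan (hn₀ _ hle hb')
    exact y.isPrime.mem_of_pow_mem _ h3
  refine Opens.mem_iSup.mpr ⟨a, ?_⟩
  have h4 : x ∈ E 𝒮 p chart (f a) U.1 hU := (mem_E_iff 𝒮 p chart (f a) U.1 hU x).mpr ⟨hxU', ha⟩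
  rw [← hX a U.1 hU] at h4
  exact h4.1

end Groth.Agent.Helper1.RelProjOpen
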