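import Mathlib
import Groth.Agent.Lib.Helper1.VT23
import Groth.Agent.Lib.Helper1.CompAmple
import Groth.Agent.Lib.Helper1.RelTwPow
import Groth.Agent.Lib.Helper1.PullRel
import Groth.Agent.Lib.Helper1.ProjProper

/-!
# Quasi-projective and projective morphisms through projective bundles of modules of finite type
(helper1 library, VT24)
-/

set_option autoImplicit false
universe u
open CategoryTheory CategoryTheory.Limits AlgebraicGeometry TopologicalSpace Opposite

namespace Groth.Agent.Helper1.VT

open Groth.Agent.Helper1.QcCech Groth.Agent.Helper1.LGen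
open Groth.Agent.Helper1 Groth.Agent.Helper1.SubSh

theorem compactSpace_of_hY {Y : Scheme.{u}}
    (hY : (CompactSpace Y ∧ QuasiSeparatedSpace Y) ∨ NoetherianSpace Y) : CompactSpace Y := by
  rcases hY with ⟨hc, -⟩ | hN
  · exact hc
  · infer_instance

/-- a quasi-projective morphism embeds into the projective bundle of a module of finite type -/
theorem exists_immersion_of_isQuasiProjective {X Y : Scheme.{u}}
    (hY : (CompactSpace Y ∧ QuasiSeparatedSpace Y) ∨ NoetherianSpace Y) (f : X ⟶ Y)
    (hf : RelProj.IsQuasiProjective f) :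
    ∃ (E : Y.Modules) (_ : E.IsQuasicoherent) (_ : CohB1.IsFT E) (P : Scheme.{u}) (p : P ⟶ Y)
      (chart : ∀ (U : Y.Opens) (hU : IsAffineOpen U),
        ((p ⁻¹ᵁ U : P.Opens) : Scheme.{u}) ≅ Proj ((SymAlg.symGr E).deg U hU))
      (_ : RelProj.IsRelProj (SymAlg.symGr E) p chart) (r : X ⟶ P),
      IsImmersion r ∧ r ≫ p = f := by
  obtain ⟨hlft, hqc, L, hL⟩ := hf
  have hc : CompactSpace Y := compactSpace_of_hY hY
  have hLinv := CompAmple.isInvertible_of_isRelAmple f hL
  obtain ⟨n₀, -, hn₀⟩ := eventually_tensorPow_isRelVeryAmple f L hLinv hL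
  obtain ⟨E, hEq, hEft, P, p, chart, hP, O1, lam, hO1, r, hr, hrp, -⟩ :=
    exists_finiteType_immersion' hY f _ (hn₀ n₀ le_rfl)
  exact ⟨E, hEq, hEft, P, p, chart, hP, r, hr, hrp⟩

/-- **proper quasi-projective morphisms are projective** -/
theorem isProjective_of_isProper_of_isQuasiProjective {X Y : Scheme.{u}}
    (hY : (CompactSpace Y ∧ QuasiSeparatedSpace Y) ∨ NoetherianSpace Y) (f : X ⟶ Y) [IsProper f]
    (hf : RelProj.IsQuasiProjective f) : RelProj.IsProjective f := by
  obtain ⟨E, hEq, hEft, P, p, chart, hP, r, hr, hrp⟩ :=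
    exists_immersion_of_isQuasiProjective hY f hf
  have : E.IsQuasicoherent := hEq
  have : IsImmersion r := hr
  have hsep : IsSeparated p := RP1.isSeparated hP
  have : IsProper (r ≫ p) := by rw [hrp]; infer_instance
  have : IsProper r := IsProper.of_comp r p
  have : IsClosedImmersion r :=
    IsClosedImmersion.of_isPreimmersion r r.isClosedMap.isClosed_range
  exact ProjChar.isProjective_of_closedImmersion f E (SymAlg.symGr E) (SymAlg.jGr E) p chart r hEq
    hEft (SymAlg.isGrSymAlg E) hP hrp

/-- **a quasi-projective morphism is an open subscheme of a projective one** -/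
theorem exists_openImmersion_projective {X Y : Scheme.{u}}
    (hY : (CompactSpace Y ∧ QuasiSeparatedSpace Y) ∨ NoetherianSpace Y) (f : X ⟶ Y)
    (hf : RelProj.IsQuasiProjective f) :
    ∃ (X' : Scheme.{u}) (j : X ⟶ X') (g : X' ⟶ Y), IsOpenImmersion j ∧ IsDominant j ∧
      RelProj.IsProjective g ∧ j ≫ g = f := by
  obtain ⟨E, hEq, hEft, P, p, chart, hP, r, hr, hrp⟩ :=
    exists_immersion_of_isQuasiProjective hY f hf
  have : E.IsQuasicoherent := hEq
  have : IsImmersion r := hr
  have hsep : IsSeparated p := RP1.isSeparated hP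
  have hqc : QuasiCompact f := hf.2.1
  have : QuasiCompact (r ≫ p) := by rw [hrp]; exact hqc
  have : QuasiCompact r := QuasiCompact.of_comp r p
  refine ⟨r.image, r.toImage, r.imageι ≫ p, inferInstance, inferInstance, ?_, ?_⟩
  · exact ProjChar.isProjective_of_closedImmersion (r.imageι ≫ p) E (SymAlg.symGr E)
      (SymAlg.jGr E) p chart r.imageι hEq hEft (SymAlg.isGrSymAlg E) hP rfl
  · rw [← Category.assoc, r.toImage_imageι, hrp]

/-- **composites of projective morphisms over a quasi-compact quasi-separated base are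
projective** -/
theorem isProjective_comp {X Y S : Scheme.{u}} [CompactSpace S] [QuasiSeparatedSpace S]
    (f : X ⟶ Y) (g : Y ⟶ S) (hf : RelProj.IsProjective f) (hg : RelProj.IsProjective g) :
    RelProj.IsProjective (f ≫ g) := by
  obtain ⟨⟨hflft, hfqc, L, hL⟩, hfp⟩ := ProjProper.main4418 f hf
  obtain ⟨⟨hglft, hgqc, K, hK⟩, hgp⟩ := ProjProper.main4418 g hg
  obtain ⟨n₀, -, hn₀⟩ := CompAmple.isRelAmple_comp_twist f g L K hL hK
  have : IsProper (f ≫ g) := inferInstance
  exact isProjective_of_isProper_of_isQuasiProjective (Or.inl ⟨inferInstance, inferInstance⟩)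
    (f ≫ g) ⟨inferInstance, inferInstance, _, hn₀ n₀ le_rfl⟩

/-- an open subscheme of a relative homogeneous spectrum of an algebra generated in degree one
with degree one part of finite type, of finite type over the base, is quasi-projective -/
theorem isQuasiProjective_of_openImmersion {X Y P : Scheme.{u}} (f : X ⟶ Y)
    [LocallyOfFiniteType f] [QuasiCompact f] (𝒮 : RelProj.QCGrAlg Y) (p : P ⟶ Y)
    (chart : ∀ (U : Y.Opens) (hU : IsAffineOpen U),
      ((p ⁻¹ᵁ U : P.Opens) : Scheme.{u}) ≅ Proj (𝒮.deg U hU))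
    (hgen : 𝒮.IsGenDegOne) (hft : 𝒮.IsFTDeg 1) (hP : RelProj.IsRelProj 𝒮 p chart) (j : X ⟶ P)
    [IsImmersion j] (hj : j ≫ p = f) : RelProj.IsQuasiProjective f := by
  obtain ⟨O1, lam, hO1⟩ := RP9.exists_isRelTwist hP 1
  obtain ⟨-, hamp⟩ := RelTwPow.isRelAmple_one hP hgen hft hO1
  have hsep : IsSeparated p := RP1.isSeparated hP
  have : QuasiCompact (j ≫ p) := by rw [hj]; infer_instance
  have : QuasiCompact j := QuasiCompact.of_comp j p
  have : QuasiCompact p := hamp.1
  have h1 := PullAmple.isRelAmple_pullback_of_isEmbedding (u := j) p j.isEmbedding hamp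
  rw [hj] at h1
  exact ⟨inferInstance, inferInstance, _, h1⟩

end Groth.Agent.Helper1.VT
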