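import Mathlib
import Groth.Agent.Lib.Helper1.VT24
import Groth.Agent.Lib.Helper1.RelClosed2
import Groth.Agent.Lib.Helper1.RP13
import Groth.Agent.Lib.Helper1.RP9

/-!
# Very ample modules: dense open immersions into relative homogeneous spectra (helper1, VT25)
-/

set_option autoImplicit false
universe u
open CategoryTheory CategoryTheory.Limits AlgebraicGeometry TopologicalSpace Opposite
open scoped HomogeneousIdeal

namespace Groth.Agent.Helper1.RelClosed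

open Groth.Agent.Helper1

section Main
variable {S P Z : Scheme.{u}} (𝒜 : RelProj.QCGrAlg S) (p : P ⟶ S)
  (chart : ∀ (U : S.Opens) (hU : IsAffineOpen U),
    (((p ⁻¹ᵁ U : P.Opens) : Scheme.{u}) ≅ Proj (𝒜.deg U hU)))
  (hP : RelProj.IsRelProj 𝒜 p chart) [QuasiCompact p] (i : Z ⟶ P) [IsClosedImmersion i]

include hP in
/-- variant of `main` exposing the map of relative homogeneous spectra -/
theorem main' :
    ∃ (ℬ : RelProj.QCGrAlg S) (φ : 𝒜.toQCAlg ⟶ ℬ.toQCAlg) (hφ : RelProj.IsGradedHom φ)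
      (hirr : ∀ (U : S.Opens) (hU : IsAffineOpen U),
        (ℬ.deg U hU)₊ ≤ ((𝒜.deg U hU)₊).map (RelProj.gradedHomAt φ hφ U hU))
      (PB : Scheme.{u}) (pB : PB ⟶ S)
      (chartB : ∀ (U : S.Opens) (hU : IsAffineOpen U),
        (((pB ⁻¹ᵁ U : PB.Opens) : Scheme.{u}) ≅ Proj (ℬ.deg U hU)))
      (h : PB ⟶ P) (e : PB ≅ Z),
      (∀ (U : S.Opens), IsAffineOpen U → Function.Surjective (φ.hom.app (op U)).hom) ∧
        RelProj.IsRelProj ℬ pB chartB ∧
        RelProj.IsRelProjMap φ hφ hirr chart chartB h ∧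
        e.hom ≫ i = h ∧ h ≫ p = pB := by
  obtain ⟨ℬ, φ, hφ, hsurj, hker⟩ := QuotAlg.exists_quot (idealFam 𝒜 p chart i hP)
  obtain ⟨PB, pB, chartB, hPB⟩ := RP2.exists_isRelProj ℬ
  have hirr : ∀ (U : S.Opens) (hU : IsAffineOpen U),
      (ℬ.deg U hU)₊ ≤ ((𝒜.deg U hU)₊).map (RelProj.gradedHomAt φ hφ U hU) := fun U hU =>
    ProjClosed.irrelevant_le_map_of_surjective (𝒜.deg U hU) (ℬ.deg U hU)
      (RelProj.gradedHomAt φ hφ U hU) (hsurj U hU)
  obtain ⟨⟨h, hh, -⟩, hcomp⟩ := RelProjGlue2.existsUnique_map φ hφ hirr p pB chart chartB hP hPB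
  have hloc : ∀ (U : S.Opens) (hU : IsAffineOpen U),
      ∃ eU : ((i ⁻¹ᵁ (p ⁻¹ᵁ U) : Z.Opens) : Scheme.{u}) ≅ Proj (ℬ.deg U hU),
        eU.hom ≫ Proj.map (RelProj.gradedHomAt φ hφ U hU) (hirr U hU) = iU 𝒜 p chart i U hU := by
    intro U hU
    have := compactSpace_proj 𝒜 p chart hP U hU
    obtain ⟨_, eU, heU⟩ := ProjClosedJ.main (𝒜.deg U hU) (iU 𝒜 p chart i U hU) (ℬ.deg U hU)
      (RelProj.gradedHomAt φ hφ U hU) (hsurj U hU) (hker U hU)
    exact ⟨eU, heU⟩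
  choose eU heU using hloc
  -- the local pieces of `PB ⟶ Z`
  have haU : ∀ (U : S.Opens) (hU : IsAffineOpen U),
      ((chartB U hU).hom ≫ (eU U hU).inv ≫ (i ⁻¹ᵁ (p ⁻¹ᵁ U)).ι) ≫ i = (pB ⁻¹ᵁ U).ι ≫ h := by
    intro U hU
    simp only [Category.assoc]
    rw [← iU_emb 𝒜 p chart i U hU, ← heU U hU]
    simp only [Category.assoc]
    rw [Iso.inv_hom_id_assoc, ← emb_comp φ hφ hirr p pB chart chartB h hh U hU]
    unfold RelProj.emb
    rw [Category.assoc, Iso.hom_inv_id_assoc]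
  obtain ⟨ℓ, hℓ, -⟩ := RelProjGlue.exists_glue pB
    (fun U hU => (chartB U hU).hom ≫ (eU U hU).inv ≫ (i ⁻¹ᵁ (p ⁻¹ᵁ U)).ι) (by
      intro U hU r
      rw [← cancel_mono i, Category.assoc, haU U hU, haU _ (hU.basicOpen r),
        Scheme.homOfLE_ι_assoc])
  have hℓi : ℓ ≫ i = h := RelProjGlue.hom_ext pB fun U hU => by
    rw [← Category.assoc, hℓ U hU, haU U hU]
  -- the local pieces of `Z ⟶ PB`
  have hbU' : ∀ (U : S.Opens) (hU : IsAffineOpen U),
      ((eU U hU).hom ≫ RelProj.emb pB chartB U hU) ≫ h = (i ⁻¹ᵁ (p ⁻¹ᵁ U)).ι ≫ i := by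
    intro U hU
    rw [Category.assoc, emb_comp φ hφ hirr p pB chart chartB h hh U hU, ← Category.assoc,
      heU U hU, iU_emb]
  let bU : ∀ (U : S.Opens) (_ : IsAffineOpen U), (((i ≫ p) ⁻¹ᵁ U : Z.Opens) : Scheme.{u}) ⟶ PB :=
    fun U hU => (eU U hU).hom ≫ RelProj.emb pB chartB U hU
  have hbU : ∀ (U : S.Opens) (hU : IsAffineOpen U),
      bU U hU ≫ h = ((i ≫ p) ⁻¹ᵁ U).ι ≫ i := fun U hU => hbU' U hU
  have hci : IsClosedImmersion h :=
    RelProjCI.isClosedImmersion' φ hφ hirr p pB chart chartB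
      (fun U hU n _ b hb => by
        obtain ⟨a, -, ha⟩ := exists_homog_preimage φ hφ hsurj U hU n b hb
        exact ⟨a, ha⟩) hP hPB h hh
  obtain ⟨ℓ', hℓ', -⟩ := RelProjGlue.exists_glue (i ≫ p) bU (by
      intro U hU r
      rw [← cancel_mono h, Category.assoc, hbU U hU, hbU _ (hU.basicOpen r),
        Scheme.homOfLE_ι_assoc])
  have hℓ'h : ℓ' ≫ h = i := RelProjGlue.hom_ext (i ≫ p) fun U hU => by
    rw [← Category.assoc, hℓ' U hU, hbU U hU]
  refine ⟨ℬ, φ, hφ, hirr, PB, pB, chartB, h, ⟨ℓ, ℓ', ?_, ?_⟩, hsurj, hPB, hh, hℓi, hcomp h hh⟩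
  · rw [← cancel_mono h, Category.assoc, hℓ'h, hℓi, Category.id_comp]
  · rw [← cancel_mono i, Category.assoc, hℓi, hℓ'h, Category.id_comp]

end Main

end Groth.Agent.Helper1.RelClosed

namespace Groth.Agent.Helper1.VT

open Groth.Agent.Helper1

/-- **S5726**: a very ample module for a morphism of finite type gives a dense open immersion into
a relative homogeneous spectrum -/
theorem exists_dense_openImmersion {X Y : Scheme.{u}}
    (hY : (CompactSpace Y ∧ QuasiSeparatedSpace Y) ∨ NoetherianSpace Y) (q : X ⟶ Y) [QuasiCompact q]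
    [LocallyOfFiniteType q] (L : X.Modules) (h : RelProj.IsRelVeryAmple q L) :
    ∃ (𝒮 : RelProj.QCGrAlg Y) (P : Scheme.{u}) (p : P ⟶ Y)
      (chart : ∀ (U : Y.Opens) (hU : IsAffineOpen U),
        ((p ⁻¹ᵁ U : P.Opens) : Scheme.{u}) ≅ Proj (𝒮.deg U hU))
      (O1 : P.Modules)
      (lam : ∀ (U : Y.Opens) (hU : IsAffineOpen U),
        O1 ⟶ (Scheme.Modules.pushforward (RelProj.emb p chart U hU)).obj
          (GrTwist.twist (𝒮.deg U hU) 1))
      (i : X ⟶ P),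
      𝒮.IsGenDegOne ∧ 𝒮.IsFTDeg 1 ∧ RelProj.IsRelProj 𝒮 p chart ∧
        RelProj.IsRelTwist 𝒮 p chart 1 O1 lam ∧
        IsOpenImmersion i ∧ Dense (Set.range i.base) ∧ i ≫ p = q ∧
        Nonempty (L ≅ (Scheme.Modules.pullback i).obj O1) := by
  obtain ⟨E, hEq, hEft, P, p, chart, hP, O1, lam, hO1, r, hr, hrp, ⟨eL⟩⟩ :=
    exists_finiteType_immersion' hY q L h
  have : E.IsQuasicoherent := hEq
  have : IsImmersion r := hr
  have hsep : IsSeparated p := RP1.isSeparated hP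
  have : QuasiCompact (r ≫ p) := by rw [hrp]; infer_instance
  have : QuasiCompact r := QuasiCompact.of_comp r p
  have hgenT : (SymAlg.symGr E).IsGenDegOne := SymAlg.isGenDegOne_of_isGrSymAlg (SymAlg.isGrSymAlg E)
  have hftT : (SymAlg.symGr E).IsFTDeg 1 :=
    ProjChar.isFTDeg_one_of_isGrSymAlg hEq hEft (SymAlg.isGrSymAlg E)
  have : QuasiCompact p := (RelProjFT.finiteType_of_genDegOne _ p chart hgenT hftT hP).2
  obtain ⟨ℬ, φ, hφ, hirr, PB, pB, chartB, g, e, hsurj, hPB, hh, he, hgp⟩ :=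
    RelClosed.main' (SymAlg.symGr E) p chart hP r.imageι
  obtain ⟨O1B, lamB, hO1B⟩ := RP9.exists_isRelTwist hPB 1
  obtain ⟨κ⟩ := RP13.nonempty_pullback_iso hgenT hP hPB hh hO1 hO1B
  have hig : (r.toImage ≫ e.inv) ≫ g = r := by
    rw [← he, Category.assoc, Iso.inv_hom_id_assoc, r.toImage_imageι]
  refine ⟨ℬ, PB, pB, chartB, O1B, lamB, r.toImage ≫ e.inv,
    ProjChar.isGenDegOne_of_surj φ hφ hsurj hgenT, ProjChar.isFTDeg_of_surj φ hφ hsurj 1 hftT,
    hPB, hO1B, inferInstance, ?_, ?_, ?_⟩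
  · have h1 : DenseRange r.toImage.base := r.toImage.denseRange
    have h2 : DenseRange e.inv.base := e.inv.homeomorph.surjective.denseRange
    have := h2.comp h1 e.inv.continuous
    simpa [DenseRange, Scheme.Hom.comp_base] using this
  · rw [← hgp, ← Category.assoc, hig, hrp]
  · refine ⟨eL ≪≫ (Scheme.Modules.pullbackCongr hig.symm).app O1 ≪≫
      ((Scheme.Modules.pullbackComp (r.toImage ≫ e.inv) g).app O1).symm ≪≫
      (Scheme.Modules.pullback (r.toImage ≫ e.inv)).mapIso κ⟩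

end Groth.Agent.Helper1.VT
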