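import Mathlib
import Groth.Agent.Lib.Helper1.VT25
import Groth.Agent.Lib.Helper1.RelAmpleCrit2
import Groth.Agent.Lib.Helper1.VeryAmple3
import Groth.Agent.Lib.Lead.TilT5

/-!
# Twists of modules of finite type by a very ample module are quotients of pullbacks of modules of
finite type (helper1 library, VT27)
-/

set_option autoImplicit false
universe u
open CategoryTheory CategoryTheory.Limits AlgebraicGeometry TopologicalSpace Opposite

namespace Groth.Agent.Helper1.VT

open Groth.Agent.Helper1.QcCech Groth.Agent.Helper1.LGen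
open Groth.Agent.Helper1 Groth.Agent.Helper1.SubSh

section FinGen

variable {Y : Scheme.{u}} (M : Y.Modules)

theorem genPre_mono {V : Y.Opens} {P P' : Set Γ(M, V)} (h : P ⊆ P') (W : Y.Opens) :
    (LocalSub.genPre V P).carrier W ≤ (LocalSub.genPre V P').carrier W := by
  apply Submodule.span_mono
  rintro t ⟨hW, p, hp, rfl⟩
  exact ⟨hW, p, h hp, rfl⟩

theorem genOn_mono {V : Y.Opens} {P P' : Set Γ(M, V)} (h : P ⊆ P') (W : Y.Opens) :
    (LocalSub.genOn V P).carrier W ≤ (LocalSub.genOn V P').carrier W :=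
  LocalSub.genOn_le P (LocalSub.genOn V P') (fun p hp => by
    have := LocalSub.genPre_le_genOn P' (LocalSub.res_mem_genPre P' (le_refl V) (h hp))
    rwa [res_self] at this) W

/-- a section in a span of restrictions lies in the span of finitely many of them -/
theorem exists_finset_mem_genPre {O W : Y.Opens} (P : Set Γ(M, O)) (z : Γ(M, W))
    (hz : z ∈ (LocalSub.genPre O P).carrier W) :
    ∃ P' : Finset Γ(M, O), (↑P' : Set Γ(M, O)) ⊆ P ∧
      z ∈ (LocalSub.genPre O (↑P' : Set Γ(M, O))).carrier W := by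
  classical
  obtain ⟨T, hTS, hzT⟩ := Submodule.mem_span_finite_of_mem_span hz
  have hp : ∀ t : Γ(M, W), ∃ p : Γ(M, O), t ∈ T → p ∈ P ∧ ∃ h : W ≤ O, t = res M h p := by
    intro t
    by_cases ht : t ∈ T
    · obtain ⟨h, p, hp, rfl⟩ := hTS (Finset.mem_coe.2 ht)
      exact ⟨p, fun _ => ⟨hp, h, rfl⟩⟩
    · exact ⟨0, fun h => absurd h ht⟩
  choose p hp using hp
  refine ⟨T.image p, ?_, ?_⟩
  · intro q hq
    obtain ⟨t, ht, rfl⟩ := Finset.mem_image.1 (Finset.mem_coe.1 hq)
    exact (hp t ht).1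
  · refine Submodule.span_le.2 ?_ hzT
    intro t ht
    obtain ⟨-, h, e⟩ := hp t (Finset.mem_coe.1 ht)
    exact Submodule.subset_span ⟨h, p t, Finset.mem_coe.2 (Finset.mem_image_of_mem p
      (Finset.mem_coe.1 ht)), e⟩

/-- over a quasi-compact open, a section of the generated subsheaf is generated by finitely many
of the generators -/
theorem exists_finset_mem_genOn {O B : Y.Opens} (hB : IsCompact (B : Set Y))
    (P : Set Γ(M, O)) (m : Γ(M, B)) (hm : m ∈ (LocalSub.genOn O P).carrier B) :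
    ∃ P' : Finset Γ(M, O), (↑P' : Set Γ(M, O)) ⊆ P ∧
      m ∈ (LocalSub.genOn O (↑P' : Set Γ(M, O))).carrier B := by
  classical
  have hloc : ∀ x : B, ∃ (W : Y.Opens) (h : W ≤ B) (P' : Finset Γ(M, O)), x.1 ∈ W ∧
      (↑P' : Set Γ(M, O)) ⊆ P ∧ res M h m ∈ (LocalSub.genPre O (↑P' : Set Γ(M, O))).carrier W := by
    intro x
    obtain ⟨W, h, hxW, hmW⟩ := hm x.1 x.2
    obtain ⟨P', hP', hz⟩ := exists_finset_mem_genPre M P _ hmW
    exact ⟨W, h, P', hxW, hP', hz⟩
  choose W hW P' hxW hP' hz using hloc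
  obtain ⟨s, hs⟩ := hB.elim_finite_subcover (fun x : B => ((W x : Y.Opens) : Set Y))
    (fun x => (W x).2) (fun y hy => Set.mem_iUnion.2 ⟨⟨y, hy⟩, hxW ⟨y, hy⟩⟩)
  refine ⟨s.biUnion P', ?_, ?_⟩
  · intro q hq
    obtain ⟨x, -, hqx⟩ := Finset.mem_biUnion.1 (Finset.mem_coe.1 hq)
    exact hP' x (Finset.mem_coe.2 hqx)
  · apply (LocalSub.genOn O _).local_mem
    intro y hy
    obtain ⟨x, hxs, hyx⟩ : ∃ x ∈ s, y ∈ W x := by
      have := hs hy
      simpa using this
    refine ⟨W x, hW x, hyx, ?_⟩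
    apply LocalSub.genPre_le_genOn
    refine genPre_mono M ?_ _ (hz x)
    intro q hq
    exact Finset.mem_coe.2 (Finset.mem_biUnion.2 ⟨x, hxs, Finset.mem_coe.1 hq⟩)

/-- **finitely many generators suffice**: if a quasi-coherent module of finite type is generated
over a quasi-compact open `O` by a set of sections over `O`, then finitely many of them generate -/
theorem exists_finset_generating (hM : Coh.IsCoh M) {O : Y.Opens} (hO : IsCompact (O : Set Y))
    (P : Set Γ(M, O))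
    (hP : ∀ (W : Y.Opens) (_ : W ≤ O) (t : Γ(M, W)), t ∈ (LocalSub.genOn O P).carrier W) :
    ∃ P' : Finset Γ(M, O), (↑P' : Set Γ(M, O)) ⊆ P ∧
      ∀ (W : Y.Opens) (_ : W ≤ O) (t : Γ(M, W)),
        t ∈ (LocalSub.genOn O (↑P' : Set Γ(M, O))).carrier W := by
  classical
  have : M.IsQuasicoherent := hM.1
  -- a finite affine cover of `O`
  obtain ⟨s, hs⟩ := hO.elim_finite_subcover
    (fun B : {B : Y.affineOpens // B.1 ≤ O} => ((B.1.1 : Y.Opens) : Set Y)) (fun B => B.1.1.2) (by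
      intro y hy
      obtain ⟨_, ⟨B, hB, rfl⟩, hyB, hBO⟩ :=
        Y.isBasis_affineOpens.exists_subset_of_mem_open hy O.2
      exact Set.mem_iUnion.2 ⟨⟨⟨B, hB⟩, hBO⟩, hyB⟩)
  -- generators over each member
  have hgen : ∀ B : {B : Y.affineOpens // B.1 ≤ O}, ∃ G : Finset Γ(M, B.1.1),
      Submodule.span Γ(Y, B.1.1) (G : Set Γ(M, B.1.1)) = ⊤ :=
    fun B => (FinPush.finite_sections M hM B.1.2).fg_top
  choose G hG using hgen
  have hfin : ∀ (B : {B : Y.affineOpens // B.1 ≤ O}) (m : Γ(M, B.1.1)),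
      ∃ P' : Finset Γ(M, O), (↑P' : Set Γ(M, O)) ⊆ P ∧
        m ∈ (LocalSub.genOn O (↑P' : Set Γ(M, O))).carrier B.1.1 :=
    fun B m => exists_finset_mem_genOn M B.1.2.isCompact P m (hP _ B.2 m)
  choose Pf hPf hmPf using hfin
  refine ⟨s.biUnion (fun B => (G B).biUnion (fun m => Pf B m)), ?_, ?_⟩
  · intro q hq
    obtain ⟨B, -, hq⟩ := Finset.mem_biUnion.1 (Finset.mem_coe.1 hq)
    obtain ⟨m, -, hq⟩ := Finset.mem_biUnion.1 hq
    exact hPf B m (Finset.mem_coe.2 hq)
  · intro W hWO t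
    set P'' : Set Γ(M, O) := ↑(s.biUnion (fun B => (G B).biUnion (fun m => Pf B m))) with hP''
    apply (LocalSub.genOn O P'').local_mem
    intro y hy
    obtain ⟨B, hBs, hyB⟩ : ∃ B ∈ s, y ∈ B.1.1 := by
      have := hs (hWO hy)
      simpa using this
    obtain ⟨O', hO', hyO', hspan⟩ := AmpleLib.affine_local_span M B.1.2 (W ⊓ B.1.1) inf_le_right
      (res M inf_le_left t) y ⟨hy, hyB⟩
    refine ⟨O', hO'.trans inf_le_left, hyO', ?_⟩
    rw [res_res] at hspan
    refine Submodule.span_le.2 ?_ hspan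
    rintro _ ⟨h, rfl⟩
    apply (LocalSub.genOn O P'').res_mem
    have hh : h ∈ Submodule.span Γ(Y, B.1.1) (G B : Set Γ(M, B.1.1)) := by rw [hG B]; trivial
    refine Submodule.span_le.2 ?_ hh
    intro m hm
    refine genOn_mono M ?_ _ (hmPf B m)
    intro q hq
    exact Finset.mem_coe.2 (Finset.mem_biUnion.2 ⟨B, hBs,
      Finset.mem_biUnion.2 ⟨m, Finset.mem_coe.1 hm, Finset.mem_coe.1 hq⟩⟩)

end FinGen

section Bridge

variable {Y Z : Scheme.{u}} (g : Y ⟶ Z) {G : Z.Modules} {M : Y.Modules}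

/-- sections coming from a span of restrictions of sections over `V` -/
theorem sec_mem_genPre (u : G ⟶ (Scheme.Modules.pushforward g).obj M) {V O' : Z.Opens}
    (hO' : O' ≤ V) {W : Y.Opens} (hW : W ≤ g ⁻¹ᵁ O') (z : Γ(G, O'))
    (hz : z ∈ Submodule.span Γ(Z, O') (Set.range fun h : Γ(G, V) => res G hO' h)) :
    res M hW (sec g u O' z) ∈
      (LocalSub.genPre (g ⁻¹ᵁ V) (Set.range (sec g u V))).carrier W := by
  induction hz using Submodule.span_induction with
  | mem x hx =>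
    obtain ⟨h, rfl⟩ := hx
    rw [← sec_res g u hO', res_res]
    exact LocalSub.res_mem_genPre _ _ ⟨h, rfl⟩
  | zero => rw [sec_zero, map_zero]; exact Submodule.zero_mem _
  | add a b _ _ ha hb => rw [sec_add, map_add]; exact Submodule.add_mem _ ha hb
  | smul r a _ ha => rw [sec_smul, res_smul]; exact Submodule.smul_mem _ _ ha

/-- **if the adjoint of `u` is an epimorphism, then over the preimage of an affine open `V` the
module `M` is generated by the sections coming from `G(V)`** -/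
theorem mem_genOn_of_epi [G.IsQuasicoherent] (φ : (Scheme.Modules.pullback g).obj G ⟶ M) [Epi φ]
    {V : Z.Opens} (hV : IsAffineOpen V) (W : Y.Opens) (hW : W ≤ g ⁻¹ᵁ V) (t : Γ(M, W)) :
    t ∈ (LocalSub.genOn (g ⁻¹ᵁ V) (Set.range (sec g (adjU g φ) V))).carrier W := by
  have h1 := mem_imgPre_loc_of_epi g φ t
  apply (LocalSub.genOn (g ⁻¹ᵁ V) _).local_mem
  intro x hx
  obtain ⟨W₁, hW₁, hxW₁, hm⟩ := h1 x hx
  refine ⟨W₁, hW₁, hxW₁, ?_⟩
  refine Submodule.span_le.2 ?_ hm
  rintro _ ⟨V', hV', ε', rfl⟩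
  apply (LocalSub.genOn (g ⁻¹ᵁ V) _).local_mem
  intro y hy
  have hgy : g y ∈ V ⊓ V' := ⟨hW (hW₁ hy), hV' hy⟩
  obtain ⟨O', hO', hyO', hspan⟩ := AmpleLib.affine_local_span G hV (V ⊓ V') inf_le_left
    (res G inf_le_right ε') (g y) hgy
  have hyO'' : y ∈ g ⁻¹ᵁ O' := hyO'
  refine ⟨W₁ ⊓ g ⁻¹ᵁ O', inf_le_left, ⟨hy, hyO''⟩, ?_⟩
  apply LocalSub.genPre_le_genOn
  have key := sec_mem_genPre g (adjU g φ) (hO'.trans inf_le_left)
    (inf_le_right : W₁ ⊓ g ⁻¹ᵁ O' ≤ g ⁻¹ᵁ O') _ hspan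
  rw [res_res, ← sec_res g (adjU g φ) (hO'.trans inf_le_right), res_res] at key
  rw [res_res]
  exact key

end Bridge

section Epi

variable {Y Z : Scheme.{u}} (g : Y ⟶ Z) {F : Z.Modules} {M : Y.Modules}

/-- the kernel of a morphism as a local family of submodules -/
noncomputable def kerSub {Q : Y.Modules} (ψ : M ⟶ Q) : LocalSub M where
  carrier W :=
    { carrier := {t | ψ.app W t = 0}
      add_mem' := by
        intro a b ha hb
        change ψ.app W (a + b) = 0
        rw [map_add, show ψ.app W a = 0 from ha, show ψ.app W b = 0 from hb, add_zero]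
      zero_mem' := map_zero _
      smul_mem' := by
        intro r a ha
        change ψ.app W (r • a) = 0
        rw [Scheme.Modules.Hom.app_smul, show ψ.app W a = 0 from ha, smul_zero] }
  res_mem := by
    intro U V h t ht
    change ψ.app V (res M h t) = 0
    rw [QcExt.app_res, show ψ.app U t = 0 from ht, map_zero]
  local_mem := by
    intro U t ht
    change ψ.app U t = 0
    apply TwistSec.eq_of_locally Q
    intro x hx
    obtain ⟨W, h, hxW, hm⟩ := ht x hx
    refine ⟨W, h, hxW, ?_⟩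
    rw [← QcExt.app_res, map_zero]
    exact hm

theorem mem_kerSub_iff {Q : Y.Modules} (ψ : M ⟶ Q) {W : Y.Opens} (t : Γ(M, W)) :
    t ∈ (kerSub ψ).carrier W ↔ ψ.app W t = 0 := Iff.rfl

/-- **epimorphism criterion**: a morphism out of a pullback is an epimorphism if, over the
preimages of enough opens of the base, the target is generated by the sections coming from the
base -/
theorem epi_of_mem_genOn (φ : (Scheme.Modules.pullback g).obj F ⟶ M)
    (h : ∀ y : Y, ∃ V : Z.Opens, g y ∈ V ∧ ∀ (W : Y.Opens) (_ : W ≤ g ⁻¹ᵁ V) (t : Γ(M, W)),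
      t ∈ (LocalSub.genOn (g ⁻¹ᵁ V) (Set.range (sec g (adjU g φ) V))).carrier W) : Epi φ := by
  apply Preadditive.epi_of_cancel_zero
  intro Q ψ hψ
  apply Scheme.Modules.hom_ext
  intro O
  ext t
  change ψ.app O t = 0
  rw [← mem_kerSub_iff]
  apply (kerSub ψ).local_mem
  intro x hx
  obtain ⟨V, hxV, hV⟩ := h x
  refine ⟨O ⊓ g ⁻¹ᵁ V, inf_le_left, ⟨hx, hxV⟩, ?_⟩
  refine LocalSub.genOn_le _ (kerSub ψ) ?_ _ (hV _ inf_le_right (res M inf_le_left t))
  rintro _ ⟨ε, rfl⟩
  rw [mem_kerSub_iff, sec_adjU]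
  have := congrArg (fun χ => Scheme.Modules.Hom.app χ (g ⁻¹ᵁ V) (PullSec.σ g F V ε)) hψ
  exact this

end Epi

section Main

/-- **quotients of pullbacks of modules of finite type**: if the counit `g^* g_* M ⟶ M` is an
epimorphism for a quasi-coherent module of finite type `M`, then `M` is a quotient of the pullback
of a quasi-coherent module of finite type on the base -/
theorem exists_ft_quotient_of_epi_counit {Y Z : Scheme.{u}}
    (hZ : (CompactSpace Z ∧ QuasiSeparatedSpace Z) ∨ NoetherianSpace Z) (g : Y ⟶ Z)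
    [QuasiCompact g] [QuasiSeparated g] (M : Y.Modules) (hM : Coh.IsCoh M)
    (hepi : Epi ((Scheme.Modules.pullbackPushforwardAdjunction g).counit.app M)) :
    ∃ (F : Z.Modules) (φ : (Scheme.Modules.pullback g).obj F ⟶ M),
      Coh.IsQCoh F ∧ CohB1.IsFT F ∧ Epi φ := by
  classical
  have : M.IsQuasicoherent := hM.1
  have hc : CompactSpace Z := compactSpace_of_hY hZ
  set G : Z.Modules := (Scheme.Modules.pushforward g).obj M with hG
  have hGq : G.IsQuasicoherent := PushQc.isQuasicoherent_pushforward g M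
  set c := (Scheme.Modules.pullbackPushforwardAdjunction g).counit.app M with hc'
  set u := adjU g c with hu
  -- finite data over each affine open
  have hV : ∀ V : Z.affineOpens, ∃ (F : Z.Modules) (ι : F ⟶ G), F.IsQuasicoherent ∧
      CohB1.IsFT F ∧ ∀ (W : Y.Opens) (_ : W ≤ g ⁻¹ᵁ V.1) (t : Γ(M, W)),
        t ∈ (LocalSub.genOn (g ⁻¹ᵁ V.1)
          (Set.range (fun e : Γ(F, V.1) => sec g u V.1 (ι.app V.1 e)))).carrier W := by
    intro V
    obtain ⟨P', hP', hgen⟩ := exists_finset_generating M hM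
      (g.isCompact_preimage V.2.isCompact) (Set.range (sec g u V.1))
      (fun W hW t => mem_genOn_of_epi g c V.2 W hW t)
    have hpre : ∀ m : Γ(M, g ⁻¹ᵁ V.1), ∃ ε : Γ(G, V.1), m ∈ P' → sec g u V.1 ε = m := by
      intro m
      by_cases hm : m ∈ P'
      · obtain ⟨ε, hε⟩ := hP' (Finset.mem_coe.2 hm)
        exact ⟨ε, fun _ => hε⟩
      · exact ⟨0, fun h => absurd h hm⟩
    choose ε hε using hpre
    obtain ⟨F, ι, hFq, hFft, hFT⟩ := exists_qcft_sub' hZ G V.1 V.2 (P'.image ε)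
    refine ⟨F, ι, hFq, hFft, fun W hW t => genOn_mono M ?_ _ (hgen W hW t)⟩
    intro m hm
    obtain ⟨e, he⟩ := hFT (ε m) (Finset.mem_image_of_mem ε (Finset.mem_coe.1 hm))
    refine ⟨e, ?_⟩
    change sec g u V.1 (ι.app V.1 e) = m
    rw [he]
    exact hε m (Finset.mem_coe.1 hm)
  choose F ι hFq hFft hFgen using hV
  -- a finite affine cover
  obtain ⟨s, hs⟩ := isCompact_univ.elim_finite_subcover
    (fun V : Z.affineOpens => (V.1 : Set Z)) (fun V => V.1.2) (by
      intro z _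
      obtain ⟨U, hU, hzU⟩ := RP6.exists_affine_mem z
      exact Set.mem_iUnion.2 ⟨⟨U, hU⟩, hzU⟩)
  let Vi : Fin s.card → Z.affineOpens := fun i => (s.equivFin.symm i).1
  have hcov : ∀ z : Z, ∃ i, z ∈ (Vi i).1 := by
    intro z
    have := hs (Set.mem_univ z)
    simp only [Set.mem_iUnion] at this
    obtain ⟨V, hVs, hzV⟩ := this
    refine ⟨s.equivFin ⟨V, hVs⟩, ?_⟩
    change z ∈ ((s.equivFin.symm (s.equivFin ⟨V, hVs⟩)).1).1
    rw [Equiv.symm_apply_apply]
    exact hzV
  let Bm : Fin s.card → Z.Modules := fun i => F (Vi i)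
  have hBq : ∀ i, (Bm i).IsQuasicoherent := fun i => hFq (Vi i)
  have hEq : (∐ Bm).IsQuasicoherent := FinSigma.isQuasicoherent_sigma Bm
  have hEft : CohB1.IsFT (∐ Bm) := isFT_sigma Bm (fun i => hFft (Vi i))
  let uF : (∐ Bm) ⟶ (Scheme.Modules.pushforward g).obj M :=
    Sigma.desc (fun i => ι (Vi i) ≫ u)
  have key : ∀ (i : Fin s.card) (e : Γ(F (Vi i), (Vi i).1)),
      sec g uF (Vi i).1 ((Sigma.ι Bm i).app (Vi i).1 e) =
        sec g u (Vi i).1 ((ι (Vi i)).app (Vi i).1 e) := by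
    intro i e
    have h1 : Sigma.ι Bm i ≫ uF = ι (Vi i) ≫ u := Sigma.ι_desc _ _
    exact congrArg (fun φ : Bm i ⟶ (Scheme.Modules.pushforward g).obj M => φ.app (Vi i).1 e) h1
  refine ⟨∐ Bm, ((Scheme.Modules.pullbackPushforwardAdjunction g).homEquiv (∐ Bm) M).symm uF,
    hEq, hEft, ?_⟩
  apply epi_of_mem_genOn
  intro y
  obtain ⟨i, hi⟩ := hcov (g y)
  refine ⟨(Vi i).1, hi, fun W hW t => ?_⟩
  have hadj : adjU g (((Scheme.Modules.pullbackPushforwardAdjunction g).homEquiv (∐ Bm) M).symm uF)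
      = uF := by
    unfold adjU
    rw [Equiv.apply_symm_apply]
  rw [hadj]
  refine genOn_mono M ?_ _ (hFgen (Vi i) W hW t)
  rintro _ ⟨e, rfl⟩
  exact ⟨(Sigma.ι Bm i).app (Vi i).1 e, key i e⟩

/-- **S5727** -/
theorem eventually_ft_quotient {Y Z : Scheme.{u}}
    (hZ : (CompactSpace Z ∧ QuasiSeparatedSpace Z) ∨ NoetherianSpace Z) (g : Y ⟶ Z)
    [QuasiCompact g] (K : Y.Modules) (hK : PicF.IsInvertible K)
    (hKva : RelProj.IsRelVeryAmple g K) (E : Y.Modules) (hE : Coh.IsQCoh E) (hEft : CohB1.IsFT E) :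
    ∃ m₀ : ℕ, ∀ m : ℕ, m₀ ≤ m →
      ∃ (F : Z.Modules)
        (φ : (Scheme.Modules.pullback g).obj F ⟶ CohB1.tensorMod E (CohB1.tensorPow K m)),
        Coh.IsQCoh F ∧ CohB1.IsFT F ∧ Epi φ := by
  have hc : CompactSpace Z := compactSpace_of_hY hZ
  have : CompactSpace Y := QuasiCompact.compactSpace_of_compactSpace g
  have hsep : IsSeparated g := isSeparated_of_isRelVeryAmple g K hKva
  have hamp : RelAmple.IsRelAmple g K := VeryAmple.main5721 g K hKva
  have : E.IsQuasicoherent := hE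
  obtain ⟨m₀, -, hm₀⟩ := RelAmpleLib.eventually_epi_counit g K hamp E ⟨hE, hEft⟩
  refine ⟨m₀, fun m hm => ?_⟩
  have hKm := TwForm.isInvertible_tensorPow hK m
  have : (CohB1.tensorPow K m).IsQuasicoherent := InvQc.isQuasicoherent_of_isInvertible _ hKm
  have hM : Coh.IsCoh (CohB1.tensorMod E (CohB1.tensorPow K m)) :=
    ⟨Groth.Agent.Lead.TilT.isQuasicoherent_tensorMod E _,
      Groth.Agent.Lead.TilT.isFT_tensorMod E _ hEft (InvQc.isFiniteType_of_isInvertible _ hKm)⟩
  exact exists_ft_quotient_of_epi_counit hZ g _ hM (hm₀ m hm)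

end Main

end Groth.Agent.Helper1.VT
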