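import Mathlib
import Groth.Prelude.Def_PerfAux
import Groth.Agent.Lib.Helper1.VT27
import Groth.Agent.Lib.Helper1.InvInv2
import Groth.Agent.Lib.Helper4.TwExact
import Groth.Agent.Lib.Helper5.Perf.Pull
import Groth.Agent.Lib.Helper5.LTen.Flf
import Groth.Agent.Lib.Helper1.CompAmple

set_option autoImplicit false
universe u
open CategoryTheory CategoryTheory.Limits AlgebraicGeometry TopologicalSpace Opposite

namespace Groth.Agent.Helper1.ResProp

open Groth.Agent.Helper1.QcCech Groth.Agent.Helper1.SubSh Groth.Agent.Helper1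
open Groth.Agent.Helper1.TwForm Groth.Agent.Lib.Helper4.TwExact

variable {X Y : Scheme.{u}}

/-- untwisting an epimorphism onto a twist -/
theorem exists_epi_untwist {L F P : X.Modules} (hL : PicF.IsInvertible L) (n : ℕ)
    (hP : FlatMod.IsFinLocFree P) (ψ : P ⟶ CohB1.tensorMod F (CohB1.tensorPow L n)) [Epi ψ] :
    ∃ (E : X.Modules) (π : E ⟶ F), FlatMod.IsFinLocFree E ∧ Epi π := by
  have hN : PicF.IsInvertible (CohB1.tensorPow L n) := isInvertible_tensorPow hL n
  obtain ⟨K, hK, ⟨e⟩⟩ := InvInv2.exists_inverse hN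
  have hloc := locFrame_of_isInvertible hL hK
  let unitR : CohB1.tensorMod F (Coh.structureModule X) ≅ F :=
    Tw.iso (((Tw.self L K F).tensorR (Tw.self L K (Coh.structureModule X))).cast
      (d₁' := 0) (d₂' := 0) (by ring) (by ring)) (Tw.self L K F) hloc
  let D : Tw L K (Coh.structureModule X) (n : ℤ) 1 (Coh.structureModule X) :=
    (((Tw.snd L K).tensorR ((Tw.fst L K).pow n)).ofIso e).cast (by ring) (by ring)
  let C₂ : Tw L K F (n : ℤ) 1 F :=
    (((Tw.self L K F).tensorR D).ofIso unitR).cast (by ring) (by ring)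
  let C₁ : Tw L K F (n : ℤ) 1
      (CohB1.tensorMod (CohB1.tensorMod F (CohB1.tensorPow L n)) K) :=
    (((Tw.self L K F).tensorR ((Tw.fst L K).pow n)).tensorR (Tw.snd L K)).cast
      (by ring) (by ring)
  let ε : CohB1.tensorMod (CohB1.tensorMod F (CohB1.tensorPow L n)) K ≅ F := Tw.iso C₁ C₂ hloc
  have h1 : Epi ((TL K).map ψ) := epi_map (locGen_of_isInvertible K hK) ψ
  have h2 : Epi ((TL K).map ψ ≫ ε.hom) := @epi_comp _ _ _ _ _ ((TL K).map ψ) h1 ε.hom inferInstance
  refine ⟨CohB1.tensorMod P K, (TL K).map ψ ≫ ε.hom, ?_, h2⟩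
  exact Groth.Agent.Lib.Helper5.LTenFlf.isFinLocFree_tensor P K hP (InvInv2.isFinLocFree_of_isInvertible hK)

/-- **S7241**: the resolution property passes to schemes carrying a relatively ample module -/
theorem hasResolutionProperty_of_isRelAmple (f : X ⟶ Y) [CompactSpace Y] [QuasiSeparatedSpace Y]
    (hY : PerfAux.HasResolutionProperty Y) (L : X.Modules) (hL : RelAmple.IsRelAmple f L) :
    PerfAux.HasResolutionProperty X := by
  intro M hq hft
  haveI : QuasiCompact f := hL.1
  haveI : CompactSpace X := QuasiCompact.compactSpace_of_compactSpace f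
  haveI hqsf : QuasiSeparated f := by
    rw [HasAffineProperty.iff_of_iSup_eq_top (P := @QuasiSeparated) (fun V : Y.affineOpens => V)
      (iSup_affineOpens_eq_top Y)]
    intro V
    exact AmpleLib.quasiSeparatedSpace_of_isAmple (hL.2 V)
  have hLinv : PicF.IsInvertible L := CompAmple.isInvertible_of_isRelAmple f hL
  obtain ⟨n₀, -, hn₀⟩ := RelAmpleLib.eventually_epi_counit f L hL M ⟨hq, hft⟩
  have hKm := isInvertible_tensorPow hLinv n₀
  haveI : M.IsQuasicoherent := hq
  haveI : (CohB1.tensorPow L n₀).IsQuasicoherent := InvQc.isQuasicoherent_of_isInvertible _ hKm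
  have hM : Coh.IsCoh (CohB1.tensorMod M (CohB1.tensorPow L n₀)) :=
    ⟨Groth.Agent.Lead.TilT.isQuasicoherent_tensorMod M _,
      Groth.Agent.Lead.TilT.isFT_tensorMod M _ hft (InvQc.isFiniteType_of_isInvertible _ hKm)⟩
  obtain ⟨G, φ, hGq, hGft, hφ⟩ := VT.exists_ft_quotient_of_epi_counit
    (Or.inl ⟨inferInstance, inferInstance⟩) f _ hM (hn₀ n₀ le_rfl)
  obtain ⟨E, π, hE, hπ⟩ := hY G hGq hGft
  haveI : Epi ((Scheme.Modules.pullback f).map π) := inferInstance
  haveI : Epi ((Scheme.Modules.pullback f).map π ≫ φ) := epi_comp _ _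
  exact exists_epi_untwist hLinv n₀
    (Groth.Agent.Lib.Helper5.PerfPull.isFinLocFree_pullback f E hE)
    ((Scheme.Modules.pullback f).map π ≫ φ)

end Groth.Agent.Helper1.ResProp
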