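import Mathlib
import Groth.Agent.Lib.Helper1.GenusZero1
import Groth.Agent.Lib.Helper1.P1Iso3
import Groth.Agent.Lib.Helper1.FibBetti1
import Groth.Agent.Lib.Helper1.RpTw1
import Groth.Agent.Lib.Helper1.RuledSurf1
import Groth.Agent.Lib.Helper1.HypCoh1
import Groth.Agent.Lib.Lead.PnMain
import Groth.Agent.Lib.Helper4.PnX1

/-!
# Cohomology of invertible modules on a proper scheme abstractly isomorphic to the projective line
(helper1)
-/

set_option autoImplicit false
set_option backward.isDefEq.respectTransparency.types false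
set_option linter.style.haveILetI false
set_option linter.unusedSectionVars false
universe u
open CategoryTheory CategoryTheory.Limits AlgebraicGeometry TopologicalSpace Opposite

namespace Groth.Agent.Helper1.RuledPush

open Groth.Agent.Helper1 Groth.Agent.Lib.Helper4 Groth.Agent.Helper7

section P1

variable (k : Type u) [Field k]

theorem eulerLE_P1 (d : ℤ) :
    FGA.eulerCharLE k (CohB1.ProjSpace 1 k) (Twist.twistProjSpace 1 k d) 1 = d + 1 := by
  unfold FGA.eulerCharLE
  refine (PnX1.euler k 1 Nat.one_pos d).trans ?_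
  rw [Ring.choose_one_right]
  push_cast
  ring

theorem h1_P1 (d : ℤ) (hd : -1 ≤ d) :
    Subsingleton (Coh.HH (CohB1.ProjSpace 1 k) (Twist.twistProjSpace 1 k d) 1) :=
  Groth.Agent.S0844.result k 1 d 1 (fun h => absurd h.1 (by decide)) (fun h => by
    have h2 := h.2
    omega)

end P1

section FibreCoh

variable (k : Type u) [Field k] [IsAlgClosed k] (F : Scheme.{u}) [F.Over (Spec (CommRingCat.of k))]
  [IsProper (F ↘ Spec (CommRingCat.of k))]

set_option maxHeartbeats 800000 in
/-- on a proper `k`-scheme abstractly isomorphic to the projective line, an invertible module of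
degree `n ≥ 0` has no `H¹` and `h⁰ = n + 1` -/
theorem fibre_coh (e₀ : F ≅ CohB1.ProjSpace 1 k) (M : F.Modules) (hM : PicF.IsInvertible M) (n : ℕ)
    (hdeg : Pic13.curveDeg k (F ↘ Spec (CommRingCat.of k)) M = n) :
    Subsingleton (Coh.HH F M 1) ∧ Module.finrank k (Coh.HH F M 0) = n + 1 := by
  haveI : IsIntegral (CohB1.ProjSpace 1 k) := HypPn.isIntegral_projSpace 1 k
  haveI : IsProper (CohB1.ProjSpace 1 k ↘ Spec (CommRingCat.of k)) := VA5.isProper_toSpec 1 k
  haveI : Nonempty ↥(CohB1.ProjSpace 1 k) := inferInstance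
  haveI : Nonempty ↥F := by
    obtain ⟨p⟩ := ‹Nonempty ↥(CohB1.ProjSpace 1 k)›
    exact ⟨e₀.inv p⟩
  haveI : IsIntegral F := isIntegral_of_isOpenImmersion e₀.hom
  haveI : IsNoetherian F := Euler.isNoetherian_of_proper k F
  haveI : IsNoetherian (CohB1.ProjSpace 1 k) := Euler.isNoetherian_of_proper k _
  have hdim : topologicalKrullDim F = 1 := by
    rw [← P1Iso.dim_P1 k]
    exact (Scheme.homeoOfIso e₀).isHomeomorph.topologicalKrullDim_eq
  -- `H¹(O_F) = 0`
  have hO1 : Subsingleton (Coh.HH F (Coh.structureModule F) 1) := by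
    haveI : (Coh.structureModule (CohB1.ProjSpace 1 k)).IsQuasicoherent :=
      (GeomConn.isCoh_structureModule' _).1
    have h1 : Subsingleton (Coh.HH (CohB1.ProjSpace 1 k)
        (Coh.structureModule (CohB1.ProjSpace 1 k)) 1) := PnC7.s0023 1 k 1 Nat.one_pos
    have h2 := RpTw.subsingleton_HH_pullback_of_iso e₀ (Coh.structureModule _) 1 h1
    exact Dv.subsingleton_HH_of_iso (PullSec.unitIso e₀.hom).symm 1 h2
  obtain ⟨e, he⟩ := GenusZero.iso_P1_of_isAlgClosed k F hdim hO1
  -- the twist
  have hM' : PicF.IsInvertible ((Scheme.Modules.pullback e.inv).obj M) :=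
    PullGen.isInvertible_pullback e.inv hM
  obtain ⟨d, ⟨ε⟩⟩ := Groth.Agent.Lead.PnMain.exists_iso_twist 1 k _ hM'
  have θ : M ≅ (Scheme.Modules.pullback e.hom).obj (Twist.twistProjSpace 1 k d) :=
    ((Scheme.Modules.pullbackComp e.hom e.inv).app M ≪≫
      (Scheme.Modules.pullbackCongr e.hom_inv_id).app M ≪≫
      (Scheme.Modules.pullbackId F).app M).symm ≪≫ (Scheme.Modules.pullback e.hom).mapIso ε
  have hd1 : topologicalKrullDim F ≤ ((1 : ℕ) : WithBot ℕ∞) := by
    rw [hdim]; exact le_of_eq Nat.cast_one.symm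
  have hP1dim : topologicalKrullDim (CohB1.ProjSpace 1 k) ≤ ((1 : ℕ) : WithBot ℕ∞) := by
    rw [P1Iso.dim_P1 k]; exact le_of_eq Nat.cast_one.symm
  have hχM : FGA.eulerCharLE k F M 1 = d + 1 := by
    rw [FGAInt.eulerCharLE_eq_euler k F 1 hd1 M, Euler.euler_iso k F θ,
      P1Iso.euler_pullback_of_isIso k (CohB1.ProjSpace 1 k) F e.hom he _
        (InvInv2.isFinLocFree_of_isInvertible (ClBridge2.isInvertible_twist 1 k d)),
      ← FGAInt.eulerCharLE_eq_euler k (CohB1.ProjSpace 1 k) 1 hP1dim]
    exact eulerLE_P1 k d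
  have hχO : FGA.eulerCharLE k F (Coh.structureModule F) 1 = 1 := by
    unfold FGA.eulerCharLE
    rw [Finset.sum_range_succ, Finset.sum_range_one, pow_zero, pow_one, one_mul]
    haveI := hO1
    have h1z : Module.finrank k (Coh.HH F (Coh.structureModule F) 1) = 0 :=
      Module.finrank_zero_of_subsingleton
    rw [FibBetti.finrank_H0_eq_one k F, h1z]
    norm_num
  have hdn : d = n := by
    unfold Pic13.curveDeg at hdeg
    have h3 : FGA.eulerCharLE k F M 1 - FGA.eulerCharLE k F (Coh.structureModule F) 1 = n := hdeg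
    rw [hχM, hχO] at h3
    omega
  subst hdn
  have hT1 : Subsingleton (Coh.HH (CohB1.ProjSpace 1 k) (Twist.twistProjSpace 1 k (n : ℤ)) 1) :=
    h1_P1 k n (by omega)
  haveI : (Twist.twistProjSpace 1 k (n : ℤ)).IsQuasicoherent :=
    (InvQc.isCoh_of_isInvertible _ (ClBridge2.isInvertible_twist 1 k n)).1
  have hM1 : Subsingleton (Coh.HH F M 1) :=
    Dv.subsingleton_HH_of_iso θ 1 (RpTw.subsingleton_HH_pullback_of_iso e _ 1 hT1)
  refine ⟨hM1, ?_⟩
  have hsum : FGA.eulerCharLE k F M 1 = (Module.finrank k (Coh.HH F M 0) : ℤ) -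
      (Module.finrank k (Coh.HH F M 1) : ℤ) := by
    unfold FGA.eulerCharLE
    rw [Finset.sum_range_succ, Finset.sum_range_one, pow_zero, pow_one, one_mul]
    ring
  rw [hχM] at hsum
  haveI := hM1
  have h1z : Module.finrank k (Coh.HH F M 1) = 0 := Module.finrank_zero_of_subsingleton
  rw [h1z] at hsum
  omega

end FibreCoh

end Groth.Agent.Helper1.RuledPush
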