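import Mathlib
import Groth.Prelude.Def_Coh
import Groth.Prelude.Def_CurvBase
import Groth.Prelude.Def_ProjUP
import Groth.Agent.Lib.Helper1.FBC5
import Groth.Agent.Lib.Helper1.TwistSec
import Groth.Agent.Lib.Helper1.HH0

/-!
# Pulled back global sections under flat base change between fields (helper1)
-/

set_option backward.isDefEq.respectTransparency.types false
set_option synthInstance.maxHeartbeats 400000
set_option autoImplicit false
set_option linter.unusedSectionVars false
set_option linter.style.haveILetI false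
set_option linter.unusedSimpArgs false
universe u
open CategoryTheory CategoryTheory.Limits AlgebraicGeometry TopologicalSpace Opposite TensorProduct

namespace Groth.Agent.Helper1.VAc

open Groth.Agent.Lead.BCU (IsBC unitRes)
open Groth.Agent.Helper1
open Groth.Agent.Helper1.QcCech
open Groth.Agent.Lib.Helper4.BaseChgRing1
open Groth.Agent.Lib.Helper4.TenSec2
open Groth.Agent.Lib.Helper4.LocCech1
open Groth.Agent.Helper1.FBC

section LI

variable (A A' : Type u) [Field A] [Field A'] (φ : A →+* A')
  {X X' : Scheme.{u}} [X.Over (Spec (CommRingCat.of A))] [X'.Over (Spec (CommRingCat.of A'))]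
  (g : X' ⟶ X) (F : X.Modules) [F.IsQuasicoherent]
  (hpb : IsPullback g (X' ↘ Spec (CommRingCat.of A')) (X ↘ Spec (CommRingCat.of A))
      (Spec.map (CommRingCat.ofHom φ)))
  [IsSeparated (X ↘ Spec (CommRingCat.of A))] [CompactSpace X]

attribute [local instance] secMod

include hpb in
theorem linearIndependent_unitRes {m : Type*} (v : m → Γ(F, ⊤)) (hv : LinearIndependent A v) :
    LinearIndependent A' (fun j => unitRes g F
      (show (⊤ : X'.Opens) ≤ g ⁻¹ᵁ ⊤ from fun _ _ => trivial) (v j)) := by
  obtain ⟨ι, hfin, U, hcov, haff⟩ :=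
    Groth.Agent.Lib.Helper4.SepCover1.exists_cover (X ↘ Spec (CommRingCat.of A))
  haveI := hfin
  have hb := isBC_thetaN A A' φ g F U hpb haff 0
  letI := φ.toAlgebra
  haveI : Module.Flat A A' := inferInstance
  letI mA : Module A (Co ((Scheme.Modules.pullback g).obj F) (fun i => g ⁻¹ᵁ U i) 0) :=
    Module.compHom _ φ
  haveI tA : IsScalarTower A A'
      (Co ((Scheme.Modules.pullback g).obj F) (fun i => g ⁻¹ᵁ U i) 0) := ⟨fun a a' n => by
    change (φ a * a') • n = φ a • a' • n
    exact mul_smul _ _ _⟩
  obtain ⟨l', hl', hB⟩ := hb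
  let ρ : Γ(F, ⊤) →ₗ[A] Co F U 0 :=
    { toFun := fun s a => res F le_top s
      map_add' := fun s t => by funext a; exact map_add _ _ _
      map_smul' := fun c s => by
        funext a
        show res F le_top (c • s) = c • res F le_top s
        rw [secMod_smul, secMod_smul, res_smul]
        congr 1
        exact alphaRing_res A le_top c }
  have hρ : Function.Injective ρ := by
    intro s t hst
    apply TwistSec.eq_of_locally F s t
    intro x _
    have hx : x ∈ iSup U := by rw [hcov]; trivial
    obtain ⟨i, hi⟩ := Opens.mem_iSup.1 hx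
    have hle : U i ≤ TCx.W U (fun _ : Fin 1 => i) := TCx.le_W U _ _ (fun _ => le_rfl)
    refine ⟨U i, le_top, hi, ?_⟩
    have h1 : res F (le_top : TCx.W U (fun _ : Fin 1 => i) ≤ ⊤) s = res F le_top t :=
      congrFun hst _
    have h2 := congrArg (res F hle) h1
    rwa [res_res, res_res] at h2
  let ρ' : Γ((Scheme.Modules.pullback g).obj F, ⊤) →ₗ[A']
      Co ((Scheme.Modules.pullback g).obj F) (fun i => g ⁻¹ᵁ U i) 0 :=
    { toFun := fun s a => res _ le_top s
      map_add' := fun s t => by funext a; exact map_add _ _ _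
      map_smul' := fun c s => by
        funext a
        show res _ le_top (c • s) = c • res _ le_top s
        rw [secMod_smul, secMod_smul, res_smul]
        congr 1
        exact alphaRing_res A' le_top c }
  have h1 : LinearIndependent A (fun j => ρ (v j)) := hv.map' ρ (LinearMap.ker_eq_bot.2 hρ)
  have h2 : LinearIndependent A' (fun j => (1 : A') ⊗ₜ[A] ρ (v j)) :=
    Module.Flat.linearIndependent_one_tmul h1
  have h3 : LinearIndependent A' (fun j => l' (ρ (v j))) := by
    have h := h2.map' hB.equiv.toLinearMap (LinearEquiv.ker _)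
    have e : (⇑hB.equiv.toLinearMap ∘ fun j => (1 : A') ⊗ₜ[A] ρ (v j)) =
        fun j => l' (ρ (v j)) := by
      funext j
      show hB.equiv ((1 : A') ⊗ₜ[A] ρ (v j)) = l' (ρ (v j))
      rw [IsBaseChange.equiv_tmul, one_smul]
    rw [e] at h
    exact h
  have hcomp : ∀ s : Γ(F, ⊤), ρ' (unitRes g F
      (show (⊤ : X'.Opens) ≤ g ⁻¹ᵁ ⊤ from fun _ _ => trivial) s) = l' (ρ s) := by
    intro s
    rw [hl']
    funext a
    exact unitRes_res g F (show (⊤ : X'.Opens) ≤ g ⁻¹ᵁ ⊤ from fun _ _ => trivial)
      (le_of_eq (W_preimage g U a)) le_top le_top s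
  apply LinearIndependent.of_comp ρ'
  have e2 : (⇑ρ' ∘ fun j => unitRes g F
      (show (⊤ : X'.Opens) ≤ g ⁻¹ᵁ ⊤ from fun _ _ => trivial) (v j)) =
      fun j => l' (ρ (v j)) := by
    funext j
    exact hcomp (v j)
  rw [e2]
  exact h3

end LI

section Conv

variable (A : Type u) [CommRing A] (X : Scheme.{u}) [X.Over (Spec (CommRingCat.of A))]

theorem alphaRing_top (a : A) :
    alphaRing A X ⊤ a = ProjUP.toGlobal (X ↘ Spec (CommRingCat.of A)) a := by
  unfold alphaRing ProjUP.toGlobal
  have h4 : (X ↘ Spec (CommRingCat.of A)).appLE ⊤ ⊤ le_top =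
      (X ↘ Spec (CommRingCat.of A)).appTop := Scheme.Hom.appLE_eq_app _
  rw [h4]

attribute [local instance] secMod

/-- `H^0` as global sections, linearly over the base ring -/
noncomputable def hh0Equiv (M : X.Modules) : Coh.HH X M 0 ≃ₗ[A] Γ(M, ⊤) :=
  { HH0.equiv X M with
    map_smul' := fun a x => by
      show HH0.equiv X M (a • x) = alphaRing A X ⊤ a • HH0.equiv X M x
      rw [HH0.equiv_smul_over, alphaRing_top]
      rfl }

theorem hh0Equiv_apply (M : X.Modules) (x : Coh.HH X M 0) :
    hh0Equiv A X M x = HH0.equiv X M x := rfl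

end Conv

section Span

variable (k K : Type u) [Field k] [Field K] [Algebra k K]
  {X X' : Scheme.{u}} [X.Over (Spec (CommRingCat.of k))] [X'.Over (Spec (CommRingCat.of K))]
  (g : X' ⟶ X)
  (hpb : IsPullback g (X' ↘ Spec (CommRingCat.of K)) (X ↘ Spec (CommRingCat.of k))
      (Spec.map (CommRingCat.ofHom (algebraMap k K))))
  [IsSeparated (X ↘ Spec (CommRingCat.of k))] [CompactSpace X]
  (F : X.Modules) [F.IsQuasicoherent]

attribute [local instance] secMod

include hpb in
/-- pulled back sections of a basis span the sections of the pullback -/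
theorem exists_coeffs_pullSec [Module.Finite k (Coh.HH X F 0)] {d : ℕ}
    (β : Module.Basis (Fin d) k (Coh.HH X F 0))
    (u : Γ((Scheme.Modules.pullback g).obj F, ⊤)) :
    ∃ c : Fin d → K, u = ∑ j, ProjUP.toGlobal (X' ↘ Spec (CommRingCat.of K)) (c j) •
      ProjUP.pullSec g F (HH0.equiv X F (β j)) := by
  have li : LinearIndependent k (fun j => hh0Equiv k X F (β j)) :=
    β.linearIndependent.map' (hh0Equiv k X F).toLinearMap (LinearEquiv.ker _)
  have li' := linearIndependent_unitRes k K (algebraMap k K) g F hpb _ li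
  obtain ⟨l, hl⟩ := exists_isBC_HH_field k K g hpb F 0
  haveI : Module.Finite K (Coh.HH X' ((Scheme.Modules.pullback g).obj F) 0) :=
    IsBC.finite (algebraMap k K) hl
  haveI : Module.Finite K Γ((Scheme.Modules.pullback g).obj F, ⊤) :=
    Module.Finite.equiv (hh0Equiv K X' ((Scheme.Modules.pullback g).obj F))
  have hfr : Module.finrank K Γ((Scheme.Modules.pullback g).obj F, ⊤) = d := by
    rw [← (hh0Equiv K X' ((Scheme.Modules.pullback g).obj F)).finrank_eq,
      finrank_HH_field k K g hpb F 0, Module.finrank_eq_card_basis β, Fintype.card_fin]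
  have hspan := li'.span_eq_top_of_card_eq_finrank' (by rw [hfr, Fintype.card_fin])
  have hu : u ∈ Submodule.span K (Set.range fun j => unitRes g F
      (show (⊤ : X'.Opens) ≤ g ⁻¹ᵁ ⊤ from fun _ _ => trivial) (hh0Equiv k X F (β j))) := by
    rw [hspan]; exact Submodule.mem_top
  obtain ⟨c, hc⟩ := (Submodule.mem_span_range_iff_exists_fun K).1 hu
  refine ⟨c, hc.symm.trans ?_⟩
  refine Finset.sum_congr rfl fun j _ => ?_
  rw [secMod_smul, alphaRing_top]
  congr 1
  exact res_self _ _ _

end Span

end Groth.Agent.Helper1.VAc
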