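import Mathlib
import Groth.Agent.Lib.Helper1.RuledPush1
import Groth.Agent.Lib.Helper7.BC0.Open
import Groth.Agent.S14444
import Groth.Agent.Lib.Helper7.FibRank.Flf
import Groth.Agent.Lib.Helper1.VB1
import Groth.Agent.Lib.Lead.Inv1
import Groth.Agent.Lib.Lead.FLF6
import Groth.Agent.Lib.Lead.Punc1
import Groth.Agent.Lib.Helper1.PtDeg6
import Groth.Agent.Lib.Helper1.SurfDual2
import Groth.Agent.Lib.Helper1.NumEq1
import Groth.Agent.Lib.Helper4.FlatTw3
import Groth.Agent.Lib.Helper5.RelPC.FlatSingle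

/-!
# The direct image of an invertible module on a ruled surface (helper1)
-/

set_option autoImplicit false
set_option backward.isDefEq.respectTransparency.types false
set_option linter.style.haveILetI false
set_option linter.unusedSectionVars false
universe u
open CategoryTheory CategoryTheory.Limits AlgebraicGeometry TopologicalSpace Opposite

namespace Groth.Agent.Helper1.RuledPush

open Groth.Agent.Helper1 Groth.Agent.Lib.Helper4 Groth.Agent.Helper7

section ZeroUnit

/-- global functions on a proper reduced connected scheme over an algebraically closed field are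
zero or units -/
theorem zero_or_unit (k : Type u) [Field k] [IsAlgClosed k] (F : Scheme.{u})
    [F.Over (Spec (CommRingCat.of k))] [IsProper (F ↘ Spec (CommRingCat.of k))]
    [IsReduced F] [ConnectedSpace F] (s : Γ(F, ⊤)) : s = 0 ∨ IsUnit s := by
  let f := F ↘ Spec (CommRingCat.of k)
  letI a1 : Algebra k Γ(F, ⊤) := (GeomConn.toΓ k F f).toAlgebra
  let E := HH0.equiv F (Coh.structureModule F)
  let toG : ↑((Coh.structureModule F).val.obj (op ⊤)) → Γ(F, ⊤) := fun m => m
  let ofG : Γ(F, ⊤) → ↑((Coh.structureModule F).val.obj (op ⊤)) := fun m => m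
  let L : Coh.HH F (Coh.structureModule F) 0 ≃ₗ[k] Γ(F, ⊤) :=
    { toFun := fun x => toG (E x)
      invFun := fun s => E.symm (ofG s)
      map_add' := fun x y => by
        show toG (E (x + y)) = toG (E x) + toG (E y)
        rw [map_add]; rfl
      map_smul' := fun a x => by
        show toG (E (a • x)) = GeomConn.toΓ k F f a * toG (E x)
        rw [HH0.equiv_smul_over]
        rfl
      left_inv := fun x => E.left_inv x
      right_inv := fun s => E.right_inv (ofG s) }
  haveI hfinHH : Module.Finite k (Coh.HH F (Coh.structureModule F) 0) :=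
    Groth.Agent.S0002.result k F (Coh.structureModule F) (GeomConn.isCoh_structureModule' F) 0
  haveI hfinΓ : Module.Finite k Γ(F, ⊤) := Module.Finite.equiv L
  haveI : Nonempty ↥(⊤ : F.Opens) := by
    obtain ⟨x⟩ : Nonempty ↥F := inferInstance
    exact ⟨⟨x, trivial⟩⟩
  haveI : Nontrivial Γ(F, ⊤) := inferInstance
  have h1 : Module.finrank k Γ(F, ⊤) = 1 := GeomConn.finrank_eq_one_of_reduced_connected
    (fun e he => GeomConn.idempotent_trivial_of_connected F e he)
  have hbt : (⊥ : Subalgebra k Γ(F, ⊤)) = ⊤ := Subalgebra.bot_eq_top_of_finrank_eq_one h1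
  have hs : s ∈ (⊥ : Subalgebra k Γ(F, ⊤)) := by rw [hbt]; exact Algebra.mem_top
  obtain ⟨c, rfl⟩ := Algebra.mem_bot.1 hs
  by_cases hc : c = 0
  · left; rw [hc, map_zero]
  · right; exact (IsUnit.mk0 c hc).map (algebraMap k Γ(F, ⊤))

end ZeroUnit

section Sections

theorem surj_of_eq_id {C : Scheme.{u}} (τ : C ⟶ C) (hτ : τ = 𝟙 C) (U : C.Opens) :
    Function.Surjective (τ.app U) := by
  subst hτ
  intro b
  exact ⟨b, by rw [Scheme.Hom.id_app]; rfl⟩

variable {X C : Scheme.{u}} [IsIntegral X] [JacobsonSpace X] (π : X ⟶ C) [IsProper π]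
  (σ : C ⟶ X) (hσ : σ ≫ π = 𝟙 C)
  (hzu : ∀ y : C, IsClosed ({y} : Set C) → ∀ s : Γ(π.fiber y, ⊤), s = 0 ∨ IsUnit s)

include hσ hzu in
/-- a function on `π⁻¹ U` vanishing along the section vanishes, when the closed fibres have only
constant functions -/
theorem eq_zero_of_section (U : C.Opens) (h : Γ(X, π ⁻¹ᵁ U)) (hψ : σ.app (π ⁻¹ᵁ U) h = 0) :
    h = 0 := by
  rw [← basicOpen_eq_bot_iff h]
  by_contra hne
  have hne' : (X.basicOpen h : Set X).Nonempty := (Opens.ne_bot_iff_nonempty _).1 hne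
  obtain ⟨x, hxW, hxc⟩ := nonempty_inter_closedPoints hne' (X.basicOpen h).isOpen.isLocallyClosed
  have hxcl : IsClosed ({x} : Set X) := hxc
  obtain ⟨y, hy⟩ : ∃ y, y = π x := ⟨_, rfl⟩
  have hycl : IsClosed ({y} : Set C) := by
    have h0 := π.isClosedMap _ hxcl
    rw [Set.image_singleton] at h0
    rw [hy]; exact h0
  have hyU : y ∈ U := by
    have h0 : x ∈ π ⁻¹ᵁ U := X.basicOpen_le h hxW
    rw [hy]; exact h0
  have hrange : ∀ z : ↥(π.fiber y), π (π.fiberι y z) = y := by
    intro z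
    have hz : π.fiberι y z ∈ Set.range (π.fiberι y) := ⟨z, rfl⟩
    rw [Scheme.Hom.range_fiberι] at hz
    exact hz
  have hpre : ∀ w : X, π w = y → ∃ z : ↥(π.fiber y), π.fiberι y z = w := by
    intro w hw
    have h0 : w ∈ Set.range (π.fiberι y) := by
      rw [Scheme.Hom.range_fiberι]; exact hw
    exact h0
  obtain ⟨x', hx'⟩ := hpre x hy.symm
  have hσy : π (σ y) = y := by
    rw [← Scheme.Hom.comp_apply, hσ]; rfl
  obtain ⟨s', hs'⟩ := hpre (σ y) hσy
  have htop : (⊤ : (π.fiber y).Opens) ≤ π.fiberι y ⁻¹ᵁ π ⁻¹ᵁ U := by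
    intro z _
    show π (π.fiberι y z) ∈ U
    rw [hrange z]; exact hyU
  obtain ⟨c, hcdef⟩ : ∃ c, c = (π.fiberι y).app (π ⁻¹ᵁ U) h := ⟨_, rfl⟩
  have hbc : (π.fiber y).basicOpen c = π.fiberι y ⁻¹ᵁ X.basicOpen h := by
    rw [hcdef]; exact (Scheme.preimage_basicOpen (π.fiberι y) h).symm
  obtain ⟨c', hc'def⟩ : ∃ c', c' = (π.fiber y).presheaf.map (homOfLE htop).op c := ⟨_, rfl⟩
  have hbc' : (π.fiber y).basicOpen c' = ⊤ ⊓ (π.fiber y).basicOpen c := by
    rw [hc'def]; exact Scheme.basicOpen_res _ _ _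
  have hx'c : x' ∈ (π.fiber y).basicOpen c := by
    rw [hbc]
    show π.fiberι y x' ∈ X.basicOpen h
    rw [hx']; exact hxW
  rcases hzu y hycl c' with h0 | hu
  · rw [h0, Scheme.basicOpen_zero] at hbc'
    have h1 : x' ∈ (⊤ ⊓ (π.fiber y).basicOpen c : (π.fiber y).Opens) := ⟨trivial, hx'c⟩
    rw [← hbc'] at h1
    simpa using h1
  · rw [Scheme.basicOpen_of_isUnit _ hu] at hbc'
    have h1 : s' ∈ (⊤ ⊓ (π.fiber y).basicOpen c : (π.fiber y).Opens) := by
      rw [← hbc']; trivial
    have hs'c : s' ∈ (π.fiber y).basicOpen c := h1.2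
    rw [hbc] at hs'c
    have h2 : σ y ∈ X.basicOpen h := by
      rw [← hs']; exact hs'c
    have h3 : y ∈ σ ⁻¹ᵁ X.basicOpen h := h2
    rw [Scheme.preimage_basicOpen, hψ, Scheme.basicOpen_zero] at h3
    simpa using h3

include hσ hzu in
theorem app_bijective [IsIntegral C] (hsurj : Function.Surjective π) (U : C.Opens) :
    Function.Bijective (π.app U).hom := by
  constructor
  · rw [injective_iff_map_eq_zero]
    intro a ha
    have ha' : π.app U a = 0 := ha
    rw [← basicOpen_eq_bot_iff a]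
    by_contra hne
    obtain ⟨y, hy⟩ := (Opens.ne_bot_iff_nonempty _).1 hne
    obtain ⟨x, rfl⟩ := hsurj y
    have hx : x ∈ π ⁻¹ᵁ C.basicOpen a := hy
    rw [Scheme.preimage_basicOpen, ha', Scheme.basicOpen_zero] at hx
    simpa using hx
  · intro g
    obtain ⟨a, ha⟩ := surj_of_eq_id (σ ≫ π) hσ U (σ.app (π ⁻¹ᵁ U) g)
    refine ⟨a, ?_⟩
    have hψ : σ.app (π ⁻¹ᵁ U) (g - π.app U a) = 0 := by
      rw [map_sub, sub_eq_zero]
      exact ha.symm
    have key := eq_zero_of_section π σ hσ hzu U _ hψ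
    exact (sub_eq_zero.1 key).symm

end Sections

section Rank

/-- sections of a direct image over the spectrum of a field isomorphic to the base field -/
theorem finrank_push_top {k : Type u} [Field k] {F T : Scheme.{u}}
    [F.Over (Spec (CommRingCat.of k))] (ζ : F ⟶ T) (t : T ⟶ Spec (CommRingCat.of k)) [IsIso t]
    (hζ : ζ ≫ t = F ↘ Spec (CommRingCat.of k)) (N : F.Modules) :
    Module.finrank Γ(T, ⊤) Γ((Scheme.Modules.pushforward ζ).obj N, ⊤) =
      Module.finrank k (Coh.HH F N 0) := by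
  symm
  have hbij : Function.Bijective (Coh.toGlobal t) := by
    haveI : IsIso t.appTop := inferInstanceAs (IsIso (t.app ⊤))
    have h1 := ConcreteCategory.bijective_of_isIso t.appTop
    have h2 := ConcreteCategory.bijective_of_isIso (Scheme.ΓSpecIso (CommRingCat.of k)).inv
    exact h1.comp h2
  have hg : ∀ a : k, Coh.toGlobal (F ↘ Spec (CommRingCat.of k)) a =
      (ζ.appTop).hom (Coh.toGlobal t a) := by
    intro a
    rw [← hζ]
    rfl
  let toN : ↑(N.val.obj (op ⊤)) → Γ((Scheme.Modules.pushforward ζ).obj N, ⊤) := fun m => m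
  let ofN : Γ((Scheme.Modules.pushforward ζ).obj N, ⊤) → ↑(N.val.obj (op ⊤)) := fun m => m
  let j : Coh.HH F N 0 ≃+ Γ((Scheme.Modules.pushforward ζ).obj N, ⊤) :=
    { toFun := fun x => toN (HH0.equiv F N x)
      invFun := fun s => (HH0.equiv F N).symm (ofN s)
      left_inv := fun x => (HH0.equiv F N).left_inv x
      right_inv := fun s => (HH0.equiv F N).right_inv (ofN s)
      map_add' := fun x y => by
        show toN (HH0.equiv F N (x + y)) = toN (HH0.equiv F N x) + toN (HH0.equiv F N y)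
        rw [map_add]; rfl }
  let toR : Coh.Γtop T → Γ(T, ⊤) := fun r => r
  have hc : ∀ (a : k) (x : Coh.HH F N 0),
      j (a • x) = toR (Coh.toGlobal t a) • j x := by
    intro a x
    show toN (HH0.equiv F N (a • x)) = toR (Coh.toGlobal t a) • toN (HH0.equiv F N x)
    rw [HH0.equiv_smul_over, hg]
    rfl
  exact congrArg Cardinal.toNat
    (rank_eq_of_equiv_equiv (fun a => toR (Coh.toGlobal t a)) j hbij hc)

/-- the rank of a locally free module read off after pullback to the spectrum of a field -/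
theorem rank_eq_of_point {C T : Scheme.{u}} [IsAffine T] (φ : T ⟶ C) (hfield : IsField Γ(T, ⊤))
    (E : C.Modules) (r : ℕ) (hE : FlatMod.IsFinLocFreeOfRank r E) (N : T.Modules)
    (ι : (Scheme.Modules.pullback φ).obj E ≅ N) :
    Module.finrank Γ(T, ⊤) Γ(N, ⊤) = r := by
  have hφ := Groth.Agent.Lead.Inv.isFinLocFreeOfRank_pullback φ E hE
  have hN := FibRank.isFinLocFreeOfRank_of_iso ι hφ
  obtain ⟨-, hr⟩ := (Groth.Agent.Lead.FLF.isFinLocFreeOfRank_iff N r).1 hN
  letI : Field Γ(T, ⊤) := hfield.toField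
  haveI : Nontrivial Γ(T, ⊤) := hfield.nontrivial
  obtain ⟨p⟩ : Nonempty (PrimeSpectrum Γ(T, ⊤)) := inferInstance
  have hp := hr ⊤ (isAffineOpen_top T) p
  rw [Module.rankAtStalk_eq_finrank_of_free] at hp
  simpa using hp

end Rank

end Groth.Agent.Helper1.RuledPush
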