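import Mathlib
import Groth.Agent.Lib.Helper1.RuledPush2
import Groth.Agent.Lib.Helper1.GenF1
import Groth.Agent.Lib.Helper1.TauChi1

/-!
# The direct image of an invertible module on a ruled surface: main statement (helper1)
-/

set_option autoImplicit false
set_option backward.isDefEq.respectTransparency.types false
set_option linter.style.haveILetI false
set_option linter.unusedSectionVars false
universe u
open CategoryTheory CategoryTheory.Limits AlgebraicGeometry TopologicalSpace Opposite

namespace Groth.Agent.Helper1.RuledPush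

open Groth.Agent.Helper1 Groth.Agent.Lib.Helper4 Groth.Agent.Helper7
open Groth.Agent.Helper1.Euler Groth.Agent.Helper1.CurveDual

variable (k : Type u) [Field k] [IsAlgClosed k] (X : Scheme.{u}) [X.Over (Spec (CommRingCat.of k))]
  [IsProper (X ↘ (Spec (CommRingCat.of k)))] [IsIntegral X]
  (C : Scheme.{u}) [C.Over (Spec (CommRingCat.of k))]
  [IsProper (C ↘ (Spec (CommRingCat.of k)))] [IsIntegral C]

set_option maxHeartbeats 1000000 in
/-- the closed fibres -/
theorem closed_fibre (hdim : topologicalKrullDim X = 2) (hdimC : topologicalKrullDim C = 1)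
    (hregC : ∀ x : C, IsRegularLocalRing (C.presheaf.stalk x))
    (π : X ⟶ C) [Flat π]
    (hfib : ∀ y : C, IsClosed ({y} : Set C) →
      Nonempty (pullback π (C.fromSpecResidueField y) ≅ CohB1.ProjSpace 1 k))
    (n : ℕ) (L : X.Modules) (hL : PicF.IsInvertible L)
    (hdeg : ∀ (y : C) (hy : IsClosed ({y} : Set C)), FGA.intNum k X 2
      ![L, ClSub.idealMod ((Scheme.IdealSheafData.vanishingIdeal ⟨{y}, hy⟩).comap π)]
      (Coh.structureModule X) = -(n : ℤ))
    (y : C) (hy : IsClosed ({y} : Set C))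
    [oF : (π.fiber y).Over (Spec (CommRingCat.of k))]
    (hoF : ((π.fiber y) ↘ Spec (CommRingCat.of k)) =
      π.fiberι y ≫ (X ↘ Spec (CommRingCat.of k))) :
    Subsingleton (CohIII.fiberH π L y 1) ∧
      Module.finrank k
        (Coh.HH (π.fiber y) ((Scheme.Modules.pullback (π.fiberι y)).obj L) 0) = n + 1 ∧
      ∀ s : Γ(π.fiber y, ⊤), s = 0 ∨ IsUnit s := by
  haveI : AlgebraicGeometry.IsNoetherian X := isNoetherian_of_proper k X
  haveI : AlgebraicGeometry.IsNoetherian C := isNoetherian_of_proper k C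
  haveI hci : IsClosedImmersion (C.fromSpecResidueField y) :=
    isClosed_singleton_iff_isClosedImmersion.1 hy
  haveI hciF : IsClosedImmersion (π.fiberι y) :=
    inferInstanceAs (IsClosedImmersion (pullback.fst π (C.fromSpecResidueField y)))
  haveI : IsProper ((π.fiber y) ↘ Spec (CommRingCat.of k)) := by
    rw [hoF]; infer_instance
  obtain ⟨e₀⟩ := hfib y hy
  have e₀' : π.fiber y ≅ CohB1.ProjSpace 1 k := e₀
  have hΓ : topologicalKrullDim ↥(π.fiber y) ≤ ((1 : ℕ) : WithBot ℕ∞) := by
    rw [(Scheme.homeoOfIso e₀').isHomeomorph.topologicalKrullDim_eq, P1Iso.dim_P1 k]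
    exact le_of_eq Nat.cast_one.symm
  have hd2 : topologicalKrullDim X ≤ ((2 : ℕ) : WithBot ℕ∞) := by
    rw [hdim]; rfl
  have hJ : PicF.IsInvertible (ClSub.idealMod (ptIdeal y hy)) :=
    GenusOne.isInvertible_ptIdeal_of_regular k C hdimC y hy (hregC y)
  have hFf : PicF.IsInvertible (ClSub.idealMod ((ptIdeal y hy).comap π)) :=
    ProdSurf.isInvertible_comap π _ hJ
  have hker : (π.fiberι y).ker = (ptIdeal y hy).comap π := by
    have h := Scheme.IdealSheafData.ker_fst_of_isClosedImmersion (C.fromSpecResidueField y) π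
    rw [PtDeg.ker_fromSpecResidueField C y hy] at h
    exact h
  have hd := hdeg y hy
  change FGA.intNum k X 2 ![L, ClSub.idealMod ((ptIdeal y hy).comap π)]
    (Coh.structureModule X) = -(n : ℤ) at hd
  rw [SurfHodge.intNum_symm k X hdim L _ hL hFf,
    RuledSurf.intNum_ideal_inv k X hd2 _ L hL] at hd
  have h2 := NumEq.curveDeg_eq_lam_quot k X (π.fiberι y) hΓ L hL
  rw [hker] at h2
  rw [← h2, ← hoF] at hd
  have hdegF : Pic13.curveDeg k ((π.fiber y) ↘ Spec (CommRingCat.of k))
      ((Scheme.Modules.pullback (π.fiberι y)).obj L) = n := by linarith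
  obtain ⟨h1, h0⟩ := fibre_coh k (π.fiber y) e₀' _
    (PullGen.isInvertible_pullback (π.fiberι y) hL) n hdegF
  refine ⟨h1, h0, ?_⟩
  haveI : IsIntegral (CohB1.ProjSpace 1 k) := HypPn.isIntegral_projSpace 1 k
  haveI : Nonempty ↥(CohB1.ProjSpace 1 k) := inferInstance
  haveI : Nonempty ↥(π.fiber y) := by
    obtain ⟨p⟩ := ‹Nonempty ↥(CohB1.ProjSpace 1 k)›
    exact ⟨e₀'.inv p⟩
  haveI : IsIntegral (π.fiber y) := isIntegral_of_isOpenImmersion e₀'.hom
  exact zero_or_unit k (π.fiber y)

set_option maxHeartbeats 1600000 in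
/-- **S12429** -/
theorem main (hdim : topologicalKrullDim X = 2) (hdimC : topologicalKrullDim C = 1)
    (hregC : ∀ x : C, IsRegularLocalRing (C.presheaf.stalk x))
    (π : X ⟶ C) (hπ : π ≫ (C ↘ (Spec (CommRingCat.of k))) = (X ↘ (Spec (CommRingCat.of k))))
    (hsurj : Function.Surjective π)
    (hfib : ∀ y : C, IsClosed ({y} : Set C) →
      Nonempty (pullback π (C.fromSpecResidueField y) ≅ CohB1.ProjSpace 1 k))
    (σ : C ⟶ X) (hσ : σ ≫ π = 𝟙 C)
    (n : ℕ) (L : X.Modules) (hL : PicF.IsInvertible L)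
    (hdeg : ∀ (y : C) (hy : IsClosed ({y} : Set C)), FGA.intNum k X 2
      ![L, ClSub.idealMod ((Scheme.IdealSheafData.vanishingIdeal ⟨{y}, hy⟩).comap π)]
      (Coh.structureModule X) = -(n : ℤ)) :
    FlatMod.IsFinLocFreeOfRank (n + 1) ((Coh.push π).obj L) ∧
      ∀ U : C.Opens, Function.Bijective (π.app U).hom := by
  haveI : AlgebraicGeometry.IsNoetherian X := isNoetherian_of_proper k X
  haveI : AlgebraicGeometry.IsNoetherian C := isNoetherian_of_proper k C
  have hgen : π.base (genericPoint X) = genericPoint C := by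
    have h1 : IsGenericPoint (π.base (genericPoint X)) (closure (π.base '' (⊤ : Set X))) :=
      (genericPoint_spec X).image π.continuous
    have h2 : closure (π.base '' (⊤ : Set X)) = ⊤ := by
      rw [Set.top_eq_univ, Set.image_univ, hsurj.range_eq, closure_univ]
      rfl
    rw [h2] at h1
    exact h1.eq (genericPoint_spec C)
  haveI hflat : Flat π := by
    refine DedekindOpen1.flat_of_dominant_dedekind π hgen (fun c => ?_)
    haveI := hregC c
    exact (DedekindOpen1.isDedekindDomain_of_regular _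
      (VB5.ringKrullDim_stalk_le hdimC.le c)).2
  haveI : IsProper π := by
    haveI : IsProper (π ≫ (C ↘ Spec (CommRingCat.of k))) := by
      rw [hπ]; infer_instance
    exact IsProper.of_comp π (C ↘ Spec (CommRingCat.of k))
  haveI : IsLocallyNoetherian C := inferInstance
  haveI : LocallyOfFinitePresentation π := TauChi.locallyOfFinitePresentation_of_noeth π
  haveI : JacobsonSpace ↥X := LocallyOfFiniteType.jacobsonSpace (X ↘ Spec (CommRingCat.of k))
  have hLc : Coh.IsCoh L := InvQc.isCoh_of_isInvertible _ hL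
  haveI : L.IsQuasicoherent := hLc.1
  have hfp : CohB1.IsFP L :=
    Groth.Agent.Lead.Punc.isFP_of_isFinLocFree L (InvInv2.isFinLocFree_of_isInvertible hL)
  have hfl : FlatMod.IsFlatOver π L := by
    have h0 := GenF.isFlatOver_structureModule π
    have hOc := GeomConn.isCoh_structureModule' X
    haveI : (Coh.structureModule X).IsQuasicoherent := hOc.1
    haveI : (CohB1.tensorMod (Coh.structureModule X) L).IsQuasicoherent :=
      (Euler.isCoh_tensor _ _ hOc hLc).1
    have h1 := FlatTw3.isFlatOver_tensor_of_isInvertible π (Coh.structureModule X) L hL h0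
    exact Groth.Agent.Lib.Helper5.FlatSingle.isFlatOver_of_iso π
      (TildeTens.tensorModComm _ _ ≪≫ Groth.Agent.Lib.Helper5.LTenFlf.tensorUnitIso L) h1
  -- closed fibres
  have hcf : ∀ (y : C) (hy : IsClosed ({y} : Set C)),
      Subsingleton (CohIII.fiberH π L y 1) ∧ ∀ s : Γ(π.fiber y, ⊤), s = 0 ∨ IsUnit s := by
    intro y hy
    letI oF : (π.fiber y).Over (Spec (CommRingCat.of k)) :=
      ⟨π.fiberι y ≫ (X ↘ Spec (CommRingCat.of k))⟩
    obtain ⟨a, -, b⟩ := closed_fibre k X C hdim hdimC hregC π hfib n L hL hdeg y hy rfl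
    exact ⟨a, b⟩
  have hall : ∀ v : C, Subsingleton (CohIII.fiberH π L v 1) := by
    by_contra hne
    rw [not_forall] at hne
    have hZc : IsClosed {v : C | ¬ Subsingleton (CohIII.fiberH π L v 1)} := by
      rw [← isOpen_compl_iff, isOpen_iff_forall_mem_open]
      intro v hv
      have hv' : Subsingleton (CohIII.fiberH π L v 1) := not_not.1 hv
      obtain ⟨V, hvV, hV⟩ := BC0.exists_open_nhd_fibre_vanishing π L hfp hfl {1} v
        (fun i hi => by rw [Finset.mem_singleton.1 hi]; exact hv')
      exact ⟨V.1, fun w hw => not_not.2 (hV w hw 1 (Finset.mem_singleton_self 1)), V.2, hvV⟩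
    obtain ⟨y, hyZ, hy⟩ := hZc.exists_closed_singleton hne
    exact hyZ (hcf y hy).1
  obtain ⟨hflf, hbc⟩ := Groth.Agent.S14444.result π L hfp hfl hall
  refine ⟨?_, fun U => app_bijective π σ hσ (fun y hy => (hcf y hy).2) hsurj U⟩
  obtain ⟨r, hr⟩ := VB.exists_rank ((Scheme.Modules.pushforward π).obj L) hflf
  obtain ⟨y, -, hy⟩ := (isClosed_univ (X := ↥C)).exists_closed_singleton Set.univ_nonempty
  letI oF : (π.fiber y).Over (Spec (CommRingCat.of k)) :=
    ⟨π.fiberι y ≫ (X ↘ Spec (CommRingCat.of k))⟩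
  obtain ⟨-, h0, -⟩ := closed_fibre k X C hdim hdimC hregC π hfib n L hL hdeg y hy rfl
  have hsq : IsPullback (π.fiberι y) (π.fiberToSpecResidueField y) π
      (C.fromSpecResidueField y) := IsPullback.of_hasPullback π (C.fromSpecResidueField y)
  have hiso := hbc (π.fiberι y) (π.fiberToSpecResidueField y) (C.fromSpecResidueField y) hsq
  have ι : (Scheme.Modules.pullback (C.fromSpecResidueField y)).obj
      ((Scheme.Modules.pushforward π).obj L) ≅
      (Scheme.Modules.pushforward (π.fiberToSpecResidueField y)).obj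
        ((Scheme.Modules.pullback (π.fiberι y)).obj L) := @asIso _ _ _ _ _ hiso
  have hfield : IsField Γ(Spec (C.residueField y), ⊤) :=
    MulEquiv.isField (Field.toIsField (C.residueField y))
      (Scheme.ΓSpecIso (C.residueField y)).commRingCatIsoToRingEquiv.toMulEquiv
  have hrk := rank_eq_of_point (C.fromSpecResidueField y) hfield _ r hr _ ι
  haveI : IsIso (C.fromSpecResidueField y ≫ (C ↘ Spec (CommRingCat.of k))) := by
    rw [← SpecMap_residueFieldIsoBase_inv (C ↘ Spec (CommRingCat.of k)) y hy]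
    infer_instance
  have hζ : π.fiberToSpecResidueField y ≫
      (C.fromSpecResidueField y ≫ (C ↘ Spec (CommRingCat.of k))) =
      (π.fiber y) ↘ Spec (CommRingCat.of k) := by
    show _ = π.fiberι y ≫ (X ↘ Spec (CommRingCat.of k))
    rw [← hπ, ← Category.assoc, ← Category.assoc, Scheme.Hom.fiber_fac]
  have hB := finrank_push_top (π.fiberToSpecResidueField y) _ hζ
    ((Scheme.Modules.pullback (π.fiberι y)).obj L)
  rw [hrk, h0] at hB
  rw [← hB]
  exact hr

end Groth.Agent.Helper1.RuledPush
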