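import Mathlib
import Groth.Agent.Lib.Helper1.RuledPush3
import Groth.Agent.Lib.Helper4.LinBridge1
import Groth.Agent.Lib.Helper1.RpushComp
import Groth.Agent.Lib.Helper3.LerayCol2
import Groth.Agent.Lib.Helper7.CohBC.Proj
import Groth.Agent.Lib.Helper7.RelH1.Main
import Groth.Agent.Lib.Helper1.Kl3
import Groth.Agent.Lib.Helper1.Curve3
import Groth.Agent.Lib.Helper4.HHFin1

/-!
# Ruled surfaces: vanishing of the higher direct images and the Leray isomorphisms (helper1)
-/

set_option autoImplicit false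
set_option backward.isDefEq.respectTransparency.types false
set_option linter.style.haveILetI false
set_option linter.unusedSectionVars false
universe u
open CategoryTheory CategoryTheory.Limits AlgebraicGeometry TopologicalSpace Opposite

namespace Groth.Agent.Helper1.RuledPush

open Groth.Agent.Helper1 Groth.Agent.Lib.Helper4 Groth.Agent.Helper7
open Groth.Agent.Helper1.Euler Groth.Agent.Helper1.CurveDual

section General

variable {X C : Scheme.{u}} (π : X ⟶ C) [IsProper π] [LocallyOfFinitePresentation π]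
  (L : X.Modules) [L.IsQuasicoherent] (hfp : CohB1.IsFP L) (hfl : FlatMod.IsFlatOver π L)

include hfp hfl in
/-- vanishing of a fibre cohomology group at the closed points spreads to all points -/
theorem all_of_closed [CompactSpace C] (j : ℕ)
    (h : ∀ y : C, IsClosed ({y} : Set C) → Subsingleton (CohIII.fiberH π L y j)) :
    ∀ v : C, Subsingleton (CohIII.fiberH π L v j) := by
  by_contra hne
  rw [not_forall] at hne
  have hZc : IsClosed {v : C | ¬ Subsingleton (CohIII.fiberH π L v j)} := by
    rw [← isOpen_compl_iff, isOpen_iff_forall_mem_open]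
    intro v hv
    have hv' : Subsingleton (CohIII.fiberH π L v j) := not_not.1 hv
    obtain ⟨V, hvV, hV⟩ := BC0.exists_open_nhd_fibre_vanishing π L hfp hfl {j} v
      (fun i hi => by rw [Finset.mem_singleton.1 hi]; exact hv')
    exact ⟨V.1, fun w hw => not_not.2 (hV w hw j (Finset.mem_singleton_self j)), V.2, hvV⟩
  obtain ⟨y, hyZ, hy⟩ := hZc.exists_closed_singleton hne
  exact hyZ (h y hy)

include hfp hfl in
/-- vanishing of the degree `p` cohomology of all fibres kills `R^p π_*` -/
theorem rpush_zero [HasInjectiveResolutions X.Modules] (p : ℕ)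
    (h : ∀ v : C, Subsingleton (CohIII.fiberH π L v p)) : IsZero ((Coh.Rpush π p).obj L) := by
  apply RelH1.isZero_of_basis_sections _
    {W : C.Opens | IsAffineOpen W ∧ Subsingleton Γ((Coh.Rpush π p).obj L, W)}
  · rw [Opens.isBasis_iff_nbhd]
    intro O x hxO
    obtain ⟨V, hV, hxV, hsub⟩ :=
      CohBC.exists_affine_nhd_sections_subsingleton π L hfp hfl p x (h x)
    obtain ⟨W, hW, hxW, hle⟩ := (Opens.isBasis_iff_nbhd.mp C.isBasis_affineOpens)
      (show x ∈ O ⊓ V from ⟨hxO, hxV⟩)
    exact ⟨W, ⟨hW, hsub W hW (hle.trans inf_le_right)⟩, hxW, hle.trans inf_le_left⟩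
  · intro W hW
    exact hW.2

end General

section Leray

variable (k : Type u) [Field k] {X C : Scheme.{u}} [X.Over (Spec (CommRingCat.of k))]
  [C.Over (Spec (CommRingCat.of k))] (π : X ⟶ C)
  (hπ : π ≫ (C ↘ Spec (CommRingCat.of k)) = X ↘ Spec (CommRingCat.of k))
  [HasInjectiveResolutions X.Modules] (L : X.Modules)

include hπ in
/-- the degenerate Leray spectral sequence, linearly over the base field -/
theorem leray_equiv (h : ∀ q : ℕ, IsZero ((Coh.Rpush π (q + 1)).obj L)) (i : ℕ) :
    Nonempty (Coh.HH X L i ≃ₗ[k] Coh.HH C ((Coh.push π).obj L) i) := by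
  have hb : Function.Bijective (LinBridge1.lerayLin π L k hπ i) := by
    refine LinBridge1.lerayMap_bijective π.base (Coh.toAb L) (fun q => ?_) i
    obtain ⟨e⟩ := RpushComp.nonempty_iso π L (q + 1)
    exact IsZero.of_iso ((SheafOfModules.toSheaf C.ringCatSheaf).map_isZero (h q)) e.symm
  exact ⟨(LinearEquiv.ofBijective _ hb).symm⟩

end Leray

section Setup

theorem inv_setup {X C : Scheme.{u}} (π : X ⟶ C) [Flat π] (L : X.Modules)
    (hL : PicF.IsInvertible L) : CohB1.IsFP L ∧ FlatMod.IsFlatOver π L := by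
  have hLc : Coh.IsCoh L := InvQc.isCoh_of_isInvertible _ hL
  haveI : L.IsQuasicoherent := hLc.1
  refine ⟨Groth.Agent.Lead.Punc.isFP_of_isFinLocFree L
    (InvInv2.isFinLocFree_of_isInvertible hL), ?_⟩
  have h0 := GenF.isFlatOver_structureModule π
  have hOc := GeomConn.isCoh_structureModule' X
  haveI : (Coh.structureModule X).IsQuasicoherent := hOc.1
  haveI : (CohB1.tensorMod (Coh.structureModule X) L).IsQuasicoherent :=
    (Euler.isCoh_tensor _ _ hOc hLc).1
  have h1 := FlatTw3.isFlatOver_tensor_of_isInvertible π (Coh.structureModule X) L hL h0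
  exact Groth.Agent.Lib.Helper5.FlatSingle.isFlatOver_of_iso π
    (TildeTens.tensorModComm _ _ ≪≫ Groth.Agent.Lib.Helper5.LTenFlf.tensorUnitIso L) h1

end Setup

variable (k : Type u) [Field k] [IsAlgClosed k] (X : Scheme.{u}) [X.Over (Spec (CommRingCat.of k))]
  [IsProper (X ↘ (Spec (CommRingCat.of k)))] [IsIntegral X]
  (C : Scheme.{u}) [C.Over (Spec (CommRingCat.of k))]
  [IsProper (C ↘ (Spec (CommRingCat.of k)))] [IsIntegral C]

theorem ruled_setup (hdimC : topologicalKrullDim C = 1)
    (hregC : ∀ x : C, IsRegularLocalRing (C.presheaf.stalk x))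
    (π : X ⟶ C) (hπ : π ≫ (C ↘ (Spec (CommRingCat.of k))) = (X ↘ (Spec (CommRingCat.of k))))
    (hsurj : Function.Surjective π) :
    Flat π ∧ IsProper π ∧ LocallyOfFinitePresentation π := by
  haveI : AlgebraicGeometry.IsNoetherian X := isNoetherian_of_proper k X
  haveI : AlgebraicGeometry.IsNoetherian C := isNoetherian_of_proper k C
  have hgen : π.base (genericPoint X) = genericPoint C := by
    have h1 : IsGenericPoint (π.base (genericPoint X)) (closure (π.base '' (⊤ : Set X))) :=
      (genericPoint_spec X).image π.continuous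
    have h2 : closure (π.base '' (⊤ : Set X)) = ⊤ := by
      rw [Set.top_eq_univ, Set.image_univ, hsurj.range_eq, closure_univ]
      rfl
    rw [h2] at h1
    exact h1.eq (genericPoint_spec C)
  have hflat : Flat π := by
    refine DedekindOpen1.flat_of_dominant_dedekind π hgen (fun c => ?_)
    haveI := hregC c
    exact (DedekindOpen1.isDedekindDomain_of_regular _
      (VB5.ringKrullDim_stalk_le hdimC.le c)).2
  haveI : IsProper π := by
    haveI : IsProper (π ≫ (C ↘ Spec (CommRingCat.of k))) := by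
      rw [hπ]; infer_instance
    exact IsProper.of_comp π (C ↘ Spec (CommRingCat.of k))
  haveI : IsLocallyNoetherian C := inferInstance
  exact ⟨hflat, inferInstance, TauChi.locallyOfFinitePresentation_of_noeth π⟩

set_option maxHeartbeats 1000000 in
/-- the degree of the restriction to a closed fibre in terms of the intersection number -/
theorem fibre_deg (hdim : topologicalKrullDim X = 2) (hdimC : topologicalKrullDim C = 1)
    (hregC : ∀ x : C, IsRegularLocalRing (C.presheaf.stalk x))
    (π : X ⟶ C) [Flat π]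
    (hfib : ∀ y : C, IsClosed ({y} : Set C) →
      Nonempty (pullback π (C.fromSpecResidueField y) ≅ CohB1.ProjSpace 1 k))
    (L : X.Modules) (hL : PicF.IsInvertible L)
    (y : C) (hy : IsClosed ({y} : Set C)) (m : ℤ)
    (hdegy : FGA.intNum k X 2
      ![L, ClSub.idealMod ((Scheme.IdealSheafData.vanishingIdeal ⟨{y}, hy⟩).comap π)]
      (Coh.structureModule X) = m) :
    Pic13.curveDeg k (π.fiberι y ≫ (X ↘ Spec (CommRingCat.of k)))
      ((Scheme.Modules.pullback (π.fiberι y)).obj L) = -m := by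
  haveI : AlgebraicGeometry.IsNoetherian X := isNoetherian_of_proper k X
  haveI : AlgebraicGeometry.IsNoetherian C := isNoetherian_of_proper k C
  haveI hci : IsClosedImmersion (C.fromSpecResidueField y) :=
    isClosed_singleton_iff_isClosedImmersion.1 hy
  haveI hciF : IsClosedImmersion (π.fiberι y) :=
    inferInstanceAs (IsClosedImmersion (pullback.fst π (C.fromSpecResidueField y)))
  obtain ⟨e₀⟩ := hfib y hy
  have e₀' : π.fiber y ≅ CohB1.ProjSpace 1 k := e₀
  have hΓ : topologicalKrullDim ↥(π.fiber y) ≤ ((1 : ℕ) : WithBot ℕ∞) := by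
    rw [(Scheme.homeoOfIso e₀').isHomeomorph.topologicalKrullDim_eq, P1Iso.dim_P1 k]
    exact le_of_eq Nat.cast_one.symm
  have hd2 : topologicalKrullDim X ≤ ((2 : ℕ) : WithBot ℕ∞) := by
    rw [hdim]; rfl
  have hJ : PicF.IsInvertible (ClSub.idealMod (ptIdeal y hy)) :=
    GenusOne.isInvertible_ptIdeal_of_regular k C hdimC y hy (hregC y)
  have hFf : PicF.IsInvertible (ClSub.idealMod ((ptIdeal y hy).comap π)) :=
    ProdSurf.isInvertible_comap π _ hJ
  have hker : (π.fiberι y).ker = (ptIdeal y hy).comap π := by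
    have h := Scheme.IdealSheafData.ker_fst_of_isClosedImmersion (C.fromSpecResidueField y) π
    rw [PtDeg.ker_fromSpecResidueField C y hy] at h
    exact h
  have hd := hdegy
  change FGA.intNum k X 2 ![L, ClSub.idealMod ((ptIdeal y hy).comap π)]
    (Coh.structureModule X) = m at hd
  rw [SurfHodge.intNum_symm k X hdim L _ hL hFf,
    RuledSurf.intNum_ideal_inv k X hd2 _ L hL] at hd
  have h2 := NumEq.curveDeg_eq_lam_quot k X (π.fiberι y) hΓ L hL
  rw [hker] at h2
  rw [← h2] at hd
  linarith

/-- all higher cohomology of an invertible module of non-negative degree on a closed fibre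
vanishes -/
theorem closed_fibre_core (π : X ⟶ C) [IsProper π]
    (hfib : ∀ y : C, IsClosed ({y} : Set C) →
      Nonempty (pullback π (C.fromSpecResidueField y) ≅ CohB1.ProjSpace 1 k))
    (L : X.Modules) (hL : PicF.IsInvertible L)
    (y : C) (hy : IsClosed ({y} : Set C)) (n : ℕ)
    (hd : Pic13.curveDeg k (π.fiberι y ≫ (X ↘ Spec (CommRingCat.of k)))
      ((Scheme.Modules.pullback (π.fiberι y)).obj L) = n) :
    ∀ j : ℕ, 1 ≤ j → Subsingleton (CohIII.fiberH π L y j) := by
  intro j hj
  haveI hci : IsClosedImmersion (C.fromSpecResidueField y) :=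
    isClosed_singleton_iff_isClosedImmersion.1 hy
  haveI hciF : IsClosedImmersion (π.fiberι y) :=
    inferInstanceAs (IsClosedImmersion (pullback.fst π (C.fromSpecResidueField y)))
  letI oF : (π.fiber y).Over (Spec (CommRingCat.of k)) :=
    ⟨π.fiberι y ≫ (X ↘ Spec (CommRingCat.of k))⟩
  haveI : IsProper ((π.fiber y) ↘ Spec (CommRingCat.of k)) := by
    change IsProper (π.fiberι y ≫ (X ↘ Spec (CommRingCat.of k))); infer_instance
  obtain ⟨e₀⟩ := hfib y hy
  have e₀' : π.fiber y ≅ CohB1.ProjSpace 1 k := e₀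
  by_cases h1 : j = 1
  · subst h1
    exact (fibre_coh k (π.fiber y) e₀' _ (PullGen.isInvertible_pullback (π.fiberι y) hL) n hd).1
  · have hΓ : topologicalKrullDim ↥(π.fiber y) ≤ ((1 : ℕ) : WithBot ℕ∞) := by
      rw [(Scheme.homeoOfIso e₀').isHomeomorph.topologicalKrullDim_eq, P1Iso.dim_P1 k]
      exact le_of_eq Nat.cast_one.symm
    exact BC0.subsingleton_fiberH_of_dim_lt π L y 1 hΓ j (by omega)

/-- functions on a closed fibre are zero or units -/
theorem fibre_zero_or_unit (π : X ⟶ C)
    (hfib : ∀ y : C, IsClosed ({y} : Set C) →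
      Nonempty (pullback π (C.fromSpecResidueField y) ≅ CohB1.ProjSpace 1 k))
    (y : C) (hy : IsClosed ({y} : Set C)) (s : Γ(π.fiber y, ⊤)) : s = 0 ∨ IsUnit s := by
  haveI hci : IsClosedImmersion (C.fromSpecResidueField y) :=
    isClosed_singleton_iff_isClosedImmersion.1 hy
  haveI hciF : IsClosedImmersion (π.fiberι y) :=
    inferInstanceAs (IsClosedImmersion (pullback.fst π (C.fromSpecResidueField y)))
  letI oF : (π.fiber y).Over (Spec (CommRingCat.of k)) :=
    ⟨π.fiberι y ≫ (X ↘ Spec (CommRingCat.of k))⟩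
  haveI : IsProper ((π.fiber y) ↘ Spec (CommRingCat.of k)) := by
    change IsProper (π.fiberι y ≫ (X ↘ Spec (CommRingCat.of k))); infer_instance
  obtain ⟨e₀⟩ := hfib y hy
  have e₀' : π.fiber y ≅ CohB1.ProjSpace 1 k := e₀
  haveI : IsIntegral (CohB1.ProjSpace 1 k) := HypPn.isIntegral_projSpace 1 k
  haveI : Nonempty ↥(CohB1.ProjSpace 1 k) := inferInstance
  haveI : Nonempty ↥(π.fiber y) := by
    obtain ⟨p⟩ := ‹Nonempty ↥(CohB1.ProjSpace 1 k)›
    exact ⟨e₀'.inv p⟩
  haveI : IsIntegral (π.fiber y) := isIntegral_of_isOpenImmersion e₀'.hom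
  exact zero_or_unit k (π.fiber y) s

set_option maxHeartbeats 1000000 in
/-- **S11356** -/
theorem main_rpush [HasInjectiveResolutions X.Modules]
    (hdim : topologicalKrullDim X = 2) (hdimC : topologicalKrullDim C = 1)
    (hregC : ∀ x : C, IsRegularLocalRing (C.presheaf.stalk x))
    (π : X ⟶ C) (hπ : π ≫ (C ↘ (Spec (CommRingCat.of k))) = (X ↘ (Spec (CommRingCat.of k))))
    (hsurj : Function.Surjective π)
    (hfib : ∀ y : C, IsClosed ({y} : Set C) →
      Nonempty (pullback π (C.fromSpecResidueField y) ≅ CohB1.ProjSpace 1 k))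
    (L : X.Modules) (hL : PicF.IsInvertible L)
    (hdeg : ∀ (y : C) (hy : IsClosed ({y} : Set C)), FGA.intNum k X 2
      ![L, ClSub.idealMod ((Scheme.IdealSheafData.vanishingIdeal ⟨{y}, hy⟩).comap π)]
      (Coh.structureModule X) ≤ 0) :
    (∀ p : ℕ, 0 < p → IsZero ((Coh.Rpush π p).obj L)) ∧
      ∀ i : ℕ, Nonempty (Coh.HH X L i ≃ₗ[k] Coh.HH C ((Coh.push π).obj L) i) := by
  haveI : AlgebraicGeometry.IsNoetherian C := isNoetherian_of_proper k C
  obtain ⟨hflat, hprop, hlfp⟩ := ruled_setup k X C hdimC hregC π hπ hsurj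
  haveI := hflat
  haveI := hprop
  haveI := hlfp
  obtain ⟨hfp, hfl⟩ := inv_setup π L hL
  haveI : L.IsQuasicoherent := (InvQc.isCoh_of_isInvertible _ hL).1
  have hcl : ∀ (y : C) (hy : IsClosed ({y} : Set C)) (j : ℕ), 1 ≤ j →
      Subsingleton (CohIII.fiberH π L y j) := by
    intro y hy
    obtain ⟨m, hmdef⟩ : ∃ m : ℤ, FGA.intNum k X 2
        ![L, ClSub.idealMod ((Scheme.IdealSheafData.vanishingIdeal ⟨{y}, hy⟩).comap π)]
        (Coh.structureModule X) = m := ⟨_, rfl⟩
    have hm : m ≤ 0 := by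
      rw [← hmdef]; exact hdeg y hy
    have hfd := fibre_deg k X C hdim hdimC hregC π hfib L hL y hy m hmdef
    exact closed_fibre_core k X C π hfib L hL y hy (-m).toNat
      (by rw [hfd, Int.toNat_of_nonneg (by omega)])
  have hallj : ∀ j : ℕ, 1 ≤ j → ∀ v : C, Subsingleton (CohIII.fiberH π L v j) :=
    fun j hj => all_of_closed π L hfp hfl j (fun y hy => hcl y hy j hj)
  have hR : ∀ p : ℕ, 0 < p → IsZero ((Coh.Rpush π p).obj L) :=
    fun p hp => rpush_zero π L hfp hfl p (hallj p hp)
  exact ⟨hR, fun i => leray_equiv k π hπ L (fun q => hR (q + 1) (Nat.succ_pos q)) i⟩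

set_option maxHeartbeats 1000000 in
/-- **S11346** -/
theorem main_irreg (hdimC : topologicalKrullDim C = 1)
    (hregC : ∀ x : C, IsRegularLocalRing (C.presheaf.stalk x))
    (π : X ⟶ C) (hπ : π ≫ (C ↘ (Spec (CommRingCat.of k))) = (X ↘ (Spec (CommRingCat.of k))))
    (hsurj : Function.Surjective π)
    (hfib : ∀ y : C, IsClosed ({y} : Set C) →
      Nonempty (pullback π (C.fromSpecResidueField y) ≅ CohB1.ProjSpace 1 k))
    (σ : C ⟶ X) (hσ : σ ≫ π = 𝟙 C) :
    Module.finrank k (Coh.HH X (Coh.structureModule X) 1) = Curv2.genus k C ∧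
      Subsingleton (Coh.HH X (Coh.structureModule X) 2) := by
  haveI := Groth.Agent.Helper3.LerayCol.hasInjectiveResolutions X
  haveI : AlgebraicGeometry.IsNoetherian C := isNoetherian_of_proper k C
  obtain ⟨hflat, hprop, hlfp⟩ := ruled_setup k X C hdimC hregC π hπ hsurj
  haveI := hflat
  haveI := hprop
  haveI := hlfp
  have hOinv : PicF.IsInvertible (Coh.structureModule X) := GenLoc.isInvertible_O
  obtain ⟨hfp, hfl⟩ := inv_setup π _ hOinv
  haveI : (Coh.structureModule X).IsQuasicoherent := (GeomConn.isCoh_structureModule' X).1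
  have hcl : ∀ (y : C) (hy : IsClosed ({y} : Set C)) (j : ℕ), 1 ≤ j →
      Subsingleton (CohIII.fiberH π (Coh.structureModule X) y j) := by
    intro y hy
    refine closed_fibre_core k X C π hfib _ hOinv y hy 0 ?_
    rw [Kleiman.curveDeg_iso k _ (PullSec.unitIso (π.fiberι y))]
    unfold Pic13.curveDeg
    simp
  have hallj : ∀ j : ℕ, 1 ≤ j → ∀ v : C,
      Subsingleton (CohIII.fiberH π (Coh.structureModule X) v j) :=
    fun j hj => all_of_closed π _ hfp hfl j (fun y hy => hcl y hy j hj)
  have hR : ∀ p : ℕ, 0 < p → IsZero ((Coh.Rpush π p).obj (Coh.structureModule X)) :=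
    fun p hp => rpush_zero π _ hfp hfl p (hallj p hp)
  obtain ⟨e1⟩ := leray_equiv k π hπ (Coh.structureModule X)
    (fun q => hR (q + 1) (Nat.succ_pos q)) 1
  obtain ⟨e2⟩ := leray_equiv k π hπ (Coh.structureModule X)
    (fun q => hR (q + 1) (Nat.succ_pos q)) 2
  haveI : JacobsonSpace ↥X := LocallyOfFiniteType.jacobsonSpace (X ↘ Spec (CommRingCat.of k))
  have hbij : ∀ U : C.Opens, Function.Bijective (π.app U).hom := fun U =>
    app_bijective π σ hσ (fun y hy s => fibre_zero_or_unit k X C π hfib y hy s) hsurj U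
  haveI : IsIso (Curve.unitMap π) := by
    apply TwForm.isIso_of_app_bijective
    intro V
    have hb := hbij V
    refine ⟨fun a b hab => hb.1 ?_, fun y => ?_⟩
    · rw [Curve.unitMap_app, Curve.unitMap_app] at hab
      exact hab
    · obtain ⟨a, ha⟩ := hb.2 y
      exact ⟨a, by rw [Curve.unitMap_app]; exact ha⟩
  have eO : Coh.structureModule C ≅ (Coh.push π).obj (Coh.structureModule X) :=
    asIso (Curve.unitMap π)
  have e1' := HHFin1.HHequiv k eO 1
  refine ⟨?_, ?_⟩
  · unfold Curv2.genus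
    rw [e1.finrank_eq, ← e1'.finrank_eq]
  · have hC1 : topologicalKrullDim C ≤ ((1 : ℕ) : WithBot ℕ∞) := by
      rw [hdimC]; exact le_of_eq Nat.cast_one.symm
    haveI h2 : Subsingleton (Coh.HH C ((Coh.push π).obj (Coh.structureModule X)) 2) :=
      FGAInt.subsingleton_HH_of_dim_lt C 1 hC1 _ 2 (by norm_num)
    exact e2.toEquiv.subsingleton

end Groth.Agent.Helper1.RuledPush
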