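import Mathlib

/-!
# The graded ring `S♮ ⊗_S S₀` and its homomorphism to `S` (helper1 library)
-/

universe u

open Polynomial

namespace Groth.Agent.Helper1.SNat

section
variable {R A B C : Type u} [CommRing R] [CommRing A] [Algebra R A]
  (𝒜 : ℕ → Submodule R A) [GradedAlgebra 𝒜] [CommRing B] [Algebra R B]
  (ℬ : ℕ → Submodule R B) [GradedAlgebra ℬ]
  (φ : B →ₐ[R] Polynomial A) (hφ : Function.Injective φ)
  (hdeg : ∀ n : ℕ, Submodule.map φ.toLinearMap (ℬ n) =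
    Submodule.map ((Polynomial.monomial n : A →ₗ[A] Polynomial A).restrictScalars R)
      (⨆ (m : ℕ) (_ : n ≤ m), 𝒜 m))
  [CommRing C] [Algebra R C] (𝒞 : ℕ → Submodule R C) [GradedAlgebra 𝒞]
  (π : ℬ →+*ᵍ 𝒞) (hπ : Function.Surjective π)
  (hker : RingHom.ker π.toRingHom =
    Ideal.span (⇑φ ⁻¹' (⇑(Polynomial.C : A →+* Polynomial A) ''
      ((HomogeneousIdeal.irrelevant 𝒜).toIdeal : Set A))))
  (ρ : 𝒞 →+*ᵍ 𝒜)
  (hρ : ∀ (n : ℕ) (b : B), b ∈ ℬ n → ρ (π b) = GradedRing.proj 𝒜 n ((φ b).coeff n))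

include hdeg in
theorem exists_of_mem (n : ℕ) (a : A) (ha : a ∈ ⨆ (m : ℕ) (_ : n ≤ m), 𝒜 m) :
    ∃ b ∈ ℬ n, φ b = monomial n a := by
  have h : monomial n a ∈ Submodule.map
      ((Polynomial.monomial n : A →ₗ[A] Polynomial A).restrictScalars R)
      (⨆ (m : ℕ) (_ : n ≤ m), 𝒜 m) := ⟨a, ha, rfl⟩
  rw [← hdeg n] at h
  obtain ⟨b, hb, hb'⟩ := h
  exact ⟨b, hb, hb'⟩

include hdeg in
theorem exists_of_mem_deg (n m : ℕ) (hnm : n ≤ m) (a : A) (ha : a ∈ 𝒜 m) :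
    ∃ b ∈ ℬ n, φ b = monomial n a :=
  exists_of_mem 𝒜 ℬ φ hdeg n a
    (Submodule.mem_iSup_of_mem m (Submodule.mem_iSup_of_mem hnm ha))

include hdeg in
theorem coeff_of_mem (n : ℕ) (b : B) (hb : b ∈ ℬ n) :
    ∃ a ∈ ⨆ (m : ℕ) (_ : n ≤ m), 𝒜 m, φ b = monomial n a := by
  have h : φ b ∈ Submodule.map φ.toLinearMap (ℬ n) := ⟨b, hb, rfl⟩
  rw [hdeg n] at h
  obtain ⟨a, ha, ha'⟩ := h
  exact ⟨a, ha, ha'.symm⟩

theorem proj_eq_zero_of_mem (n : ℕ) (a : A) (ha : a ∈ ⨆ (m : ℕ) (_ : n ≤ m), 𝒜 m) (i : ℕ)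
    (hi : i < n) : GradedRing.proj 𝒜 i a = 0 := by
  induction ha using Submodule.iSup_induction' with
  | mem m x hx =>
    induction hx using Submodule.iSup_induction' with
    | mem hm y hy =>
      rw [GradedRing.proj_apply, DirectSum.decompose_of_mem_ne 𝒜 hy (by omega)]
    | zero => simp
    | add x y _ _ hx hy => rw [map_add, hx, hy, add_zero]
  | zero => simp
  | add x y _ _ hx hy => rw [map_add, hx, hy, add_zero]

include hdeg hρ in
theorem rho_surj (n : ℕ) (s : A) (hs : s ∈ 𝒜 n) : ∃ c ∈ 𝒞 n, ρ c = s := by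
  obtain ⟨b, hb, hb'⟩ := exists_of_mem_deg 𝒜 ℬ φ hdeg n n le_rfl s hs
  refine ⟨π b, π.2 hb, ?_⟩
  rw [hρ n b hb, hb', coeff_monomial_same, GradedRing.proj_apply,
    DirectSum.decompose_of_mem_same 𝒜 hs]

include hπ in
theorem exists_preimage_homog (n : ℕ) (c : C) (hc : c ∈ 𝒞 n) : ∃ b ∈ ℬ n, π b = c := by
  obtain ⟨b', rfl⟩ := hπ c
  refine ⟨DirectSum.decompose ℬ b' n, Submodule.coe_mem _, ?_⟩
  rw [GradedRingHom.map_directSumDecompose, DirectSum.decompose_of_mem_same 𝒞 hc]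

include hker in
theorem mul_mem_ker (e g : B) (x : A) (hx : x ∈ (HomogeneousIdeal.irrelevant 𝒜).toIdeal)
    (he : φ e = Polynomial.C x) : π (e * g) = 0 := by
  have h1 : e ∈ RingHom.ker π.toRingHom := by
    rw [hker]
    exact Ideal.subset_span ⟨x, hx, he.symm⟩
  have h2 : π e = 0 := h1
  rw [map_mul, h2, zero_mul]

theorem mem_irrelevant_of_mem {i : ℕ} (hi : 0 < i) {x : A} (hx : x ∈ 𝒜 i) :
    x ∈ (HomogeneousIdeal.irrelevant 𝒜).toIdeal :=
  HomogeneousIdeal.mem_irrelevant_of_mem 𝒜 hi hx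

open scoped Classical in
include hφ in
/-- decomposition of a preimage of `a Xⁿ` along the components of `a` -/
theorem eq_sum_of_components (n : ℕ) (b : B) (a : A) (hb : φ b = monomial n a)
    (bb : ℕ → B) (hbb : ∀ i ∈ (DirectSum.decompose 𝒜 a).support,
      φ (bb i) = monomial n (DirectSum.decompose 𝒜 a i : A)) :
    b = ∑ i ∈ (DirectSum.decompose 𝒜 a).support, bb i := by
  apply hφ
  rw [map_sum, hb]
  conv_lhs => rw [← DirectSum.sum_support_decompose 𝒜 a]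
  rw [map_sum]
  exact Finset.sum_congr rfl fun i hi => (hbb i hi).symm

open scoped Classical in
theorem support_ge (n : ℕ) (a : A) (ha : a ∈ ⨆ (m : ℕ) (_ : n ≤ m), 𝒜 m)
    (h0 : GradedRing.proj 𝒜 n a = 0) (i : ℕ) (hi : i ∈ (DirectSum.decompose 𝒜 a).support) :
    n + 1 ≤ i := by
  rw [DFinsupp.mem_support_iff] at hi
  by_contra hcon
  push Not at hcon
  apply hi
  rcases Nat.lt_succ_iff_lt_or_eq.mp hcon with h | h
  · have := proj_eq_zero_of_mem 𝒜 n a ha i h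
    rw [GradedRing.proj_apply] at this
    exact Subtype.ext this
  · subst h
    rw [GradedRing.proj_apply] at h0
    exact Subtype.ext h0

open scoped Classical in
include hφ hdeg hπ hρ in
/-- reduction of a property of the homogeneous elements of `ker ρ` to the monomials -/
theorem reduce (P : C → Prop)
    (hP : ∀ (s : Finset ℕ) (f : ℕ → C), (∀ i ∈ s, P (f i)) → P (∑ i ∈ s, f i))
    (n : ℕ)
    (H : ∀ i, n + 1 ≤ i → ∀ x ∈ 𝒜 i, ∃ b', φ b' = monomial n x ∧ P (π b'))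
    (c : C) (hc : c ∈ 𝒞 n) (hc0 : ρ c = 0) : P c := by
  obtain ⟨b, hb, rfl⟩ := exists_preimage_homog ℬ 𝒞 π hπ n c hc
  obtain ⟨a, ha, hba⟩ := coeff_of_mem 𝒜 ℬ φ hdeg n b hb
  have h0 : GradedRing.proj 𝒜 n a = 0 := by
    rw [← hc0, hρ n b hb, hba, coeff_monomial_same]
  have hsup := support_ge 𝒜 n a ha h0
  choose! bb hbb using fun i (hi : n + 1 ≤ i) =>
    H i hi (DirectSum.decompose 𝒜 a i : A) (Submodule.coe_mem _)
  have hsum := eq_sum_of_components 𝒜 φ hφ n b a hba bb (fun i hi => (hbb i (hsup i hi)).1)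
  rw [hsum, map_sum]
  exact hP _ _ fun i hi => (hbb i (hsup i hi)).2

include hφ hdeg hπ hker hρ in
theorem inj_high (n₀ : ℕ) (hgen : ∀ n : ℕ, n₀ ≤ n → 𝒜 (n + 1) = 𝒜 1 * 𝒜 n)
    (n : ℕ) (hn : n₀ ≤ n) (c : C) (hc : c ∈ 𝒞 n) (hc0 : ρ c = 0) : c = 0 := by
  refine reduce 𝒜 ℬ φ hφ hdeg 𝒞 π hπ ρ hρ (fun c => c = 0) ?_ n ?_ c hc hc0
  · intro s f hf
    exact Finset.sum_eq_zero hf
  · intro i hi x hx
    obtain ⟨k, rfl⟩ : ∃ k, i = k + 1 := ⟨i - 1, by omega⟩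
    rw [hgen k (by omega)] at hx
    induction hx using Submodule.mul_induction_on' with
    | mem_mul_mem y hy w hw =>
      obtain ⟨e, -, he⟩ := exists_of_mem_deg 𝒜 ℬ φ hdeg 0 1 (by omega) y hy
      obtain ⟨g, -, hg⟩ := exists_of_mem_deg 𝒜 ℬ φ hdeg n k (by omega) w hw
      refine ⟨e * g, ?_, ?_⟩
      · rw [map_mul, he, hg, monomial_mul_monomial, zero_add]
      · exact mul_mem_ker 𝒜 ℬ φ 𝒞 π hker e g y (mem_irrelevant_of_mem 𝒜 one_pos hy)
          (by rw [he]; rfl)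
    | add x hx y hy hx' hy' =>
      obtain ⟨b₁, h1, h1'⟩ := hx'
      obtain ⟨b₂, h2, h2'⟩ := hy'
      exact ⟨b₁ + b₂, by rw [map_add, h1, h2, map_add], by rw [map_add, h1', h2', add_zero]⟩

include hφ hdeg hπ hker hρ in
theorem nilp (n : ℕ) (c : C) (hc : c ∈ 𝒞 n) (hc0 : ρ c = 0) : IsNilpotent c := by
  refine reduce 𝒜 ℬ φ hφ hdeg 𝒞 π hπ ρ hρ IsNilpotent ?_ n ?_ c hc hc0
  · intro s f hf
    exact isNilpotent_sum hf
  · intro i hi x hx
    obtain ⟨b', -, hb'⟩ := exists_of_mem_deg 𝒜 ℬ φ hdeg n i (by omega) x hx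
    refine ⟨b', hb', i, ?_⟩
    have hxpow : x ^ (i - 1) ∈ 𝒜 ((i - 1) • i) := SetLike.pow_mem_graded (i - 1) hx
    have hle : n * i ≤ (i - 1) • i := by
      rw [smul_eq_mul]
      exact Nat.mul_le_mul_right i (by omega)
    obtain ⟨e, -, he⟩ := exists_of_mem_deg 𝒜 ℬ φ hdeg 0 i (by omega) x hx
    obtain ⟨g, -, hg⟩ := exists_of_mem_deg 𝒜 ℬ φ hdeg (n * i) ((i - 1) • i) hle _ hxpow
    have hpow : b' ^ i = e * g := by
      apply hφ
      rw [map_pow, hb', map_mul, he, hg, monomial_pow, monomial_mul_monomial, zero_add]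
      congr 1
      rw [← pow_succ']
      congr 1
      omega
    rw [← map_pow, hpow]
    exact mul_mem_ker 𝒜 ℬ φ 𝒞 π hker e g x (mem_irrelevant_of_mem 𝒜 (by omega) hx)
      (by rw [he]; rfl)

include hdeg hρ in
theorem rho_surjective : Function.Surjective ρ := by
  classical
  intro a
  rw [← DirectSum.sum_support_decompose 𝒜 a]
  choose cc hcc using fun i : ℕ =>
    rho_surj 𝒜 ℬ φ hdeg 𝒞 π ρ hρ i (DirectSum.decompose 𝒜 a i : A) (Submodule.coe_mem _)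
  refine ⟨∑ i ∈ (DirectSum.decompose 𝒜 a).support, cc i, ?_⟩
  rw [map_sum]
  exact Finset.sum_congr rfl fun i _ => (hcc i).2

include hφ hdeg hπ hker hρ in
/-- the kernel of `ρ` lies in every prime ideal -/
theorem ker_le_prime (𝔮 : Ideal C) [𝔮.IsPrime] (c : C) (hc : ρ c = 0) : c ∈ 𝔮 := by
  classical
  rw [← DirectSum.sum_support_decompose 𝒞 c]
  refine sum_mem fun i _ => ?_
  have h0 : ρ (DirectSum.decompose 𝒞 c i : C) = 0 := by
    rw [GradedRingHom.map_directSumDecompose, hc, DirectSum.decompose_zero]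
    rfl
  obtain ⟨k, hk⟩ := nilp 𝒜 ℬ φ hφ hdeg 𝒞 π hπ hker ρ hρ i _ (Submodule.coe_mem _) h0
  exact Ideal.IsPrime.mem_of_pow_mem ‹_› k (hk ▸ 𝔮.zero_mem)

open scoped HomogeneousIdeal in
include hφ hdeg hπ hker hρ in
theorem comap_surjective (hirr : HomogeneousIdeal.irrelevant 𝒜 ≤ (HomogeneousIdeal.irrelevant 𝒞).map ρ) :
    Function.Surjective (AlgebraicGeometry.ProjectiveSpectrum.comap ρ hirr) := by
  have hsurj := rho_surjective 𝒜 ℬ φ hdeg 𝒞 π ρ hρ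
  intro y
  have hyp : y.asHomogeneousIdeal.toIdeal.IsPrime := y.isPrime
  have hker' : RingHom.ker ρ.toRingHom ≤ y.asHomogeneousIdeal.toIdeal := by
    intro c hc
    exact ker_le_prime 𝒜 ℬ φ hφ hdeg 𝒞 π hπ hker ρ hρ _ c hc
  have hcm : Ideal.comap ρ.toRingHom (Ideal.map ρ.toRingHom y.asHomogeneousIdeal.toIdeal) =
      y.asHomogeneousIdeal.toIdeal := by
    rw [Ideal.comap_map_of_surjective ρ.toRingHom hsurj]
    refine sup_eq_left.mpr ?_
    intro c hc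
    exact hker' (by simpa [Ideal.mem_comap] using hc)
  have hprime : (Ideal.map ρ.toRingHom y.asHomogeneousIdeal.toIdeal).IsPrime :=
    Ideal.map_isPrime_of_surjective (f := ρ.toRingHom) hsurj hker'
  refine ⟨⟨y.asHomogeneousIdeal.map ρ, hprime, ?_⟩, ?_⟩
  · intro hle
    apply y.not_irrelevant_le
    intro c hc
    have h1 : ρ c ∈ (HomogeneousIdeal.irrelevant 𝒜).toIdeal := by
      have hc' : GradedRing.proj 𝒞 0 c = 0 := hc
      show GradedRing.proj 𝒜 0 (ρ c) = 0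
      rw [GradedRing.proj_apply] at hc' ⊢
      rw [← GradedRingHom.map_directSumDecompose, hc', map_zero]
    have h2 : ρ c ∈ Ideal.map ρ.toRingHom y.asHomogeneousIdeal.toIdeal := hle h1
    have h3 : c ∈ Ideal.comap ρ.toRingHom (Ideal.map ρ.toRingHom y.asHomogeneousIdeal.toIdeal) := h2
    rw [hcm] at h3
    exact h3
  · apply ProjectiveSpectrum.ext
    apply HomogeneousIdeal.toIdeal_injective
    exact hcm

end

end Groth.Agent.Helper1.SNat
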