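import Mathlib
import Groth.Agent.Lib.Helper1.SSC4
import Groth.Agent.Lib.Lead.MuRef1

/-!
# Sections of pure sheaves of dimension one on an integral projective curve: an upper bound from
the vanishing of the sections of a negative twist (helper1)
-/

set_option backward.isDefEq.respectTransparency.types false
set_option synthInstance.maxHeartbeats 400000
set_option autoImplicit false
set_option linter.unusedSectionVars false
set_option linter.style.haveILetI false
set_option linter.unusedVariables false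
universe u
open CategoryTheory CategoryTheory.Limits AlgebraicGeometry TopologicalSpace Opposite MonoidalCategory

namespace Groth.Agent.Helper1.SSD

open Groth.Agent.Lib.Helper4 Groth.Agent.Helper1 Groth.Agent.Helper1.HorrB
open Groth.Agent.Helper1.Dv Groth.Agent.Helper1.NegVan Groth.Agent.Helper1.MumA
open Groth.Agent.Helper1.Bdd Groth.Agent.Helper1.SSC

section Pure

variable {X : Scheme.{u}} [IsIntegral X]

/-- a finite locally free module on an integral scheme of dimension one is pure of dimension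
one -/
theorem isPure_of_locFree (hdim : topologicalKrullDim X = 1) {E : X.Modules}
    (hE : FlatMod.IsFinLocFree E) : ShStab.IsPure X E 1 := by
  have hq := (Groth.Agent.Lib.Helper5.LocalCoh.isCoh_of_isFinLocFree _ hE).1
  have htf : TorSh.IsTorsionFree E := by
    intro x
    obtain ⟨h1, h2⟩ := Groth.Agent.Lib.Helper5.StalkFree.free_finite_stalk_of_isFinLocFree E hE x
    haveI := h1
    exact (inferInstance : Module.IsTorsionFree (X.presheaf.stalk x)
      ((Groth.Agent.Lib.Helper5.StalkAdj.stalkSh X x).obj E))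
  exact Groth.Agent.Lead.MuRef.isPure_of_spInj 1 (by rw [hdim, Nat.cast_one])
    (Groth.Agent.Lead.Ref1.spInj_of_torsionFree hq htf)

theorem rk_of_locFree {E : X.Modules} {r : ℕ} (hE : FlatMod.IsFinLocFreeOfRank r E) :
    rk E = r := by
  have h := Groth.Agent.Helper1.FinLen.finrank_stalk_of_rank hE (genericPoint X)
  unfold rk
  exact_mod_cast h

end Pure

section HBound

variable (k : Type u) [Field k] {X : Scheme.{u}} [X.Over (Spec (CommRingCat.of k))]
  [IsProper (X ↘ Spec (CommRingCat.of k))] [IsIntegral X]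
  (n : ℕ) (ι : X ⟶ CohB1.ProjSpace n k) [IsClosedImmersion ι]

/-- the hyperplane sequence of the direct image of a pure module of dimension one -/
theorem exists_hyp_mono (hdim : topologicalKrullDim X = 1)
    {E : X.Modules} (hE : Coh.IsCoh E) (hp : ShStab.IsPure X E 1) :
    ∃ ι' : CohB1.tensorMod ((Scheme.Modules.pushforward ι).obj E)
        (Twist.twistProjSpace n k (-1)) ⟶ (Scheme.Modules.pushforward ι).obj E,
      Mono ι' ∧ ∀ m : ℤ, Curv2.IsMRegular k n (cokernel ι') m := by
  haveI := Groth.Agent.Helper1.Euler.isNoetherian_of_proper k X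
  haveI : Coh.IsQCoh E := hE.1
  obtain ⟨D, hDinv, ⟨e⟩, hη⟩ := exists_hyperplane_pure k n ι
  have hmono := mono_tι_of_pure k n ι hdim D hDinv e hη hE hp
  obtain ⟨pf⟩ := ClBridge2.nonempty_projFormula ι E (Twist.twistProjSpace n k (-1))
    (inv_O n k (-1))
  have hC : Coh.IsCoh ((DCoh.tensorBi.obj E).obj (ClSub.quotMod D)) :=
    Groth.Agent.Helper1.Euler.isCoh_tensor _ _ hE (CurveDual.isCoh_quotMod D)
  have hdimC := dim_support_restrict_le k hdim D hη hE
  have hS₁ := hypCX_shortExact D e E hmono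
  have hS₁' := push_shortExact_gen ι (hypCX D e E) hS₁ hE.1 hC.1
  obtain ⟨ι', hι'⟩ : ∃ ι' : CohB1.tensorMod ((Scheme.Modules.pushforward ι).obj E)
      (Twist.twistProjSpace n k (-1)) ⟶ (Scheme.Modules.pushforward ι).obj E,
      ι' = pf.hom ≫ (Scheme.Modules.pushforward ι).map (hypιX D e E) := ⟨_, rfl⟩
  have hz : ι' ≫ (Scheme.Modules.pushforward ι).map (hypπX D E) = 0 := by
    rw [hι', Category.assoc, ← CategoryTheory.Functor.map_comp, hypιX_π,
      CategoryTheory.Functor.map_zero, comp_zero]
  have hS₂ : (ShortComplex.mk ι' ((Scheme.Modules.pushforward ι).map (hypπX D E)) hz).ShortExact := by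
    refine ShortComplex.shortExact_of_iso
      (S₁ := (hypCX D e E).map (Scheme.Modules.pushforward ι))
      (S₂ := ShortComplex.mk ι' ((Scheme.Modules.pushforward ι).map (hypπX D E)) hz)
      (ShortComplex.isoMk pf.symm (Iso.refl _) (Iso.refl _) ?_ ?_) hS₁'
    · change pf.inv ≫ ι' = (Scheme.Modules.pushforward ι).map (hypιX D e E) ≫ 𝟙 _
      rw [hι', Category.comp_id, Iso.inv_hom_id_assoc]
    · change 𝟙 _ ≫ (Scheme.Modules.pushforward ι).map (hypπX D E) =
        (Scheme.Modules.pushforward ι).map (hypπX D E) ≫ 𝟙 _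
      rw [Category.comp_id, Category.id_comp]
  haveI hm' : Mono ι' := hS₂.mono_f
  have eco : cokernel ι' ≅ (Scheme.Modules.pushforward ι).obj
      ((DCoh.tensorBi.obj E).obj (ClSub.quotMod D)) :=
    (colimit.isColimit (parallelPair ι' 0)).coconePointUniqueUpToIso hS₂.gIsCokernel
  refine ⟨ι', hm', fun m => ?_⟩
  refine isMRegular_of_iso n k eco.symm m (fun i hi hin => ?_)
  haveI : Coh.IsQCoh ((DCoh.tensorBi.obj E).obj (ClSub.quotMod D)) := hC.1
  refine (ClBridge2.subsingleton_twOn_iff n k ι
    ((DCoh.tensorBi.obj E).obj (ClSub.quotMod D)) (m - i) i).1 ?_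
  refine Groth.Agent.Helper1.Euler.subsingleton_HH_of_dim_le_zero _
    (isCoh_twOn k n ι _ hC (m - i)) ?_ i (by omega)
  rw [support_twOn k n ι _ (m - i)]
  exact hdimC

/-- **an upper bound for the number of sections** of a twist of a pure module of dimension one on
an integral projective curve, from the vanishing of the sections of a lower twist -/
theorem h0_le_of_h0_vanish
    (hι : ι ≫ CohB1.ProjSpace.toSpec n k = X ↘ Spec (CommRingCat.of k))
    (hdim : topologicalKrullDim X = 1)
    {E : X.Modules} (hE : Coh.IsCoh E) (hp : ShStab.IsPure X E 1)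
    (t s : ℤ) (hs1 : 1 ≤ s)
    (hv : Subsingleton (Coh.HH X (ClBridge2.twOn n k ι E (t - s)) 0)) :
    (Module.finrank k (Coh.HH X (ClBridge2.twOn n k ι E t) 0) : ℤ) ≤
      max (Curv2.euler k X (ClBridge2.twOn n k ι E t)) ((rk E * dlt k n ι 1 - 1) * s) := by
  haveI := Groth.Agent.Helper1.Euler.isNoetherian_of_proper k X
  obtain ⟨ι', hm', hG⟩ := exists_hyp_mono k n ι hdim hE hp
  haveI := hm'
  have hF : Coh.IsCoh ((Scheme.Modules.pushforward ι).obj E) :=
    FinPush.isCoh_pushforward ι E hE
  obtain ⟨r, hr⟩ : ∃ r : ℕ, (r : ℤ) = s := ⟨s.toNat, Int.toNat_of_nonneg (by omega)⟩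
  have hb := Hyp3.d1_bound n k ((Scheme.Modules.pushforward ι).obj E) ι' hF (t - s + 1)
    (hG (t - s + 1)) r
  have e1 : t - s + 1 - 1 + (r : ℤ) = t := by omega
  have e2 : t - s + 1 - 1 = t - s := by ring
  rw [e1, e2] at hb
  -- transfer of the first cohomology
  have hd : ∀ j : ℤ, Module.finrank k (Coh.HH X (ClBridge2.twOn n k ι E j) 1) =
      Hyp2.d1 n k ((Scheme.Modules.pushforward ι).obj E) j := by
    intro j
    obtain ⟨l⟩ := NumDim.nonempty_HH_equiv_push_qc k ι hι E (inv_O n k j)
      (isCoh_twOn k n ι E hE j).1 1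
    exact l.finrank_eq
  -- Euler characteristics
  have hsum : ∀ j : ℤ, Curv2.euler k X (ClBridge2.twOn n k ι E j) =
      (Module.finrank k (Coh.HH X (ClBridge2.twOn n k ι E j) 0) : ℤ) -
        (Module.finrank k (Coh.HH X (ClBridge2.twOn n k ι E j) 1) : ℤ) := by
    intro j
    have hv2 : ∀ p : ℕ, 2 ≤ p → Subsingleton (Coh.HH X (ClBridge2.twOn n k ι E j) p) :=
      fun p hp => Groth.Agent.Helper1.FGAInt.subsingleton_HH_of_dim_lt X 1
        (by rw [hdim, Nat.cast_one]) _ p (by omega)
    have h := Groth.Agent.Helper1.Euler.euler_eq_sum k X 2 (ClBridge2.twOn n k ι E j) hv2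
    rw [Finset.sum_range_succ, Finset.sum_range_one, pow_zero, one_mul, pow_one] at h
    rw [h]
    ring
  have hχt := euler_twOn' k n ι hdim E hE t
  have hχs := euler_twOn' k n ι hdim E hE (t - s)
  have h0 : (Module.finrank k (Coh.HH X (ClBridge2.twOn n k ι E (t - s)) 0) : ℤ) = 0 := by
    haveI := hv
    rw [Module.finrank_zero_of_subsingleton]
    rfl
  have hst := hsum t
  have hss := hsum (t - s)
  rw [hd t] at hst
  rw [hd (t - s), h0] at hss
  obtain ⟨c, hc⟩ : ∃ c : ℤ, c = rk E * dlt k n ι 1 := ⟨_, rfl⟩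
  rw [← hc] at hχt hχs ⊢
  obtain ⟨A, hA⟩ : ∃ A : ℕ, A = Hyp2.d1 n k ((Scheme.Modules.pushforward ι).obj E) t := ⟨_, rfl⟩
  obtain ⟨B, hB⟩ : ∃ B : ℕ, B = Hyp2.d1 n k ((Scheme.Modules.pushforward ι).obj E) (t - s) :=
    ⟨_, rfl⟩
  rw [← hA, ← hB] at hb
  rw [← hA] at hst
  rw [← hB] at hss
  have hbz : (A : ℤ) ≤ max 0 ((B : ℤ) - s) := by
    rw [← hr]
    rcases Nat.le_total B r with h | h
    · have : A = 0 := by omega
      rw [this]
      exact le_max_left _ _
    · have : (A : ℤ) ≤ (B : ℤ) - (r : ℤ) := by omega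
      exact le_trans this (le_max_right _ _)
  rcases le_max_iff.1 hbz with h | h
  · apply le_max_of_le_left
    linarith
  · apply le_max_of_le_right
    have : (c - 1) * s = c * s - s := by ring
    rw [this]
    have h2 : c * (t - s) = c * t - c * s := by ring
    rw [h2] at hχs
    linarith

end HBound

end Groth.Agent.Helper1.SSD
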