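import Mathlib
import Groth.Agent.Lib.Helper1.SSD1

/-!
# Slope-semistable bundles on an integral projective curve: sections of sub-bundles (helper1)
-/

set_option backward.isDefEq.respectTransparency.types false
set_option synthInstance.maxHeartbeats 400000
set_option autoImplicit false
set_option linter.unusedSectionVars false
set_option linter.style.haveILetI false
set_option linter.unusedVariables false
universe u
open CategoryTheory CategoryTheory.Limits AlgebraicGeometry TopologicalSpace Opposite MonoidalCategory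

namespace Groth.Agent.Helper1.SSD

open Groth.Agent.Lib.Helper4 Groth.Agent.Helper1 Groth.Agent.Helper1.HorrB
open Groth.Agent.Helper1.Dv Groth.Agent.Helper1.NegVan Groth.Agent.Helper1.MumA
open Groth.Agent.Helper1.Bdd Groth.Agent.Helper1.SSC

section Slope

variable (k : Type u) [Field k] {X : Scheme.{u}} [X.Over (Spec (CommRingCat.of k))]
  [IsProper (X ↘ Spec (CommRingCat.of k))] [IsIntegral X]
  (n : ℕ) (ι : X ⟶ CohB1.ProjSpace n k) [IsClosedImmersion ι]

/-- sections of sufficiently negative twists of subsheaves of a slope-semistable bundle vanish -/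
theorem h0_vanish_of_slopeSemistable (hdim : topologicalKrullDim X = 1) {F F' : X.Modules}
    {r : ℕ} (hss : ModFun.IsSlopeSemistable k X F r)
    (hF'c : Coh.IsCoh F') (hp' : ShStab.IsPure X F' 1) (i : F' ⟶ F) [Mono i] (v : ℤ)
    (hv : Curv2.deg k X F r < dlt k n ι 1 * v * r) :
    Subsingleton (Coh.HH X (ClBridge2.twOn n k ι F' (-v)) 0) := by
  by_contra hns
  haveI := Groth.Agent.Helper1.Euler.isNoetherian_of_proper k X
  obtain ⟨σ, hσ⟩ := exists_hom_ne_zero (ClBridge2.twOn n k ι F' (-v)) hns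
  have hp'' := isPure_twOn k n ι hp' (-v)
  have hTw : Coh.IsCoh (ClBridge2.twOn n k ι F' (-v)) := isCoh_twOn k n ι F' hF'c (-v)
  haveI : (ClBridge2.twOn n k ι F' (-v)).IsQuasicoherent := hTw.1
  have hO : Coh.IsCoh (Coh.structureModule X) := Dv.isCoh_structureModule X
  haveI : (Coh.structureModule X).IsQuasicoherent := hO.1
  have hG0 : ¬ IsZero (Abelian.image σ) := fun h => hσ (by
    rw [← Abelian.image.fac σ, h.eq_of_tgt (Abelian.factorThruImage σ) 0, Limits.zero_comp])
  have hGc : Coh.IsCoh (Abelian.image σ) :=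
    FtLocal.isCoh_of_mono (Abelian.image.ι σ) hTw (QcAbel.isQuasicoherent_image σ)
  have hη := mem_support_of_pure k X hdim hp'' (Abelian.image.ι σ) hGc hG0
  haveI : Mono σ := mono_of_mem_support_image σ hη
  -- twisting back
  have hloc := TwExact.locGen_of_isInvertible _ (isInvertible_pullTwist k n ι v)
  have hm : Mono ((TwExact.TL (pN k n ι v)).map σ) := TwExact.mono_map hloc σ
  obtain ⟨e0⟩ := nonempty_untwist k n ι F' (-v)
  obtain ⟨e1⟩ := nonempty_twOn_congr k n ι (ClBridge2.twOn n k ι F' (-v)) (neg_neg v)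
  have e : (TwExact.TL (pN k n ι v)).obj (ClBridge2.twOn n k ι F' (-v)) ≅ F' := e1.symm ≪≫ e0
  have he : Mono e.hom := inferInstance
  obtain ⟨φ, hφ⟩ : ∃ φ : ClBridge2.twOn n k ι (Coh.structureModule X) v ⟶ F', Mono φ :=
    ⟨(TwExact.TL (pN k n ι v)).map σ ≫ e.hom, @mono_comp _ _ _ _ _ _ hm _ he⟩
  haveI := hφ
  have hinvA : PicF.IsInvertible (ClBridge2.twOn n k ι (Coh.structureModule X) v) :=
    Groth.Agent.Helper1.TwForm.isInvertible_tensorMod
      (Groth.Agent.Lead.PicCalc.isInvertible_O X) (isInvertible_pullTwist k n ι v)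
  have hrkO : rk (Coh.structureModule X) = 1 :=
    rk_of_isInvertible (Groth.Agent.Lead.PicCalc.isInvertible_O X)
  have hχA : Curv2.euler k X (ClBridge2.twOn n k ι (Coh.structureModule X) v) =
      dlt k n ι 1 * v + Curv2.euler k X (Coh.structureModule X) := by
    rw [euler_twOn' k n ι hdim _ hO v, hrkO]
    ring
  have hA1 := Groth.Agent.Helper1.Curve.isFinLocFreeOfRank_one hinvA
  have h := hss _ 1 (φ ≫ i) inferInstance Nat.one_pos hA1
  have hdegA : Curv2.deg k X (ClBridge2.twOn n k ι (Coh.structureModule X) v) 1 =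
      dlt k n ι 1 * v := by
    unfold Curv2.deg
    rw [hχA]
    push_cast
    ring
  rw [hdegA] at h
  push_cast at h
  linarith

/-- **the sections of a twist of a sub-bundle of a slope-semistable bundle** -/
theorem h0_sub_le
    (hι : ι ≫ CohB1.ProjSpace.toSpec n k = X ↘ Spec (CommRingCat.of k))
    (hdim : topologicalKrullDim X = 1) {F F' : X.Modules} {r r' : ℕ} (hr : 0 < r)
    (hr' : 0 < r') (hF : FlatMod.IsFinLocFreeOfRank r F)
    (hF' : FlatMod.IsFinLocFreeOfRank r' F')
    (hss : ModFun.IsSlopeSemistable k X F r) (i : F' ⟶ F) [Mono i] (t u : ℤ)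
    (hu : Curv2.deg k X F r < dlt k n ι 1 * u * r) (hs1 : 1 ≤ t + u)
    (hbig : (r : ℤ) * r' * dlt k n ι 1 * u - r * u - Curv2.euler k X F * r' ≤ r * t) :
    (Module.finrank k (Coh.HH X (ClBridge2.twOn n k ι F' t) 0) : ℤ) * r ≤
      ((r : ℤ) * dlt k n ι 1 * t + Curv2.euler k X F) * r' := by
  haveI := Groth.Agent.Helper1.Euler.isNoetherian_of_proper k X
  have hF'f := Groth.Agent.Helper1.FinLen.isFinLocFree_of_rank hF'
  have hF'c := Groth.Agent.Lib.Helper5.LocalCoh.isCoh_of_isFinLocFree _ hF'f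
  have hp' := isPure_of_locFree hdim hF'f
  have hv0 := h0_vanish_of_slopeSemistable k n ι hdim hss hF'c hp' i u hu
  have hv : Subsingleton (Coh.HH X (ClBridge2.twOn n k ι F' (t - (t + u))) 0) := by
    have : t - (t + u) = -u := by ring
    rw [this]
    exact hv0
  have hA := h0_le_of_h0_vanish k n ι hι hdim hF'c hp' t (t + u) hs1 hv
  rw [rk_of_locFree hF', euler_twOn' k n ι hdim F' hF'c t, rk_of_locFree hF'] at hA
  have hsemi := hss F' r' i inferInstance hr' hF'
  unfold Curv2.deg at hsemi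
  have hχ : Curv2.euler k X F' * r ≤ Curv2.euler k X F * r' := by linarith [hsemi]
  have hrpos : (0 : ℤ) ≤ r := Nat.cast_nonneg r
  rcases le_max_iff.1 hA with h | h
  · have h2 := mul_le_mul_of_nonneg_right h hrpos
    linarith [h2, hχ]
  · have h2 := mul_le_mul_of_nonneg_right h hrpos
    linarith [h2, hbig]

/-- the slope inequality from the inequality of the numbers of sections of a high twist -/
theorem deg_le_of_h0_le (hdim : topologicalKrullDim X = 1) {F G : X.Modules} {r r' : ℕ}
    (hF : FlatMod.IsFinLocFreeOfRank r F) (hG : FlatMod.IsFinLocFreeOfRank r' G) (t : ℤ)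
    (hF1 : (Module.finrank k (Coh.HH X (ClBridge2.twOn n k ι F t) 0) : ℤ) =
      (r : ℤ) * dlt k n ι 1 * t + Curv2.euler k X F)
    (hcrit : (Module.finrank k (Coh.HH X (ClBridge2.twOn n k ι G t) 0) : ℤ) * r ≤
      (Module.finrank k (Coh.HH X (ClBridge2.twOn n k ι F t) 0) : ℤ) * r') :
    Curv2.deg k X G r' * r ≤ Curv2.deg k X F r * r' := by
  haveI := Groth.Agent.Helper1.Euler.isNoetherian_of_proper k X
  have hGf := Groth.Agent.Helper1.FinLen.isFinLocFree_of_rank hG
  have hGc := Groth.Agent.Lib.Helper5.LocalCoh.isCoh_of_isFinLocFree _ hGf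
  have hχ := euler_twOn' k n ι hdim G hGc t
  rw [rk_of_locFree hG] at hχ
  have hv2 : ∀ p : ℕ, 2 ≤ p → Subsingleton (Coh.HH X (ClBridge2.twOn n k ι G t) p) :=
    fun p hp => Groth.Agent.Helper1.FGAInt.subsingleton_HH_of_dim_lt X 1
      (by rw [hdim, Nat.cast_one]) _ p (by omega)
  have h := Groth.Agent.Helper1.Euler.euler_eq_sum k X 2 (ClBridge2.twOn n k ι G t) hv2
  rw [Finset.sum_range_succ, Finset.sum_range_one, pow_zero, one_mul, pow_one] at h
  have hle : Curv2.euler k X (ClBridge2.twOn n k ι G t) ≤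
      (Module.finrank k (Coh.HH X (ClBridge2.twOn n k ι G t) 0) : ℤ) := by
    rw [h]
    have : (0 : ℤ) ≤ (Module.finrank k (Coh.HH X (ClBridge2.twOn n k ι G t) 1) : ℤ) :=
      Nat.cast_nonneg _
    linarith
  have hrpos : (0 : ℤ) ≤ r := Nat.cast_nonneg r
  have h2 := mul_le_mul_of_nonneg_right hle hrpos
  rw [hF1] at hcrit
  rw [hχ] at h2
  unfold Curv2.deg
  linarith [h2, hcrit]

end Slope

end Groth.Agent.Helper1.SSD
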