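import Mathlib
import Groth.Agent.Lib.Helper1.SSD2
import Groth.Agent.Lib.Helper1.VA8
import Groth.Agent.Lib.Helper1.VA4
import Groth.Agent.Lib.Helper1.ChowI
import Groth.Agent.Lib.Helper1.AmpleRestr
import Groth.Agent.Lib.Helper1.PicV1
import Groth.Agent.Lib.Helper1.VB4

/-!
# Slope-semistability of quotient bundles on a curve in terms of the numbers of sections of a
high twist (helper1)
-/

set_option backward.isDefEq.respectTransparency.types false
set_option synthInstance.maxHeartbeats 400000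
set_option autoImplicit false
set_option linter.unusedSectionVars false
set_option linter.style.haveILetI false
set_option linter.unusedVariables false
universe u
open CategoryTheory CategoryTheory.Limits AlgebraicGeometry TopologicalSpace Opposite MonoidalCategory

namespace Groth.Agent.Helper1.SSD

open Groth.Agent.Lib.Helper4 Groth.Agent.Helper1 Groth.Agent.Helper1.HorrB
open Groth.Agent.Helper1.Dv Groth.Agent.Helper1.NegVan Groth.Agent.Helper1.MumA
open Groth.Agent.Helper1.Bdd Groth.Agent.Helper1.SSC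

section Isos

variable (k : Type u) [Field k] {X : Scheme.{u}} [X.Over (Spec (CommRingCat.of k))]

/-- `M ⊗ (L^a)^m ≅ M ⊗ L^{am}` -/
theorem nonempty_twist_pow_iso (L M : X.Modules) (a m : ℕ) :
    Nonempty (ShStab.twist X (CohB1.tensorPow L a) M m ≅ ShStab.twist X L M (a * m)) := by
  have hcl : PicF.cl (CohB1.tensorPow (CohB1.tensorPow L a) m) =
      PicF.cl (CohB1.tensorPow L (a * m)) := by
    rw [Groth.Agent.Helper1.PicV.cl_tensorPow, Groth.Agent.Helper1.PicV.cl_tensorPow,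
      Groth.Agent.Helper1.PicV.cl_tensorPow, pow_mul]
  obtain ⟨e⟩ := Groth.Agent.Lead.PicCalc.nonempty_iso_of_cl_eq hcl
  exact ⟨Groth.Agent.Lead.TilT.tensorModCongr (Iso.refl M) e⟩

/-- the Hilbert polynomial with respect to a power of the polarisation -/
theorem isHilbPoly_pow {L F : X.Modules} {P : Polynomial ℚ} (a : ℕ)
    (hP : ShStab.IsHilbPoly k X L F P) :
    ShStab.IsHilbPoly k X (CohB1.tensorPow L a) F
      (P.comp (Polynomial.C (a : ℚ) * Polynomial.X)) := by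
  intro m
  obtain ⟨e⟩ := nonempty_twist_pow_iso L F a m
  rw [Groth.Agent.Helper1.Euler.euler_iso k X e, hP (a * m)]
  simp [Polynomial.eval_comp]

variable (n : ℕ) (ι : X ⟶ CohB1.ProjSpace n k) [IsClosedImmersion ι]

/-- `M ⊗ L^{a t} ≅ M ⊗ ι^*O(t)` when `L^a ≅ ι^* O(1)` -/
theorem nonempty_twist_mul_iso {L : X.Modules} (a : ℕ)
    (hL' : Nonempty (CohB1.tensorPow L a ≅ pN k n ι 1)) (M : X.Modules) (t : ℕ) :
    Nonempty (ShStab.twist X L M (a * t) ≅ ClBridge2.twOn n k ι M (t : ℤ)) := by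
  obtain ⟨e1⟩ := MumC.nonempty_pow_iso k n ι hL' t
  have hcl : PicF.cl (CohB1.tensorPow L (a * t)) = PicF.cl (pN k n ι (t : ℤ)) := by
    rw [← Groth.Agent.Lead.PicCalc.cl_eq_of_iso e1, Groth.Agent.Helper1.PicV.cl_tensorPow,
      Groth.Agent.Helper1.PicV.cl_tensorPow, Groth.Agent.Helper1.PicV.cl_tensorPow, pow_mul]
  obtain ⟨e2⟩ := Groth.Agent.Lead.PicCalc.nonempty_iso_of_cl_eq hcl
  exact ⟨Groth.Agent.Lead.TilT.tensorModCongr (Iso.refl M) e2⟩

end Isos

section Main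

variable (k : Type u) [Field k] {X : Scheme.{u}} [X.Over (Spec (CommRingCat.of k))]
  [IsProper (X ↘ Spec (CommRingCat.of k))] [IsIntegral X]

/-- **slope-semistability of a quotient bundle of `O^N` with fixed Hilbert polynomial on an
integral proper curve is detected by the numbers of sections of a fixed high twist** -/
theorem main [Infinite k] (hdim : topologicalKrullDim X = 1) (L : X.Modules)
    (hLi : PicF.IsInvertible L) (hL : CohB1.IsAmple L) (N : ℕ) (P : Polynomial ℚ) :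
    ∃ l : ℕ, ∀ (r : ℕ) (F : X.Modules) (q : FlatMod.freeMod X N ⟶ F),
      0 < r → FlatMod.IsFinLocFreeOfRank r F → Epi q → ShStab.IsHilbPoly k X L F P →
        (ModFun.IsSlopeSemistable k X F r ↔
          ∀ (F' : X.Modules) (r' : ℕ) (i : F' ⟶ F), Mono i → 0 < r' →
            FlatMod.IsFinLocFreeOfRank r' F' →
            (Module.finrank k (Coh.HH X (ShStab.twist X L F' l) 0) : ℚ) / (r' : ℚ) ≤
              (Module.finrank k (Coh.HH X (ShStab.twist X L F l) 0) : ℚ) / (r : ℚ)) := by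
  haveI := Groth.Agent.Helper1.Euler.isNoetherian_of_proper k X
  -- the embedding
  obtain ⟨n₀, hn₀⟩ := Groth.Agent.Helper1.VA8.exists_immersion_projSpace_powers
    (X ↘ Spec (CommRingCat.of k)) hL (Groth.Agent.Lead.PicCalc.isInvertible_O X)
  obtain ⟨n, ι, hιi, hι, ⟨e⟩⟩ := hn₀ (n₀ + 1) (Nat.le_succ _)
  obtain ⟨a, ha⟩ : ∃ a : ℕ, a = n₀ + 1 := ⟨_, rfl⟩
  rw [← ha] at e
  haveI := hιi
  haveI : IsProper (ι ≫ CohB1.ProjSpace.toSpec n k) := by rw [hι]; infer_instance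
  haveI : IsClosedImmersion ι :=
    Groth.Agent.Helper1.Chow.isClosedImmersion_of_isProper_comp ι (CohB1.ProjSpace.toSpec n k)
  have hL' : Nonempty (CohB1.tensorPow L a ≅ pN k n ι 1) :=
    ⟨(Groth.Agent.Helper1.VA4.tensorPowUnitIso hLi a).symm ≪≫ e⟩
  have ha0 : 0 < a := by omega
  have hL'a : CohB1.IsAmple (CohB1.tensorPow L a) :=
    (Groth.Agent.Helper1.AmpleLib.isAmple_tensorPow_iff hLi a ha0).1 hL
  -- uniform vanishing
  obtain ⟨l₀, hl₀⟩ := MumC.main k n ι hι (CohB1.tensorPow L a) hL' N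
    (P.comp (Polynomial.C (a : ℚ) * Polynomial.X))
  -- the constants
  obtain ⟨δ, hδ⟩ : ∃ δ : ℤ, δ = dlt k n ι 1 := ⟨_, rfl⟩
  obtain ⟨χO, hχO⟩ : ∃ χO : ℤ, χO = Curv2.euler k X (Coh.structureModule X) := ⟨_, rfl⟩
  obtain ⟨p₀, hp₀⟩ : ∃ p₀ : ℤ, p₀ = ⌊P.eval 0⌋ := ⟨_, rfl⟩
  obtain ⟨cP, hcP⟩ : ∃ cP : ℤ, cP = ⌊P.eval (a : ℚ) - P.eval 0⌋ := ⟨_, rfl⟩
  obtain ⟨r₀, hr₀⟩ : ∃ r₀ : ℤ, r₀ = cP / δ := ⟨_, rfl⟩
  obtain ⟨d₀, hd₀⟩ : ∃ d₀ : ℤ, d₀ = p₀ - r₀ * χO := ⟨_, rfl⟩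
  obtain ⟨u, hu⟩ : ∃ u : ℤ, u = d₀ / (δ * r₀) + 1 := ⟨_, rfl⟩
  obtain ⟨T, hT⟩ : ∃ T : ℤ, T = max (l₀ : ℤ) (max (1 - u) (r₀ * δ * |u| + |u| + |p₀|)) :=
    ⟨_, rfl⟩
  have hT0 : (l₀ : ℤ) ≤ T := by rw [hT]; exact le_max_left _ _
  have hT1 : 1 - u ≤ T := by
    rw [hT]; exact le_trans (le_max_left _ _) (le_max_right _ _)
  have hT2 : r₀ * δ * |u| + |u| + |p₀| ≤ T := by
    rw [hT]; exact le_trans (le_max_right _ _) (le_max_right _ _)
  obtain ⟨t₀, ht₀⟩ : ∃ t₀ : ℕ, (t₀ : ℤ) = T :=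
    ⟨T.toNat, Int.toNat_of_nonneg (le_trans (Nat.cast_nonneg l₀) hT0)⟩
  refine ⟨a * t₀, ?_⟩
  intro r F q hr hF hq hP
  -- basic facts on `F`
  have hFf := Groth.Agent.Helper1.FinLen.isFinLocFree_of_rank hF
  have hFc := Groth.Agent.Lib.Helper5.LocalCoh.isCoh_of_isFinLocFree _ hFf
  have hpF := isPure_of_locFree hdim hFf
  have hF0 : ¬ IsZero F := Groth.Agent.Helper1.VB.not_isZero_of_rank_pos X hr hF
  have hdimF := hpF F (𝟙 F) inferInstance hFc hF0
  have hP' := isHilbPoly_pow k a hP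
  have hrk := rk_of_locFree hF
  have hR0 : (0 : ℤ) < r := by exact_mod_cast hr
  -- `χ(F) = p₀`
  have hχF : Curv2.euler k X F = p₀ := by
    have h := hP 0
    have e0 : ShStab.twist X L F 0 ≅ F := Groth.Agent.Lib.Helper5.LTenFlf.tensorUnitIso F
    rw [Groth.Agent.Helper1.Euler.euler_iso k X e0] at h
    have h' : P.eval 0 = ((Curv2.euler k X F : ℤ) : ℚ) := by simpa using h.symm
    rw [hp₀, h']
    exact (Int.floor_intCast _).symm
  -- `r δ = cP`
  have hcP' : cP = r * δ := by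
    have h := hP a
    have ea : ShStab.twist X L F a ≅ ClBridge2.twOn n k ι F 1 :=
      Groth.Agent.Lead.TilT.tensorModCongr (Iso.refl F) hL'.some
    rw [Groth.Agent.Helper1.Euler.euler_iso k X ea, euler_twOn' k n ι hdim F hFc 1, hrk,
      ← hδ] at h
    have h0 := hP 0
    have e0 : ShStab.twist X L F 0 ≅ F := Groth.Agent.Lib.Helper5.LTenFlf.tensorUnitIso F
    rw [Groth.Agent.Helper1.Euler.euler_iso k X e0] at h0
    have h0' : P.eval 0 = ((Curv2.euler k X F : ℤ) : ℚ) := by simpa using h0.symm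
    have h1 : P.eval (a : ℚ) - P.eval 0 = ((r * δ : ℤ) : ℚ) := by
      rw [← h, h0']
      push_cast
      ring
    rw [hcP, h1]
    exact Int.floor_intCast _
  -- positivity of the degree of the polarisation
  have hδ0 : 0 < δ := by
    have hα := Groth.Agent.Lead.HP.alpha_pos_of_dim k X (CohB1.tensorPow L a) hL'a F hFc 1
      hdimF hP'
    have hPeq := hilb_eq k n ι hdim hL' hFc hP'
    rw [hPeq, alpha_one_lin, hrk, ← hδ] at hα
    have hc0 : 0 < (r : ℤ) * δ := by exact_mod_cast hα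
    by_contra h
    push Not at h
    have := mul_nonpos_of_nonneg_of_nonpos hR0.le h
    linarith
  have hr₀' : r₀ = r := by
    rw [hr₀, hcP']
    exact Int.mul_ediv_cancel _ (ne_of_gt hδ0)
  have hdeg : Curv2.deg k X F r = d₀ := by
    unfold Curv2.deg
    rw [hd₀, hr₀', hχF, hχO]
  have hu' : Curv2.deg k X F r < dlt k n ι 1 * u * r := by
    rw [hdeg, ← hδ]
    have h1 := Int.lt_ediv_add_one_mul_self d₀ (b := δ * r₀) (by
      rw [hr₀']; exact mul_pos hδ0 hR0)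
    rw [← hu, hr₀'] at h1
    linarith
  -- the cohomology of the high twist of `F`
  have hlt : l₀ ≤ t₀ := by
    have : (l₀ : ℤ) ≤ (t₀ : ℤ) := by rw [ht₀]; exact hT0
    exact_mod_cast this
  obtain ⟨hv1, -, -⟩ := hl₀ F q hFc hq hP' t₀ hlt
  obtain ⟨eF⟩ := MumC.nonempty_twist_iso k n ι hL' F t₀
  have hvF : ∀ p : ℕ, 1 ≤ p → Subsingleton (Coh.HH X (ClBridge2.twOn n k ι F (t₀ : ℤ)) p) :=
    fun p hp => Groth.Agent.Helper1.Dv.subsingleton_HH_of_iso eF.symm p (hv1 p hp)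
  have hF1 : (Module.finrank k (Coh.HH X (ClBridge2.twOn n k ι F (t₀ : ℤ)) 0) : ℤ) =
      (r : ℤ) * dlt k n ι 1 * (t₀ : ℤ) + Curv2.euler k X F := by
    have h := Groth.Agent.Helper1.Euler.euler_eq_sum k X 1 _ hvF
    rw [Finset.sum_range_one, pow_zero, one_mul, euler_twOn' k n ι hdim F hFc, hrk] at h
    exact h.symm
  obtain ⟨eT⟩ := nonempty_twist_mul_iso k n ι a hL' F t₀
  have hfF := (HHFin1.HHequiv k eT 0).finrank_eq
  have hRq : (0 : ℚ) < r := by exact_mod_cast hr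
  constructor
  · -- semistable ⟹ criterion
    intro hss F' r' i hi hr' hF'
    haveI := hi
    obtain ⟨eT'⟩ := nonempty_twist_mul_iso k n ι a hL' F' t₀
    have hfF' := (HHFin1.HHequiv k eT' 0).finrank_eq
    have hR'q : (0 : ℚ) < r' := by exact_mod_cast hr'
    rw [hfF, hfF', div_le_div_iff₀ hR'q hRq]
    have hR'0 : (0 : ℤ) < r' := by exact_mod_cast hr'
    have hR'R : (r' : ℤ) ≤ r := by
      exact_mod_cast Groth.Agent.Helper1.Curve.rank_le_of_mono (genericPoint X) hF' hF i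
    have hbig : (r : ℤ) * r' * dlt k n ι 1 * u - r * u - Curv2.euler k X F * r' ≤ r * t₀ := by
      rw [← hδ, hχF, ht₀]
      rw [hr₀'] at hT2
      have habs0 : 0 ≤ |u| := abs_nonneg u
      have h1 : (r : ℤ) * r' * δ * u ≤ (r : ℤ) * r' * δ * |u| :=
        mul_le_mul_of_nonneg_left (le_abs_self u)
          (mul_nonneg (mul_nonneg hR0.le hR'0.le) hδ0.le)
      have h2 : 0 ≤ (r : ℤ) * δ * |u| * ((r : ℤ) - r') :=
        mul_nonneg (mul_nonneg (mul_nonneg hR0.le hδ0.le) habs0) (sub_nonneg.2 hR'R)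
      have h3 : (r : ℤ) * (-u) ≤ (r : ℤ) * |u| :=
        mul_le_mul_of_nonneg_left (neg_le_abs u) hR0.le
      have h4 : (-p₀) * (r' : ℤ) ≤ |p₀| * (r' : ℤ) :=
        mul_le_mul_of_nonneg_right (neg_le_abs p₀) hR'0.le
      have h5 : |p₀| * (r' : ℤ) ≤ |p₀| * (r : ℤ) :=
        mul_le_mul_of_nonneg_left hR'R (abs_nonneg p₀)
      have h6 : (r : ℤ) * ((r : ℤ) * δ * |u| + |u| + |p₀|) ≤ (r : ℤ) * T :=
        mul_le_mul_of_nonneg_left hT2 hR0.le
      linarith
    have hs1 : 1 ≤ (t₀ : ℤ) + u := by rw [ht₀]; linarith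
    have hC := h0_sub_le k n ι hι hdim hr hr' hF hF' hss i (t₀ : ℤ) u hu' hs1 hbig
    rw [← hF1] at hC
    exact_mod_cast hC
  · -- criterion ⟹ semistable
    intro hcrit G r' i hi hr' hG
    haveI := hi
    obtain ⟨eT'⟩ := nonempty_twist_mul_iso k n ι a hL' G t₀
    have hfG := (HHFin1.HHequiv k eT' 0).finrank_eq
    have hR'q : (0 : ℚ) < r' := by exact_mod_cast hr'
    have h := hcrit G r' i hi hr' hG
    rw [hfF, hfG, div_le_div_iff₀ hR'q hRq] at h
    refine deg_le_of_h0_le k n ι hdim hF hG (t₀ : ℤ) hF1 ?_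
    exact_mod_cast h

end Main

end Groth.Agent.Helper1.SSD
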