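import Mathlib

set_option autoImplicit false

open AlgebraicGeometry CategoryTheory

namespace Groth.Agent.Helper1.SchCorr

universe u

theorem preimage_eq_image {C Cb X Xb : Scheme.{u}}
    (j : C ⟶ Cb) [IsOpenImmersion j] (hj : DenseRange j.base)
    (jX : X ⟶ Xb) [IsOpenImmersion jX] (c₁ : C ⟶ X) (cb₁ : Cb ⟶ Xb) [IsSeparated cb₁]
    (h : j ≫ cb₁ = c₁ ≫ jX) (U : X.Opens) (hU : Dense ((c₁ ⁻¹ᵁ U : C.Opens) : Set C))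
    [IsProper (c₁ ∣_ U)] :
    cb₁ ⁻¹ᵁ (jX ''ᵁ U) = j ''ᵁ (c₁ ⁻¹ᵁ U) := by
  have hpt : ∀ x : C, cb₁ (j x) = jX (c₁ x) := fun x => by
    have := congrArg (fun f : C ⟶ Xb => f x) h
    simpa using this
  have hsub : ∀ x : C, x ∈ c₁ ⁻¹ᵁ U → j x ∈ cb₁ ⁻¹ᵁ (jX ''ᵁ U) := by
    intro x hx
    show cb₁ (j x) ∈ jX ''ᵁ U
    rw [hpt]
    exact ⟨c₁ x, hx, rfl⟩
  have hrange : Set.range ((c₁ ⁻¹ᵁ U).ι ≫ j) ⊆ Set.range (cb₁ ⁻¹ᵁ (jX ''ᵁ U)).ι := by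
    rintro _ ⟨x, rfl⟩
    rw [Scheme.Opens.range_ι]
    exact hsub x.1 x.2
  let k : (c₁ ⁻¹ᵁ U).toScheme ⟶ (cb₁ ⁻¹ᵁ (jX ''ᵁ U)).toScheme :=
    IsOpenImmersion.lift (cb₁ ⁻¹ᵁ (jX ''ᵁ U)).ι ((c₁ ⁻¹ᵁ U).ι ≫ j) hrange
  have hk : k ≫ (cb₁ ⁻¹ᵁ (jX ''ᵁ U)).ι = (c₁ ⁻¹ᵁ U).ι ≫ j := IsOpenImmersion.lift_fac _ _ _
  have hcomp : k ≫ (cb₁ ∣_ (jX ''ᵁ U)) = (c₁ ∣_ U) ≫ (jX.isoImage U).hom := by
    rw [← cancel_mono (jX ''ᵁ U).ι, Category.assoc, Category.assoc, morphismRestrict_ι,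
      Scheme.Hom.isoImage_hom_ι, ← Category.assoc, hk, Category.assoc, h,
      ← Category.assoc (c₁ ∣_ U), morphismRestrict_ι, Category.assoc]
  have : IsProper (k ≫ (cb₁ ∣_ (jX ''ᵁ U))) := by rw [hcomp]; infer_instance
  have : IsProper k := IsProper.of_comp k (cb₁ ∣_ (jX ''ᵁ U))
  have hclosed : IsClosed (Set.range k) := k.isClosedMap.isClosed_range
  have hkpt : ∀ z : (c₁ ⁻¹ᵁ U).toScheme, (k z).1 = j z.1 := by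
    intro z
    exact congrArg (fun f : (c₁ ⁻¹ᵁ U).toScheme ⟶ Cb => f z) hk
  have hdense : Dense (j '' ((c₁ ⁻¹ᵁ U : C.Opens) : Set C)) :=
    hj.dense_image j.continuous hU
  ext y
  constructor
  · intro hy
    by_contra hcon
    have hyk : (⟨y, hy⟩ : (cb₁ ⁻¹ᵁ (jX ''ᵁ U)).toScheme) ∉ Set.range k := by
      rintro ⟨z, hz⟩
      apply hcon
      refine ⟨z.1, z.2, ?_⟩
      have h1 := hkpt z
      rw [hz] at h1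
      exact h1.symm
    have hopen : IsOpen ((cb₁ ⁻¹ᵁ (jX ''ᵁ U)).ι '' (Set.range k)ᶜ) :=
      (cb₁ ⁻¹ᵁ (jX ''ᵁ U)).ι.isOpenEmbedding.isOpenMap _ hclosed.isOpen_compl
    obtain ⟨p, hp1, hp2⟩ := hdense.exists_mem_open hopen ⟨y, ⟨⟨y, hy⟩, hyk, rfl⟩⟩
    obtain ⟨v, hv, rfl⟩ := hp2
    obtain ⟨w, hw, hwv⟩ := hp1
    apply hv
    refine ⟨⟨w, hw⟩, ?_⟩
    apply (cb₁ ⁻¹ᵁ (jX ''ᵁ U)).ι.isOpenEmbedding.injective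
    have h1 := hkpt ⟨w, hw⟩
    exact h1.trans hwv
  · rintro ⟨x, hx, rfl⟩
    exact hsub x hx

end Groth.Agent.Helper1.SchCorr
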