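import Mathlib

/-!
# Scheme-theoretic density of opens whose complement has depth ≥ 1

Helper library of helper1.
-/

set_option autoImplicit false

namespace Groth.Agent.Helper1.SchDense

open AlgebraicGeometry CategoryTheory Limits

universe u

section Alg

/-- If `𝔭` is a minimal prime over the annihilator of `s`, then in the localization at `𝔭` the image
of `s` is nonzero and is killed by a power of every element of the maximal ideal. -/
theorem exists_pow_mul_eq_zero_of_minimalPrimes {A : Type*} [CommRing A] (s : A) (𝔭 : Ideal A)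
    [𝔭.IsPrime] (h𝔭 : 𝔭 ∈ ((Ideal.span {s}).annihilator).minimalPrimes)
    (S : Type*) [CommRing S] [Algebra A S] [IsLocalization.AtPrime S 𝔭] [IsLocalRing S] :
    algebraMap A S s ≠ 0 ∧
      ∀ a ∈ IsLocalRing.maximalIdeal S, ∃ N : ℕ, a ^ N * algebraMap A S s = 0 := by
  have hmemI : ∀ t : A, t ∈ (Ideal.span {s}).annihilator ↔ t * s = 0 := fun t => by
    rw [Ideal.span, Submodule.mem_annihilator_span_singleton, smul_eq_mul]
  have hmemJ : ∀ t : S, t ∈ (Ideal.span {algebraMap A S s}).annihilator ↔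
      t * algebraMap A S s = 0 := fun t => by
    rw [Ideal.span, Submodule.mem_annihilator_span_singleton, smul_eq_mul]
  constructor
  · intro h0
    obtain ⟨m, hm⟩ := (IsLocalization.map_eq_zero_iff 𝔭.primeCompl S s).mp h0
    exact m.2 (h𝔭.1.2 ((hmemI _).2 hm))
  · intro a ha
    have hrad : a ∈ ((Ideal.span {algebraMap A S s}).annihilator).radical := by
      rw [Ideal.radical_eq_sInf, Ideal.mem_sInf]
      rintro Q' ⟨hJ, hQ'⟩
      have hQp : (Q'.comap (algebraMap A S)).IsPrime := Ideal.comap_isPrime _ _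
      have hIQ : (Ideal.span {s}).annihilator ≤ Q'.comap (algebraMap A S) := by
        intro t ht
        rw [Ideal.mem_comap]
        apply hJ
        rw [hmemJ, ← map_mul, (hmemI t).1 ht, map_zero]
      have hQle : Q'.comap (algebraMap A S) ≤ 𝔭 := by
        have h1 : Q' ≤ IsLocalRing.maximalIdeal S := IsLocalRing.le_maximalIdeal hQ'.ne_top
        have h2 := Ideal.comap_mono (f := algebraMap A S) h1
        have h3 : (IsLocalRing.maximalIdeal S).comap (algebraMap A S) = 𝔭 :=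
          IsLocalization.AtPrime.under_maximalIdeal S 𝔭
        rwa [h3] at h2
      have hle : 𝔭 ≤ Q'.comap (algebraMap A S) := h𝔭.2 ⟨hQp, hIQ⟩ hQle
      have heq : Q'.comap (algebraMap A S) = 𝔭 := le_antisymm hQle hle
      have h4 : Ideal.map (algebraMap A S) (Q'.comap (algebraMap A S)) = Q' :=
        IsLocalization.map_under 𝔭.primeCompl S Q'
      have h5 : Ideal.map (algebraMap A S) 𝔭 = IsLocalRing.maximalIdeal S :=
        IsLocalization.AtPrime.map_eq_maximalIdeal 𝔭 S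
      rw [← h4, heq, h5]
      exact ha
    obtain ⟨N, hN⟩ := hrad
    exact ⟨N, (hmemJ _).1 hN⟩

end Alg

section Sch

variable (X : Scheme.{u}) (U : X.Opens)

/-- A section on an affine open whose germs vanish at all points of `U` is zero, provided every
point outside `U` has a regular element in the maximal ideal of its local ring. -/
theorem section_eq_zero_of_germ
    (hZ : ∀ z : X, z ∉ U → ∃ a ∈ IsLocalRing.maximalIdeal (X.presheaf.stalk z),
      IsSMulRegular (X.presheaf.stalk z) a)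
    (V : X.Opens) (hV : IsAffineOpen V) (s : Γ(X, V))
    (hs : ∀ (z : X) (hzV : z ∈ V), z ∈ U → X.presheaf.germ V z hzV s = 0) : s = 0 := by
  by_contra hs0
  have hI : (Ideal.span {s}).annihilator ≠ ⊤ := by
    intro h
    have h1 : (1 : Γ(X, V)) ∈ (Ideal.span {s}).annihilator := h ▸ Submodule.mem_top
    rw [Ideal.span, Submodule.mem_annihilator_span_singleton, one_smul] at h1
    exact hs0 h1
  obtain ⟨⟨𝔭, h𝔭⟩⟩ := Ideal.nonempty_minimalPrimes hI
  haveI : 𝔭.IsPrime := h𝔭.1.1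
  have hzV : hV.fromSpec (⟨𝔭, inferInstance⟩ : PrimeSpectrum Γ(X, V)) ∈ V := by
    have := Set.mem_range_self (f := hV.fromSpec) (⟨𝔭, inferInstance⟩ : PrimeSpectrum Γ(X, V))
    rwa [hV.range_fromSpec] at this
  letI : Algebra Γ(X, V) (X.presheaf.stalk (hV.fromSpec (⟨𝔭, inferInstance⟩ : PrimeSpectrum Γ(X, V)))) :=
    TopCat.Presheaf.algebra_section_stalk X.presheaf ⟨_, hzV⟩
  have hloc : IsLocalization.AtPrime
      (X.presheaf.stalk (hV.fromSpec (⟨𝔭, inferInstance⟩ : PrimeSpectrum Γ(X, V)))) 𝔭 :=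
    hV.isLocalization_stalk' (⟨𝔭, inferInstance⟩ : PrimeSpectrum Γ(X, V)) hzV
  obtain ⟨h1, h2⟩ := exists_pow_mul_eq_zero_of_minimalPrimes s 𝔭 h𝔭
    (X.presheaf.stalk (hV.fromSpec (⟨𝔭, inferInstance⟩ : PrimeSpectrum Γ(X, V))))
  have hzU : hV.fromSpec (⟨𝔭, inferInstance⟩ : PrimeSpectrum Γ(X, V)) ∉ U :=
    fun hzU => h1 (hs _ hzV hzU)
  obtain ⟨a, ha, hreg⟩ := hZ _ hzU
  obtain ⟨N, hN⟩ := h2 a ha
  apply h1
  apply hreg.pow N
  simpa [smul_eq_mul] using hN

theorem ker_ι_eq_bot [QuasiCompact U.ι]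
    (hZ : ∀ z : X, z ∉ U → ∃ a ∈ IsLocalRing.maximalIdeal (X.presheaf.stalk z),
      IsSMulRegular (X.presheaf.stalk z) a) : U.ι.ker = ⊥ := by
  apply Scheme.IdealSheafData.ext
  funext V
  rw [Scheme.Hom.ker_apply, Scheme.IdealSheafData.ideal_bot, Pi.bot_apply, eq_bot_iff]
  intro s hs
  rw [Ideal.mem_bot]
  rw [RingHom.mem_ker] at hs
  apply section_eq_zero_of_germ X U hZ V.1 V.2 s
  intro z hzV hzU
  have hz' : z ∈ U.ι ''ᵁ U.ι ⁻¹ᵁ V.1 := ⟨⟨z, hzU⟩, hzV, rfl⟩
  have h1 := TopCat.Presheaf.germ_res_apply X.presheaf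
    (homOfLE (x := U.ι ''ᵁ U.ι ⁻¹ᵁ V.1) (Set.image_preimage_subset _ _)) z hz' s
  rw [← h1]
  have h2 : (X.presheaf.map (homOfLE (x := U.ι ''ᵁ U.ι ⁻¹ᵁ V.1)
      (Set.image_preimage_subset _ _)).op) s = 0 := hs
  rw [h2, map_zero]

theorem S14271 [QuasiCompact U.ι]
    (hZ : ∀ z : X, z ∉ U → ∃ a ∈ IsLocalRing.maximalIdeal (X.presheaf.stalk z),
      IsSMulRegular (X.presheaf.stalk z) a)
    (Y : Scheme.{u}) (f : Y ⟶ X) [IsSeparated f] (s₁ s₂ : X ⟶ Y) (h₁ : s₁ ≫ f = 𝟙 X)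
    (h₂ : s₂ ≫ f = 𝟙 X) (hU : U.ι ≫ s₁ = U.ι ≫ s₂) : s₁ = s₂ := by
  let X' : Over X := Over.mk (s₁ ≫ f)
  let Y' : Over X := Over.mk f
  let U' : Over X := Over.mk (U.ι ≫ s₁ ≫ f)
  let f' : X' ⟶ Y' := Over.homMk s₁
  let g' : X' ⟶ Y' := Over.homMk s₂ (by simp [X', Y', h₁, h₂])
  let ι' : U' ⟶ X' := Over.homMk U.ι
  have : IsSeparated Y'.hom := ‹_›
  have hfac : (equalizer.lift ι' (by ext1; exact hU : ι' ≫ f' = ι' ≫ g')).left ≫
      (equalizer.ι f' g').left = U.ι := by
    rw [← Over.comp_left, equalizer.lift_ι]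
    rfl
  have hker : (equalizer.ι f' g').left.ker = ⊥ := by
    rw [eq_bot_iff, ← ker_ι_eq_bot X U hZ]
    have := Scheme.Hom.le_ker_comp
      (equalizer.lift ι' (by ext1; exact hU : ι' ≫ f' = ι' ≫ g')).left (equalizer.ι f' g').left
    rwa [hfac] at this
  have : IsIso (equalizer.ι f' g').left := IsClosedImmersion.isIso_iff_ker_eq_bot.mpr hker
  rw [← cancel_epi (equalizer.ι f' g').left]
  exact congr($(equalizer.condition f' g').left)

end Sch

end Groth.Agent.Helper1.SchDense
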