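import Mathlib
import Groth.Agent.Lib.Helper1.SchImgRed

/-!
# Extending a section over a dense open of a reduced scheme

Helper library of helper1.
-/

set_option autoImplicit false

namespace Groth.Agent.Helper1.SchSect

open AlgebraicGeometry CategoryTheory Limits TopologicalSpace Scheme
open Groth.Agent.Helper1.SchImgRed

universe u

/-- The kernel of a morphism from a reduced scheme is the vanishing ideal of the closure of its
range. -/
theorem ker_eq_vanishingIdeal_of_isReduced {W X : Scheme.{u}} [IsReduced W] (γ : W ⟶ X) :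
    γ.ker = IdealSheafData.vanishingIdeal ⟨closure (Set.range γ), isClosed_closure⟩ := by
  rw [← ker_radical_of_isReduced γ, ← IdealSheafData.vanishingIdeal_support]
  congr 1
  apply Closeds.ext
  exact support_ker_of_isReduced γ

theorem isReduced_subscheme_vanishingIdeal {X : Scheme.{u}} (C : Closeds X) :
    IsReduced (IdealSheafData.vanishingIdeal C).subscheme := by
  apply isReduced_subscheme_of_isRadical
  intro U
  rw [IdealSheafData.vanishingIdeal_ideal]
  exact PrimeSpectrum.isRadical_vanishingIdeal _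

theorem S2308
    {X Y : Scheme.{u}} [IsReduced Y] (f : X ⟶ Y) [IsSeparated f] (U : Y.Opens)
    (hU : Dense (U : Set Y))
    (g : (U : Scheme.{u}) ⟶ (f ⁻¹ᵁ U : Scheme.{u})) (hg : g ≫ (f ⁻¹ᵁ U).ι ≫ f = U.ι) :
    (∃ h : Y ⟶ X, h ≫ f = 𝟙 Y ∧ U.ι ≫ h = g ≫ (f ⁻¹ᵁ U).ι) ↔
      IsIso ((Scheme.IdealSheafData.vanishingIdeal
        ⟨closure (Set.range (g ≫ (f ⁻¹ᵁ U).ι)), isClosed_closure⟩).subschemeι ≫ f) := by
  have hZred := isReduced_subscheme_vanishingIdeal
    (⟨closure (Set.range (g ≫ (f ⁻¹ᵁ U).ι)), isClosed_closure⟩ : Closeds X)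
  have hrange : Set.range (Scheme.IdealSheafData.vanishingIdeal
      ⟨closure (Set.range (g ≫ (f ⁻¹ᵁ U).ι)), isClosed_closure⟩).subschemeι =
      closure (Set.range (g ≫ (f ⁻¹ᵁ U).ι)) := by
    rw [IdealSheafData.range_subschemeι, IdealSheafData.coe_support_vanishingIdeal]
    rfl
  constructor
  · rintro ⟨h, hf, hγ⟩
    have h1 : IsClosedImmersion (h ≫ f) := by rw [hf]; infer_instance
    have hc : IsClosedImmersion h := IsClosedImmersion.of_comp h f
    have hcl : closure (Set.range (g ≫ (f ⁻¹ᵁ U).ι)) = Set.range h := by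
      rw [← hγ, Scheme.Hom.comp_base, TopCat.coe_comp, Set.range_comp, Scheme.Opens.range_ι,
        h.isClosedEmbedding.closure_image_eq, hU.closure_eq, Set.image_univ]
    obtain ⟨e, he⟩ := exists_iso_of_reduced_immersions (Set.range h) _ Y
      (Scheme.IdealSheafData.vanishingIdeal
        ⟨closure (Set.range (g ≫ (f ⁻¹ᵁ U).ι)), isClosed_closure⟩).subschemeι h
      (hrange.trans hcl) rfl
    rw [← he, Category.assoc, hf, Category.comp_id]
    infer_instance
  · intro hiso
    have hker : (Scheme.IdealSheafData.vanishingIdeal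
        ⟨closure (Set.range (g ≫ (f ⁻¹ᵁ U).ι)), isClosed_closure⟩).subschemeι.ker ≤
        (g ≫ (f ⁻¹ᵁ U).ι).ker := by
      rw [IdealSheafData.ker_subschemeι, ker_eq_vanishingIdeal_of_isReduced]
    refine ⟨inv ((Scheme.IdealSheafData.vanishingIdeal
        ⟨closure (Set.range (g ≫ (f ⁻¹ᵁ U).ι)), isClosed_closure⟩).subschemeι ≫ f) ≫
      (Scheme.IdealSheafData.vanishingIdeal
        ⟨closure (Set.range (g ≫ (f ⁻¹ᵁ U).ι)), isClosed_closure⟩).subschemeι, ?_, ?_⟩
    · rw [Category.assoc, IsIso.inv_hom_id]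
    · have hfac := IsClosedImmersion.lift_fac _ _ hker
      have h2 : U.ι = IsClosedImmersion.lift _ _ hker ≫
          ((Scheme.IdealSheafData.vanishingIdeal
            ⟨closure (Set.range (g ≫ (f ⁻¹ᵁ U).ι)), isClosed_closure⟩).subschemeι ≫ f) := by
        rw [← Category.assoc, hfac, Category.assoc, hg]
      rw [h2, Category.assoc, IsIso.hom_inv_id_assoc, hfac]

end Groth.Agent.Helper1.SchSect
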