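import Mathlib
import Groth.Agent.Lib.Helper1.VA7

set_option autoImplicit false
universe u

open CategoryTheory CategoryTheory.Limits AlgebraicGeometry TopologicalSpace Opposite
  HomogeneousLocalization

namespace Groth.Agent.Helper1.VA9

open Groth.Agent.Helper1.QcCech Groth.Agent.Helper1.SubSh Groth.Agent.Helper1.LGen
open Groth.Agent.Helper1 Groth.Agent.Helper1.AmpleLib
open Groth.Agent.Helper1.ProjUP5 Groth.Agent.Helper1.PullSec Groth.Agent.Helper1.PullGen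
open Groth.Agent.Helper1.ProjUP7 Groth.Agent.Helper1.VA1

set_option synthInstance.maxHeartbeats 400000

section Core

variable {X S : Scheme.{u}} (q : X ⟶ S) {G : X.Modules} (n : ℕ)
  (s : Fin (n + 1) → Γ(G, ⊤))
  {𝒜 : Type*} (j : 𝒜 → Fin (n + 1)) (S₀ : 𝒜 → S.Opens) (hS₀ : ∀ a, IsAffineOpen (S₀ a))
  (haff : ∀ a, IsAffineOpen (CohB1.genLocus G (TwistAmple.homOfSec G (s (j a)))))
  (hle : ∀ a, CohB1.genLocus G (TwistAmple.homOfSec G (s (j a))) ≤ q ⁻¹ᵁ S₀ a)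
  (hcovX : ∀ x : X, ∃ a, x ∈ CohB1.genLocus G (TwistAmple.homOfSec G (s (j a))))
  (hgen : ∀ (a : 𝒜) (U : X.Opens) (_ : U = CohB1.genLocus G (TwistAmple.homOfSec G (s (j a))))
    (hUS : U ≤ q ⁻¹ᵁ S₀ a) (T : Subring Γ(X, U)),
    (∀ y, (q.appLE (S₀ a) U hUS).hom y ∈ T) →
    (∀ (l : Fin (n + 1)) (ρ : Γ(X, U)),
      ρ • res G (le_top : U ≤ ⊤) (s (j a)) = res G (le_top : U ≤ ⊤) (s l) → ρ ∈ T) → T = ⊤)
  (r : X ⟶ CohB1.ProjSpace n (ULift.{u} ℤ))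
  (τ : (Scheme.Modules.pullback r).obj (Twist.twistProjSpace n (ULift.{u} ℤ) 1) ≅ G)
  (hτ : ∀ k, τ.hom.app ⊤ (pt (CohB1.polyGrading n (ULift.{u} ℤ)) (ProjUP8.tX n _)
    (ProjUP8.htX n _) r k) = s k)

include hS₀ haff hle hcovX hgen τ hτ in
/-- the chart criterion with the morphism to projective space exposed -/
theorem isImmersion_lift_of_charts :
    IsImmersion (pullback.lift r q (specULiftZIsTerminal.hom_ext _ _) :
      X ⟶ CohB1.ProjSpaceOver n S) := by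
  let 𝒮 := CohB1.polyGrading n (ULift.{u} ℤ)
  let pr₁ := pullback.fst (CohB1.ProjSpace.toSpec n (ULift.{u} ℤ)) (specULiftZIsTerminal.from S)
  let pr₂ := pullback.snd (CohB1.ProjSpace.toSpec n (ULift.{u} ℤ)) (specULiftZIsTerminal.from S)
  let i : X ⟶ CohB1.ProjSpaceOver n S := pullback.lift r q (specULiftZIsTerminal.hom_ext _ _)
  have hi1 : i ≫ pr₁ = r := pullback.lift_fst _ _ _
  have hi2 : i ≫ pr₂ = q := pullback.lift_snd _ _ _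
  have hpre : ∀ k, r ⁻¹ᵁ D 𝒮 (ProjUP8.tX n _) k =
      CohB1.genLocus G (TwistAmple.homOfSec G (s k)) :=
    preimage_D 𝒮 (ProjUP8.tX n _) (ProjUP8.htX n _) (ProjUP8.hcov n _) r τ s hτ
  change IsImmersion i
  let V : 𝒜 → (CohB1.ProjSpaceOver n S).Opens := fun a =>
    pr₁ ⁻¹ᵁ D 𝒮 (ProjUP8.tX n _) (j a) ⊓ pr₂ ⁻¹ᵁ S₀ a
  have hiV : ∀ a, i ⁻¹ᵁ V a = CohB1.genLocus G (TwistAmple.homOfSec G (s (j a))) := by
    intro a
    change i ⁻¹ᵁ (pr₁ ⁻¹ᵁ D 𝒮 (ProjUP8.tX n _) (j a)) ⊓ i ⁻¹ᵁ (pr₂ ⁻¹ᵁ S₀ a) = _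
    rw [← Scheme.Hom.comp_preimage, ← Scheme.Hom.comp_preimage, hi1, hi2, hpre]
    exact inf_eq_left.2 (hle a)
  apply isImmersion_of_charts i V
  · intro a
    exact isAffineOpen_chart _ _ _
      (Proj.isAffineOpen_basicOpen 𝒮 _ (ProjUP8.htX n _ (j a)) one_pos) _ (hS₀ a)
  · intro a
    rw [hiV]
    exact haff a
  · intro x
    obtain ⟨a, ha⟩ := hcovX x
    refine ⟨a, ?_⟩
    change x ∈ i ⁻¹ᵁ V a
    rw [hiV]
    exact ha
  · intro a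
    have hUS : i ⁻¹ᵁ V a ≤ q ⁻¹ᵁ S₀ a := by rw [hiV]; exact hle a
    have hUD : i ⁻¹ᵁ V a ≤ r ⁻¹ᵁ D 𝒮 (ProjUP8.tX n _) (j a) := by rw [hiV, hpre]
    have hT := hgen a (i ⁻¹ᵁ V a) (hiV a) hUS (RingHom.range (i.app (V a)).hom)
      (fun y => appLE_mem_range i pr₂ q hi2 (S₀ a) (V a) inf_le_right hUS y)
      (fun l ρ hρ => by
        rw [coeff_eq 𝒮 (ProjUP8.tX n _) (ProjUP8.htX n _) r τ s hτ (j a) l _ hUD ρ hρ]
        exact appLE_mem_range i pr₁ r hi1 _ (V a) inf_le_left hUD _)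
    exact RingHom.range_eq_top.1 hT

end Core

end Groth.Agent.Helper1.VA9
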