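import Mathlib
import Groth.Agent.Lib.Helper1.Segre
import Groth.Agent.Lib.Helper1.VA9

set_option autoImplicit false
universe u

open CategoryTheory CategoryTheory.Limits AlgebraicGeometry TopologicalSpace Opposite
  HomogeneousLocalization

namespace Groth.Agent.Helper1.Segre

open Groth.Agent.Helper1.QcCech Groth.Agent.Helper1.SubSh Groth.Agent.Helper1.LGen
open Groth.Agent.Helper1 Groth.Agent.Helper1.AmpleLib
open Groth.Agent.Helper1.ProjUP5 Groth.Agent.Helper1.PullSec Groth.Agent.Helper1.PullGen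
open Groth.Agent.Helper1.ProjUP7 Groth.Agent.Helper1.VA1 Groth.Agent.Helper1.TwForm
open Groth.Agent.Helper1.TmulLib Groth.Agent.Helper1.TensGen

set_option synthInstance.maxHeartbeats 400000

section Data
variable (n m : ℕ)

/-- **the Segre immersion over `ℤ`**, as a morphism to projective space, with the
isomorphism of `O(1)` and its effect on the coordinates exposed -/
theorem exists_segre_data :
    ∃ (r₀ : X₀ n m (ULift.{u} ℤ) ⟶ CohB1.ProjSpace (n * m + n + m) (ULift.{u} ℤ))
      (τ₀ : (Scheme.Modules.pullback r₀).obj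
        (Twist.twistProjSpace (n * m + n + m) (ULift.{u} ℤ) 1) ≅ G n m (ULift.{u} ℤ)),
      IsImmersion r₀ ∧
      ∀ i, τ₀.hom.app ⊤ (pt (CohB1.polyGrading (n * m + n + m) (ULift.{u} ℤ))
        (ProjUP8.tX (n * m + n + m) _) (ProjUP8.htX (n * m + n + m) _) r₀ i) =
        σ n m (ULift.{u} ℤ) (idx n m i).1 (idx n m i).2 := by
  let R := ULift.{u} ℤ
  let s : Fin (n * m + n + m + 1) → Γ(G n m R, ⊤) :=
    fun i => σ n m R (idx n m i).1 (idx n m i).2
  let j : Fin (n + 1) × Fin (m + 1) → Fin (n * m + n + m + 1) := (idx n m).symm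
  have hsj : ∀ a : Fin (n + 1) × Fin (m + 1), s (j a) = σ n m R a.1 a.2 := by
    intro a
    change σ n m R (idx n m ((idx n m).symm a)).1 (idx n m ((idx n m).symm a)).2 = _
    rw [Equiv.apply_symm_apply]
  have hloc : ∀ a : Fin (n + 1) × Fin (m + 1),
      CohB1.genLocus (G n m R) (TwistAmple.homOfSec (G n m R) (s (j a))) =
        (pa n m R) ⁻¹ᵁ Da n R a.1 ⊓ (pb n m R) ⁻¹ᵁ Db m R a.2 := by
    intro a
    rw [hsj, genLocus_σ]
  have hcovX : ∀ x : X₀ n m R, ∃ a, x ∈ CohB1.genLocus (G n m R)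
      (TwistAmple.homOfSec (G n m R) (s (j a))) := by
    intro x
    obtain ⟨k, hk⟩ := ProjUP8.hcov n R (pa n m R x)
    obtain ⟨l, hl⟩ := ProjUP8.hcov m R (pb n m R x)
    refine ⟨(k, l), ?_⟩
    rw [hloc]
    exact ⟨hk, hl⟩
  have hs : ProjUP.GeneratedBy (G n m R) s := by
    apply generatedBy_of_cover
    intro x
    obtain ⟨a, ha⟩ := hcovX x
    exact ⟨j a, ha⟩
  obtain ⟨r, hr, τ, hτ⟩ := Groth.Agent.S3572.result (R := ULift.{u} ℤ) (n * m + n + m)
    (specULiftZIsTerminal.from (X₀ n m R)) (G n m R) (isInvertible_G n m R) s hs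
  have himm := VA9.isImmersion_lift_of_charts (q₀ n m R) (n * m + n + m) s j
    (fun _ => ⊤) (fun _ => isAffineOpen_top _)
    (by
      intro a
      rw [hloc]
      exact isAffineOpen_chart _ _ _
        (Proj.isAffineOpen_basicOpen _ _ (ProjUP8.htX n R a.1) one_pos) _
        (Proj.isAffineOpen_basicOpen _ _ (ProjUP8.htX m R a.2) one_pos))
    (fun a => le_top) hcovX
    (by
      intro a U hU hUS T hT1 hT2
      apply hgen_chart n m R a.1 a.2 U (hU.trans (hloc a)) T hT1
      intro k' l' ρ hρ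
      apply hT2 (j (k', l')) ρ
      rw [hsj, hsj]
      exact hρ) r τ hτ
  refine ⟨r, τ, ?_, hτ⟩
  have hfst : (pullback.lift r (q₀ n m R) (specULiftZIsTerminal.hom_ext _ _) :
      X₀ n m R ⟶ CohB1.ProjSpaceOver (n * m + n + m) (Spec (CommRingCat.of R))) ≫
      pullback.fst (CohB1.ProjSpace.toSpec (n * m + n + m) (ULift.{u} ℤ))
        (specULiftZIsTerminal.from (Spec (CommRingCat.of R))) = r := pullback.lift_fst _ _ _
  have hiso : IsIso (specULiftZIsTerminal.from (Spec (CommRingCat.of R))) := by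
    have : specULiftZIsTerminal.from (Spec (CommRingCat.of R)) = 𝟙 _ :=
      specULiftZIsTerminal.hom_ext _ _
    rw [this]
    infer_instance
  have : IsIso (pullback.fst (CohB1.ProjSpace.toSpec (n * m + n + m) (ULift.{u} ℤ))
        (specULiftZIsTerminal.from (Spec (CommRingCat.of R)))) := inferInstance
  rw [← hfst]
  infer_instance

end Data

end Groth.Agent.Helper1.Segre
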