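import Mathlib
import Groth.Agent.Lib.Helper1.Segre3
import Groth.Agent.Lib.Helper1.ProjUP11

set_option autoImplicit false
universe u

open CategoryTheory CategoryTheory.Limits AlgebraicGeometry TopologicalSpace Opposite
  HomogeneousLocalization

namespace Groth.Agent.Helper1.Segre

open Groth.Agent.Helper1.QcCech Groth.Agent.Helper1.SubSh Groth.Agent.Helper1.LGen
open Groth.Agent.Helper1 Groth.Agent.Helper1.AmpleLib
open Groth.Agent.Helper1.ProjUP5 Groth.Agent.Helper1.PullSec Groth.Agent.Helper1.PullGen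
open Groth.Agent.Helper1.ProjUP7 Groth.Agent.Helper1.VA1 Groth.Agent.Helper1.TwForm
open Groth.Agent.Helper1.TmulLib Groth.Agent.Helper1.TensGen

set_option synthInstance.maxHeartbeats 400000

section Factor
variable {X : Scheme.{u}} (n m : ℕ)
variable {L L' : X.Modules} (hL : PicF.IsInvertible L) (hL' : PicF.IsInvertible L')
  (a : X ⟶ CohB1.ProjSpace n (ULift.{u} ℤ))
  (τa : (Scheme.Modules.pullback a).obj (Twist.twistProjSpace n (ULift.{u} ℤ) 1) ≅ L)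
  (sa' : Fin (n + 1) → Γ(L, ⊤))
  (hτa : ∀ k, τa.hom.app ⊤ (pt (CohB1.polyGrading n (ULift.{u} ℤ)) (ProjUP8.tX n _) (ProjUP8.htX n _) a k) =
    sa' k)
  (b : X ⟶ CohB1.ProjSpace m (ULift.{u} ℤ))
  (τb : (Scheme.Modules.pullback b).obj (Twist.twistProjSpace m (ULift.{u} ℤ) 1) ≅ L')
  (sb' : Fin (m + 1) → Γ(L', ⊤))
  (hτb : ∀ l, τb.hom.app ⊤ (pt (CohB1.polyGrading m (ULift.{u} ℤ)) (ProjUP8.tX m _) (ProjUP8.htX m _) b l) =
    sb' l)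

/-- the Segre sections on `X` -/
noncomputable def σX (i : Fin (n * m + n + m + 1)) : Γ(CohB1.tensorMod L L', ⊤) :=
  tm L L' ⊤ (sa' (idx n m i).1) (sb' (idx n m i).2)

include hL hL' hτa hτb in
theorem genLocus_σX (i : Fin (n * m + n + m + 1)) :
    CohB1.genLocus (CohB1.tensorMod L L')
      (TwistAmple.homOfSec _ (σX n m sa' sb' i)) =
      a ⁻¹ᵁ Da n (ULift.{u} ℤ) (idx n m i).1 ⊓ b ⁻¹ᵁ Db m (ULift.{u} ℤ) (idx n m i).2 := by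
  have h := VA2.genLocus_homOfSec_tm hL hL' (sa' (idx n m i).1)
    (TwistAmple.homOfSec L' (sb' (idx n m i).2))
  rw [secVal_homOfSec, QcCech.res_self] at h
  rw [σX, h]
  have h1 := preimage_D (CohB1.polyGrading n (ULift.{u} ℤ)) (ProjUP8.tX n (ULift.{u} ℤ)) (ProjUP8.htX n (ULift.{u} ℤ))
    (ProjUP8.hcov n (ULift.{u} ℤ)) a τa sa' hτa (idx n m i).1
  have h2 := preimage_D (CohB1.polyGrading m (ULift.{u} ℤ)) (ProjUP8.tX m (ULift.{u} ℤ)) (ProjUP8.htX m (ULift.{u} ℤ))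
    (ProjUP8.hcov m (ULift.{u} ℤ)) b τb sb' hτb (idx n m i).2
  exact (congrArg₂ (· ⊓ ·) h1 h2).symm

include hL hL' hτa hτb in
theorem generatedBy_σX : ProjUP.GeneratedBy (CohB1.tensorMod L L') (σX n m sa' sb') := by
  apply generatedBy_of_cover
  intro x
  obtain ⟨k, hk⟩ := ProjUP8.hcov n (ULift.{u} ℤ) (a x)
  obtain ⟨l, hl⟩ := ProjUP8.hcov m (ULift.{u} ℤ) (b x)
  refine ⟨(idx n m).symm (k, l), ?_⟩
  rw [genLocus_σX n m hL hL' a τa sa' hτa b τb sb' hτb]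
  rw [Equiv.apply_symm_apply]
  exact ⟨hk, hl⟩

include hτa hτb in
/-- the ratios of the Segre sections on `X` -/
theorem res_σX (i i' : Fin (n * m + n + m + 1)) (U : X.Opens)
    (hUa : U ≤ a ⁻¹ᵁ Da n (ULift.{u} ℤ) (idx n m i).1) (hUb : U ≤ b ⁻¹ᵁ Db m (ULift.{u} ℤ) (idx n m i).2) :
    ((a.appLE (Da n (ULift.{u} ℤ) (idx n m i).1) U hUa).hom
        (c (CohB1.polyGrading n (ULift.{u} ℤ)) (ProjUP8.tX n (ULift.{u} ℤ)) (ProjUP8.htX n (ULift.{u} ℤ)) (idx n m i).1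
          (idx n m i').1) *
      (b.appLE (Db m (ULift.{u} ℤ) (idx n m i).2) U hUb).hom
        (c (CohB1.polyGrading m (ULift.{u} ℤ)) (ProjUP8.tX m (ULift.{u} ℤ)) (ProjUP8.htX m (ULift.{u} ℤ)) (idx n m i).2
          (idx n m i').2)) •
      res (CohB1.tensorMod L L') (le_top : U ≤ ⊤) (σX n m sa' sb' i) =
    res (CohB1.tensorMod L L') (le_top : U ≤ ⊤) (σX n m sa' sb' i') := by
  have h1 := res_s_le (CohB1.polyGrading n (ULift.{u} ℤ)) (ProjUP8.tX n (ULift.{u} ℤ)) (ProjUP8.htX n (ULift.{u} ℤ)) a τa sa' hτa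
    (idx n m i).1 (idx n m i').1 U hUa
  have h2 := res_s_le (CohB1.polyGrading m (ULift.{u} ℤ)) (ProjUP8.tX m (ULift.{u} ℤ)) (ProjUP8.htX m (ULift.{u} ℤ)) b τb sb' hτb
    (idx n m i).2 (idx n m i').2 U hUb
  rw [σX, σX, res_tm, res_tm, h1, h2, tm_smul_left, tm_smul_right, mul_smul]
  rfl

include hL hL' hτa hτb in
/-- the morphism defined by the Segre sections on `X` factors through the Segre immersion -/
theorem eq_comp_segre (φ : X ⟶ CohB1.ProjSpace (n * m + n + m) (ULift.{u} ℤ))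
    (τφ : (Scheme.Modules.pullback φ).obj (Twist.twistProjSpace (n * m + n + m) (ULift.{u} ℤ) 1) ≅
      CohB1.tensorMod L L')
    (hτφ : ∀ i, τφ.hom.app ⊤ (pt (CohB1.polyGrading (n * m + n + m) (ULift.{u} ℤ))
        (ProjUP8.tX (n * m + n + m) _) (ProjUP8.htX (n * m + n + m) _) φ i) = σX n m sa' sb' i)
    (r₀ : X₀ n m (ULift.{u} ℤ) ⟶ CohB1.ProjSpace (n * m + n + m) (ULift.{u} ℤ))
    (τ₀ : (Scheme.Modules.pullback r₀).obj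
        (Twist.twistProjSpace (n * m + n + m) (ULift.{u} ℤ) 1) ≅ G n m (ULift.{u} ℤ))
    (hτ₀ : ∀ i, τ₀.hom.app ⊤ (pt (CohB1.polyGrading (n * m + n + m) (ULift.{u} ℤ))
        (ProjUP8.tX (n * m + n + m) _) (ProjUP8.htX (n * m + n + m) _) r₀ i) =
        σ n m (ULift.{u} ℤ) (idx n m i).1 (idx n m i).2) :
    φ = (pullback.lift a b (specULiftZIsTerminal.hom_ext _ _) : X ⟶ X₀ n m (ULift.{u} ℤ)) ≫ r₀ := by
  set cc : X ⟶ X₀ n m (ULift.{u} ℤ) := pullback.lift a b (specULiftZIsTerminal.hom_ext _ _) with hcc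
  have hca : cc ≫ pa n m (ULift.{u} ℤ) = a := pullback.lift_fst _ _ _
  have hcb : cc ≫ pb n m (ULift.{u} ℤ) = b := pullback.lift_snd _ _ _
  let 𝒮N := CohB1.polyGrading (n * m + n + m) (ULift.{u} ℤ)
  have hpreφ : ∀ i, φ ⁻¹ᵁ D 𝒮N (ProjUP8.tX (n * m + n + m) _) i =
      a ⁻¹ᵁ Da n (ULift.{u} ℤ) (idx n m i).1 ⊓ b ⁻¹ᵁ Db m (ULift.{u} ℤ) (idx n m i).2 := by
    intro i
    exact (preimage_D 𝒮N (ProjUP8.tX _ _) (ProjUP8.htX _ _) (ProjUP8.hcov _ _) φ τφ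
      (σX n m sa' sb') hτφ i).trans (genLocus_σX n m hL hL' a τa sa' hτa b τb sb' hτb i)
  have hpre₀ : ∀ i, r₀ ⁻¹ᵁ D 𝒮N (ProjUP8.tX (n * m + n + m) _) i =
      (pa n m (ULift.{u} ℤ)) ⁻¹ᵁ Da n (ULift.{u} ℤ) (idx n m i).1 ⊓
        (pb n m (ULift.{u} ℤ)) ⁻¹ᵁ Db m (ULift.{u} ℤ) (idx n m i).2 := by
    intro i
    exact (preimage_D 𝒮N (ProjUP8.tX _ _) (ProjUP8.htX _ _) (ProjUP8.hcov _ _) r₀ τ₀
      (fun i => σ n m (ULift.{u} ℤ) (idx n m i).1 (idx n m i).2) hτ₀ i).trans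
      (genLocus_σ n m (ULift.{u} ℤ) (idx n m i).1 (idx n m i).2)
  have hpreψ : ∀ i, (cc ≫ r₀) ⁻¹ᵁ D 𝒮N (ProjUP8.tX (n * m + n + m) _) i =
      a ⁻¹ᵁ Da n (ULift.{u} ℤ) (idx n m i).1 ⊓ b ⁻¹ᵁ Db m (ULift.{u} ℤ) (idx n m i).2 := by
    intro i
    rw [Scheme.Hom.comp_preimage, hpre₀]
    rw [Scheme.Hom.preimage_inf, ← Scheme.Hom.comp_preimage, ← Scheme.Hom.comp_preimage, hca, hcb]
  apply ProjUP11.hom_ext_projSpace (n * m + n + m) (ULift.{u} ℤ) φ (cc ≫ r₀)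
    (specULiftZIsTerminal.hom_ext _ _) (fun i => (hpreφ i).trans (hpreψ i).symm)
  intro i i'
  set V : X.Opens := φ ⁻¹ᵁ D 𝒮N (ProjUP8.tX (n * m + n + m) _) i with hV
  have hVa : V ≤ a ⁻¹ᵁ Da n (ULift.{u} ℤ) (idx n m i).1 := (hpreφ i).le.trans inf_le_left
  have hVb : V ≤ b ⁻¹ᵁ Db m (ULift.{u} ℤ) (idx n m i).2 := (hpreφ i).le.trans inf_le_right
  have hLHS := coeff_eq 𝒮N (ProjUP8.tX _ _) (ProjUP8.htX _ _) φ τφ (σX n m sa' sb') hτφ i i' V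
    le_rfl _ (res_σX n m a τa sa' hτa b τb sb' hτb i i' V hVa hVb)
  refine hLHS.symm.trans ?_
  have hU₀a : r₀ ⁻¹ᵁ D 𝒮N (ProjUP8.tX (n * m + n + m) _) i ≤
      (pa n m (ULift.{u} ℤ)) ⁻¹ᵁ Da n (ULift.{u} ℤ) (idx n m i).1 := (hpre₀ i).le.trans inf_le_left
  have hU₀b : r₀ ⁻¹ᵁ D 𝒮N (ProjUP8.tX (n * m + n + m) _) i ≤
      (pb n m (ULift.{u} ℤ)) ⁻¹ᵁ Db m (ULift.{u} ℤ) (idx n m i).2 := (hpre₀ i).le.trans inf_le_right
  have hρ₀ : (((pa n m (ULift.{u} ℤ)).appLE (Da n (ULift.{u} ℤ) (idx n m i).1) _ hU₀a).hom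
        (c (CohB1.polyGrading n (ULift.{u} ℤ)) (ProjUP8.tX n _) (ProjUP8.htX n _) (idx n m i).1
          (idx n m i').1) *
      ((pb n m (ULift.{u} ℤ)).appLE (Db m (ULift.{u} ℤ) (idx n m i).2) _ hU₀b).hom
        (c (CohB1.polyGrading m (ULift.{u} ℤ)) (ProjUP8.tX m _) (ProjUP8.htX m _) (idx n m i).2
          (idx n m i').2)) •
      res (G n m (ULift.{u} ℤ)) (le_top : r₀ ⁻¹ᵁ D 𝒮N (ProjUP8.tX (n * m + n + m) _) i ≤ ⊤)
        (σ n m (ULift.{u} ℤ) (idx n m i).1 (idx n m i).2) =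
      res (G n m (ULift.{u} ℤ)) (le_top : r₀ ⁻¹ᵁ D 𝒮N (ProjUP8.tX (n * m + n + m) _) i ≤ ⊤)
        (σ n m (ULift.{u} ℤ) (idx n m i').1 (idx n m i').2) := by
    rw [res_σ_left n m (ULift.{u} ℤ) (idx n m i).1 (idx n m i').1 (idx n m i').2 _ hU₀a,
      res_σ_right n m (ULift.{u} ℤ) (idx n m i).1 (idx n m i).2 (idx n m i').2 _ hU₀b, mul_smul]
  have h4 := coeff_eq 𝒮N (ProjUP8.tX _ _) (ProjUP8.htX _ _) r₀ τ₀
    (fun i => σ n m (ULift.{u} ℤ) (idx n m i).1 (idx n m i).2) hτ₀ i i' _ le_rfl _ hρ₀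
  have hV₀ : V ≤ cc ⁻¹ᵁ (r₀ ⁻¹ᵁ D 𝒮N (ProjUP8.tX (n * m + n + m) _) i) := by
    rw [← Scheme.Hom.comp_preimage, hpreψ, ← hpreφ]
  have h3 := Scheme.Hom.appLE_comp_appLE cc r₀ (D 𝒮N (ProjUP8.tX (n * m + n + m) _) i)
    (r₀ ⁻¹ᵁ D 𝒮N (ProjUP8.tX (n * m + n + m) _) i) V le_rfl hV₀
  have h5 := congrArg (fun ψ => ψ.hom (c 𝒮N (ProjUP8.tX _ _) (ProjUP8.htX _ _) i i')) h3
  simp only [CommRingCat.hom_comp, RingHom.comp_apply] at h5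
  refine Eq.trans ?_ h5
  have h4' := congrArg (cc.appLE (r₀ ⁻¹ᵁ D 𝒮N (ProjUP8.tX (n * m + n + m) _) i) V hV₀).hom h4
  refine Eq.trans ?_ h4'
  rw [map_mul]
  have h6 := Scheme.Hom.appLE_comp_appLE cc (pa n m (ULift.{u} ℤ)) (Da n (ULift.{u} ℤ) (idx n m i).1)
    (r₀ ⁻¹ᵁ D 𝒮N (ProjUP8.tX (n * m + n + m) _) i) V hU₀a hV₀
  have h7 := Scheme.Hom.appLE_comp_appLE cc (pb n m (ULift.{u} ℤ)) (Db m (ULift.{u} ℤ) (idx n m i).2)
    (r₀ ⁻¹ᵁ D 𝒮N (ProjUP8.tX (n * m + n + m) _) i) V hU₀b hV₀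
  have h6' := congrArg (fun ψ => ψ.hom (c (CohB1.polyGrading n (ULift.{u} ℤ)) (ProjUP8.tX n _)
    (ProjUP8.htX n _) (idx n m i).1 (idx n m i').1)) h6
  have h7' := congrArg (fun ψ => ψ.hom (c (CohB1.polyGrading m (ULift.{u} ℤ)) (ProjUP8.tX m _)
    (ProjUP8.htX m _) (idx n m i).2 (idx n m i').2)) h7
  simp only [CommRingCat.hom_comp, RingHom.comp_apply] at h6' h7'
  rw [h6', h7']
  congr 1
  · rw [PBaff.appLE_congr_hom hca]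
  · rw [PBaff.appLE_congr_hom hcb]

end Factor

end Groth.Agent.Helper1.Segre
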