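import Mathlib
import Groth.Agent.Lib.Helper1.Segre4

set_option autoImplicit false
universe u

open CategoryTheory CategoryTheory.Limits AlgebraicGeometry TopologicalSpace Opposite
  HomogeneousLocalization

namespace Groth.Agent.Helper1.Segre

open Groth.Agent.Helper1.QcCech Groth.Agent.Helper1.SubSh Groth.Agent.Helper1.LGen
open Groth.Agent.Helper1 Groth.Agent.Helper1.AmpleLib
open Groth.Agent.Helper1.ProjUP5 Groth.Agent.Helper1.PullSec Groth.Agent.Helper1.PullGen
open Groth.Agent.Helper1.ProjUP7 Groth.Agent.Helper1.VA1 Groth.Agent.Helper1.TwForm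
open Groth.Agent.Helper1.TmulLib Groth.Agent.Helper1.TensGen

set_option synthInstance.maxHeartbeats 400000

/-- adding a zero section keeps a generating family generating -/
theorem generatedBy_snoc {X : Scheme.{u}} (L' : X.Modules) {m : ℕ} (s : Fin m → ProjUP.Γm L')
    (hs : ProjUP.GeneratedBy L' s) :
    ProjUP.GeneratedBy L' (fun j : Fin (m + 1) => if h : (j : ℕ) < m then s ⟨j, h⟩ else 0) := by
  intro x
  rw [eq_top_iff, ← hs x]
  apply Submodule.span_mono
  rintro _ ⟨j, rfl⟩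
  refine ⟨Fin.castSucc j, ?_⟩
  have : ((Fin.castSucc j : Fin (m + 1)) : ℕ) < m := j.2
  simp only [Fin.val_castSucc, j.2, dif_pos]

/-- **S10965** -/
theorem main10965 {X S : Scheme.{u}} (q : X ⟶ S)
    (L L' : X.Modules) (hL : PicF.IsInvertible L) (hva : RelAmple.IsRelVeryAmplePn q L)
    (hL' : PicF.IsInvertible L') {m : ℕ} (s : Fin m → ProjUP.Γm L')
    (hs : ProjUP.GeneratedBy L' s) :
    RelAmple.IsRelVeryAmplePn q (CohB1.tensorMod L L') := by
  obtain ⟨n, i, hi, hiq, ⟨eL⟩⟩ := hva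
  let pr₁ := pullback.fst (CohB1.ProjSpace.toSpec n (ULift.{u} ℤ)) (specULiftZIsTerminal.from S)
  let a : X ⟶ CohB1.ProjSpace n (ULift.{u} ℤ) := i ≫ pr₁
  let τa : (Scheme.Modules.pullback a).obj (Twist.twistProjSpace n (ULift.{u} ℤ) 1) ≅ L :=
    ((Scheme.Modules.pullbackComp i pr₁).app _).symm ≪≫ eL.symm
  let sa' : Fin (n + 1) → Γ(L, ⊤) := fun k => τa.hom.app ⊤
    (pt (CohB1.polyGrading n (ULift.{u} ℤ)) (ProjUP8.tX n _) (ProjUP8.htX n _) a k)
  have hτa : ∀ k, τa.hom.app ⊤ (pt (CohB1.polyGrading n (ULift.{u} ℤ)) (ProjUP8.tX n _)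
      (ProjUP8.htX n _) a k) = sa' k := fun _ => rfl
  let s' : Fin (m + 1) → Γ(L', ⊤) := fun j => if h : (j : ℕ) < m then s ⟨j, h⟩ else 0
  have hs' : ProjUP.GeneratedBy L' s' := generatedBy_snoc L' s hs
  obtain ⟨b, -, τb, hτb⟩ := Groth.Agent.S3572.result (R := ULift.{u} ℤ) m
    (specULiftZIsTerminal.from X) L' hL' s' hs'
  have hG' : PicF.IsInvertible (CohB1.tensorMod L L') := isInvertible_tensorMod hL hL'
  obtain ⟨φ, -, τφ, hτφ⟩ := Groth.Agent.S3572.result (R := ULift.{u} ℤ) (n * m + n + m)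
    (specULiftZIsTerminal.from X) (CohB1.tensorMod L L') hG' (σX n m sa' s')
    (generatedBy_σX n m hL hL' a τa sa' hτa b τb s' hτb)
  obtain ⟨r₀, τ₀, himm₀, hτ₀⟩ := exists_segre_data.{u} n m
  have hφ := eq_comp_segre n m hL hL' a τa sa' hτa b τb s' hτb φ τφ hτφ r₀ τ₀ hτ₀
  set cc : X ⟶ X₀ n m (ULift.{u} ℤ) := pullback.lift a b (specULiftZIsTerminal.hom_ext _ _) with hcc
  let pr₁N := pullback.fst (CohB1.ProjSpace.toSpec (n * m + n + m) (ULift.{u} ℤ))
    (specULiftZIsTerminal.from S)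
  let iN : X ⟶ CohB1.ProjSpaceOver (n * m + n + m) S :=
    pullback.lift φ q (specULiftZIsTerminal.hom_ext _ _)
  have hi1 : iN ≫ pr₁N = φ := pullback.lift_fst _ _ _
  have hi2 : iN ≫ pullback.snd (CohB1.ProjSpace.toSpec (n * m + n + m) (ULift.{u} ℤ))
    (specULiftZIsTerminal.from S) = q := pullback.lift_snd _ _ _
  refine ⟨n * m + n + m, iN, ?_, hi2, ⟨?_⟩⟩
  · -- immersion
    let g : X ⟶ pullback r₀ pr₁N := pullback.lift cc iN (hφ.symm.trans hi1.symm)
    have hg1 : g ≫ pullback.fst r₀ pr₁N = cc := pullback.lift_fst _ _ _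
    have hg2 : g ≫ pullback.snd r₀ pr₁N = iN := pullback.lift_snd _ _ _
    let ρ : pullback r₀ pr₁N ⟶ CohB1.ProjSpaceOver n S :=
      pullback.lift (pullback.fst r₀ pr₁N ≫ pa n m (ULift.{u} ℤ))
        (pullback.snd r₀ pr₁N ≫ pullback.snd (CohB1.ProjSpace.toSpec (n * m + n + m) (ULift.{u} ℤ))
          (specULiftZIsTerminal.from S)) (specULiftZIsTerminal.hom_ext _ _)
    have hgρ : g ≫ ρ = i := by
      apply pullback.hom_ext
      · have e1 : ρ ≫ pullback.fst (CohB1.ProjSpace.toSpec n (ULift.{u} ℤ))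
            (specULiftZIsTerminal.from S) = pullback.fst r₀ pr₁N ≫ pa n m (ULift.{u} ℤ) :=
          pullback.lift_fst _ _ _
        have e2 : cc ≫ pa n m (ULift.{u} ℤ) = a := pullback.lift_fst _ _ _
        calc (g ≫ ρ) ≫ pullback.fst (CohB1.ProjSpace.toSpec n (ULift.{u} ℤ))
              (specULiftZIsTerminal.from S)
            = g ≫ (ρ ≫ pullback.fst (CohB1.ProjSpace.toSpec n (ULift.{u} ℤ))
              (specULiftZIsTerminal.from S)) := Category.assoc _ _ _
          _ = g ≫ (pullback.fst r₀ pr₁N ≫ pa n m (ULift.{u} ℤ)) := by rw [e1]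
          _ = (g ≫ pullback.fst r₀ pr₁N) ≫ pa n m (ULift.{u} ℤ) := (Category.assoc _ _ _).symm
          _ = cc ≫ pa n m (ULift.{u} ℤ) := by rw [hg1]
          _ = i ≫ pullback.fst (CohB1.ProjSpace.toSpec n (ULift.{u} ℤ))
              (specULiftZIsTerminal.from S) := e2
      · have e1 : ρ ≫ pullback.snd (CohB1.ProjSpace.toSpec n (ULift.{u} ℤ))
            (specULiftZIsTerminal.from S) = pullback.snd r₀ pr₁N ≫
              pullback.snd (CohB1.ProjSpace.toSpec (n * m + n + m) (ULift.{u} ℤ))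
                (specULiftZIsTerminal.from S) :=
          pullback.lift_snd _ _ _
        calc (g ≫ ρ) ≫ pullback.snd (CohB1.ProjSpace.toSpec n (ULift.{u} ℤ))
              (specULiftZIsTerminal.from S)
            = g ≫ (ρ ≫ pullback.snd (CohB1.ProjSpace.toSpec n (ULift.{u} ℤ))
              (specULiftZIsTerminal.from S)) := Category.assoc _ _ _
          _ = g ≫ (pullback.snd r₀ pr₁N ≫
              pullback.snd (CohB1.ProjSpace.toSpec (n * m + n + m) (ULift.{u} ℤ))
                (specULiftZIsTerminal.from S)) := by rw [e1]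
          _ = (g ≫ pullback.snd r₀ pr₁N) ≫
              pullback.snd (CohB1.ProjSpace.toSpec (n * m + n + m) (ULift.{u} ℤ))
                (specULiftZIsTerminal.from S) := (Category.assoc _ _ _).symm
          _ = q := by rw [hg2]; exact hi2
          _ = i ≫ pullback.snd (CohB1.ProjSpace.toSpec n (ULift.{u} ℤ))
              (specULiftZIsTerminal.from S) := hiq.symm
    have h1 : IsImmersion (g ≫ ρ) := by rw [hgρ]; exact hi
    have h2 : IsImmersion g := IsImmersion.of_comp g ρ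
    have h3 : IsImmersion (pullback.snd r₀ pr₁N) := inferInstance
    rw [← hg2]
    exact MorphismProperty.comp_mem @IsImmersion g (pullback.snd r₀ pr₁N) h2 h3
  · exact τφ.symm ≪≫ (Scheme.Modules.pullbackCongr hi1.symm).app _ ≪≫
      ((Scheme.Modules.pullbackComp iN pr₁N).app _).symm

end Groth.Agent.Helper1.Segre
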