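import Mathlib
import Groth.Agent.Lib.Helper1.SemiF1

/-!
# Generically trivial invertible modules of non-positive degree on the components of a reduced
connected closed fibre are trivial (helper1)
-/

set_option autoImplicit false
set_option backward.isDefEq.respectTransparency.types false
universe u
open CategoryTheory CategoryTheory.Limits AlgebraicGeometry TopologicalSpace Opposite IsLocalRing
open Groth.Agent.Helper1

namespace Groth.Agent.Helper1.SemiF

open Groth.Agent.Helper1.QcCech Groth.Agent.Helper1.SubSh Groth.Agent.Helper1.LGen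
open Groth.Agent.Helper1.SpFib Groth.Agent.Helper1.PicV

section Main

variable (R : Type u) [CommRing R] [IsDomain R] [IsDiscreteValuationRing R]
  (X : Over (Spec (CommRingCat.of R))) [IsProper X.hom]
  [IsNoetherian (X.hom.fiber (closedPoint R))]
  (ε : Spec ((Spec (CommRingCat.of R)).residueField (closedPoint R)) ≅
    Spec (CommRingCat.of (IsLocalRing.ResidueField R)))
  (hε : ε.hom ≫ Spec.map (CommRingCat.ofHom (IsLocalRing.residue R)) =
    (Spec (CommRingCat.of R)).fromSpecResidueField (closedPoint R))
  (C : Set (X.hom.fiber (closedPoint R)))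
  (hC : C ∈ irreducibleComponents (X.hom.fiber (closedPoint R) : Type u))
  (hd : topologicalKrullDim C = 1)

/-- the vertical prime divisor attached to an irreducible component of the closed fibre -/
noncomputable def vertOf : ArSurf.VertComp R X where
  curve := Over.mk (((X.hom.fiber (closedPoint R)).irreducibleComponentIdeal C hC).radical.subschemeι ≫
    X.hom.fiberToSpecResidueField (closedPoint R) ≫ ε.hom)
  ι := ((X.hom.fiber (closedPoint R)).irreducibleComponentIdeal C hC).radical.subschemeι ≫
    X.hom.fiberι (closedPoint R)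
  isClosedImmersion := by
    haveI := isClosedImmersion_fiberι R X
    infer_instance
  isIntegral := by
    haveI : IrreducibleSpace
        ((X.hom.fiber (closedPoint R)).irreducibleComponentIdeal C hC).radical.subscheme :=
      Subtype.irreducibleSpace hC.1
    haveI : IsReduced
        ((X.hom.fiber (closedPoint R)).irreducibleComponentIdeal C hC).radical.subscheme :=
      RedCurve.isReduced_radical_subscheme _
    exact isIntegral_of_irreducibleSpace_of_isReduced
      ((X.hom.fiber (closedPoint R)).irreducibleComponentIdeal C hC).radical.subscheme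
  dim_eq := hd
  w := by
    change (((X.hom.fiber (closedPoint R)).irreducibleComponentIdeal C hC).radical.subschemeι ≫
      X.hom.fiberι (closedPoint R)) ≫ X.hom =
      (((X.hom.fiber (closedPoint R)).irreducibleComponentIdeal C hC).radical.subschemeι ≫
        X.hom.fiberToSpecResidueField (closedPoint R) ≫ ε.hom) ≫
          Spec.map (CommRingCat.ofHom (IsLocalRing.residue R))
    rw [Category.assoc, Category.assoc, Category.assoc, hε, Scheme.Hom.fiber_fac]

/-- the intersection number with such a component as a degree on the closed fibre -/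
theorem inter_vertOf (M : X.left.Modules) :
    ArSurf.inter R X M (vertOf R X ε hε C hC hd) =
      @Curv2.deg (IsLocalRing.ResidueField R) _
        ((X.hom.fiber (closedPoint R)).irreducibleComponentIdeal C hC).radical.subscheme
        ⟨((X.hom.fiber (closedPoint R)).irreducibleComponentIdeal C hC).radical.subschemeι ≫
          X.hom.fiberToSpecResidueField (closedPoint R) ≫ ε.hom⟩
        ((Scheme.Modules.pullback
          ((X.hom.fiber (closedPoint R)).irreducibleComponentIdeal C hC).radical.subschemeι).obj
          ((Scheme.Modules.pullback (X.hom.fiberι (closedPoint R))).obj M)) 1 := by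
  have hp : IsProper X.hom := inferInstance
  haveI : IsProper ((vertOf R X ε hε C hC hd).curve.left ↘
      Spec (CommRingCat.of (IsLocalRing.ResidueField R))) :=
    ArInt.isProper_curve R X hp (vertOf R X ε hε C hC hd)
  have h1 : ArSurf.inter R X M (vertOf R X ε hε C hC hd) =
      Curv2.deg (IsLocalRing.ResidueField R) (vertOf R X ε hε C hC hd).curve.left
        ((Scheme.Modules.pullback (vertOf R X ε hε C hC hd).ι).obj M) 1 :=
    ArInt.curveDeg_eq_deg (IsLocalRing.ResidueField R) (vertOf R X ε hε C hC hd).dim_eq _
  rw [h1]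
  have e : (Scheme.Modules.pullback
      ((X.hom.fiber (closedPoint R)).irreducibleComponentIdeal C hC).radical.subschemeι).obj
        ((Scheme.Modules.pullback (X.hom.fiberι (closedPoint R))).obj M) ≅
      (Scheme.Modules.pullback (vertOf R X ε hε C hC hd).ι).obj M :=
    (Scheme.Modules.pullbackComp
      ((X.hom.fiber (closedPoint R)).irreducibleComponentIdeal C hC).radical.subschemeι
      (X.hom.fiberι (closedPoint R))).app M
  have h2 := Euler.euler_iso (IsLocalRing.ResidueField R)
    (vertOf R X ε hε C hC hd).curve.left e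
  unfold Curv2.deg
  exact congrArg (fun t : ℤ => t - ((1 : ℕ) : ℤ) *
    Curv2.euler (IsLocalRing.ResidueField R) (vertOf R X ε hε C hC hd).curve.left
      (Coh.structureModule (vertOf R X ε hε C hC hd).curve.left)) h2.symm

end Main

section Thm

variable (R : Type u) [CommRing R] [IsDomain R] [IsDiscreteValuationRing R]
  (X : Over (Spec (CommRingCat.of R))) [IsProper X.hom] [Flat X.hom]

/-- **generically trivial + non-positive degree on every vertical prime divisor ⇒ trivial**, on a
proper flat scheme over a discrete valuation ring whose closed fibre is reduced, connected and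
purely one-dimensional -/
theorem trivial_of_inter_le
    [IsReduced (X.hom.fiber (closedPoint R))] [ConnectedSpace (X.hom.fiber (closedPoint R))]
    (hdim : ∀ C ∈ irreducibleComponents (X.hom.fiber (closedPoint R) : Type u),
      topologicalKrullDim C = 1)
    {C₀ : Scheme.{u}} (fC : C₀ ⟶ Spec (CommRingCat.of (FractionRing R))) (g : C₀ ⟶ X.left)
    (hg : IsPullback g fC X.hom
      (Spec.map (CommRingCat.ofHom (algebraMap R (FractionRing R)))))
    (M : X.left.Modules) (hM : PicF.IsInvertible M)
    (htriv : Nonempty ((Scheme.Modules.pullback g).obj M ≅ Coh.structureModule C₀))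
    (hdeg : ∀ Γ : ArSurf.VertComp R X, ArSurf.inter R X M Γ ≤ 0) :
    Nonempty (M ≅ Coh.structureModule X.left) := by
  classical
  obtain ⟨ϖ, hϖ⟩ := IsDiscreteValuationRing.exists_irreducible R
  haveI : CompactSpace X.left := QuasiCompact.compactSpace_of_compactSpace X.hom
  haveI : IsLocallyNoetherian X.left := LocallyOfFiniteType.isLocallyNoetherian X.hom
  obtain ⟨s, hs⟩ := exists_vertical_section R X fC g hg M hM htriv
  have hoff : ∀ y : X.left, X.hom.base y ≠ closedPoint R → y ∈ CohB1.genLocus M s := by
    intro y hy
    obtain ⟨W, e, c, hyW, he, hsec, -, hunit⟩ := hs y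
    exact (SecOps.mem_genLocus_iff_of_isGen s he c hsec.symm y hyW).2 (hunit y hyW hy)
  have hfull : ∀ s' : Coh.structureModule X.left ⟶ M, CohB1.genLocus M s' = ⊤ →
      Nonempty (M ≅ Coh.structureModule X.left) := by
    intro s' htop
    haveI : IsIso s' := TwForm.isIso_of_app_bijective s'
      (fun V => AmpleLib.good_of_le_genLocus s' V (by rw [htop]; exact le_top))
    exact ⟨(asIso s').symm⟩
  by_cases hX : ∃ x₀ : X.left, X.hom.base x₀ = closedPoint R
  swap
  · apply hfull s
    apply Opens.ext
    rw [Opens.coe_top]
    exact Set.eq_univ_of_forall fun y => hoff y (fun h => hX ⟨y, h⟩)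
  obtain ⟨x₀, hx₀⟩ := hX
  obtain ⟨W₀, e₀, c₀, hx₀W, he₀, hsec₀, hreg₀, -⟩ := hs x₀
  obtain ⟨τ, hτoff, hτprim⟩ := exists_primitive R X ϖ hϖ M hM s hoff x₀ hx₀ W₀ e₀ c₀ hx₀W he₀
    hsec₀ (fun r hr => hreg₀ W₀.1 le_rfl r (by rwa [resR_self']))
  obtain ⟨ε, hε⟩ := exists_iso_residue R
  haveI := isClosedImmersion_fiberι R X
  letI : (X.hom.fiber (closedPoint R)).Over (Spec (CommRingCat.of (IsLocalRing.ResidueField R))) :=
    ⟨X.hom.fiberToSpecResidueField (closedPoint R) ≫ ε.hom⟩
  haveI : IsProper ((X.hom.fiber (closedPoint R)) ↘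
      Spec (CommRingCat.of (IsLocalRing.ResidueField R))) := by
    change IsProper (X.hom.fiberToSpecResidueField (closedPoint R) ≫ ε.hom)
    haveI : IsProper (X.hom.fiberToSpecResidueField (closedPoint R)) :=
      MorphismProperty.pullback_snd (P := @IsProper) X.hom _ inferInstance
    infer_instance
  haveI : IsNoetherian (X.hom.fiber (closedPoint R)) :=
    Euler.isNoetherian_of_proper (IsLocalRing.ResidueField R) (X.hom.fiber (closedPoint R))
  have hLY : PicF.IsInvertible ((Scheme.Modules.pullback (X.hom.fiberι (closedPoint R))).obj M) :=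
    PullGen.isInvertible_pullback (X.hom.fiberι (closedPoint R)) hM
  have hcl := RedCurve.isClosed_genLocus (IsLocalRing.ResidueField R)
    (X.hom.fiber (closedPoint R)) hdim _ hLY
    (fun C hC => by
      have h1 := hdeg (vertOf R X ε hε C hC (hdim C hC))
      rw [inter_vertOf R X ε hε C hC (hdim C hC) M] at h1
      exact h1)
    ((PullSec.unitIso (X.hom.fiberι (closedPoint R))).symm.hom ≫
      (Scheme.Modules.pullback (X.hom.fiberι (closedPoint R))).map (TwistAmple.homOfSec M τ))
  rw [PullGen.genLocus_pullback (X.hom.fiberι (closedPoint R)) hM (TwistAmple.homOfSec M τ)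
    (PullSec.unitIso (X.hom.fiberι (closedPoint R))).symm] at hcl
  have hclopen : IsClopen (((X.hom.fiberι (closedPoint R)) ⁻¹ᵁ
      CohB1.genLocus M (TwistAmple.homOfSec M τ) : (X.hom.fiber (closedPoint R)).Opens) :
        Set (X.hom.fiber (closedPoint R))) :=
    ⟨hcl, ((X.hom.fiberι (closedPoint R)) ⁻¹ᵁ
      CohB1.genLocus M (TwistAmple.homOfSec M τ)).isOpen⟩
  have hrange : ∀ x : X.left, X.hom.base x = closedPoint R →
      ∃ y : X.hom.fiber (closedPoint R), (X.hom.fiberι (closedPoint R)).base y = x := by
    intro x hx
    have h1 : x ∈ Set.range (X.hom.fiberι (closedPoint R)).base := by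
      rw [Scheme.Hom.range_fiberι]
      exact hx
    exact h1
  rcases isClopen_iff.1 hclopen with h0 | h1
  · exfalso
    apply hτprim
    have hnot : ∀ x : X.left, X.hom.base x = closedPoint R →
        x ∉ CohB1.genLocus M (TwistAmple.homOfSec M τ) := by
      intro x hx hxg
      obtain ⟨y, rfl⟩ := hrange x hx
      have h2 : y ∈ (((X.hom.fiberι (closedPoint R)) ⁻¹ᵁ
          CohB1.genLocus M (TwistAmple.homOfSec M τ) : (X.hom.fiber (closedPoint R)).Opens) :
            Set (X.hom.fiber (closedPoint R))) := hxg
      rw [h0] at h2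
      exact h2
    obtain ⟨τ', hτ'⟩ := exists_div R X ϖ hϖ M hM (TwistAmple.homOfSec M τ) hnot
    refine ⟨τ', ?_⟩
    rw [hτ', AmpleLib.secVal_homOfSec, res_self]
  · apply hfull (TwistAmple.homOfSec M τ)
    apply Opens.ext
    rw [Opens.coe_top]
    apply Set.eq_univ_of_forall
    intro x
    by_cases hx : X.hom.base x = closedPoint R
    · obtain ⟨y, rfl⟩ := hrange x hx
      have h2 : y ∈ (((X.hom.fiberι (closedPoint R)) ⁻¹ᵁ
          CohB1.genLocus M (TwistAmple.homOfSec M τ) : (X.hom.fiber (closedPoint R)).Opens) :
            Set (X.hom.fiber (closedPoint R))) := by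
        rw [h1]
        trivial
      exact h2
    · exact hτoff x hx

end Thm

end Groth.Agent.Helper1.SemiF
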