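import Mathlib
import Groth.Prelude.Def_CurvBase
import Groth.Agent.Lib.Helper2.Nodal.PowerSeries
import Groth.Agent.Lib.Helper7.SmoothBC.GeomRed

/-!
# Reducedness of a curve with split nodal singularities (helper1)
-/

set_option autoImplicit false
set_option backward.isDefEq.respectTransparency.types false
universe u
open CategoryTheory CategoryTheory.Limits AlgebraicGeometry TopologicalSpace Opposite IsLocalRing

namespace Groth.Agent.Helper1.SemiF

/-- an ordinary double point is reduced (as in helper2's `Nodal.Reduced`) -/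
theorem isReduced_of_isOrdDoublePt (K : Type u) [Field K] (A : Type u) [CommRing A] [Algebra K A]
    [IsLocalRing A] [IsNoetherianRing A] (h : Curv2.IsOrdDoublePt K A) : IsReduced A := by
  obtain ⟨e, -⟩ := h
  haveI : IsReduced (MvPowerSeries (Fin 2) K ⧸
      Ideal.span {(MvPowerSeries.X 0 * MvPowerSeries.X 1 : MvPowerSeries (Fin 2) K)}) :=
    Groth.Agent.Helper2.Nodal.isReduced_quotient_X_mul_X (by decide)
  haveI : IsReduced (AdicCompletion (maximalIdeal A) A) :=
    isReduced_of_injective e.toRingHom e.injective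
  have hinj : Function.Injective (algebraMap A (AdicCompletion (maximalIdeal A) A)) :=
    AdicCompletion.of_injective (maximalIdeal A) A
  exact isReduced_of_injective (algebraMap A (AdicCompletion (maximalIdeal A) A)) hinj

/-- a Jacobson scheme whose local rings at the closed points are reduced is reduced -/
theorem isReduced_of_closedPoints {Y : Scheme.{u}} [JacobsonSpace Y]
    (h : ∀ y : Y, IsClosed ({y} : Set Y) → _root_.IsReduced (Y.presheaf.stalk y)) :
    AlgebraicGeometry.IsReduced Y := by
  refine ⟨fun V => ⟨fun a ha => ?_⟩⟩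
  have key : ∀ y : V, ∃ (W : Y.Opens) (hW : W ≤ V), y.1 ∈ W ∧
      (Y.presheaf.map (homOfLE hW).op).hom a = (Y.presheaf.map (homOfLE hW).op).hom 0 := by
    intro y
    obtain ⟨x, hxZ, hxcl⟩ := nonempty_inter_closedPoints (X := Y) (Z := closure {y.1} ∩ V)
      ⟨y.1, subset_closure rfl, y.2⟩
      (isClosed_closure.isLocallyClosed.inter V.isOpen.isLocallyClosed)
    have hxV : x ∈ V := hxZ.2
    have hspec : y.1 ⤳ x := specializes_iff_mem_closure.mpr hxZ.1
    have hxcl' : IsClosed ({x} : Set Y) := hxcl
    haveI := h x hxcl'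
    have hg : (Y.presheaf.germ V x hxV).hom a = 0 := (ha.map _).eq_zero
    obtain ⟨W, hxW, iU, iV, hW⟩ := Y.presheaf.germ_eq x hxV hxV a 0 (by
      rw [map_zero]
      exact hg)
    refine ⟨W, iU.le, hspec.mem_open W.2 hxW, ?_⟩
    have h1 : (Y.presheaf.map (homOfLE iU.le).op).hom a = (Y.presheaf.map iU.op).hom a := rfl
    rw [h1, map_zero]
    have h2 : (Y.presheaf.map iU.op).hom a = (Y.presheaf.map iV.op).hom 0 := hW
    rw [h2, map_zero]
  choose W hW hyW he using key
  exact Y.sheaf.eq_of_locally_eq' W V (fun y => homOfLE (hW y))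
    (fun x hx => Opens.mem_iSup.2 ⟨⟨x, hx⟩, hyW ⟨x, hx⟩⟩) a 0 he

/-- a scheme locally of finite type over a field whose closed points are smooth points or split
ordinary double points is reduced -/
theorem isReduced_of_split (k : Type u) [Field k] (Y : Scheme.{u})
    (q : Y ⟶ Spec (CommRingCat.of k)) [LocallyOfFiniteType q]
    (h : ∀ y : Y, IsClosed ({y} : Set Y) →
      (∃ W : Y.Opens, y ∈ W ∧ Smooth (W.ι ≫ q)) ∨
      @Curv2.IsOrdDoublePt k _ (Y.presheaf.stalk y) _ (@Curv2.stalkAlgebra k _ Y ⟨q⟩ y) _) :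
    AlgebraicGeometry.IsReduced Y := by
  haveI : JacobsonSpace Y := LocallyOfFiniteType.jacobsonSpace q
  haveI : IsLocallyNoetherian Y := LocallyOfFiniteType.isLocallyNoetherian q
  apply isReduced_of_closedPoints
  intro y hy
  rcases h y hy with ⟨W, hyW, hsm⟩ | hod
  · haveI := hsm
    haveI : AlgebraicGeometry.IsReduced (W : Scheme) :=
      Groth.Agent.Helper7.SmoothBC.isReduced_of_smooth_over_field k (W.ι ≫ q)
    haveI : _root_.IsReduced ((W : Scheme).presheaf.stalk ⟨y, hyW⟩) := inferInstance
    have i1 := asIso (W.ι.stalkMap ⟨y, hyW⟩)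
    exact isReduced_of_injective (i1.commRingCatIsoToRingEquiv).toRingHom
      (i1.commRingCatIsoToRingEquiv).injective
  · letI : Y.Over (Spec (CommRingCat.of k)) := ⟨q⟩
    letI := Curv2.stalkAlgebra k Y y
    haveI : IsNoetherianRing (Y.presheaf.stalk y) := inferInstance
    exact isReduced_of_isOrdDoublePt k _ hod

end Groth.Agent.Helper1.SemiF
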