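import Mathlib
import Groth.Agent.Lib.Helper1.DiagAff

set_option autoImplicit false
universe u
open CategoryTheory CategoryTheory.Limits AlgebraicGeometry TopologicalSpace Opposite

namespace Groth.Agent.Helper1.SecOps

open Groth.Agent.Helper1.QcCech Groth.Agent.Helper1.SubSh Groth.Agent.Helper1.LGen
open Groth.Agent.Helper1.TmulLib Groth.Agent.Helper1 Groth.Agent.Helper1.TwistSec
open Groth.Agent.Helper1.TensGen Groth.Agent.Helper1.TwForm Groth.Agent.Helper1.AmpleLib

variable {X : Scheme.{u}} {M : X.Modules}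

/-- functions on `X_s ∩ X_t` are generated by functions on `X_s` and on `X_t`
(for `X_s` affine and `s, t` sections of the same invertible module) -/
theorem closure_res_eq_top (s t : Coh.structureModule X ⟶ M)
    (hs : IsAffineOpen (CohB1.genLocus M s)) (C : X.Opens)
    (hC : C = CohB1.genLocus M s ⊓ CohB1.genLocus M t)
    (hCs : C ≤ CohB1.genLocus M s) (hCt : C ≤ CohB1.genLocus M t) :
    Subring.closure (Set.range (resR hCs) ∪ Set.range (resR hCt)) = ⊤ := by
  set U := CohB1.genLocus M s with hU
  set V := CohB1.genLocus M t with hV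
  have haU : IsGen M U (secVal s U) := isGen_secVal s le_rfl
  have haV : IsGen M V (secVal t V) := isGen_secVal t le_rfl
  obtain ⟨h, hh⟩ := haU.exists_coeff (secVal t U)
  obtain ⟨h', hh'⟩ := haV.exists_coeff (secVal s V)
  have hb : X.basicOpen h = C := by
    rw [hC, ← genLocus_inf_eq_basicOpen t haU h hh, inf_comm]
  subst hb
  -- `h` and `h'` are inverse to each other on the intersection
  have hinv : resR hCs h * resR hCt h' = 1 := by
    have hgen : IsGen M (X.basicOpen h) (secVal s (X.basicOpen h)) := isGen_secVal s hCs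
    apply (IsGen.bijective_self hgen).1
    change (resR hCs h * resR hCt h') • secVal s (X.basicOpen h) =
      (1 : Γ(X, X.basicOpen h)) • secVal s (X.basicOpen h)
    have e1 : resR hCs h • secVal s (X.basicOpen h) = secVal t (X.basicOpen h) := by
      rw [← res_secVal s hCs, ← res_smul, hh, res_secVal]
    have e2 : resR hCt h' • secVal t (X.basicOpen h) = secVal s (X.basicOpen h) := by
      rw [← res_secVal t hCt, ← res_smul, hh', res_secVal]
    rw [mul_comm, mul_smul, e1, e2, one_smul]
  rw [eq_top_iff]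
  intro y _
  have hloc := hs.isLocalization_basicOpen h
  obtain ⟨⟨x, m⟩, hxm⟩ := IsLocalization.surj (Submonoid.powers h) y
  obtain ⟨n, hn⟩ := m.2
  have hxm' : y * resR hCs h ^ n = resR hCs x := by
    have : (algebraMap Γ(X, U) Γ(X, X.basicOpen h)) (m : Γ(X, U)) = resR hCs h ^ n := by
      rw [← hn, map_pow]; rfl
    rw [← this]
    exact hxm
  have hy : y = resR hCs x * resR hCt h' ^ n := by
    rw [← hxm', mul_assoc, ← mul_pow, hinv, one_pow, mul_one]
  rw [hy]
  have h1 : resR hCs x ∈ Subring.closure (Set.range (resR hCs) ∪ Set.range (resR hCt)) :=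
    Subring.subset_closure (Set.mem_union_left _ ⟨x, rfl⟩)
  have h2 : resR hCt h' ∈ Subring.closure (Set.range (resR hCs) ∪ Set.range (resR hCt)) :=
    Subring.subset_closure (Set.mem_union_right _ ⟨h', rfl⟩)
  exact mul_mem h1 (pow_mem h2 n)

/-- the same with arbitrary names for the opens -/
theorem closure_res_eq_top' (s t : Coh.structureModule X ⟶ M)
    (hs : IsAffineOpen (CohB1.genLocus M s)) (A B C : X.Opens)
    (hA : A = CohB1.genLocus M s) (hB : B = CohB1.genLocus M t) (hC : C = A ⊓ B)
    (hCA : C ≤ A) (hCB : C ≤ B) :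
    Subring.closure (Set.range (resR hCA) ∪ Set.range (resR hCB)) = ⊤ := by
  subst hA hB
  exact closure_res_eq_top s t hs C hC hCA hCB

omit M in
/-- **separatedness criterion**: a scheme covered by affine opens with affine pairwise
intersections whose functions are generated by those of the two members -/
theorem isSeparated_of_cover (X : Scheme.{u}) {ι : Type u} (U : ι → X.Opens)
    (hcov : IsOpenCover U) (hU : ∀ i, IsAffineOpen (U i))
    (hUU : ∀ i j, IsAffineOpen (U i ⊓ U j))
    (hgen : ∀ (i j : ι) (A B C : X.Opens) (_ : A = U i) (_ : B = U j) (_ : C = A ⊓ B)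
      (hCA : C ≤ A) (hCB : C ≤ B),
      Subring.closure (Set.range (resR hCA) ∪ Set.range (resR hCB)) = ⊤) :
    X.IsSeparated := by
  refine ⟨?_⟩
  rw [AlgebraicGeometry.isSeparated_iff]
  change MorphismProperty.diagonal @IsClosedImmersion (terminal.from X)
  let 𝒰 := X.openCoverOfIsOpenCover U hcov
  have : ∀ i, IsAffine (𝒰.X i) := fun i => hU i
  rw [← HasAffineProperty.diagonal_iff (@IsClosedImmersion)]
  have := HasAffineProperty.isLocal_affineProperty (@IsClosedImmersion)
  refine AffineTargetMorphismProperty.diagonal_of_openCover_source (terminal.from X) 𝒰 ?_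
  intro (i : ι) (j : ι)
  change IsAffine (pullback (U i).ι (U j).ι) ∧ Function.Surjective
    ((pullback.mapDesc (U i).ι (U j).ι (terminal.from X)).appTop)
  -- the intersection as the fibre product
  have hrange : Set.range (U i ⊓ U j).ι =
      Set.range (pullback.fst (U i).ι (U j).ι ≫ (U i).ι) := by
    rw [IsOpenImmersion.range_pullback_to_base_of_left]
    simp
  let e : (↑(U i ⊓ U j) : Scheme.{u}) ≅ pullback (U i).ι (U j).ι :=
    IsOpenImmersion.isoOfRangeEq (U i ⊓ U j).ι (pullback.fst (U i).ι (U j).ι ≫ (U i).ι) hrange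
  have he : e.hom ≫ pullback.fst (U i).ι (U j).ι ≫ (U i).ι = (U i ⊓ U j).ι :=
    IsOpenImmersion.isoOfRangeEq_hom_fac _ _ hrange
  have he1 : e.hom ≫ pullback.fst (U i).ι (U j).ι = X.homOfLE inf_le_left := by
    rw [← cancel_mono (U i).ι, Category.assoc, he, Scheme.homOfLE_ι]
  have he2 : e.hom ≫ pullback.snd (U i).ι (U j).ι = X.homOfLE inf_le_right := by
    rw [← cancel_mono (U j).ι, Category.assoc, ← pullback.condition, he, Scheme.homOfLE_ι]
  have haff : IsAffine (↑(U i ⊓ U j) : Scheme.{u}) := hUU i j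
  refine ⟨IsAffine.of_isIso e.inv, ?_⟩
  set m := pullback.mapDesc (U i).ι (U j).ι (terminal.from X) with hm
  -- the composite with `e`
  have hmf : m ≫ pullback.fst ((U i).ι ≫ terminal.from X) ((U j).ι ≫ terminal.from X) =
      pullback.fst (U i).ι (U j).ι := by
    rw [hm]; exact (pullback.lift_fst _ _ _).trans (Category.comp_id _)
  have hms : m ≫ pullback.snd ((U i).ι ≫ terminal.from X) ((U j).ι ≫ terminal.from X) =
      pullback.snd (U i).ι (U j).ι := by
    rw [hm]; exact (pullback.lift_snd _ _ _).trans (Category.comp_id _)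
  have hm1 : (e.hom ≫ m) ≫ pullback.fst ((U i).ι ≫ terminal.from X) ((U j).ι ≫ terminal.from X) =
      X.homOfLE (inf_le_left : U i ⊓ U j ≤ U i) := by
    rw [Category.assoc, hmf]
    exact he1
  have hm2 : (e.hom ≫ m) ≫ pullback.snd ((U i).ι ≫ terminal.from X) ((U j).ι ≫ terminal.from X) =
      X.homOfLE (inf_le_right : U i ⊓ U j ≤ U j) := by
    rw [Category.assoc, hms]
    exact he2
  have hsurj : Function.Surjective (e.hom ≫ m).appTop := by
    have hCA : (U i ⊓ U j).ι ''ᵁ ⊤ ≤ (U i).ι ''ᵁ ⊤ :=
      X.ι_image_homOfLE_le_ι_image (inf_le_left : U i ⊓ U j ≤ U i) ⊤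
    have hCB : (U i ⊓ U j).ι ''ᵁ ⊤ ≤ (U j).ι ''ᵁ ⊤ :=
      X.ι_image_homOfLE_le_ι_image (inf_le_right : U i ⊓ U j ≤ U j) ⊤
    have hcl := hgen i j ((U i).ι ''ᵁ ⊤) ((U j).ι ''ᵁ ⊤) ((U i ⊓ U j).ι ''ᵁ ⊤) (by simp) (by simp)
      (by simp) hCA hCB
    have h3 : (X.homOfLE (inf_le_left : U i ⊓ U j ≤ U i)).appTop =
        X.presheaf.map (homOfLE hCA).op := X.homOfLE_appTop _
    have h4 : (X.homOfLE (inf_le_right : U i ⊓ U j ≤ U j)).appTop =
        X.presheaf.map (homOfLE hCB).op := X.homOfLE_appTop _
    have hle : Subring.closure (Set.range (resR hCA) ∪ Set.range (resR hCB)) ≤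
        (e.hom ≫ m).appTop.hom.range := by
      rw [Subring.closure_le]
      rintro y (⟨x, rfl⟩ | ⟨x, rfl⟩)
      · refine ⟨(pullback.fst ((U i).ι ≫ terminal.from X)
          ((U j).ι ≫ terminal.from X)).appTop.hom x, ?_⟩
        have h1 := congrArg (fun f => f.appTop) hm1
        simp only [Scheme.Hom.comp_appTop] at h1
        rw [h3] at h1
        exact ConcreteCategory.congr_hom h1 x
      · refine ⟨(pullback.snd ((U i).ι ≫ terminal.from X)
          ((U j).ι ≫ terminal.from X)).appTop.hom x, ?_⟩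
        have h1 := congrArg (fun f => f.appTop) hm2
        simp only [Scheme.Hom.comp_appTop] at h1
        rw [h4] at h1
        exact ConcreteCategory.congr_hom h1 x
    rw [hcl, top_le_iff] at hle
    intro y
    have : y ∈ (e.hom ≫ m).appTop.hom.range := by rw [hle]; trivial
    exact this
  intro y
  obtain ⟨z, hz⟩ := hsurj (e.hom.appTop y)
  refine ⟨z, ?_⟩
  have hinv : ∀ a, e.inv.appTop (e.hom.appTop a) = a := by
    intro a
    have h := congrArg (fun f => f.appTop) e.inv_hom_id
    simp only [Scheme.Hom.comp_appTop, Scheme.Hom.id_appTop] at h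
    exact ConcreteCategory.congr_hom h a
  rw [← hinv y, ← hz, Scheme.Hom.comp_appTop]
  exact (hinv _).symm

omit M in
/-- **a scheme covered by affine opens `X_s`, `s` sections of positive powers of an invertible
module, is separated** (EGA II 4.5.?) -/
theorem isSeparated_of_affine_genLocus_cover (X : Scheme.{u}) (L : X.Modules)
    (hL : PicF.IsInvertible L)
    (h : ∀ x : X, ∃ (n : ℕ) (s : Coh.structureModule X ⟶ CohB1.tensorPow L (n + 1)),
      x ∈ CohB1.genLocus _ s ∧ IsAffineOpen (CohB1.genLocus _ s)) :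
    X.IsSeparated := by
  choose n s hx haff using h
  apply isSeparated_of_cover X (fun x => CohB1.genLocus _ (s x)) ?_ haff
  · intro x y
    exact isAffineOpen_genLocus_inf (isInvertible_tensorPow hL (n y + 1)) (s x) (s y) (haff x)
  · intro x y A B C hA hB hC hCA hCB
    have hS : CohB1.genLocus _ (pcast (Nat.mul_comm (n x + 1) (n y + 1))
        (ppow hL (s x) (n y + 1))) = CohB1.genLocus _ (s x) := by
      rw [genLocus_pcast, genLocus_ppow hL (s x) (n y + 1) (Nat.succ_pos _)]
    have hT : CohB1.genLocus _ (ppow hL (s y) (n x + 1)) = CohB1.genLocus _ (s y) :=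
      genLocus_ppow hL (s y) (n x + 1) (Nat.succ_pos _)
    exact closure_res_eq_top' _ _ (hS ▸ haff x) A B C (hA.trans hS.symm) (hB.trans hT.symm)
      hC hCA hCB
  · rw [IsOpenCover, eq_top_iff]
    intro x _
    exact Opens.mem_iSup.2 ⟨x, hx x⟩

end Groth.Agent.Helper1.SecOps
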