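import Mathlib

namespace Groth.Agent.Helper1.SepCl

universe u

open Polynomial IsLocalRing

section Local

variable {B : Type u} [CommRing B]

/-- A monic polynomial over `B` with a root in `K` has a root in `B`. -/
theorem exists_root_of_root [IsDomain B] [IsIntegrallyClosed B]
    {K : Type u} [Field K] [Algebra B K] [IsFractionRing B K] (f : B[X]) (hf : f.Monic) (x : K)
    (hx : (f.map (algebraMap B K)).eval x = 0) : ∃ b : B, f.eval b = 0 := by
  have hint : IsIntegral B x := ⟨f, hf, by rwa [eval_map] at hx⟩
  obtain ⟨b, rfl⟩ := IsIntegrallyClosed.isIntegral_iff.mp hint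
  refine ⟨b, ?_⟩
  apply IsFractionRing.injective B K
  rw [map_zero, ← hx, eval_map, eval₂_at_apply]

/-- Coprimality modulo the maximal ideal lifts, for monic `f`. -/
theorem isCoprime_of_isCoprime_map_residue [IsLocalRing B] (f g : B[X]) (hf : f.Monic)
    (h : IsCoprime (f.map (residue B)) (g.map (residue B))) : IsCoprime f g := by
  rw [← isUnit_resultant_iff_isCoprime hf]
  have hf' : (f.map (residue B)).Monic := hf.map _
  have hu := (isUnit_resultant_iff_isCoprime hf').mpr h
  have hdeg : (f.map (residue B)).natDegree = f.natDegree := hf.natDegree_map _
  have hle : (g.map (residue B)).natDegree ≤ g.natDegree := natDegree_map_le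
  obtain ⟨k, hk⟩ := Nat.exists_eq_add_of_le hle
  have h1 : resultant (f.map (residue B)) (g.map (residue B)) f.natDegree g.natDegree =
      residue B (resultant f g) := resultant_map_map f g f.natDegree g.natDegree (residue B)
  have h2 : resultant (f.map (residue B)) (g.map (residue B)) f.natDegree g.natDegree =
      resultant (f.map (residue B)) (g.map (residue B)) := by
    rw [hk, resultant_add_right_deg _ _ _ _ k le_rfl, ← hdeg, coeff_natDegree,
      hf'.leadingCoeff, one_pow, one_mul]
  rw [h2] at h1
  rw [h1] at hu
  by_contra hnu
  have : resultant f g ∈ maximalIdeal B := (mem_maximalIdeal _).mpr hnu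
  rw [← residue_eq_zero_iff] at this
  rw [this] at hu
  exact not_isUnit_zero hu

variable [IsDomain B] [IsLocalRing B] [IsIntegrallyClosed B]
  (K : Type u) [Field K] [Algebra B K] [IsFractionRing B K] [IsSepClosed K]

include K in
theorem isSepClosed_residueField : IsSepClosed (ResidueField B) := by
  apply IsSepClosed.of_exists_root
  intro fb hfb hirr hsep
  obtain ⟨f, hmap, hdeg, hmon⟩ := lifts_and_natDegree_eq_and_monic
    (mem_lifts_of_surjective (residue_surjective (R := B)) fb) hfb
  have hcop : IsCoprime f (derivative f) := by
    apply isCoprime_of_isCoprime_map_residue f _ hmon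
    rw [← derivative_map, hmap]
    exact hsep
  have hsepK : (f.map (algebraMap B K)).Separable := by
    rw [Polynomial.separable_def, derivative_map]
    exact hcop.map (mapRingHom (algebraMap B K))
  have hinj : Function.Injective (algebraMap B K) := IsFractionRing.injective B K
  have hdegK : (f.map (algebraMap B K)).degree ≠ 0 := by
    rw [degree_map_eq_of_injective hinj]
    intro h0
    have h1 : f.natDegree = 0 := natDegree_eq_of_degree_eq_some h0
    have h2 : fb.natDegree = 0 := by rw [← hdeg, h1]
    have h3 : fb = 1 := eq_one_of_monic_natDegree_zero hfb h2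
    rw [h3] at hirr
    exact hirr.not_isUnit isUnit_one
  obtain ⟨x, hx⟩ := IsSepClosed.exists_root _ hdegK hsepK
  obtain ⟨b, hb⟩ := exists_root_of_root f hmon x hx
  refine ⟨residue B b, ?_⟩
  rw [← hmap, eval_map, eval₂_at_apply, hb, map_zero]

include K in
theorem perfectField_residueField (c : B) (hc : c ∈ maximalIdeal B) (hc0 : c ≠ 0) :
    PerfectField (ResidueField B) := by
  obtain ⟨p, hp⟩ := CharP.exists (ResidueField B)
  rcases CharP.char_is_prime_or_zero (ResidueField B) p with hpr | hp0
  · have : Fact p.Prime := ⟨hpr⟩
    have hinj : Function.Injective (algebraMap B K) := IsFractionRing.injective B K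
    have hsurj : Function.Surjective (frobenius (ResidueField B) p) := by
      intro ab
      obtain ⟨a, rfl⟩ := residue_surjective ab
      suffices h : ∃ b : B, residue B b ^ p = residue B a by
        obtain ⟨b, hb⟩ := h
        exact ⟨residue B b, by rw [frobenius_def, hb]⟩
      by_cases hpK : (p : K) = 0
      · -- characteristic p: Artin–Schreier-like perturbation
        have hcK : -(algebraMap B K c) ≠ 0 := by
          rw [neg_ne_zero]
          exact fun h => hc0 (hinj (by rw [h, map_zero]))
        obtain ⟨x, hx⟩ := IsSepClosed.exists_root_C_mul_X_pow_add_C_mul_X_add_C (k := K)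
          (1 : K) (-(algebraMap B K c)) (-(algebraMap B K a)) hpK hpr.two_le hcK
        let F : B[X] := X ^ p + (-(C c) * X + -(C a))
        have hFmon : F.Monic := by
          apply monic_X_pow_add
          refine lt_of_le_of_lt (degree_add_le _ _) ?_
          refine max_lt ?_ ?_
          · refine lt_of_le_of_lt (degree_mul_le _ _) ?_
            rw [degree_X, ← C_neg]
            refine lt_of_le_of_lt (add_le_add_left degree_C_le _) ?_
            rw [zero_add]
            exact_mod_cast hpr.one_lt
          · rw [← C_neg]
            exact lt_of_le_of_lt degree_C_le (by exact_mod_cast hpr.pos)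
        have hFx : (F.map (algebraMap B K)).eval x = 0 := by
          simp only [F, Polynomial.map_add, Polynomial.map_pow, map_X, Polynomial.map_mul,
            Polynomial.map_neg, map_C, eval_add, eval_pow, eval_X, eval_mul, eval_neg, eval_C]
          rw [← hx]; ring
        obtain ⟨b, hb⟩ := exists_root_of_root F hFmon x hFx
        refine ⟨b, ?_⟩
        have h1 : residue B (F.eval b) = 0 := by rw [hb, map_zero]
        simp only [F, eval_add, eval_pow, eval_X, eval_mul, eval_neg, eval_C, map_add, map_pow,
          map_neg, map_mul] at h1
        rw [(residue_eq_zero_iff c).mpr hc] at h1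
        rw [neg_zero, zero_mul, zero_add] at h1
        exact eq_of_sub_eq_zero (by rw [sub_eq_add_neg]; exact h1)
      · -- characteristic zero: `K` is algebraically closed
        have hchar0 : CharZero K := by
          obtain ⟨q, hq⟩ := CharP.exists K
          rcases CharP.char_is_prime_or_zero K q with hqpr | hq0
          · exfalso
            have hqB : (q : B) = 0 := by
              apply hinj
              rw [map_natCast, map_zero]
              exact CharP.cast_eq_zero K q
            have hqk : (q : ResidueField B) = 0 := by
              have := congrArg (residue B) hqB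
              rwa [map_natCast, map_zero] at this
            have hdvd : p ∣ q := (CharP.cast_eq_zero_iff (ResidueField B) p q).mp hqk
            have hpq : p = q := (Nat.prime_dvd_prime_iff_eq hpr hqpr).mp hdvd
            apply hpK
            rw [hpq]
            exact CharP.cast_eq_zero K q
          · subst hq0
            exact CharP.charP_to_charZero K
        have : IsAlgClosed K := IsSepClosed.isAlgClosed_of_perfectField K
        obtain ⟨x, hx⟩ := IsAlgClosed.exists_pow_nat_eq (algebraMap B K a) hpr.pos
        let F : B[X] := X ^ p - C a
        have hFmon : F.Monic := monic_X_pow_sub_C a hpr.ne_zero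
        have hFx : (F.map (algebraMap B K)).eval x = 0 := by
          simp only [F, Polynomial.map_sub, Polynomial.map_pow, map_X, map_C, eval_sub, eval_pow,
            eval_X, eval_C]
          rw [hx, sub_self]
        obtain ⟨b, hb⟩ := exists_root_of_root F hFmon x hFx
        refine ⟨b, ?_⟩
        have h1 : residue B (F.eval b) = 0 := by rw [hb, map_zero]
        simp only [F, eval_sub, eval_pow, eval_X, eval_C, map_sub, map_pow] at h1
        exact eq_of_sub_eq_zero h1
    have : PerfectRing (ResidueField B) p := PerfectRing.ofSurjective _ p hsurj
    have : ExpChar (ResidueField B) p := ExpChar.prime hpr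
    exact PerfectRing.toPerfectField _ p
  · subst hp0
    have : CharZero (ResidueField B) := CharP.charP_to_charZero _
    exact PerfectField.ofCharZero

include K in
theorem isAlgClosed_residueField (c : B) (hc : c ∈ maximalIdeal B) (hc0 : c ≠ 0) :
    IsAlgClosed (ResidueField B) := by
  have := isSepClosed_residueField (B := B) K
  have := perfectField_residueField (B := B) K c hc hc0
  exact IsSepClosed.isAlgClosed_of_perfectField _

end Local

theorem main (A : Type u) [CommRing A] [IsDomain A] [IsIntegrallyClosed A]
    [IsSepClosed (FractionRing A)] (p : Ideal A) [p.IsPrime] (hp : p ≠ ⊥) :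
    IsAlgClosed p.ResidueField := by
  let K := FractionRing A
  let S := Localization.AtPrime p
  have hM : p.primeCompl ≤ nonZeroDivisors A := p.primeCompl_le_nonZeroDivisors
  let g : S →+* K := IsLocalization.map _ (T := nonZeroDivisors A) (RingHom.id A) hM
  let _ := g.toAlgebra
  have : IsScalarTower A S K := IsScalarTower.of_algebraMap_eq'
    (by rw [RingHom.algebraMap_toAlgebra, IsLocalization.map_comp, RingHomCompTriple.comp_eq])
  have := IsFractionRing.isFractionRing_of_isDomain_of_isLocalization p.primeCompl S K
  have : IsIntegrallyClosed S := isIntegrallyClosed_of_isLocalization S p.primeCompl hM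
  obtain ⟨a, hap, ha0⟩ := Submodule.exists_mem_ne_zero_of_ne_bot hp
  have hc : algebraMap A S a ∈ IsLocalRing.maximalIdeal S :=
    (IsLocalization.AtPrime.to_map_mem_maximal_iff S p a).mpr hap
  have hc0 : algebraMap A S a ≠ 0 := by
    intro h
    apply ha0
    apply IsLocalization.injective S hM
    rw [h, map_zero]
  exact isAlgClosed_residueField (B := S) K _ hc hc0

end Groth.Agent.Helper1.SepCl
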