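import Mathlib

universe u v

open AlgebraicGeometry CategoryTheory CategoryTheory.Limits TopologicalSpace Opposite

namespace Groth.Agent.Helper1.SepCrit

lemma closure_eq_top_of_isPushout {A B C P : CommRingCat.{u}} {f : A ⟶ B} {g : A ⟶ C}
    {inl : B ⟶ P} {inr : C ⟶ P} (h : IsPushout f g inl inr) :
    Subring.closure (Set.range inl.hom ∪ Set.range inr.hom) = ⊤ := by
  set T := Subring.closure (Set.range inl.hom ∪ Set.range inr.hom) with hT
  let inl' : B ⟶ CommRingCat.of T := CommRingCat.ofHom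
    (inl.hom.codRestrict T (fun b => Subring.subset_closure (Or.inl ⟨b, rfl⟩)))
  let inr' : C ⟶ CommRingCat.of T := CommRingCat.ofHom
    (inr.hom.codRestrict T (fun c => Subring.subset_closure (Or.inr ⟨c, rfl⟩)))
  let ι : CommRingCat.of T ⟶ P := CommRingCat.ofHom T.subtype
  have w : f ≫ inl' = g ≫ inr' := by
    ext a
    exact congr($(h.w) a)
  let d := h.desc inl' inr' w
  have hd : d ≫ ι = 𝟙 P := by
    apply h.hom_ext
    · rw [← Category.assoc, h.inl_desc]; rfl
    · rw [← Category.assoc, h.inr_desc]; rfl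
  rw [eq_top_iff]
  intro x _
  have : x = ι (d x) := congr($(hd) x).symm
  rw [this]
  exact (d x).2

variable {X Y : Scheme.{u}}

lemma opensRange_fst_ι (U V : X.Opens) :
    (pullback.fst U.ι V.ι ≫ U.ι).opensRange = U ⊓ V := by
  apply Opens.ext
  rw [Scheme.Hom.coe_opensRange, IsOpenImmersion.range_pullback_to_base_of_left,
    Scheme.Opens.range_ι, Scheme.Opens.range_ι]
  rfl

lemma isAffine_pullback_iff (U V : X.Opens) :
    IsAffine (pullback U.ι V.ι) ↔ IsAffineOpen (U ⊓ V) := by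
  rw [← opensRange_fst_ι]
  constructor
  · intro h
    exact isAffineOpen_opensRange _
  · intro h
    have : IsAffine ((pullback.fst U.ι V.ι ≫ U.ι).opensRange : Scheme) := h
    exact IsAffine.of_isIso (pullback.fst U.ι V.ι ≫ U.ι).isoOpensRange.hom

lemma isIso_appLE {Z : Scheme.{u}} (f : Z ⟶ X) [IsOpenImmersion f] (U : X.Opens) (V : Z.Opens)
    (hU : U ≤ f.opensRange) (hV : V = f ⁻¹ᵁ U) : IsIso (f.appLE U V hV.le) := by
  subst hV
  rw [Scheme.Hom.appLE_eq_app]
  exact Scheme.Hom.isIso_app f U hU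

lemma range_appTop {Z : Scheme.{u}} (j : Z ⟶ X) (U W : X.Opens)
    (hWU : W ≤ U) (π : Z ⟶ U) (hπ : π ≫ U.ι = j) (hle : ⊤ ≤ j ⁻¹ᵁ W) :
    Set.range π.appTop.hom =
      (j.appLE W ⊤ hle).hom '' Set.range (X.presheaf.map (homOfLE hWU).op).hom := by
  have hleU : (⊤ : Z.Opens) ≤ j ⁻¹ᵁ U := hle.trans ((Opens.map j.base).map (homOfLE hWU)).le
  have h1 : X.presheaf.map (homOfLE hWU).op ≫ j.appLE W ⊤ hle = j.appLE U ⊤ hleU :=
    Scheme.Hom.map_appLE _ _ _
  have hU1 : (⊤ : (U : Scheme.{u}).Opens) = U.ι ⁻¹ᵁ U := by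
    ext x; simp
  have hπtop : (⊤ : Z.Opens) ≤ π ⁻¹ᵁ ⊤ := fun _ _ => trivial
  have h2 : j.appLE U ⊤ hleU = U.ι.appLE U ⊤ hU1.le ≫ π.appLE ⊤ ⊤ hπtop := by
    subst hπ
    rw [Scheme.Hom.appLE_comp_appLE]
  have h3 : π.appLE ⊤ ⊤ hπtop = π.appTop := by
    simp only [Scheme.Hom.appLE]
    change π.app ⊤ ≫ Z.presheaf.map (𝟙 (op (π ⁻¹ᵁ ⊤))) = π.app ⊤
    rw [CategoryTheory.Functor.map_id, Category.comp_id]
  have h4 : IsIso (U.ι.appLE U ⊤ hU1.le) :=
    isIso_appLE U.ι U ⊤ (by rw [Scheme.Opens.opensRange_ι]) hU1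
  have h5 : Function.Surjective (U.ι.appLE U ⊤ hU1.le).hom :=
    ((ConcreteCategory.isIso_iff_bijective _).mp h4).2
  have h6 : (j.appLE W ⊤ hle).hom ∘ (X.presheaf.map (homOfLE hWU).op).hom =
      π.appTop.hom ∘ (U.ι.appLE U ⊤ hU1.le).hom := by
    rw [← RingHom.coe_comp, ← RingHom.coe_comp, ← CommRingCat.hom_comp, ← CommRingCat.hom_comp,
      h1, h2, h3]
  rw [← Set.range_comp, h6, h5.range_comp]

set_option backward.isDefEq.respectTransparency.types false in
theorem key [IsAffine Y] (f : X ⟶ Y) (U V : X.Opens) (hU : IsAffineOpen U) (hV : IsAffineOpen V) :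
    (IsAffine (pullback U.ι V.ι) ∧
      Function.Surjective (pullback.mapDesc U.ι V.ι f).appTop) ↔
    (IsAffineOpen (U ⊓ V) ∧
      Subring.closure (Set.range (X.presheaf.map (homOfLE (inf_le_left : U ⊓ V ≤ U)).op).hom ∪
        Set.range (X.presheaf.map (homOfLE (inf_le_right : U ⊓ V ≤ V)).op).hom) = ⊤) := by
  rw [isAffine_pullback_iff]
  refine and_congr_right fun hUV => ?_
  have : IsAffine (U : Scheme) := hU
  have : IsAffine (V : Scheme) := hV
  let π₁ := pullback.fst U.ι V.ι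
  let π₂ := pullback.snd U.ι V.ι
  let j := π₁ ≫ U.ι
  have hj2 : π₂ ≫ V.ι = j := pullback.condition.symm
  have hrange : j.opensRange = U ⊓ V := opensRange_fst_ι U V
  have heq : (⊤ : (pullback U.ι V.ι).Opens) = j ⁻¹ᵁ (U ⊓ V) := by
    rw [← hrange]
    ext x
    simp only [Opens.coe_top, Set.mem_univ, true_iff]
    exact ⟨x, rfl⟩
  have hψ : IsIso (j.appLE (U ⊓ V) ⊤ heq.le) := isIso_appLE j (U ⊓ V) ⊤ hrange.ge heq
  have hψbij : Function.Bijective (j.appLE (U ⊓ V) ⊤ heq.le).hom :=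
    (ConcreteCategory.isIso_iff_bijective _).mp hψ
  have r1 := range_appTop j U (U ⊓ V) inf_le_left π₁ rfl heq.le
  have r2 := range_appTop j V (U ⊓ V) inf_le_right π₂ hj2 heq.le
  let d := pullback.mapDesc U.ι V.ι f
  have hd1 : d ≫ pullback.fst (U.ι ≫ f) (V.ι ≫ f) = π₁ := by
    dsimp only [d, pullback.mapDesc, pullback.map, π₁]
    rw [pullback.lift_fst, Category.comp_id]
  have hd2 : d ≫ pullback.snd (U.ι ≫ f) (V.ι ≫ f) = π₂ := by
    dsimp only [d, pullback.mapDesc, pullback.map, π₂]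
    rw [pullback.lift_snd, Category.comp_id]
  have hgen := closure_eq_top_of_isPushout
    (isPushout_appTop_of_isPullback (IsPullback.of_hasPullback (U.ι ≫ f) (V.ι ≫ f)))
  have e1 : π₁.appTop = (pullback.fst (U.ι ≫ f) (V.ι ≫ f)).appTop ≫ d.appTop := by
    rw [← hd1]; exact Scheme.Hom.comp_appTop _ _
  have e2 : π₂.appTop = (pullback.snd (U.ι ≫ f) (V.ι ≫ f)).appTop ≫ d.appTop := by
    rw [← hd2]; exact Scheme.Hom.comp_appTop _ _
  have hcl : Subring.closure (Set.range π₁.appTop.hom ∪ Set.range π₂.appTop.hom) =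
      (Subring.closure (Set.range (X.presheaf.map (homOfLE (inf_le_left : U ⊓ V ≤ U)).op).hom ∪
        Set.range (X.presheaf.map (homOfLE (inf_le_right : U ⊓ V ≤ V)).op).hom)).map
        (j.appLE (U ⊓ V) ⊤ heq.le).hom := by
    rw [RingHom.map_closure, Set.image_union, r1, r2]
  have hsurj : Function.Surjective d.appTop ↔
      Subring.closure (Set.range π₁.appTop.hom ∪ Set.range π₂.appTop.hom) = ⊤ := by
    constructor
    · intro hs
      have h1 := congrArg (Subring.map d.appTop.hom) hgen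
      rw [RingHom.map_closure, Set.image_union, ← Set.range_comp, ← Set.range_comp,
        ← RingHom.coe_comp, ← RingHom.coe_comp, ← CommRingCat.hom_comp, ← CommRingCat.hom_comp,
        ← e1, ← e2, ← RingHom.range_eq_map, RingHom.range_eq_top.mpr hs] at h1
      exact h1
    · intro hcl'
      change Function.Surjective d.appTop.hom
      rw [← RingHom.range_eq_top, eq_top_iff, ← hcl', Subring.closure_le]
      rintro _ (⟨a, rfl⟩ | ⟨a, rfl⟩)
      · exact ⟨(pullback.fst (U.ι ≫ f) (V.ι ≫ f)).appTop a, by rw [e1]; rfl⟩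
      · exact ⟨(pullback.snd (U.ι ≫ f) (V.ι ≫ f)).appTop a, by rw [e2]; rfl⟩
  rw [hsurj, hcl]
  constructor
  · intro h
    have h1 := congrArg (Subring.comap (j.appLE (U ⊓ V) ⊤ heq.le).hom) h
    rw [Subring.comap_map_eq_self_of_injective hψbij.1, Subring.comap_top] at h1
    exact h1
  · intro h
    rw [h, ← RingHom.range_eq_map, RingHom.range_eq_top]
    exact hψbij.2

set_option backward.isDefEq.respectTransparency.types false in
theorem result [IsAffine Y] (f : X ⟶ Y) {ι : Type v} (U : ι → X.Opens)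
    (hU : ∀ i, IsAffineOpen (U i)) (hcov : ⨆ i, U i = ⊤) :
    IsSeparated f ↔ ∀ i j, IsAffineOpen (U i ⊓ U j) ∧
      Subring.closure (Set.range (X.presheaf.map (homOfLE (inf_le_left : U i ⊓ U j ≤ U i)).op).hom ∪
        Set.range (X.presheaf.map (homOfLE (inf_le_right : U i ⊓ U j ≤ U j)).op).hom) = ⊤ := by
  rw [IsSeparated.isSeparated_eq_diagonal_isClosedImmersion,
    ← HasAffineProperty.diagonal_iff @IsClosedImmersion]
  have := HasAffineProperty.isLocal_affineProperty @IsClosedImmersion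
  constructor
  · intro H i j
    have : IsAffine (U i : Scheme) := hU i
    have : IsAffine (U j : Scheme) := hU j
    exact (key f (U i) (U j) (hU i) (hU j)).mp (H (U i).ι (U j).ι)
  · intro H
    have hA : ∀ i, IsAffine ((X.openCoverOfIsOpenCover U hcov).X i) := fun i => hU i
    exact AffineTargetMorphismProperty.diagonal_of_openCover_source f
      (X.openCoverOfIsOpenCover U hcov)
      (fun i j => (key f (U i) (U j) (hU i) (hU j)).mpr (H i j))

end Groth.Agent.Helper1.SepCrit
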