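import Mathlib
set_option autoImplicit false
universe u
open Polynomial
namespace Groth.Agent.Helper1.SepHens

variable (A : Type u) [CommRing A] [IsDomain A] [IsIntegrallyClosed A]
    [IsSepClosed (FractionRing A)]

/-- a simple root (in an algebraic closure of the fraction field) of a monic polynomial over `A`
lies in `A`. -/
theorem mem_of_simple_root (g : A[X]) (hg : g.Monic) (α : AlgebraicClosure (FractionRing A))
    (hα : aeval α g = 0) (hα' : aeval α (derivative g) ≠ 0) :
    ∃ a : A, algebraMap A (AlgebraicClosure (FractionRing A)) a = α := by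
  let K := FractionRing A
  let Kb := AlgebraicClosure K
  have hint : IsIntegral K α := Algebra.IsIntegral.isIntegral α
  let m := minpoly K α
  have hm_irr : Irreducible m := minpoly.irreducible hint
  have hdvd : m ∣ g.map (algebraMap A K) := by
    apply minpoly.dvd
    rw [aeval_map_algebraMap, hα]
  obtain ⟨h, hh⟩ := hdvd
  have hder : aeval α (derivative m) ≠ 0 := by
    intro h0
    apply hα'
    have h1 : aeval α (derivative (g.map (algebraMap A K))) = 0 := by
      rw [hh, derivative_mul, map_add, map_mul, map_mul, h0, minpoly.aeval, zero_mul, zero_mul,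
        add_zero]
    rwa [derivative_map, aeval_map_algebraMap] at h1
  have hsep : m.Separable := by
    rw [separable_iff_derivative_ne_zero hm_irr]
    intro h0
    exact hder (by rw [h0, map_zero])
  have hdeg : m.degree = 1 := IsSepClosed.degree_eq_one_of_irreducible K hm_irr hsep
  obtain ⟨y, hy⟩ := minpoly.mem_range_of_degree_eq_one K α hdeg
  have hyint : IsIntegral A y := by
    have : IsIntegral A α := ⟨g, hg, by rwa [← aeval_def]⟩
    rw [← hy] at this
    exact (isIntegral_algebraMap_iff (FaithfulSMul.algebraMap_injective K Kb)).mp this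
  obtain ⟨a, ha⟩ := IsIntegrallyClosed.isIntegral_iff.mp hyint
  exact ⟨a, by rw [IsScalarTower.algebraMap_apply A K Kb, ha, hy]⟩

set_option maxHeartbeats 1600000 in
theorem S0254 (A : Type u) [CommRing A] [IsDomain A] [IsLocalRing A] [IsIntegrallyClosed A]
    [IsSepClosed (FractionRing A)] :
    HenselianLocalRing A ∧ IsSepClosed (IsLocalRing.ResidueField A) := by
  classical
  let K := FractionRing A
  let Kb := AlgebraicClosure K
  let Ab := integralClosure A Kb
  have hinjKb : Function.Injective (algebraMap A Kb) := by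
    rw [IsScalarTower.algebraMap_eq A K Kb]
    exact (FaithfulSMul.algebraMap_injective K Kb).comp (IsFractionRing.injective A K)
  have hinjAb : Function.Injective (algebraMap A Ab) := by
    intro x y hxy
    apply hinjKb
    exact congrArg Subtype.val hxy
  obtain ⟨𝔫, h𝔫max, h𝔫over⟩ := Ideal.exists_ideal_over_maximal_of_isIntegral (S := Ab)
    (IsLocalRing.maximalIdeal A) (by
      rw [(RingHom.injective_iff_ker_eq_bot _).mp hinjAb]; exact bot_le)
  have h𝔫prime : 𝔫.IsPrime := h𝔫max.isPrime
  have hmem𝔫 : ∀ x : A, algebraMap A Ab x ∈ 𝔫 ↔ x ∈ IsLocalRing.maximalIdeal A := by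
    intro x
    rw [← h𝔫over, Ideal.mem_comap]
  refine ⟨⟨fun f hf a₀ h₁ h₂ => ?_⟩, ?_⟩
  · -- henselian
    have hsplit : (f.map (algebraMap A Kb)).Splits := IsAlgClosed.splits _
    have hev := hsplit.aeval_eq_prod_aroots_of_monic hf (algebraMap A Kb a₀)
    rw [aeval_algebraMap_apply, coe_aeval_eq_eval] at hev
    have hrootint : ∀ α ∈ f.aroots Kb, IsIntegral A α := by
      intro α hα
      exact ⟨f, hf, by rw [← aeval_def]; exact (mem_aroots'.mp hα).2⟩
    let s : Multiset Ab := (f.aroots Kb).attach.map fun α =>
      ⟨algebraMap A Kb a₀ - α.1, Ab.sub_mem (Ab.algebraMap_mem a₀) (hrootint α.1 α.2)⟩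
    have hs : algebraMap A Ab (f.eval a₀) = s.prod := by
      apply Subtype.val_injective
      change algebraMap A Kb (f.eval a₀) = Ab.val s.prod
      rw [map_multiset_prod, hev, Multiset.map_map]
      conv_lhs => rw [← Multiset.attach_map_val (f.aroots Kb), Multiset.map_map]
      rfl
    have hs𝔫 : s.prod ∈ 𝔫 := by
      rw [← hs, hmem𝔫]
      exact h₁
    obtain ⟨t, hts, ht𝔫⟩ := (h𝔫prime.multiset_prod_mem_iff_exists_mem s).mp hs𝔫
    obtain ⟨⟨α, hα⟩, -, rfl⟩ := Multiset.mem_map.mp hts
    let αb : Ab := ⟨α, hrootint α hα⟩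
    have hdiff : algebraMap A Ab a₀ - αb ∈ 𝔫 := ht𝔫
    -- the derivative at α is not in 𝔫
    have hdvd := Polynomial.sub_dvd_eval_sub (algebraMap A Ab a₀) αb
      ((derivative f).map (algebraMap A Ab))
    have hder𝔫 : eval αb ((derivative f).map (algebraMap A Ab)) ∉ 𝔫 := by
      intro hcon
      have h3 : eval (algebraMap A Ab a₀) ((derivative f).map (algebraMap A Ab)) ∈ 𝔫 := by
        have := 𝔫.add_mem (Ideal.mem_of_dvd 𝔫 hdvd hdiff) hcon
        simpa using this
      rw [eval_map, eval₂_at_apply, hmem𝔫] at h3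
      exact h3 h₂
    have hderKb : aeval α (derivative f) ≠ 0 := by
      intro h0
      apply hder𝔫
      have : eval αb ((derivative f).map (algebraMap A Ab)) = 0 := by
        apply Subtype.val_injective
        rw [eval_map, ← aeval_def]
        change Ab.val (aeval αb (derivative f)) = 0
        rw [← Polynomial.aeval_algHom_apply]
        exact h0
      rw [this]
      exact 𝔫.zero_mem
    obtain ⟨a, ha⟩ := mem_of_simple_root A f hf α (mem_aroots'.mp hα).2 hderKb
    refine ⟨a, ?_, ?_⟩
    · apply hinjKb
      rw [map_zero, ← coe_aeval_eq_eval, ← aeval_algebraMap_apply, ha]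
      exact (mem_aroots'.mp hα).2
    · rw [← hmem𝔫]
      have : algebraMap A Ab (a - a₀) = -(algebraMap A Ab a₀ - αb) := by
        apply Subtype.val_injective
        change algebraMap A Kb (a - a₀) = -(algebraMap A Kb a₀ - α)
        rw [map_sub, ha]; ring
      rw [this]
      exact 𝔫.neg_mem hdiff
  · -- separably closed residue field
    let k := IsLocalRing.ResidueField A
    refine IsSepClosed.of_exists_root k fun p hpm hpirr hpsep => ?_
    have hlifts : p ∈ lifts (IsLocalRing.residue A) :=
      (Polynomial.mem_lifts p).mpr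
        (Polynomial.map_surjective _ (IsLocalRing.residue_surjective) p)
    obtain ⟨g, hgp, hgdeg, hgm⟩ := lifts_and_degree_eq_and_monic hlifts hpm
    have hgdeg0 : g.degree ≠ 0 := by
      rw [hgdeg]
      exact (Polynomial.degree_pos_of_irreducible hpirr).ne'
    have hfs : FaithfulSMul A Kb := (faithfulSMul_iff_algebraMap_injective A Kb).mpr hinjKb
    obtain ⟨α, hα⟩ := IsAlgClosed.exists_aeval_eq_zero Kb g hgdeg0
    have hαint : IsIntegral A α := ⟨g, hgm, by rw [← aeval_def]; exact hα⟩
    let αb : Ab := ⟨α, hαint⟩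
    have hαb : aeval αb g = 0 := by
      apply Subtype.val_injective
      change Ab.val (aeval αb g) = 0
      rw [← Polynomial.aeval_algHom_apply]
      exact hα
    let ψ : k →+* Ab ⧸ 𝔫 :=
      Ideal.quotientMap 𝔫 (algebraMap A Ab) (le_of_eq h𝔫over.symm)
    have hψ : ψ.comp (IsLocalRing.residue A) = (Ideal.Quotient.mk 𝔫).comp (algebraMap A Ab) := by
      ext x
      rfl
    have hnt : Nontrivial (Ab ⧸ 𝔫) := Ideal.Quotient.nontrivial_iff.mpr h𝔫max.ne_top
    have hroot : p.eval₂ ψ (Ideal.Quotient.mk 𝔫 αb) = 0 := by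
      rw [← hgp, eval₂_map, hψ, ← Polynomial.hom_eval₂, ← aeval_def, hαb, map_zero]
    have hder := hpsep.eval₂_derivative_ne_zero ψ hroot
    rw [← hgp, derivative_map, eval₂_map, hψ, ← Polynomial.hom_eval₂, ← aeval_def] at hder
    have hderKb : aeval α (derivative g) ≠ 0 := by
      intro h0
      apply hder
      have : aeval αb (derivative g) = 0 := by
        apply Subtype.val_injective
        change Ab.val (aeval αb (derivative g)) = 0
        rw [← Polynomial.aeval_algHom_apply]
        exact h0
      rw [this, map_zero]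
    obtain ⟨a, ha⟩ := mem_of_simple_root A g hgm α hα hderKb
    refine ⟨IsLocalRing.residue A a, ?_⟩
    rw [← hgp, eval_map, eval₂_at_apply]
    have : eval a g = 0 := by
      apply hinjKb
      rw [map_zero, ← coe_aeval_eq_eval, ← aeval_algebraMap_apply, ha]
      exact hα
    rw [this, map_zero]

end Groth.Agent.Helper1.SepHens

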