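import Mathlib
import Groth.Agent.Lib.Helper1.SerreCrit2

set_option autoImplicit false
universe u
open CategoryTheory CategoryTheory.Limits AlgebraicGeometry TopologicalSpace Opposite

namespace Groth.Agent.Helper1.SerreCrit

open Groth.Agent.Helper1.QcCech Groth.Agent.Helper1 Groth.Agent.Helper1.FinSigma

variable {X Y : Scheme.{u}}

/-- **relative Serre criterion** (EGA II 5.2.2 b ⇒ a): a quasi-compact quasi-separated morphism
whose direct image preserves epimorphisms of quasi-coherent modules is affine -/
theorem isAffineHom_of_pushforward_preserves_epi (f : X ⟶ Y) [QuasiCompact f] [QuasiSeparated f]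
    (h : ∀ (F F'' : X.Modules) (p : F ⟶ F''), F.IsQuasicoherent → F''.IsQuasicoherent → Epi p →
      Epi ((Scheme.Modules.pushforward f).map p)) :
    IsAffineHom f := by
  refine ⟨fun V hV => ?_⟩
  set U : X.Opens := f ⁻¹ᵁ V with hU
  obtain ⟨k, W, hW, hWU, hcov⟩ := exists_finite_affine_cover U (f.isCompact_preimage hV.isCompact)
  let p := sumMap W
  have hqF'' : (Abelian.image p).IsQuasicoherent := QcAbel.isQuasicoherent_image p
  let p' : (∐ B W) ⟶ Abelian.image p := Abelian.factorThruImage p
  have hepi := h _ _ p' inferInstance hqF'' inferInstance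
  have hq1 : ((Scheme.Modules.pushforward f).obj (∐ B W)).IsQuasicoherent :=
    PushQc.isQuasicoherent_pushforward f _
  have hq2 : ((Scheme.Modules.pushforward f).obj (Abelian.image p)).IsQuasicoherent :=
    PushQc.isQuasicoherent_pushforward f _
  have hsurj : Function.Surjective (p'.app U) :=
    AffPushEpi.app_surjective_of_epi ((Scheme.Modules.pushforward f).map p') V hV
  -- `1` is a section of the image over `U`
  let S : ShortComplex X.Modules :=
    ShortComplex.mk (Abelian.image.ι p) (cokernel.π p) (kernel.condition _)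
  have hS : S.Exact := ShortComplex.exact_of_f_is_kernel _ (kernelIsKernel (cokernel.π p))
  have : Mono S.f := inferInstanceAs (Mono (Abelian.image.ι p))
  have h0 : (cokernel.π p).app U (show Γ(Coh.structureModule X, U) from (1 : Γ(X, U))) = 0 := by
    apply TwistSec.eq_of_locally
    intro x hx
    obtain ⟨i, hi⟩ : ∃ i, x ∈ W i := Opens.mem_iSup.1 (hcov hx)
    obtain ⟨W', hW', hxW', m, hm⟩ := sumMap_locally_surjective W U
      (show Γ(Coh.structureModule X, U) from (1 : Γ(X, U))) x hx i hi
    refine ⟨W', hW', hxW', ?_⟩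
    rw [← QcExt.app_res, ← hm, map_zero]
    have := congrArg (fun ψ => Scheme.Modules.Hom.app ψ W' m) (cokernel.condition p)
    exact this
  obtain ⟨t, ht⟩ := QcAbel.app_exact' (S := S) hS U _ h0
  obtain ⟨m, hm⟩ := hsurj t
  refine isAffineOpen_of_sumMap_eq_one W U hW hWU m ?_
  have h1 : p' ≫ Abelian.image.ι p = p := Abelian.image.fac p
  change p.app U m = _
  rw [← h1]
  change (Abelian.image.ι p).app U (p'.app U m) = _
  rw [hm]
  exact ht

end Groth.Agent.Helper1.SerreCrit
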