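import Mathlib

set_option autoImplicit false

open CategoryTheory MonoidalCategory CartesianMonoidalCategory MonObj AlgebraicGeometry Limits

namespace Groth.Agent.Helper1.Shear

universe u

section
variable {C : Type*} [Category C] [CartesianMonoidalCategory C] (G : C) [GrpObj G]

/-- The shear isomorphism `(a, h) ↦ (a * h, h)`. -/
def shear : G ⊗ G ≅ G ⊗ G where
  hom := lift μ (snd G G)
  inv := lift (fst G G * (snd G G)⁻¹) (snd G G)
  hom_inv_id := by
    apply CartesianMonoidalCategory.hom_ext
    · rw [Category.assoc, lift_fst, MonObj.comp_mul, GrpObj.comp_inv, lift_fst, lift_snd,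
        Category.id_comp, MonObj.mul_eq_mul, mul_inv_cancel_right]
    · rw [Category.assoc, lift_snd, lift_snd, Category.id_comp]
  inv_hom_id := by
    apply CartesianMonoidalCategory.hom_ext
    · rw [Category.assoc, lift_fst, MonObj.mul_eq_mul, MonObj.comp_mul, lift_fst, lift_snd,
        Category.id_comp, inv_mul_cancel_right]
    · rw [Category.assoc, lift_snd, lift_snd, Category.id_comp]

end

set_option backward.isDefEq.respectTransparency.types false in
theorem isClosedImmersion_shear {S : Scheme.{u}} (G H : Over S)
    [GrpObj G] [GrpObj H] (i : G ⟶ H) [IsClosedImmersion i.left] :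
    IsClosedImmersion (CartesianMonoidalCategory.lift ((i ▷ H) ≫ μ[H]) (snd G H)).left := by
  have h1 : CartesianMonoidalCategory.lift ((i ▷ H) ≫ μ[H]) (snd G H) =
      (i ▷ H) ≫ (shear H).hom := by
    apply CartesianMonoidalCategory.hom_ext
    · rw [lift_fst, Category.assoc]
      show _ = i ▷ H ≫ (lift μ (snd H H) ≫ fst H H)
      rw [lift_fst]
    · rw [lift_snd, Category.assoc]
      show _ = i ▷ H ≫ (lift μ (snd H H) ≫ snd H H)
      rw [lift_snd, whiskerRight_snd]
  rw [h1, Over.comp_left]
  have h2 : IsClosedImmersion (i ▷ H).left := by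
    rw [CategoryTheory.Over.whiskerRight_left]
    exact MorphismProperty.pullbackMap (P := (@IsClosedImmersion : MorphismProperty Scheme.{u})) (inferInstance : IsClosedImmersion i.left)
      (inferInstance : IsClosedImmersion (𝟙 H.left)) (Over.w i).symm (Category.id_comp _).symm
  have h3 : IsIso (shear H).hom.left :=
    inferInstanceAs (IsIso ((Over.forget S).map (shear H).hom))
  infer_instance

end Groth.Agent.Helper1.Shear
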