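import Mathlib
import Groth.Agent.Lib.Helper1.NumDim1
import Groth.Agent.Lib.Helper1.MumA

/-!
# A Siu-type inequality: tools (helper1)

Divisors in a globally generated linear system avoiding associated points, the chain of
inequalities for `h⁰` along a thickened divisor, the negative binomial expansion of twisting
operators on `K₀` and an arithmetic identity.
-/

set_option backward.isDefEq.respectTransparency.types false
set_option synthInstance.maxHeartbeats 400000
set_option autoImplicit false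
set_option linter.unusedSectionVars false
set_option linter.style.haveILetI false
set_option linter.unusedVariables false
universe u
open CategoryTheory CategoryTheory.Limits AlgebraicGeometry TopologicalSpace Opposite

namespace Groth.Agent.Helper1.Siu

open Groth.Agent.Helper1 Groth.Agent.Helper1.Euler Groth.Agent.Helper1.Dv
open Groth.Agent.Helper1.FinLen Groth.Agent.Helper1.TwForm Groth.Agent.Helper1.Curve
open Groth.Agent.Helper1.Snap Groth.Agent.Helper1.SnapPos Groth.Agent.Helper1.FGAInt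
open Groth.Agent.Helper1.FGAPos Groth.Agent.Helper1.Kleiman Groth.Agent.Helper1.Big
open Groth.Agent.Lib.Helper4

section Divisor

variable (k : Type u) [Field k] (X : Scheme.{u}) [X.Over (Spec (CommRingCat.of k))]
  [IsProper (X ↘ (Spec (CommRingCat.of k)))]

/-- over an infinite field a globally generated invertible module has a regular section whose
zero scheme avoids the associated points of two given coherent modules -/
theorem exists_divisor [Infinite k] (B : X.Modules) (hB : PicF.IsInvertible B)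
    (hgg : Curv2.IsGloballyGenerated B) (M₁ M₂ : X.Modules)
    (h₁ : Coh.IsCoh M₁) (h₂ : Coh.IsCoh M₂) :
    ∃ D : X.IdealSheafData, PicF.IsInvertible (ClSub.idealMod D) ∧
      Nonempty (CohB1.tensorMod B (ClSub.idealMod D) ≅ Coh.structureModule X) ∧
      Mono (SnapCart2.tι D M₁) ∧ Mono (SnapCart2.tι D M₂) := by
  classical
  haveI := Groth.Agent.Helper1.Euler.isNoetherian_of_proper k X
  haveI : CompactSpace X := FBC.compactSpace_of_isProper k _
  obtain ⟨N, σ, hσ⟩ := GGBound.exists_fin_sections hB hgg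
  have hAss0 : {x : X | x ∈ (⊤ : X.Opens) ∧
      Curv2.IsAssPoint (Coh.structureModule X) x}.Finite :=
    Groth.Agent.S1576.result _ _ (Groth.Agent.Helper1.Dv.isCoh_structureModule _) ⊤
      (by simpa using isCompact_univ)
  have hAss1 : {x : X | x ∈ (⊤ : X.Opens) ∧ Curv2.IsAssPoint M₁ x}.Finite :=
    Groth.Agent.S1576.result _ M₁ h₁ ⊤ (by simpa using isCompact_univ)
  have hAss2 : {x : X | x ∈ (⊤ : X.Opens) ∧ Curv2.IsAssPoint M₂ x}.Finite :=
    Groth.Agent.S1576.result _ M₂ h₂ ⊤ (by simpa using isCompact_univ)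
  let ψ : k →+* Γ(X, ⊤) :=
    ((X ↘ Spec (CommRingCat.of k)).appTop.hom).comp
      (Scheme.ΓSpecIso (CommRingCat.of k)).inv.hom
  have hk : Infinite (IsLocalRing.ResidueField k) :=
    Infinite.of_injective _ (IsLocalRing.residue k).injective
  obtain ⟨a, ha⟩ := GGBound.exists_comb_mem_genLocus hk ψ hB σ hσ _
    ((hAss0.union hAss1).union hAss2)
  obtain ⟨τ, hτ⟩ : ∃ τ : Coh.structureModule X ⟶ B,
      τ = TwistAmple.homOfSec B (RegSpan.comb ψ σ a) := ⟨_, rfl⟩
  rw [← hτ] at ha
  have hass0 : ∀ x : X, Curv2.IsAssPoint (Coh.structureModule X) x →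
      x ∈ CohB1.genLocus B τ :=
    fun x hx => ha x (Or.inl (Or.inl ⟨trivial, hx⟩))
  haveI : Mono τ := AmpleAvoid.mono_of_assPoints_le_genLocus hB τ hass0
  obtain ⟨e⟩ := Groth.Agent.Helper2.ZeroConn.isInverseOf_idealMod_zeroScheme hB τ
  have hDinv : PicF.IsInvertible (ClSub.idealMod (PicF2.zeroScheme B τ)) :=
    CurveCart.isInvertible_left_of_tensor_iso hB (Groth.Agent.Lead.PicCalc.commIso _ _ ≪≫ e)
  refine ⟨PicF2.zeroScheme B τ, hDinv, ⟨e⟩, ?_, ?_⟩
  · exact SnapCart2.mono_tι _ hDinv M₁ h₁ (fun x hx hax =>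
      AmpleAvoid.not_mem_support_zeroScheme hB τ x
        (ha x (Or.inl (Or.inr ⟨trivial, hax⟩))) hx)
  · exact SnapCart2.mono_tι _ hDinv M₂ h₂ (fun x hx hax =>
      AmpleAvoid.not_mem_support_zeroScheme hB τ x
        (ha x (Or.inr ⟨trivial, hax⟩)) hx)

end Divisor

section Chain

variable (k : Type u) [Field k] (X : Scheme.{u}) [X.Over (Spec (CommRingCat.of k))]
  [IsProper (X ↘ (Spec (CommRingCat.of k)))]

/-- the ideal sequence of a closed subscheme is short exact -/
theorem idealS_shortExact (D : X.IdealSheafData) : (IdealModL.S D).ShortExact :=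
  { exact := IdealModL.S_exact D
    mono_f := inferInstance
    epi_g := CurveDual.epi_toSubscheme D }

/-- the first step: `h⁰(G) ≤ h⁰(G ⊗ I) + h⁰(G ⊗ O_D)` -/
theorem h0_step_one (D : X.IdealSheafData) (G : X.Modules) (hG : PicF.IsInvertible G) :
    Module.finrank k (Coh.HH X G 0) ≤
      Module.finrank k (Coh.HH X (CohB1.tensorMod G (ClSub.idealMod D)) 0) +
        Module.finrank k (Coh.HH X (CohB1.tensorMod G (ClSub.quotMod D)) 0) := by
  haveI := Groth.Agent.Helper1.Euler.isNoetherian_of_proper k X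
  have hGc : Coh.IsCoh G := InvQc.isCoh_of_isInvertible _ hG
  have hS := shortExact_tensor G (InvInv2.isFinLocFree_of_isInvertible hG) (IdealModL.S D)
    (idealS_shortExact X D)
  have h1 : Coh.IsCoh (CohB1.tensorMod G (ClSub.idealMod D)) :=
    isCoh_tensor _ _ hGc (CurveDual.isCoh_idealMod D)
  have h2 : Coh.IsCoh (CohB1.tensorMod G (Coh.structureModule X)) :=
    isCoh_tensor _ _ hGc (isCoh_structureModule X)
  have h3 : Coh.IsCoh (CohB1.tensorMod G (ClSub.quotMod D)) :=
    isCoh_tensor _ _ hGc (CurveDual.isCoh_quotMod D)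
  have h := finrank_HH0_mid_le k X hS h1 h2 h3
  have e : CohB1.tensorMod G (Coh.structureModule X) ≅ G :=
    Groth.Agent.Lib.Helper5.LTenFlf.tensorUnitIso G
  rw [← (HHFin1.HHequiv k e 0).finrank_eq]
  exact h

/-- the second step: twisting down by a linearly equivalent divisor avoiding the associated
points of `O_D` does not increase `h⁰` on `D` -/
theorem h0_step_two (D₁ D₂ : X.IdealSheafData)
    (e : ClSub.idealMod D₁ ≅ ClSub.idealMod D₂)
    (hmono : Mono (SnapCart2.tι D₂ (ClSub.quotMod D₁)))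
    (G : X.Modules) (hG : PicF.IsInvertible G) :
    Module.finrank k (Coh.HH X
        (CohB1.tensorMod (CohB1.tensorMod G (ClSub.idealMod D₁)) (ClSub.quotMod D₁)) 0) ≤
      Module.finrank k (Coh.HH X (CohB1.tensorMod G (ClSub.quotMod D₁)) 0) := by
  haveI := Groth.Agent.Helper1.Euler.isNoetherian_of_proper k X
  haveI := hmono
  have hGc : Coh.IsCoh G := InvQc.isCoh_of_isInvertible _ hG
  have hQc : Coh.IsCoh (ClSub.quotMod D₁) := CurveDual.isCoh_quotMod D₁
  let E1 : CohB1.tensorMod (CohB1.tensorMod G (ClSub.idealMod D₁)) (ClSub.quotMod D₁) ≅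
      CohB1.tensorMod G (CohB1.tensorMod (ClSub.quotMod D₁) (ClSub.idealMod D₂)) :=
    Groth.Agent.Lead.PicCalc.assocIso G (ClSub.idealMod D₁) (ClSub.quotMod D₁) ≪≫
      Groth.Agent.Lead.TilT.tensorModCongr (Iso.refl G)
        (Groth.Agent.Lead.PicCalc.commIso (ClSub.idealMod D₁) (ClSub.quotMod D₁) ≪≫
          Groth.Agent.Lead.TilT.tensorModCongr (Iso.refl (ClSub.quotMod D₁)) e)
  let f : CohB1.tensorMod G (CohB1.tensorMod (ClSub.quotMod D₁) (ClSub.idealMod D₂)) ⟶
      CohB1.tensorMod G (CohB1.tensorMod (ClSub.quotMod D₁) (Coh.structureModule X)) :=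
    (DCoh.tensorBi.obj G).map (SnapCart2.tι D₂ (ClSub.quotMod D₁))
  have hf : Mono f := mono_tensor_left G hG (SnapCart2.tι D₂ (ClSub.quotMod D₁))
  let E2 : CohB1.tensorMod G (CohB1.tensorMod (ClSub.quotMod D₁) (Coh.structureModule X)) ≅
      CohB1.tensorMod G (ClSub.quotMod D₁) :=
    Groth.Agent.Lead.TilT.tensorModCongr (Iso.refl G)
      (Groth.Agent.Lib.Helper5.LTenFlf.tensorUnitIso (ClSub.quotMod D₁))
  have hc : Coh.IsCoh (CohB1.tensorMod G
      (CohB1.tensorMod (ClSub.quotMod D₁) (Coh.structureModule X))) :=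
    isCoh_tensor _ _ hGc (isCoh_tensor _ _ hQc (isCoh_structureModule X))
  have h := finrank_HH0_le_of_mono' k X hc f hf
  rw [(HHFin1.HHequiv k E1 0).finrank_eq, ← (HHFin1.HHequiv k E2 0).finrank_eq]
  exact h

/-- `G` twisted `i` times by `I` -/
noncomputable def Gi (I G : X.Modules) : ℕ → X.Modules
  | 0 => G
  | i + 1 => CohB1.tensorMod (Gi I G i) I

theorem isInvertible_Gi {I G : X.Modules} (hI : PicF.IsInvertible I) (hG : PicF.IsInvertible G) :
    ∀ i : ℕ, PicF.IsInvertible (Gi X I G i)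
  | 0 => hG
  | i + 1 => isInvertible_tensorMod (isInvertible_Gi hI hG i) hI

theorem cl_Gi (I G : X.Modules) : ∀ i : ℕ, PicF.cl (Gi X I G i) = PicF.cl G * PicF.cl I ^ i
  | 0 => by rw [pow_zero, mul_one]; rfl
  | i + 1 => by
    change PicF.cl (CohB1.tensorMod (Gi X I G i) I) = _
    rw [Groth.Agent.Lead.PicCalc.cl_tensor, cl_Gi I G i, pow_succ, mul_assoc]

/-- the chain of inequalities along the thickened divisor -/
theorem h0_chain (D₁ D₂ : X.IdealSheafData) (hI₁ : PicF.IsInvertible (ClSub.idealMod D₁))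
    (e : ClSub.idealMod D₁ ≅ ClSub.idealMod D₂)
    (hmono : Mono (SnapCart2.tι D₂ (ClSub.quotMod D₁)))
    (G : X.Modules) (hG : PicF.IsInvertible G) (i : ℕ) :
    Module.finrank k (Coh.HH X G 0) ≤
      Module.finrank k (Coh.HH X (Gi X (ClSub.idealMod D₁) G i) 0) +
        i * Module.finrank k (Coh.HH X (CohB1.tensorMod G (ClSub.quotMod D₁)) 0) := by
  have hQ : ∀ j : ℕ, Module.finrank k (Coh.HH X
      (CohB1.tensorMod (Gi X (ClSub.idealMod D₁) G j) (ClSub.quotMod D₁)) 0) ≤
      Module.finrank k (Coh.HH X (CohB1.tensorMod G (ClSub.quotMod D₁)) 0) := by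
    intro j
    induction j with
    | zero => exact le_rfl
    | succ j ih =>
      exact (h0_step_two k X D₁ D₂ e hmono _ (isInvertible_Gi X hI₁ hG j)).trans ih
  induction i with
  | zero =>
    rw [Nat.zero_mul, Nat.add_zero]
    exact le_rfl
  | succ i ih =>
    have h1 := h0_step_one k X D₁ _ (isInvertible_Gi X hI₁ hG i)
    have h2 := hQ i
    change _ ≤ Module.finrank k (Coh.HH X
      (CohB1.tensorMod (Gi X (ClSub.idealMod D₁) G i) (ClSub.idealMod D₁)) 0) + _
    rw [Nat.succ_mul]
    omega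

end Chain

section Expand

variable {X : Scheme.{u}} [AlgebraicGeometry.IsNoetherian X]

/-- the negative binomial expansion of the powers of a twisting operator on the classes of
dimension `< r` -/
theorem T_pow_expand {L M : X.Modules} (hL : PicF.IsInvertible L) (hM : PicF.IsInvertible M)
    (hab : T L hL * T M hM = 1) (r : ℕ) (y : KZero.K0sub (PC X)) (hy : y ∈ FilLT X r)
    (m : ℕ) :
    ((T L hL) ^ m) y =
      ∑ j ∈ Finset.range r, (((m + j - 1).choose j : ℕ) : ℤ) • (((1 - T M hM) ^ j) y) := by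
  rcases r with _ | r
  · rw [FilLT_zero, AddSubgroup.mem_bot] at hy
    rw [hy, map_zero, Finset.range_zero, Finset.sum_empty]
  set u : AddMonoid.End (KZero.K0sub (PC X)) := 1 - T M hM with hu
  let f : ℕ → KZero.K0sub (PC X) := fun j => (u ^ j) y
  have hf : f (r + 1) = 0 := by
    have h := opM_mem X (fun _ : Fin (r + 1) => M) (fun _ => hM) (r + 1) y hy
    rw [opM_const, Nat.sub_self, FilLT_zero, AddSubgroup.mem_bot] at h
    exact h
  have hfs : ∀ j, u (f j) = f (j + 1) := fun j => by
    change u ((u ^ j) y) = (u ^ (j + 1)) y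
    rw [pow_succ']
    rfl
  induction m with
  | zero =>
    rw [pow_zero, Finset.sum_range_succ']
    have h0 : ∀ j ∈ Finset.range r,
        ((((0 + (j + 1) - 1).choose (j + 1) : ℕ) : ℤ)) • ((u ^ (j + 1)) y) = 0 := by
      intro j _
      rw [show 0 + (j + 1) - 1 = j by omega, Nat.choose_succ_self, Nat.cast_zero, zero_smul]
    rw [Finset.sum_eq_zero h0, zero_add]
    simp only [add_zero, Nat.zero_sub, Nat.choose_self, Nat.cast_one, one_smul]
    rfl
  | succ m ih =>
    have hstep := negBinom_step f r hf (fun m j => (m + j - 1).choose j) m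
      (by simp) (fun j => by
        change (m + 1 + (j + 1) - 1).choose (j + 1) =
          (m + 1 + j - 1).choose j + (m + (j + 1) - 1).choose (j + 1)
        rw [show m + 1 + (j + 1) - 1 = (m + j) + 1 by omega,
          show m + 1 + j - 1 = m + j by omega, show m + (j + 1) - 1 = m + j by omega,
          Nat.choose_succ_succ])
    beta_reduce at hstep
    have hT : T M hM = 1 - u := by rw [hu]; abel
    have hb : (T M hM) (∑ j ∈ Finset.range (r + 1),
        (((m + 1 + j - 1).choose j : ℕ) : ℤ) • f j) =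
        ∑ j ∈ Finset.range (r + 1), (((m + j - 1).choose j : ℕ) : ℤ) • f j := by
      rw [← hstep, hT]
      change (∑ j ∈ Finset.range (r + 1), (((m + 1 + j - 1).choose j : ℕ) : ℤ) • f j) -
        u (∑ j ∈ Finset.range (r + 1), (((m + 1 + j - 1).choose j : ℕ) : ℤ) • f j) = _
      rw [map_sum u]
      congr 1
      refine Finset.sum_congr rfl fun j _ => ?_
      rw [map_zsmul, hfs]
    rw [pow_succ']
    change T L hL (((T L hL) ^ m) y) = _
    rw [ih]
    change T L hL (∑ j ∈ Finset.range (r + 1), (((m + j - 1).choose j : ℕ) : ℤ) • f j) =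
      ∑ j ∈ Finset.range (r + 1), (((m + 1 + j - 1).choose j : ℕ) : ℤ) • f j
    rw [← hb]
    change (T L hL * T M hM) _ = _
    rw [hab]
    rfl

end Expand

section Arith

/-- the identity `m C(m+j-1, j) = (j+1) C(m+j, j+1) - j C(m+j-1, j)` -/
theorem choose_ident (m j : ℕ) :
    (m : ℤ) * ((m + j - 1).choose j : ℤ) =
      ((j : ℤ) + 1) * ((m + j).choose (j + 1) : ℤ) - (j : ℤ) * ((m + j - 1).choose j : ℤ) := by
  rcases Nat.eq_zero_or_pos (m + j) with h0 | hpos
  · have hm : m = 0 := by omega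
    have hj : j = 0 := by omega
    subst hm; subst hj
    simp
  · have h := Nat.add_one_mul_choose_eq (m + j - 1) j
    rw [show m + j - 1 + 1 = m + j by omega] at h
    have h' : ((m + j : ℕ) : ℤ) * ((m + j - 1).choose j : ℤ) =
        ((m + j).choose (j + 1) : ℤ) * ((j + 1 : ℕ) : ℤ) := by exact_mod_cast h
    push_cast at h'
    linarith

/-- the combination `a(m) - m b(m)` of two numerical polynomials in the negative binomial basis -/
theorem siu_arith (n m : ℕ) (α β : ℕ → ℤ) :
    (∑ j ∈ Finset.range (n + 1), ((m + j - 1).choose j : ℤ) * α j) -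
        (m : ℤ) * ∑ j ∈ Finset.range n, ((m + j - 1).choose j : ℤ) * β j =
      ∑ j ∈ Finset.range (n + 1), ((m + j - 1).choose j : ℤ) *
        (α j - (j : ℤ) * β (j - 1) + (j : ℤ) * (if j < n then β j else 0)) := by
  have h1 : (m : ℤ) * ∑ j ∈ Finset.range n, ((m + j - 1).choose j : ℤ) * β j =
      (∑ j ∈ Finset.range n, ((j : ℤ) + 1) * ((m + j).choose (j + 1) : ℤ) * β j) -
        ∑ j ∈ Finset.range n, (j : ℤ) * ((m + j - 1).choose j : ℤ) * β j := by
    rw [Finset.mul_sum, ← Finset.sum_sub_distrib]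
    refine Finset.sum_congr rfl fun j _ => ?_
    rw [← mul_assoc, choose_ident m j]
    ring
  have h2 : ∑ j ∈ Finset.range (n + 1), ((m + j - 1).choose j : ℤ) * ((j : ℤ) * β (j - 1)) =
      ∑ j ∈ Finset.range n, ((j : ℤ) + 1) * ((m + j).choose (j + 1) : ℤ) * β j := by
    rw [Finset.sum_range_succ']
    simp only [Nat.cast_zero, zero_mul, mul_zero, add_zero]
    refine Finset.sum_congr rfl fun j _ => ?_
    rw [show m + (j + 1) - 1 = m + j by omega, Nat.add_sub_cancel]
    push_cast
    ring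
  have h3 : ∑ j ∈ Finset.range (n + 1), ((m + j - 1).choose j : ℤ) *
      ((j : ℤ) * (if j < n then β j else 0)) =
      ∑ j ∈ Finset.range n, (j : ℤ) * ((m + j - 1).choose j : ℤ) * β j := by
    rw [Finset.sum_range_succ, if_neg (lt_irrefl n), mul_zero, mul_zero, add_zero]
    refine Finset.sum_congr rfl fun j hj => ?_
    rw [if_pos (Finset.mem_range.1 hj)]
    ring
  have h4 : ∑ j ∈ Finset.range (n + 1), ((m + j - 1).choose j : ℤ) *
      (α j - (j : ℤ) * β (j - 1) + (j : ℤ) * (if j < n then β j else 0)) =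
      (∑ j ∈ Finset.range (n + 1), ((m + j - 1).choose j : ℤ) * α j) -
        (∑ j ∈ Finset.range (n + 1), ((m + j - 1).choose j : ℤ) * ((j : ℤ) * β (j - 1))) +
        ∑ j ∈ Finset.range (n + 1), ((m + j - 1).choose j : ℤ) *
          ((j : ℤ) * (if j < n then β j else 0)) := by
    rw [← Finset.sum_sub_distrib, ← Finset.sum_add_distrib]
    refine Finset.sum_congr rfl fun j _ => ?_
    ring
  rw [h4, h1, h2, h3]
  ring

/-- eventual positivity of `a(m) - m b(m)` when `α_n - n β_{n-1} ≥ 1` -/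
theorem siu_pos (n : ℕ) (α β : ℕ → ℤ) (h : 1 ≤ α n - (n : ℤ) * β (n - 1)) :
    ∃ m₁ : ℕ, ∀ m : ℕ, m₁ ≤ m →
      1 ≤ (∑ j ∈ Finset.range (n + 1), ((m + j - 1).choose j : ℤ) * α j) -
        (m : ℤ) * ∑ j ∈ Finset.range n, ((m + j - 1).choose j : ℤ) * β j := by
  obtain ⟨j₀, a₀, ha₀, hj₀⟩ := arith_lb n
    (fun j => α j - (j : ℤ) * β (j - 1) + (j : ℤ) * (if j < n then β j else 0))
    (by
      change 1 ≤ α n - (n : ℤ) * β (n - 1) + (n : ℤ) * (if n < n then β n else 0)
      rw [if_neg (lt_irrefl n), mul_zero, add_zero]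
      exact h)
  refine ⟨max j₀ 1, fun m hm => ?_⟩
  have h1 := hj₀ m (le_trans (le_max_left _ _) hm)
  rw [siu_arith n m α β]
  have hm1 : 1 ≤ m := le_trans (le_max_right _ _) hm
  have hpow : (1 : ℤ) ≤ (m : ℤ) ^ n := one_le_pow₀ (by exact_mod_cast hm1)
  have ha : (0 : ℤ) < (a₀ : ℤ) := by exact_mod_cast ha₀
  by_contra hcon
  push Not at hcon
  have h2 : (∑ j ∈ Finset.range (n + 1), ((m + j - 1).choose j : ℤ) *
      (α j - (j : ℤ) * β (j - 1) + (j : ℤ) * (if j < n then β j else 0))) ≤ 0 := by omega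
  have h3 := mul_nonpos_of_nonneg_of_nonpos ha.le h2
  linarith

end Arith

end Groth.Agent.Helper1.Siu
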