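import Mathlib
import Groth.Agent.Lib.Helper1.Siu1

/-!
# A Siu-type inequality: the core estimate (helper1)
-/

set_option backward.isDefEq.respectTransparency.types false
set_option synthInstance.maxHeartbeats 400000
set_option autoImplicit false
set_option linter.unusedSectionVars false
set_option linter.style.haveILetI false
set_option linter.unusedVariables false
universe u
open CategoryTheory CategoryTheory.Limits AlgebraicGeometry TopologicalSpace Opposite

namespace Groth.Agent.Helper1.Siu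

open Groth.Agent.Helper1 Groth.Agent.Helper1.Euler Groth.Agent.Helper1.Dv
open Groth.Agent.Helper1.FinLen Groth.Agent.Helper1.TwForm Groth.Agent.Helper1.Curve
open Groth.Agent.Helper1.Snap Groth.Agent.Helper1.SnapPos Groth.Agent.Helper1.FGAInt
open Groth.Agent.Helper1.FGAPos Groth.Agent.Helper1.Kleiman Groth.Agent.Helper1.Big
open Groth.Agent.Lib.Helper4 Groth.Agent.Lead

section Core

variable (k : Type u) [Field k] (X : Scheme.{u}) [X.Over (Spec (CommRingCat.of k))]
  [IsProper (X ↘ (Spec (CommRingCat.of k)))] [AlgebraicGeometry.IsNoetherian X]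

/-- `(1 - T_M)^j = (T_L - 1)^j` on classes of dimension `≤ j`, for `M` inverse to `L` -/
theorem one_sub_pow_eq {L M : X.Modules} (hL : PicF.IsInvertible L) (hM : PicF.IsInvertible M)
    (i : CohB1.tensorMod L M ≅ Coh.structureModule X) (j : ℕ) (y : KZero.K0sub (PC X))
    (hy : y ∈ FilLT X (j + 1)) :
    ((1 - T M hM) ^ j) y = ((T L hL - 1) ^ j) y := by
  have h := opM_eq_opL X j (fun _ => L) (fun _ => M) (fun _ => hL) (fun _ => hM)
    (fun _ => ⟨i⟩) y hy
  rw [opM_const, opL_const' L hL j (fun _ => hL)] at h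
  exact h

/-- `h⁰` of a twist without higher cohomology, in `K₀` -/
theorem h0_eq_euler_T (n : ℕ) (hn : topologicalKrullDim X ≤ ((n : ℕ) : WithBot ℕ∞))
    (N : X.Modules) (hN : PicF.IsInvertible N) (F : X.Modules) (hF : Coh.IsCoh F)
    (hvan : ∀ p : ℕ, 0 < p → Subsingleton (Coh.HH X (CohB1.tensorMod F N) p)) :
    (Module.finrank k (Coh.HH X (CohB1.tensorMod N F) 0) : ℤ) =
      eulerHom k X (T N hN (KZero.clSub (PC X) F)) := by
  have hNc : Coh.IsCoh N := InvQc.isCoh_of_isInvertible _ hN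
  have hvan' : ∀ p : ℕ, 0 < p → Subsingleton (Coh.HH X (CohB1.tensorMod N F) p) := by
    intro p hp
    haveI := hvan p hp
    exact (HHFin1.HHequiv k (TildeTens.tensorModComm N F) p).toEquiv.subsingleton
  rw [T_clSub N hN F hF, eulerHom_clSub k X _ (isCoh_tensor _ _ hNc hF),
    ← eulerCharLE_eq_euler k X n hn, eulerCharLE_eq_h0 k X _ n hvan']

/-- **the core estimate**: if `(D^n) - n (D^{n-1} · B) ≥ 1` for an ample `D` and a globally
generated invertible `B`, then some `D^m ⊗ B^{-m}` with `m ≥ 1` has a nonzero section -/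
theorem siu_core [IsIntegral X] [Infinite k] (n : ℕ)
    (hn : topologicalKrullDim X = ((n : ℕ) : WithBot ℕ∞))
    (D B : X.Modules) (hD : CohB1.IsAmple D) (hB : PicF.IsInvertible B)
    (hgg : Curv2.IsGloballyGenerated B)
    (hpos : 1 ≤ eulerHom k X (((T D hD.1 - 1) ^ n)
        (KZero.clSub (PC X) (Coh.structureModule X))) -
      (n : ℤ) * eulerHom k X (((T D hD.1 - 1) ^ (n - 1))
        ((T B hB - 1) (KZero.clSub (PC X) (Coh.structureModule X))))) :
    ∃ (m : ℕ) (G : X.Modules), 1 ≤ m ∧ PicF.IsInvertible G ∧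
      PicF.cl G * PicF.cl B ^ m = PicF.cl D ^ m ∧
      0 < Module.finrank k (Coh.HH X G 0) := by
  have hOc := isCoh_structureModule X
  have hDi := hD.1
  have hDc : Coh.IsCoh D := InvQc.isCoh_of_isInvertible _ hDi
  obtain ⟨o, ho_def⟩ : ∃ o : KZero.K0sub (PC X),
      o = KZero.clSub (PC X) (Coh.structureModule X) := ⟨_, rfl⟩
  rw [← ho_def] at hpos
  -- divisors
  obtain ⟨D₁, hI₁, ⟨e₁⟩, -, -⟩ := exists_divisor k X B hB hgg _ _ hOc hOc
  have hQc : Coh.IsCoh (ClSub.quotMod D₁) := CurveDual.isCoh_quotMod D₁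
  obtain ⟨D₂, hI₂, ⟨e₂⟩, hmono, -⟩ := exists_divisor k X B hB hgg _ _ hQc hQc
  have hI₁c : Coh.IsCoh (ClSub.idealMod D₁) := CurveDual.isCoh_idealMod D₁
  have c1 : PicF.cl B * PicF.cl (ClSub.idealMod D₁) = 1 := PicCalc.cl_eq_of_iso e₁
  have c2 : PicF.cl B * PicF.cl (ClSub.idealMod D₂) = 1 := PicCalc.cl_eq_of_iso e₂
  obtain ⟨e⟩ : Nonempty (ClSub.idealMod D₁ ≅ ClSub.idealMod D₂) := by
    apply PicCalc.nonempty_iso_of_cl_eq
    calc PicF.cl (ClSub.idealMod D₁)
        = PicF.cl (ClSub.idealMod D₁) * (PicF.cl B * PicF.cl (ClSub.idealMod D₂)) := by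
          rw [c2, mul_one]
      _ = (PicF.cl B * PicF.cl (ClSub.idealMod D₁)) * PicF.cl (ClSub.idealMod D₂) := by ac_rfl
      _ = PicF.cl (ClSub.idealMod D₂) := by rw [c1, one_mul]
  -- the inverse of `D`
  obtain ⟨KD, hKD, ⟨eKD⟩⟩ := InvInv2.exists_inverse hDi
  have iD : CohB1.tensorMod D KD ≅ Coh.structureModule X :=
    TildeTens.tensorModComm D KD ≪≫ eKD
  have hab : T D hDi * T KD hKD = 1 := T_mul_of_inverse hDi hKD iD
  -- classes
  have hdimO : topologicalKrullDim ↥(CohB1.support (Coh.structureModule X)) ≤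
      ((n : ℕ) : WithBot ℕ∞) := (topologicalKrullDim_subspace_le X _).trans hn.le
  have ho : o ∈ FilLT X (n + 1) := by
    rw [ho_def]; exact clSub_mem_FilLT n _ hOc hdimO
  obtain ⟨q, hq_def⟩ : ∃ q : KZero.K0sub (PC X),
      q = KZero.clSub (PC X) (ClSub.quotMod D₁) := ⟨_, rfl⟩
  have hTI : T (ClSub.idealMod D₁) hI₁ o = KZero.clSub (PC X) (ClSub.idealMod D₁) := by
    rw [ho_def, T_clSub _ hI₁ _ hOc]
    exact (clSub_iso (Groth.Agent.Lib.Helper5.LTenFlf.tensorUnitIso (ClSub.idealMod D₁))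
      (isCoh_tensor _ _ hI₁c hOc)).symm
  have hses : o = KZero.clSub (PC X) (ClSub.idealMod D₁) + q := by
    rw [ho_def, hq_def]
    exact clSub_ses (IdealModL.S D₁) (idealS_shortExact X D₁) hI₁c hOc hQc
  have hq : q = o - T (ClSub.idealMod D₁) hI₁ o := by
    rw [hTI]
    exact eq_sub_of_add_eq' hses.symm
  obtain ⟨z, hz_def⟩ : ∃ z : KZero.K0sub (PC X), z = (T B hB - 1) o := ⟨_, rfl⟩
  rw [← hz_def] at hpos
  have hz : z ∈ FilLT X n := by
    have h := low_D B hB (n + 1) o ho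
    rw [Nat.add_sub_cancel] at h
    rw [hz_def]; exact h
  have hBI : T B hB * T (ClSub.idealMod D₁) hI₁ = 1 := T_mul_of_inverse hB hI₁ e₁
  have hIB : T (ClSub.idealMod D₁) hI₁ * T B hB = 1 := by
    rw [(T_comm _ _ hI₁ hB).eq]; exact hBI
  have hqz : q = T (ClSub.idealMod D₁) hI₁ z := by
    have h1 : T (ClSub.idealMod D₁) hI₁ (T B hB o) = o := by
      change (T (ClSub.idealMod D₁) hI₁ * T B hB) o = o
      rw [hIB]; rfl
    rw [hq, hz_def]
    change o - T (ClSub.idealMod D₁) hI₁ o = T (ClSub.idealMod D₁) hI₁ (T B hB o - o)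
    rw [map_sub, h1]
  have hq_mem : q ∈ FilLT X n := by
    have h := low_T (ClSub.idealMod D₁) hI₁ n z hz
    rw [Nat.sub_zero] at h
    rw [hqz]; exact h
  -- the expansions
  obtain ⟨α, hα⟩ : ∃ α : ℕ → ℤ, α = fun j => eulerHom k X (((1 - T KD hKD) ^ j) o) := ⟨_, rfl⟩
  obtain ⟨β, hβ⟩ : ∃ β : ℕ → ℤ, β = fun j => eulerHom k X (((1 - T KD hKD) ^ j) q) := ⟨_, rfl⟩
  have hA : ∀ m : ℕ, eulerHom k X (((T D hDi) ^ m) o) =
      ∑ j ∈ Finset.range (n + 1), ((m + j - 1).choose j : ℤ) * α j := by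
    intro m
    rw [T_pow_expand hDi hKD hab (n + 1) o ho m, map_sum, hα]
    refine Finset.sum_congr rfl fun j _ => ?_
    rw [map_zsmul, smul_eq_mul]
  have hBq : ∀ m : ℕ, eulerHom k X (((T D hDi) ^ m) q) =
      ∑ j ∈ Finset.range n, ((m + j - 1).choose j : ℤ) * β j := by
    intro m
    rw [T_pow_expand hDi hKD hab n q hq_mem m, map_sum, hβ]
    refine Finset.sum_congr rfl fun j _ => ?_
    rw [map_zsmul, smul_eq_mul]
  -- the leading coefficients
  have hγ : 1 ≤ α n - (n : ℤ) * β (n - 1) := by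
    have hαn : α n = eulerHom k X (((T D hDi - 1) ^ n) o) := by
      rw [hα]
      change eulerHom k X (((1 - T KD hKD) ^ n) o) = _
      rw [one_sub_pow_eq X hDi hKD iD n o ho]
    rcases n with _ | n'
    · rw [hαn]
      simpa using hpos
    · rw [Nat.add_sub_cancel] at hpos ⊢
      have hβn : β n' = eulerHom k X (((T D hDi - 1) ^ n') z) := by
        rw [hβ]
        change eulerHom k X (((1 - T KD hKD) ^ n') q) = _
        rw [one_sub_pow_eq X hDi hKD iD n' q hq_mem]
        congr 1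
        have hPz : ((T D hDi - 1) ^ n') z ∈ FilLT X 1 := by
          have h := ((low_D D hDi).pow n') (n' + 1) z hz
          rwa [show n' + 1 - n' = 1 by omega] at h
        have hcomm : Commute (T (ClSub.idealMod D₁) hI₁) ((T D hDi - 1) ^ n') :=
          ((T_comm _ _ hI₁ hDi).sub_right (Commute.one_right _)).pow_right n'
        have h0 := low_D (ClSub.idealMod D₁) hI₁ 1 (((T D hDi - 1) ^ n') z) hPz
        rw [Nat.sub_self, FilLT_zero, AddSubgroup.mem_bot] at h0
        have h1 : T (ClSub.idealMod D₁) hI₁ (((T D hDi - 1) ^ n') z) =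
            ((T D hDi - 1) ^ n') z := by
          have h2 : T (ClSub.idealMod D₁) hI₁ (((T D hDi - 1) ^ n') z) -
              ((T D hDi - 1) ^ n') z = 0 := h0
          exact sub_eq_zero.1 h2
        rw [hqz]
        change (((T D hDi - 1) ^ n') * T (ClSub.idealMod D₁) hI₁) z = _
        rw [← hcomm.eq]
        exact h1
      rw [hαn, hβn]
      exact hpos
  obtain ⟨m₁, hm₁⟩ := siu_pos n α β hγ
  -- Serre vanishing
  obtain ⟨m₀, hm₀⟩ := SerreAmple.serre_vanishing k (X ↘ Spec (CommRingCat.of k)) hD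
    (Coh.structureModule X) hOc
  obtain ⟨m₀', hm₀'⟩ := SerreAmple.serre_vanishing k (X ↘ Spec (CommRingCat.of k)) hD
    (ClSub.quotMod D₁) hQc
  obtain ⟨m, hm_def⟩ : ∃ m : ℕ, m = max (max m₀ m₀') (max m₁ 1) := ⟨_, rfl⟩
  have hm0 : m₀ ≤ m := by rw [hm_def]; exact le_trans (le_max_left _ _) (le_max_left _ _)
  have hm0' : m₀' ≤ m := by rw [hm_def]; exact le_trans (le_max_right _ _) (le_max_left _ _)
  have hm1 : m₁ ≤ m := by rw [hm_def]; exact le_trans (le_max_left _ _) (le_max_right _ _)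
  have hm1' : 1 ≤ m := by rw [hm_def]; exact le_trans (le_max_right _ _) (le_max_right _ _)
  have hDm : PicF.IsInvertible (CohB1.tensorPow D m) := isInvertible_tensorPow hDi m
  have h0O : (Module.finrank k (Coh.HH X (CohB1.tensorPow D m) 0) : ℤ) =
      eulerHom k X (((T D hDi) ^ m) o) := by
    have eU : CohB1.tensorMod (CohB1.tensorPow D m) (Coh.structureModule X) ≅
        CohB1.tensorPow D m := Groth.Agent.Lib.Helper5.LTenFlf.tensorUnitIso _
    rw [← T_tensorPow hDi m hDm, ho_def,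
      ← h0_eq_euler_T k X n hn.le _ hDm _ hOc (hm₀ m hm0)]
    exact congrArg (fun z : ℕ => (z : ℤ)) ((HHFin1.HHequiv k eU 0).finrank_eq).symm
  have h0Q : (Module.finrank k (Coh.HH X
      (CohB1.tensorMod (CohB1.tensorPow D m) (ClSub.quotMod D₁)) 0) : ℤ) =
      eulerHom k X (((T D hDi) ^ m) q) := by
    rw [← T_tensorPow hDi m hDm, hq_def,
      ← h0_eq_euler_T k X n hn.le _ hDm _ hQc (hm₀' m hm0')]
  have hchain := h0_chain k X D₁ D₂ hI₁ e hmono (CohB1.tensorPow D m) hDm m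
  have hposm := hm₁ m hm1
  rw [← hA m, ← hBq m, ← h0O, ← h0Q] at hposm
  have hchainZ : (Module.finrank k (Coh.HH X (CohB1.tensorPow D m) 0) : ℤ) ≤
      (Module.finrank k (Coh.HH X (Gi X (ClSub.idealMod D₁) (CohB1.tensorPow D m) m) 0) : ℤ) +
        (m : ℤ) * (Module.finrank k (Coh.HH X
          (CohB1.tensorMod (CohB1.tensorPow D m) (ClSub.quotMod D₁)) 0) : ℤ) := by
    exact_mod_cast hchain
  refine ⟨m, Gi X (ClSub.idealMod D₁) (CohB1.tensorPow D m) m, hm1',
    isInvertible_Gi X hI₁ hDm m, ?_, ?_⟩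
  · rw [cl_Gi, AmpleAvoid.cl_tensorPow', mul_assoc, ← mul_pow, mul_comm (PicF.cl (ClSub.idealMod D₁)),
      c1, one_pow, mul_one]
  · have : (0 : ℤ) < (Module.finrank k
        (Coh.HH X (Gi X (ClSub.idealMod D₁) (CohB1.tensorPow D m) m) 0) : ℤ) := by linarith
    exact_mod_cast this

end Core

end Groth.Agent.Helper1.Siu
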