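import Mathlib
import Groth.Agent.Lib.Helper1.Siu2

/-!
# A nef module with positive top self-intersection is big (helper1)
-/

set_option backward.isDefEq.respectTransparency.types false
set_option synthInstance.maxHeartbeats 400000
set_option autoImplicit false
set_option linter.unusedSectionVars false
set_option linter.style.haveILetI false
set_option linter.unusedVariables false
universe u
open CategoryTheory CategoryTheory.Limits AlgebraicGeometry TopologicalSpace Opposite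

namespace Groth.Agent.Helper1.Siu

open Groth.Agent.Helper1 Groth.Agent.Helper1.Euler Groth.Agent.Helper1.Dv
open Groth.Agent.Helper1.FinLen Groth.Agent.Helper1.TwForm Groth.Agent.Helper1.Curve
open Groth.Agent.Helper1.Snap Groth.Agent.Helper1.SnapPos Groth.Agent.Helper1.FGAInt
open Groth.Agent.Helper1.FGAPos Groth.Agent.Helper1.Kleiman Groth.Agent.Helper1.Big
open Groth.Agent.Lib.Helper4 Groth.Agent.Lead

section Main

variable (k : Type u) [Field k] (X : Scheme.{u}) [X.Over (Spec (CommRingCat.of k))]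
  [IsProper (X ↘ (Spec (CommRingCat.of k)))] [AlgebraicGeometry.IsNoetherian X]

/-- the choice of the exponent `t` making `(D_t^n) > n (D_t^{n-1} · H^c)` for `D_t = L^t ⊗ H` -/
theorem key_pos (n' : ℕ)
    (hn : topologicalKrullDim X = (((n' + 1 : ℕ) : ℕ) : WithBot ℕ∞))
    (H : X.Modules) (hH : CohB1.IsAmple H) (L : X.Modules) (hL : PicF.IsInvertible L)
    (hnef : NefS k X L) (c : ℕ) (hB : PicF.IsInvertible (CohB1.tensorPow H c))
    (hpos : 0 < lam k X L hL (n' + 1) (KZero.clSub (PC X) (Coh.structureModule X))) :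
    ∃ t : ℕ, 1 ≤ t ∧ ∀ (D : X.Modules) (hDi : PicF.IsInvertible D),
      T D hDi = (T L hL) ^ t * (T H hH.1) ^ 1 →
      1 ≤ eulerHom k X (((T D hDi - 1) ^ (n' + 1))
          (KZero.clSub (PC X) (Coh.structureModule X))) -
        ((n' + 1 : ℕ) : ℤ) * eulerHom k X (((T D hDi - 1) ^ n')
          ((T (CohB1.tensorPow H c) hB - 1) (KZero.clSub (PC X) (Coh.structureModule X)))) := by
  have hOc := isCoh_structureModule X
  have hHi := hH.1
  obtain ⟨o, ho_def⟩ : ∃ o : KZero.K0sub (PC X),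
      o = KZero.clSub (PC X) (Coh.structureModule X) := ⟨_, rfl⟩
  rw [← ho_def] at hpos ⊢
  have hdimO : topologicalKrullDim ↥(CohB1.support (Coh.structureModule X)) ≤
      (((n' + 1 : ℕ) : ℕ) : WithBot ℕ∞) := (topologicalKrullDim_subspace_le X _).trans hn.le
  have ho : o ∈ FilLT X (n' + 2) := by
    rw [ho_def]; exact clSub_mem_FilLT (n' + 1) _ hOc hdimO
  -- the mixed intersection numbers
  obtain ⟨s, hs_def⟩ : ∃ s : ℕ → ℤ,
      s = fun j => sym k X L H hL hHi j (n' + 1 - j) o := ⟨_, rfl⟩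
  have hs : ∀ j : ℕ, j ≤ n' + 1 → 0 ≤ s j := by
    intro j hj
    have h := km_coh k X L H hL hH hnef (n' + 1) _ hOc hdimO j (n' + 1 - j) (by omega)
    rw [← ho_def] at h
    rw [hs_def]; exact h
  have hlam : 1 ≤ s (n' + 1) := by
    rw [hs_def]
    change 1 ≤ sym k X L H hL hHi (n' + 1) (n' + 1 - (n' + 1)) o
    rw [Nat.sub_self, sym_apply, pow_zero, mul_one]
    rw [lam_apply] at hpos
    linarith
  obtain ⟨S, hS_def⟩ : ∃ S : ℤ,
      S = ∑ j ∈ Finset.range (n' + 1), (n'.choose j : ℤ) * s j := ⟨_, rfl⟩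
  have hS : 0 ≤ S := by
    rw [hS_def]
    refine Finset.sum_nonneg fun j hj => ?_
    have hj' := Finset.mem_range.1 hj
    exact mul_nonneg (Int.natCast_nonneg _) (hs j (by omega))
  have hprod : 0 ≤ ((n' + 1 : ℕ) : ℤ) * (c : ℤ) * S :=
    mul_nonneg (mul_nonneg (Int.natCast_nonneg _) (Int.natCast_nonneg _)) hS
  refine ⟨(((n' + 1 : ℕ) : ℤ) * (c : ℤ) * S).toNat + 1, Nat.le_add_left 1 _, ?_⟩
  intro D hDi hTD
  obtain ⟨t, ht_def⟩ : ∃ t : ℕ, t = (((n' + 1 : ℕ) : ℤ) * (c : ℤ) * S).toNat + 1 := ⟨_, rfl⟩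
  rw [← ht_def] at hTD
  have ht : (t : ℤ) = ((n' + 1 : ℕ) : ℤ) * (c : ℤ) * S + 1 := by
    rw [ht_def]
    push_cast
    rw [Int.toNat_of_nonneg (by exact_mod_cast hprod)]
  have ht1 : (1 : ℤ) ≤ (t : ℤ) := by rw [ht]; linarith
  have hcLH : Commute (T L hL - 1) (T H hHi - 1) :=
    ((T_comm L H hL hHi).sub_right (Commute.one_right _)).sub_left (Commute.one_left _)
  -- the top self-intersection of `D`
  have hα := euler_twist_expand k X L H D hL hHi hDi t 1 hTD (n' + 1) 0 1 low_one o (n' + 2) ho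
    (by omega)
  have hα' : eulerHom k X (((T D hDi - 1) ^ (n' + 1)) o) =
      ∑ j ∈ Finset.range (n' + 1 + 1), ((n' + 1).choose j : ℤ) * ((t : ℤ) ^ j * s j) := by
    refine hα.trans (Finset.sum_congr rfl fun j _ => ?_)
    rw [hs_def]
    push_cast
    rw [one_pow, mul_one, sym_apply, mul_assoc]
    rfl
  have hαge : (t : ℤ) ^ (n' + 1) ≤ eulerHom k X (((T D hDi - 1) ^ (n' + 1)) o) := by
    rw [hα']
    have hterm : ∀ j ∈ Finset.range (n' + 1 + 1),
        0 ≤ ((n' + 1).choose j : ℤ) * ((t : ℤ) ^ j * s j) := by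
      intro j hj
      have hj' := Finset.mem_range.1 hj
      exact mul_nonneg (Int.natCast_nonneg _)
        (mul_nonneg (pow_nonneg (by linarith) _) (hs j (by omega)))
    have h1 := Finset.single_le_sum hterm (Finset.self_mem_range_succ (n' + 1))
    rw [Nat.choose_self, Nat.cast_one, one_mul] at h1
    have h2 : (t : ℤ) ^ (n' + 1) ≤ (t : ℤ) ^ (n' + 1) * s (n' + 1) :=
      le_mul_of_one_le_right (pow_nonneg (by linarith) _) hlam
    exact h2.trans h1
  -- the mixed term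
  obtain ⟨W, hW, hWeq⟩ := exists_low_pow H hHi c
  have hTB : T (CohB1.tensorPow H c) hB = (T H hHi) ^ c := T_tensorPow hHi c hB
  have hPlow : Low n' ((T D hDi - 1) ^ n') := (low_D D hDi).pow n'
  have hPW : ((T D hDi - 1) ^ n') (W o) = 0 := by
    have h := hW (n' + 2) o ho
    rw [show n' + 2 - 2 = n' by omega] at h
    exact hPlow.eq_zero n' le_rfl _ h
  have hcHP : Commute (T H hHi - 1) ((T D hDi - 1) ^ n') :=
    (((T_comm H D hHi hDi).sub_left (Commute.one_left _)).sub_right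
      (Commute.one_right _)).pow_right n'
  have hz : ((T D hDi - 1) ^ n') ((T (CohB1.tensorPow H c) hB - 1) o) =
      c • ((T H hHi - 1) (((T D hDi - 1) ^ n') o)) := by
    rw [hTB, hWeq]
    change ((T D hDi - 1) ^ n') (c • ((T H hHi - 1) o) + W o) = _
    rw [map_add, hPW, add_zero, map_nsmul]
    congr 1
    change (((T D hDi - 1) ^ n') * (T H hHi - 1)) o = ((T H hHi - 1) * ((T D hDi - 1) ^ n')) o
    rw [hcHP.eq]
  have hβ := euler_twist_expand k X L H D hL hHi hDi t 1 hTD n' 1 (T H hHi - 1)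
    (low_D H hHi) o (n' + 2) ho (by omega)
  have hβ' : eulerHom k X ((T H hHi - 1) (((T D hDi - 1) ^ n') o)) =
      ∑ j ∈ Finset.range (n' + 1), (n'.choose j : ℤ) * ((t : ℤ) ^ j * s j) := by
    refine hβ.trans (Finset.sum_congr rfl fun j hj => ?_)
    have hj' := Finset.mem_range.1 hj
    rw [hs_def]
    push_cast
    rw [one_pow, mul_one, sym_apply, mul_assoc]
    congr 2
    have hcj : Commute (T H hHi - 1) ((T L hL - 1) ^ j) := (hcLH.symm).pow_right j
    change eulerHom k X (((T H hHi - 1) * ((T L hL - 1) ^ j * (T H hHi - 1) ^ (n' - j))) o) =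
      eulerHom k X (((T L hL - 1) ^ j * (T H hHi - 1) ^ (n' + 1 - j)) o)
    rw [← mul_assoc, hcj.eq, mul_assoc, ← pow_succ', show n' - j + 1 = n' + 1 - j by omega]
  have hβle : eulerHom k X ((T H hHi - 1) (((T D hDi - 1) ^ n') o)) ≤ (t : ℤ) ^ n' * S := by
    rw [hβ', hS_def, Finset.mul_sum]
    refine Finset.sum_le_sum fun j hj => ?_
    have hj' := Finset.mem_range.1 hj
    have hpow : (t : ℤ) ^ j ≤ (t : ℤ) ^ n' := pow_le_pow_right₀ ht1 (by omega)
    have hsj := hs j (by omega)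
    have hc0 : (0 : ℤ) ≤ (n'.choose j : ℤ) := Int.natCast_nonneg _
    have h1 : (t : ℤ) ^ j * s j ≤ (t : ℤ) ^ n' * s j := mul_le_mul_of_nonneg_right hpow hsj
    have h2 := mul_le_mul_of_nonneg_left h1 hc0
    calc (n'.choose j : ℤ) * ((t : ℤ) ^ j * s j) ≤ (n'.choose j : ℤ) * ((t : ℤ) ^ n' * s j) := h2
      _ = (t : ℤ) ^ n' * ((n'.choose j : ℤ) * s j) := by ring
  -- conclusion
  rw [hz, map_nsmul, nsmul_eq_mul]
  obtain ⟨u, hu_def⟩ : ∃ u : ℤ, u = (t : ℤ) ^ n' := ⟨_, rfl⟩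
  have hu1 : 1 ≤ u := by rw [hu_def]; exact one_le_pow₀ ht1
  have hpow_succ : (t : ℤ) ^ (n' + 1) = u * (t : ℤ) := by rw [hu_def, pow_succ]
  rw [hpow_succ, ht] at hαge
  rw [← hu_def] at hβle
  have hc0 : (0 : ℤ) ≤ ((n' + 1 : ℕ) : ℤ) * (c : ℤ) :=
    mul_nonneg (Int.natCast_nonneg _) (Int.natCast_nonneg _)
  have h3 := mul_le_mul_of_nonneg_left hβle hc0
  have hid : u * (((n' + 1 : ℕ) : ℤ) * (c : ℤ) * S + 1) =
      ((n' + 1 : ℕ) : ℤ) * (c : ℤ) * (u * S) + u := by ring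
  rw [hid] at hαge
  have h4 : ((n' + 1 : ℕ) : ℤ) * ((c : ℤ) *
      eulerHom k X ((T H hHi - 1) (((T D hDi - 1) ^ n') o))) =
      ((n' + 1 : ℕ) : ℤ) * (c : ℤ) *
        eulerHom k X ((T H hHi - 1) (((T D hDi - 1) ^ n') o)) := by ring
  rw [h4]
  linarith

/-- **a nef invertible module with positive top self-intersection is big** -/
theorem exists_mono_ample_of_pos [IsIntegral X] [Infinite k] (n : ℕ)
    (hn : topologicalKrullDim X = ((n : ℕ) : WithBot ℕ∞))
    (H : X.Modules) (hH : CohB1.IsAmple H) (L : X.Modules) (hL : PicF.IsInvertible L)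
    (hnef : NefS k X L)
    (hpos : 0 < lam k X L hL n (KZero.clSub (PC X) (Coh.structureModule X))) :
    ∃ (ν : ℕ) (A : X.Modules) (φ : A ⟶ CohB1.tensorPow L ν),
      0 < ν ∧ CohB1.IsAmple A ∧ Mono φ := by
  have hOc := isCoh_structureModule X
  have hOi : PicF.IsInvertible (Coh.structureModule X) := GenLoc.isInvertible_O
  have hHi := hH.1
  obtain ⟨c₀, hc₀⟩ := AmpleLib.eventually_globallyGenerated hH _ hOc
  have hB : PicF.IsInvertible (CohB1.tensorPow H (c₀ + 2)) := isInvertible_tensorPow hHi _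
  have hgg : Curv2.IsGloballyGenerated (CohB1.tensorPow H (c₀ + 2)) :=
    AmpleLib.isGloballyGenerated_of_iso (PicCalc.lunitIso _) (hc₀ (c₀ + 2) (by omega))
  -- the exponent
  have key : ∃ t : ℕ, 1 ≤ t ∧ ∀ (D : X.Modules) (hDi : PicF.IsInvertible D),
      T D hDi = (T L hL) ^ t * (T H hHi) ^ 1 →
      1 ≤ eulerHom k X (((T D hDi - 1) ^ n)
          (KZero.clSub (PC X) (Coh.structureModule X))) -
        (n : ℤ) * eulerHom k X (((T D hDi - 1) ^ (n - 1))
          ((T (CohB1.tensorPow H (c₀ + 2)) hB - 1)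
            (KZero.clSub (PC X) (Coh.structureModule X)))) := by
    rcases n with _ | n'
    · refine ⟨1, le_rfl, fun D hDi _ => ?_⟩
      rw [lam_apply, pow_zero] at hpos
      rw [pow_zero, Nat.cast_zero, zero_mul, sub_zero]
      linarith
    · obtain ⟨t, ht1, ht⟩ := key_pos k X n' hn H hH L hL hnef (c₀ + 2) hB hpos
      exact ⟨t, ht1, fun D hDi hTD => by
        have h := ht D hDi hTD
        rw [Nat.add_sub_cancel]
        exact h⟩
  obtain ⟨t, ht1, hkey⟩ := key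
  have hD : CohB1.IsAmple (CohB1.tensorMod (CohB1.tensorPow L t) H) :=
    isAmple_tensorPow_tensor_of_nef k X L H hL hH hnef t
  have hLt := isInvertible_tensorPow hL t
  have hTD : T _ hD.1 = (T L hL) ^ t * (T H hHi) ^ 1 := by
    rw [pow_one, T_tensor hLt hHi hD.1, T_tensorPow hL t hLt]
  obtain ⟨m, G, hm1, hGi, hcl, hh0⟩ := siu_core k X n hn _ _ hD hB hgg (hkey _ hD.1 hTD)
  -- a nonzero section of `G`
  have hGc : Coh.IsCoh G := InvQc.isCoh_of_isInvertible _ hGi
  haveI : Module.Finite k (Coh.HH X G 0) := T2Main1.t2 k X _ hGc 0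
  obtain ⟨v, hv⟩ := (Module.finrank_pos_iff_exists_ne_zero (R := k)).1 hh0
  obtain ⟨s, hs⟩ := exists_section_of_HH0_ne G v hv
  haveI : Mono s := mono_of_ne_zero hOi hGi s hs
  -- the ample module
  have hr : 0 < (c₀ + 1) * m := Nat.mul_pos (Nat.succ_pos _) hm1
  have hAa : CohB1.IsAmple (CohB1.tensorPow H ((c₀ + 1) * m)) :=
    (AmpleLib.isAmple_tensorPow_iff hHi _ hr).1 hH
  have hAi := hAa.1
  obtain ⟨eAG⟩ : Nonempty (CohB1.tensorMod (CohB1.tensorPow H ((c₀ + 1) * m)) G ≅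
      CohB1.tensorPow L (t * m)) := by
    apply PicCalc.nonempty_iso_of_cl_eq
    rw [PicCalc.cl_tensor, AmpleAvoid.cl_tensorPow', AmpleAvoid.cl_tensorPow']
    have hu : IsUnit (PicF.cl H ^ m) := (PicCalc.isUnit_cl hHi).pow m
    rw [← hu.mul_left_inj]
    rw [AmpleAvoid.cl_tensorPow', PicCalc.cl_tensor, AmpleAvoid.cl_tensorPow'] at hcl
    calc PicF.cl H ^ ((c₀ + 1) * m) * PicF.cl G * PicF.cl H ^ m
        = PicF.cl G * (PicF.cl H ^ ((c₀ + 1) * m) * PicF.cl H ^ m) := by ac_rfl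
      _ = PicF.cl G * (PicF.cl H ^ (c₀ + 2)) ^ m := by
          rw [← pow_add, ← pow_mul, show (c₀ + 1) * m + m = (c₀ + 2) * m by ring]
      _ = (PicF.cl L ^ t * PicF.cl H) ^ m := hcl
      _ = PicF.cl L ^ (t * m) * PicF.cl H ^ m := by rw [mul_pow, ← pow_mul]
  let uA : CohB1.tensorMod (CohB1.tensorPow H ((c₀ + 1) * m)) (Coh.structureModule X) ≅
      CohB1.tensorPow H ((c₀ + 1) * m) := Groth.Agent.Lib.Helper5.LTenFlf.tensorUnitIso _
  let g : CohB1.tensorMod (CohB1.tensorPow H ((c₀ + 1) * m)) (Coh.structureModule X) ⟶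
      CohB1.tensorMod (CohB1.tensorPow H ((c₀ + 1) * m)) G :=
    (DCoh.tensorBi.obj (CohB1.tensorPow H ((c₀ + 1) * m))).map s
  have hg : Mono g := mono_tensor_left _ hAi s
  refine ⟨t * m, CohB1.tensorPow H ((c₀ + 1) * m), uA.inv ≫ g ≫ eAG.hom,
    Nat.mul_pos ht1 hm1, hAa, ?_⟩
  exact mono_comp' uA.inv (mono_iso_inv uA) _ (mono_comp' g hg eAG.hom (mono_iso_hom eAG))

end Main

end Groth.Agent.Helper1.Siu
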