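import Mathlib
import Groth.Agent.Lib.Helper1.Siu3
import Groth.Agent.Lib.Helper2.Sch.Reduced

/-!
# A nef module is big iff its top self-intersection is positive (helper1)
-/

set_option backward.isDefEq.respectTransparency.types false
set_option synthInstance.maxHeartbeats 400000
set_option autoImplicit false
set_option linter.unusedSectionVars false
set_option linter.style.haveILetI false
set_option linter.unusedVariables false
universe u
open CategoryTheory CategoryTheory.Limits AlgebraicGeometry TopologicalSpace Opposite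

namespace Groth.Agent.Helper1.Siu

open Groth.Agent.Helper1 Groth.Agent.Helper1.Euler Groth.Agent.Helper1.Dv
open Groth.Agent.Helper1.FinLen Groth.Agent.Helper1.TwForm Groth.Agent.Helper1.Curve
open Groth.Agent.Helper1.Snap Groth.Agent.Helper1.SnapPos Groth.Agent.Helper1.FGAInt
open Groth.Agent.Helper1.FGAPos Groth.Agent.Helper1.Kleiman Groth.Agent.Helper1.Big
open Groth.Agent.Helper1.NumDim
open Groth.Agent.Lib.Helper4 Groth.Agent.Lead

variable (k : Type u) [Field k] (X : Scheme.{u}) [X.Over (Spec (CommRingCat.of k))]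
  [IsProper (X ↘ (Spec (CommRingCat.of k)))]

/-- the top self-intersection number in the form of the statements -/
theorem intNum_eq_lam [AlgebraicGeometry.IsNoetherian X] (n : ℕ)
    (hn : topologicalKrullDim X = ((n : ℕ) : WithBot ℕ∞))
    (L Linv : X.Modules) (hL : PicF.IsInvertible L) (hLinv : ClSub.IsInverseOf Linv L) :
    FGA.intNum k X n (fun _ : Fin n => Linv) (Coh.structureModule X) =
      lam k X L hL n (KZero.clSub (PC X) (Coh.structureModule X)) := by
  obtain ⟨eI⟩ := hLinv
  have hLi : PicF.IsInvertible Linv := isInvertible_of_inverse hL eI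
  have hOc := isCoh_structureModule X
  have hdimO : topologicalKrullDim ↥(CohB1.support (Coh.structureModule X)) ≤
      ((n : ℕ) : WithBot ℕ∞) := (topologicalKrullDim_subspace_le X _).trans hn.le
  have ho : KZero.clSub (PC X) (Coh.structureModule X) ∈ FilLT X (n + 1) :=
    clSub_mem_FilLT n _ hOc hdimO
  rw [intNum_eq k X n hn.le (fun _ : Fin n => Linv) (fun _ => hLi) _ hOc,
    opM_eq_opL X n (fun _ => L) (fun _ => Linv) (fun _ => hL) (fun _ => hLi)
      (fun _ => ⟨TildeTens.tensorModComm L Linv ≪≫ eI⟩) _ ho,
    opL_const' L hL n (fun _ => hL), lam_apply]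

/-- **a nef invertible module on an integral projective scheme over an infinite field is big if and
only if its top self-intersection number is positive** -/
theorem nef_big_iff [IsIntegral X] [Infinite k] (n : ℕ)
    (hn : topologicalKrullDim X = ((n : ℕ) : WithBot ℕ∞))
    (H : X.Modules) (hH : CohB1.IsAmple H) (L Linv : X.Modules) (hL : PicF.IsInvertible L)
    (hLinv : ClSub.IsInverseOf Linv L) (hnef : NefS k X L) :
    (∃ (ν : ℕ) (A : X.Modules) (φ : A ⟶ CohB1.tensorPow L ν),
        0 < ν ∧ CohB1.IsAmple A ∧ Mono φ) ↔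
      0 < FGA.intNum k X n (fun _ : Fin n => Linv) (Coh.structureModule X) := by
  haveI : AlgebraicGeometry.IsNoetherian X := isNoetherian_of_proper k X
  rw [intNum_eq_lam k X n hn L Linv hL hLinv]
  constructor
  · rintro ⟨ν, A, φ, -, hA, hφ⟩
    exact pos_of_mono_ample k X n hn L hL hnef A hA ν φ hφ
  · intro hpos
    exact exists_mono_ample_of_pos k X n hn H hH L hL hnef hpos

/-- the same on a smooth irreducible scheme -/
theorem nef_big_iff_smooth [Smooth (X ↘ Spec (CommRingCat.of k))] [IrreducibleSpace X]
    [Infinite k] (n : ℕ) (hn : topologicalKrullDim X = ((n : ℕ) : WithBot ℕ∞))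
    (H : X.Modules) (hH : CohB1.IsAmple H) (L Linv : X.Modules) (hL : PicF.IsInvertible L)
    (hLinv : ClSub.IsInverseOf Linv L) (hnef : NefS k X L) :
    (∃ (ν : ℕ) (A : X.Modules) (φ : A ⟶ CohB1.tensorPow L ν),
        0 < ν ∧ CohB1.IsAmple A ∧ Mono φ) ↔
      0 < FGA.intNum k X n (fun _ : Fin n => Linv) (Coh.structureModule X) := by
  haveI : IsReduced (Spec (CommRingCat.of k)) := inferInstance
  haveI : IsReduced X :=
    Groth.Agent.Helper2.SchLib.isReduced_of_smooth (X ↘ Spec (CommRingCat.of k))
  haveI : IsIntegral X := isIntegral_of_irreducibleSpace_of_isReduced X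
  exact nef_big_iff k X n hn H hH L Linv hL hLinv hnef

end Groth.Agent.Helper1.Siu
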