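import Groth.Agent.Lib.Helper1.AutDef

universe u
open TensorProduct

namespace Groth.Agent.Helper1.SmLift

open Groth.Agent.Helper1.SqZeroDef

section nat
variable {R : Type u} [CommRing R] (J : Ideal R) {S S' : Type u} [CommRing S] [Algebra R S]
  [CommRing S'] [Algebra R S']

lemma μ_nat (f : S →ₗ[R] S') (z : S ⊗[R] J) : μ J S' (f.rTensor J z) = f (μ J S z) := by
  induction z using TensorProduct.induction_on with
  | zero => simp
  | tmul s j => rw [LinearMap.rTensor_tmul, μ_tmul, μ_tmul, map_smul]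
  | add x y hx hy => rw [map_add, map_add, hx, hy, map_add, map_add]

/-- If `f : S → S'` is surjective linear with `S'` flat and `J • ker f = 0`, then
`JS ∩ ker f = 0`. -/
lemma eq_zero_of_mem_K [Module.Flat R S'] (f : S →ₗ[R] S') (hf : Function.Surjective f)
    (hJ : ∀ j ∈ J, ∀ n : S, f n = 0 → j • n = 0) {z : S} (hz : z ∈ K J S) (hfz : f z = 0) :
    z = 0 := by
  obtain ⟨ζ, rfl⟩ := exists_μ_eq J S hz
  have h1 : f.rTensor J ζ = 0 := by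
    apply μ_injective J S'
    rw [μ_nat, hfz, map_zero]
  have hex := rTensor_exact J (LinearMap.exact_subtype_ker_map f) hf
  obtain ⟨ν, rfl⟩ := (hex ζ).mp h1
  clear h1 hz hfz
  induction ν using TensorProduct.induction_on with
  | zero => simp
  | tmul n j =>
    rw [LinearMap.rTensor_tmul, μ_tmul]
    exact hJ j j.2 n.1 n.2
  | add x y hx hy => rw [map_add, map_add, hx, hy, add_zero]

end nat


section lift
variable {k : Type u} [CommRing k] {A : Type u} [CommRing A] [Algebra k A] (𝔪 : Ideal A)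
  {B : Type u} [CommRing B] [Algebra A B] [Algebra k B] [IsScalarTower k A B]
  {D : Type u} [CommRing D] [Algebra A D] [Algebra k D] [IsScalarTower k A D]
  (I : Ideal D) (φ : B →ₐ[A] D ⧸ I)

/-- the fibre product `B ×_{D/I} D` -/
def C : Subalgebra A (B × D) :=
  AlgHom.equalizer (φ.comp (AlgHom.fst A B D)) ((Ideal.Quotient.mkₐ A I).comp (AlgHom.snd A B D))

lemma mem_C {c : B × D} : c ∈ C I φ ↔ φ c.1 = Ideal.Quotient.mk I c.2 := Iff.rfl

/-- first projection, `k`-linear -/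
def fstk : C I φ →ₐ[k] B :=
  (AlgHom.fst k B D).comp ((C I φ).val.restrictScalars k)

lemma fstk_apply (c : C I φ) : fstk (k := k) I φ c = c.1.1 := rfl

def fstA : C I φ →ₐ[A] B := (AlgHom.fst A B D).comp (C I φ).val

lemma fstA_apply (c : C I φ) : fstA I φ c = c.1.1 := rfl

lemma fstA_surjective : Function.Surjective (fstA I φ) := by
  intro b
  obtain ⟨d, hd⟩ := Ideal.Quotient.mk_surjective (φ b)
  exact ⟨⟨(b, d), hd.symm⟩, rfl⟩


lemma map_fstA_K : (K 𝔪 (C I φ)).map (fstA I φ) = K 𝔪 B := by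
  show Ideal.map (fstA I φ : C I φ →+* B) (Ideal.map (algebraMap A (C I φ)) 𝔪) = _
  rw [Ideal.map_map]
  congr 1

lemma K_le : K 𝔪 (C I φ) ≤ (K 𝔪 B).comap (fstk (k := k) I φ) := by
  intro z hz
  have : fstA I φ z ∈ (K 𝔪 (C I φ)).map (fstA I φ) := Ideal.mem_map_of_mem _ hz
  rw [map_fstA_K] at this
  exact this

/-- `C/𝔪C → B/𝔪B` -/
noncomputable def g : (C I φ ⧸ K 𝔪 (C I φ)) →ₐ[k] B ⧸ K 𝔪 B :=
  Ideal.quotientMapₐ (K 𝔪 B) (fstk I φ) (K_le 𝔪 I φ)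

lemma g_mk (c : C I φ) :
    g (k := k) 𝔪 I φ (Ideal.Quotient.mk _ c) = Ideal.Quotient.mk _ c.1.1 := rfl

lemma g_surjective : Function.Surjective (g (k := k) 𝔪 I φ) := by
  intro x
  obtain ⟨b, rfl⟩ := Ideal.Quotient.mk_surjective x
  obtain ⟨c, rfl⟩ := fstA_surjective I φ b
  exact ⟨Ideal.Quotient.mk _ c, rfl⟩

/-- adjusting the first component modulo `𝔪C` -/
lemma exists_adjust (c : C I φ) (b : B) (h : c.1.1 - b ∈ K 𝔪 B) :
    ∃ c' : C I φ, c'.1.1 = b ∧ Ideal.Quotient.mk (K 𝔪 (C I φ)) c' = Ideal.Quotient.mk _ c := by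
  rw [← map_fstA_K 𝔪 I φ] at h
  obtain ⟨z, hz, hzc⟩ := (Ideal.mem_map_iff_of_surjective _ (fstA_surjective I φ)).mp h
  refine ⟨c - z, ?_, ?_⟩
  · have : (fstA I φ) (c - z) = b := by
      rw [map_sub, hzc, fstA_apply]; ring
    exact this
  · rw [map_sub, Ideal.Quotient.eq_zero_iff_mem.mpr hz, sub_zero]

lemma ker_g {x : C I φ ⧸ K 𝔪 (C I φ)} (hx : g (k := k) 𝔪 I φ x = 0) :
    ∃ c : C I φ, c.1.1 = 0 ∧ Ideal.Quotient.mk _ c = x := by
  obtain ⟨c, rfl⟩ := Ideal.Quotient.mk_surjective x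
  rw [g_mk, Ideal.Quotient.eq_zero_iff_mem] at hx
  exact exists_adjust 𝔪 I φ c 0 (by simpa using hx)

lemma snd_mem_of_fst_eq_zero {c : C I φ} (h : c.1.1 = 0) : c.1.2 ∈ I := by
  have := c.2
  rw [mem_C, h, map_zero] at this
  exact Ideal.Quotient.eq_zero_iff_mem.mp this.symm

include I in
lemma ker_g_sq (hI2 : ∀ x ∈ I, ∀ y ∈ I, x * y = 0) :
    IsNilpotent (RingHom.ker (g (k := k) 𝔪 I φ : (C I φ ⧸ K 𝔪 (C I φ)) →+* B ⧸ K 𝔪 B)) := by
  refine ⟨2, ?_⟩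
  rw [pow_two, Ideal.zero_eq_bot, eq_bot_iff, Ideal.mul_le]
  intro x hx y hy
  obtain ⟨c, hc, rfl⟩ := ker_g 𝔪 I φ (RingHom.mem_ker.mp hx)
  obtain ⟨c', hc', rfl⟩ := ker_g 𝔪 I φ (RingHom.mem_ker.mp hy)
  rw [← map_mul]
  have : c * c' = 0 := by
    apply Subtype.ext
    apply Prod.ext
    · show c.1.1 * c'.1.1 = 0
      rw [hc, zero_mul]
    · show c.1.2 * c'.1.2 = 0
      exact hI2 _ (snd_mem_of_fst_eq_zero I φ hc) _ (snd_mem_of_fst_eq_zero I φ hc')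
  rw [this, map_zero]
  exact Submodule.zero_mem _



section main
variable [Module.Flat A B] [Algebra.FormallySmooth k (B ⧸ K 𝔪 B)]
  (hI2 : ∀ x ∈ I, ∀ y ∈ I, x * y = 0) (hmI : ∀ a ∈ 𝔪, ∀ x ∈ I, a • x = 0)
  (hres : ∀ a : A, ∃ c : k, a - algebraMap k A c ∈ 𝔪)

include hmI in
lemma C_unique {c c' : C I φ} (h1 : c.1.1 = c'.1.1)
    (h2 : Ideal.Quotient.mk (K 𝔪 (C I φ)) c = Ideal.Quotient.mk _ c') : c = c' := by
  rw [← sub_eq_zero]
  refine eq_zero_of_mem_K 𝔪 (fstA I φ).toLinearMap (fstA_surjective I φ) ?_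
    (Ideal.Quotient.eq.mp h2) ?_
  · intro j hj n hn
    have hn' : n.1.1 = 0 := hn
    apply Subtype.ext
    apply Prod.ext
    · show j • n.1.1 = 0
      rw [hn', smul_zero]
    · show j • n.1.2 = 0
      exact hmI j hj _ (snd_mem_of_fst_eq_zero I φ hn')
  · show (fstA I φ) (c - c') = 0
    rw [map_sub, fstA_apply, fstA_apply, h1, sub_self]

/-- the section of `C/𝔪C → B/𝔪B` -/
noncomputable def s₀ : (B ⧸ K 𝔪 B) →ₐ[k] (C I φ ⧸ K 𝔪 (C I φ)) :=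
  Algebra.FormallySmooth.liftOfSurjective (AlgHom.id k _) (g 𝔪 I φ) (g_surjective 𝔪 I φ)
    (ker_g_sq 𝔪 I φ hI2)

lemma g_s₀ (x : B ⧸ K 𝔪 B) : g (k := k) 𝔪 I φ (s₀ (k := k) 𝔪 I φ hI2 x) = x :=
  Algebra.FormallySmooth.liftOfSurjective_apply _ _ _ _ x

lemma exists_c (b : B) : ∃ c : C I φ, c.1.1 = b ∧
    Ideal.Quotient.mk (K 𝔪 (C I φ)) c = s₀ (k := k) 𝔪 I φ hI2 (Ideal.Quotient.mk _ b) := by
  obtain ⟨c, hc⟩ := Ideal.Quotient.mk_surjective (s₀ (k := k) 𝔪 I φ hI2 (Ideal.Quotient.mk _ b))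
  have h := g_s₀ (k := k) 𝔪 I φ hI2 (Ideal.Quotient.mk _ b)
  rw [← hc, g_mk, Ideal.Quotient.eq] at h
  obtain ⟨c', h1, h2⟩ := exists_adjust 𝔪 I φ c b h
  exact ⟨c', h1, h2.trans hc⟩

noncomputable def cc (b : B) : C I φ := (exists_c (k := k) 𝔪 I φ hI2 b).choose

lemma cc_fst (b : B) : (cc (k := k) 𝔪 I φ hI2 b).1.1 = b :=
  (exists_c (k := k) 𝔪 I φ hI2 b).choose_spec.1

lemma cc_mk (b : B) : Ideal.Quotient.mk (K 𝔪 (C I φ)) (cc (k := k) 𝔪 I φ hI2 b) =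
    s₀ (k := k) 𝔪 I φ hI2 (Ideal.Quotient.mk _ b) :=
  (exists_c (k := k) 𝔪 I φ hI2 b).choose_spec.2

include hmI in
lemma cc_eq {b : B} {c : C I φ} (h1 : c.1.1 = b)
    (h2 : Ideal.Quotient.mk (K 𝔪 (C I φ)) c = s₀ (k := k) 𝔪 I φ hI2 (Ideal.Quotient.mk _ b)) :
    cc (k := k) 𝔪 I φ hI2 b = c :=
  C_unique 𝔪 I φ hmI ((cc_fst 𝔪 I φ hI2 b).trans h1.symm) ((cc_mk 𝔪 I φ hI2 b).trans h2.symm)

include hres in
lemma mk_algebraMap (a : A) : Ideal.Quotient.mk (K 𝔪 (C I φ)) (algebraMap A _ a) =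
    s₀ (k := k) 𝔪 I φ hI2 (Ideal.Quotient.mk _ (algebraMap A B a)) := by
  obtain ⟨c, hc⟩ := hres a
  have h1 : Ideal.Quotient.mk (K 𝔪 B) (algebraMap A B a) = algebraMap k _ c := by
    rw [IsScalarTower.algebraMap_apply k A (B ⧸ K 𝔪 B), IsScalarTower.algebraMap_apply A B (B ⧸ K 𝔪 B),
      Ideal.Quotient.algebraMap_eq, Ideal.Quotient.eq, ← map_sub]
    exact Ideal.mem_map_of_mem _ hc
  have h2 : Ideal.Quotient.mk (K 𝔪 (C I φ)) (algebraMap A _ a) = algebraMap k _ c := by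
    rw [IsScalarTower.algebraMap_apply k A (C I φ ⧸ K 𝔪 (C I φ)),
      IsScalarTower.algebraMap_apply A (C I φ) (C I φ ⧸ K 𝔪 (C I φ)),
      Ideal.Quotient.algebraMap_eq, Ideal.Quotient.eq, ← map_sub]
    exact Ideal.mem_map_of_mem _ hc
  rw [h1, h2, AlgHom.commutes]

/-- the lift as an algebra hom into `C` -/
noncomputable def ccHom : B →ₐ[A] C I φ where
  toFun := cc (k := k) 𝔪 I φ hI2
  map_one' := by
    apply cc_eq 𝔪 I φ hI2 hmI
    · rfl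
    · rw [map_one, map_one, map_one]
  map_mul' b b' := by
    apply cc_eq 𝔪 I φ hI2 hmI
    · show (cc (k := k) 𝔪 I φ hI2 b).1.1 * (cc (k := k) 𝔪 I φ hI2 b').1.1 = _
      rw [cc_fst, cc_fst]
    · rw [map_mul, map_mul, map_mul, cc_mk, cc_mk]
  map_zero' := by
    apply cc_eq 𝔪 I φ hI2 hmI
    · rfl
    · rw [map_zero, map_zero, map_zero]
  map_add' b b' := by
    apply cc_eq 𝔪 I φ hI2 hmI
    · show (cc (k := k) 𝔪 I φ hI2 b).1.1 + (cc (k := k) 𝔪 I φ hI2 b').1.1 = _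
      rw [cc_fst, cc_fst]
    · rw [map_add, map_add, map_add, cc_mk, cc_mk]
  commutes' a := by
    apply cc_eq 𝔪 I φ hI2 hmI
    · rfl
    · exact mk_algebraMap 𝔪 I φ hI2 hres a


include hI2 hmI hres in
theorem exists_lift : ∃ ψ : B →ₐ[A] D, ∀ b, Ideal.Quotient.mk I (ψ b) = φ b := by
  refine ⟨(AlgHom.snd A B D).comp ((C I φ).val.comp (ccHom (k := k) 𝔪 I φ hI2 hmI hres)), ?_⟩
  intro b
  show Ideal.Quotient.mk I (cc (k := k) 𝔪 I φ hI2 b).1.2 = φ b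
  have := (cc (k := k) 𝔪 I φ hI2 b).2
  rw [mem_C, cc_fst] at this
  exact this.symm


end main

end lift

end Groth.Agent.Helper1.SmLift
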