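import Mathlib
import Groth.Prelude.Def_KRR
import Groth.Agent.Lib.Helper1.ResSch
import Groth.Agent.Lib.Helper1.AmpleRes1
import Groth.Agent.Lib.Helper1.K0Loc1
import Groth.Agent.Lib.Helper1.VA5
import Groth.Agent.Lib.Helper4.SerreFin
import Groth.Agent.S9815
import Groth.Agent.S4991

/-!
# `K⁰ = K₀` for smooth quasi-projective schemes over a field (helper1)
-/

set_option backward.isDefEq.respectTransparency.types false
set_option synthInstance.maxHeartbeats 400000
set_option maxHeartbeats 1000000
set_option autoImplicit false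
set_option linter.unusedSectionVars false
set_option linter.style.haveILetI false
set_option linter.unusedVariables false

universe u
open CategoryTheory CategoryTheory.Limits AlgebraicGeometry TopologicalSpace Opposite

namespace Groth.Agent.Helper1.SmQP

/-- the local rings of the spectrum of a field are regular -/
theorem isRegularLocalRing_stalk_spec_field (k : Type u) [Field k]
    (y : Spec (CommRingCat.of k)) :
    IsRegularLocalRing ((Spec (CommRingCat.of k)).presheaf.stalk y) := by
  haveI : (PrimeSpectrum.asIdeal y).IsPrime := PrimeSpectrum.isPrime y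
  haveI : IsRegularLocalRing (Localization.AtPrime (PrimeSpectrum.asIdeal y)) :=
    IsRegularRing.isRegularLocalRing_localization (PrimeSpectrum.asIdeal y)
  exact IsRegularLocalRing.of_ringEquiv (StructureSheaf.stalkIso k y).toRingEquiv

/-- a scheme immersed in projective space over a field is Noetherian and has an ample invertible
module -/
theorem exists_ample (k : Type u) [Field k] (N : ℕ) (X : Scheme.{u})
    (ι : X ⟶ CohB1.ProjSpace N k) [IsImmersion ι] :
    IsNoetherian X ∧ ∃ L : X.Modules, CohB1.IsAmple L := by
  haveI : IsLocallyNoetherian (CohB1.ProjSpace N k) := Groth.Agent.Lib.Helper4.SerreFin.instLN N k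
  haveI : CompactSpace (CohB1.ProjSpace N k) :=
    QuasiCompact.compactSpace_of_compactSpace (CohB1.ProjSpace.toSpec N k)
  haveI : IsNoetherian (CohB1.ProjSpace N k) := {}
  haveI : NoetherianSpace (CohB1.ProjSpace N k) := inferInstance
  haveI : NoetherianSpace X := ι.isEmbedding.noetherianSpace
  haveI : CompactSpace X := inferInstance
  haveI : IsLocallyNoetherian X := LocallyOfFiniteType.isLocallyNoetherian ι
  exact ⟨{}, _, Groth.Agent.S9815.result ι ι.isEmbedding _ (VA5.isAmple_twistProjSpace N k)⟩

/-- **S14430** -/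
theorem main (k : Type u) [Field k] (N : ℕ) (X : Scheme.{u})
    [X.Over (Spec (CommRingCat.of k))] [Smooth (X ↘ Spec (CommRingCat.of k))]
    (ι : X ⟶ CohB1.ProjSpace N k) [IsImmersion ι]
    (hι : ι ≫ CohB1.ProjSpace.toSpec N k = X ↘ Spec (CommRingCat.of k)) :
    ∃ α : KZero.K0sub (fun M : X.Modules => FlatMod.IsFinLocFree M) →+
        KZero.K0sub (fun M : X.Modules => Coh.IsCoh M),
      (∀ E : X.Modules, FlatMod.IsFinLocFree E →
        α (KZero.clSub (fun M : X.Modules => FlatMod.IsFinLocFree M) E) =
          KZero.clSub (fun M : X.Modules => Coh.IsCoh M) E) ∧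
      Function.Bijective α := by
  obtain ⟨hN, L, hamp⟩ := exists_ample k N X ι
  haveI : IsNoetherian X := hN
  have hX : KRR.HasEnoughLocFree X := fun F hF => AmpleRes.exists_epi_finLocFree hamp F hF
  have hreg : ∀ x : X, IsRegularLocalRing (X.presheaf.stalk x) := fun x =>
    (Groth.Agent.S4991.result (X ↘ Spec (CommRingCat.of k)) x ⟨⊤, trivial, inferInstance⟩).2
      (isRegularLocalRing_stalk_spec_field k _)
  have h : ∀ M : X.Modules, FlatMod.IsFinLocFree M → Coh.IsCoh M := fun M hM =>
    Groth.Agent.Lib.Helper5.LocalCoh.isCoh_of_isFinLocFree M hM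
  refine ⟨SGA6.mapSub (𝟭 X.Modules) (KRR.vbP X) (fun M : X.Modules => Coh.IsCoh M) h,
    fun E hE => ?_, ResSch.main X hreg hX h⟩
  exact K0Loc.mapSub_cl (𝟭 X.Modules) _ _ h E hE

end Groth.Agent.Helper1.SmQP
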