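import Mathlib
import Groth.Prelude.Def_ArtFun

universe u
open TensorProduct CategoryTheory

namespace Groth.Agent.Helper1.SmallExtFree

variable (R : Type u) [CommRing R] [IsArtinianRing R] [IsLocalRing R]
  (k : Type u) [Field k] [Algebra R k] (hk : Function.Surjective (algebraMap R k))

include hk in
lemma algebraMap_eq_zero {a : R} (ha : a ∈ IsLocalRing.maximalIdeal R) : algebraMap R k a = 0 := by
  have h1 : (RingHom.ker (algebraMap R k)).IsMaximal :=
    RingHom.ker_isMaximal_of_surjective _ hk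
  have h2 := IsLocalRing.eq_maximalIdeal h1
  rw [← h2] at ha
  exact ha

/-- the object `R/J` -/
noncomputable def obj (J : Ideal R) (hJ : J ≤ IsLocalRing.maximalIdeal R) : ArtFun.Art R k :=
  haveI : Nontrivial (R ⧸ J) :=
    Ideal.Quotient.nontrivial_iff.mpr (fun h => (IsLocalRing.maximalIdeal.isMaximal R).ne_top
      (top_le_iff.mp (h ▸ hJ)))
  haveI : IsLocalRing (R ⧸ J) :=
    IsLocalRing.of_surjective' (Ideal.Quotient.mk J) Ideal.Quotient.mk_surjective
  ArtFun.Art.of (R ⧸ J)
    (Ideal.Quotient.liftₐ J (Algebra.ofId R k) (fun a ha => algebraMap_eq_zero R k hk (hJ ha)))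
    (by
      intro c
      obtain ⟨a, rfl⟩ := hk c
      exact ⟨Ideal.Quotient.mk J a, rfl⟩)


lemma obj_carrier (J : Ideal R) (hJ : J ≤ IsLocalRing.maximalIdeal R) :
    (obj R k hk J hJ : Type u) = (R ⧸ J) := rfl

/-- the quotient morphism `R/J' → R/J` -/
noncomputable def mor (J' J : Ideal R) (hle : J' ≤ J) (hJ : J ≤ IsLocalRing.maximalIdeal R) :
    obj R k hk J' (hle.trans hJ) ⟶ obj R k hk J hJ :=
  ArtFun.Art.homMk (Ideal.Quotient.factorₐ R hle) (by
    apply AlgHom.ext
    intro y
    obtain ⟨a, rfl⟩ := Ideal.Quotient.mk_surjective y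
    rfl)

section pure
variable {R}
variable (J' J : Ideal R) (hle : J' ≤ J) (x : R) (hxJ : x ∈ J) (hx : x ∉ J')
  (hsup : J = J' ⊔ Ideal.span {x}) (hm : ∀ a ∈ IsLocalRing.maximalIdeal R, a * x ∈ J')

omit [IsArtinianRing R] [IsLocalRing R] in
lemma mem_ker_factor (a : R) :
    (Ideal.Quotient.mk J' a) ∈ RingHom.ker (Ideal.Quotient.factorₐ R hle) ↔ a ∈ J := by
  rw [RingHom.mem_ker]
  show Ideal.Quotient.mk J a = 0 ↔ _
  rw [Ideal.Quotient.eq_zero_iff_mem]

omit [IsArtinianRing R] [IsLocalRing R] in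
include hxJ hsup in
lemma ker_factor : RingHom.ker (Ideal.Quotient.factorₐ R hle) =
    Ideal.span {(Ideal.Quotient.mk J' x : R ⧸ J')} := by
  apply le_antisymm
  · intro y hy
    obtain ⟨a, rfl⟩ := Ideal.Quotient.mk_surjective y
    rw [mem_ker_factor, hsup] at hy
    obtain ⟨j, hj, z, hz, rfl⟩ := Submodule.mem_sup.mp hy
    obtain ⟨c, rfl⟩ := Ideal.mem_span_singleton'.mp hz
    rw [map_add, Ideal.Quotient.eq_zero_iff_mem.mpr hj, zero_add, map_mul]
    exact Ideal.mul_mem_left _ _ (Ideal.subset_span rfl)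
  · rw [Ideal.span_le]
    rintro _ rfl
    exact (mem_ker_factor J' J hle x).mpr hxJ

omit [IsArtinianRing R] [IsLocalRing R] in
include hxJ hx hsup in
lemma ker_factor_ne_bot : RingHom.ker (Ideal.Quotient.factorₐ R hle) ≠ ⊥ := by
  intro h
  have : (Ideal.Quotient.mk J' x : R ⧸ J') ∈ RingHom.ker (Ideal.Quotient.factorₐ R hle) :=
    (mem_ker_factor J' J hle x).mpr hxJ
  rw [h, Ideal.mem_bot] at this
  exact hx (Ideal.Quotient.eq_zero_iff_mem.mp this)

omit [IsArtinianRing R] in
include hxJ hsup hm in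
lemma max_mul_ker [IsLocalRing (R ⧸ J')] :
    IsLocalRing.maximalIdeal (R ⧸ J') * RingHom.ker (Ideal.Quotient.factorₐ R hle) = ⊥ := by
  rw [ker_factor J' J hle x hxJ hsup, eq_bot_iff, Ideal.mul_le]
  intro a ha y hy
  obtain ⟨c, rfl⟩ := Ideal.mem_span_singleton'.mp hy
  obtain ⟨r, rfl⟩ := Ideal.Quotient.mk_surjective a
  have hr : r ∈ IsLocalRing.maximalIdeal R := by
    rw [IsLocalRing.mem_maximalIdeal, mem_nonunits_iff]
    intro hu
    rw [IsLocalRing.mem_maximalIdeal, mem_nonunits_iff] at ha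
    exact ha (hu.map (Ideal.Quotient.mk J'))
  rw [Ideal.mem_bot]
  have : (Ideal.Quotient.mk J' r : R ⧸ J') * (c * Ideal.Quotient.mk J' x) =
      c * Ideal.Quotient.mk J' (r * x) := by rw [map_mul]; ring
  rw [this, Ideal.Quotient.eq_zero_iff_mem.mpr (hm r hr), mul_zero]

end pure

lemma isSmallExt (J' J : Ideal R) (hle : J' ≤ J) (hJ : J ≤ IsLocalRing.maximalIdeal R)
    (x : R) (hxJ : x ∈ J) (hx : x ∉ J') (hsup : J = J' ⊔ Ideal.span {x})
    (hm : ∀ a ∈ IsLocalRing.maximalIdeal R, a * x ∈ J') :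
    ArtFun.Art.IsSmallExt (mor R k hk J' J hle hJ) := by
  refine ⟨?_, ?_, ?_, ?_⟩
  · intro y
    obtain ⟨a, rfl⟩ := Ideal.Quotient.mk_surjective y
    exact ⟨Ideal.Quotient.mk J' a, rfl⟩
  · exact ker_factor_ne_bot J' J hle x hxJ hx hsup
  · show (RingHom.ker (Ideal.Quotient.factorₐ R hle)).IsPrincipal
    rw [ker_factor J' J hle x hxJ hsup]
    exact ⟨⟨_, rfl⟩⟩
  · exact @max_mul_ker R _ _ J' J hle x hxJ hsup hm
      (obj R k hk J' (hle.trans hJ)).isLocalRing



section chase
omit [IsArtinianRing R] [IsLocalRing R]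
variable {R}
variable (M : Type u) [AddCommGroup M] [Module R M] (J' J : Ideal R) (hle : J' ≤ J)

/-- `J → ker (R/J' → R/J)` -/
noncomputable def qmap : ↥J →ₗ[R] ↥((RingHom.ker (Ideal.Quotient.factorₐ R hle)).restrictScalars R) :=
  LinearMap.codRestrict _ (J'.mkQ ∘ₗ J.subtype) (fun j => (mem_ker_factor J' J hle j.1).mpr j.2)

lemma qmap_coe (j : J) : ((qmap J' J hle j : R ⧸ J')) = Ideal.Quotient.mk J' j.1 := rfl

lemma qmap_surjective : Function.Surjective (qmap J' J hle) := by
  rintro ⟨y, hy⟩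
  obtain ⟨a, rfl⟩ := Ideal.Quotient.mk_surjective y
  exact ⟨⟨a, (mem_ker_factor J' J hle a).mp hy⟩, rfl⟩

lemma qmap_exact : Function.Exact (Submodule.inclusion hle) (qmap J' J hle) := by
  intro j
  constructor
  · intro h
    have h1 : Ideal.Quotient.mk J' j.1 = 0 := congrArg Subtype.val h
    exact ⟨⟨j.1, Ideal.Quotient.eq_zero_iff_mem.mp h1⟩, rfl⟩
  · rintro ⟨j', rfl⟩
    apply Subtype.ext
    exact Ideal.Quotient.eq_zero_iff_mem.mpr j'.2

lemma step
    (hinj : Function.Injective (LinearMap.lTensor M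
      (((RingHom.ker (Ideal.Quotient.factorₐ R hle)).restrictScalars R).subtype)))
    (hIH : Function.Injective (LinearMap.lTensor M J'.subtype)) :
    Function.Injective (LinearMap.lTensor M J.subtype) := by
  rw [injective_iff_map_eq_zero]
  intro z hz
  have hex := lTensor_exact M (qmap_exact J' J hle) (qmap_surjective J' J hle)
  have h1 : LinearMap.lTensor M (qmap J' J hle) z = 0 := by
    apply hinj
    rw [map_zero, ← LinearMap.comp_apply, ← LinearMap.lTensor_comp]
    have : ((RingHom.ker (Ideal.Quotient.factorₐ R hle)).restrictScalars R).subtype ∘ₗ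
        qmap J' J hle = J'.mkQ ∘ₗ J.subtype := by
      ext j; rfl
    rw [this, LinearMap.lTensor_comp, LinearMap.comp_apply, hz, map_zero]
  obtain ⟨z', rfl⟩ := (hex z).mp h1
  have h2 : LinearMap.lTensor M J'.subtype z' = 0 := by
    have : J'.subtype = J.subtype ∘ₗ Submodule.inclusion hle := by
      ext j; rfl
    rw [this, LinearMap.lTensor_comp, LinearMap.comp_apply, hz]
  rw [hIH (h2.trans (map_zero _).symm), map_zero]

end chase


include hk in
theorem main (M : Type u) [AddCommGroup M] [Module R M]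
    (h : ∀ (A' A : ArtFun.Art R k) (p : A' ⟶ A), ArtFun.Art.IsSmallExt p →
      Function.Injective
        (LinearMap.lTensor M (((RingHom.ker p.toAlgHom).restrictScalars R).subtype))) :
    ∀ J : Ideal R, J ≤ IsLocalRing.maximalIdeal R →
      Function.Injective (LinearMap.lTensor M J.subtype) := by
  intro J
  refine IsArtinian.induction (R := R) (M := R)
    (P := fun J => J ≤ IsLocalRing.maximalIdeal R →
      Function.Injective (LinearMap.lTensor M J.subtype)) ?_ J
  intro I ih hI
  by_cases hbot : I = ⊥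
  · subst hbot
    have hz : ∀ z : M ⊗[R] ↥(⊥ : Ideal R), z = 0 := by
      intro z
      induction z using TensorProduct.induction_on with
      | zero => rfl
      | tmul m j =>
        have : j = 0 := Subtype.ext ((Submodule.mem_bot R).mp j.2)
        rw [this, TensorProduct.tmul_zero]
      | add a b ha hb => rw [ha, hb, add_zero]
    intro a b _
    rw [hz a, hz b]
  · have hN : IsNoetherian R R := inferInstance
    obtain ⟨J', hJ'lt, hmax⟩ := set_has_maximal_iff_noetherian.mpr hN {K | K < I}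
      ⟨⊥, bot_lt_iff_ne_bot.mpr hbot⟩
    have hJ'lt' : J' < I := hJ'lt
    obtain ⟨x, hxI, hx⟩ := SetLike.exists_of_lt hJ'lt'
    have hle : J' ≤ I := hJ'lt'.le
    have hlt1 : J' < J' ⊔ Ideal.span {x} := by
      refine lt_of_le_of_ne le_sup_left (fun he => hx ?_)
      rw [he]
      exact Ideal.mem_sup_right (Ideal.subset_span rfl)
    have hsup : I = J' ⊔ Ideal.span {x} := by
      have h1 : J' ⊔ Ideal.span {x} ≤ I :=
        sup_le hle ((Ideal.span_singleton_le_iff_mem _).mpr hxI)
      by_contra hne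
      exact hmax _ (lt_of_le_of_ne h1 (Ne.symm hne)) hlt1
    have hm : ∀ a ∈ IsLocalRing.maximalIdeal R, a * x ∈ J' := by
      have h1 : J' ⊔ IsLocalRing.maximalIdeal R * Ideal.span {x} ≤ I :=
        sup_le hle (Ideal.mul_le_right.trans ((Ideal.span_singleton_le_iff_mem (I := I)).mpr hxI))
      have h2 : J' ⊔ IsLocalRing.maximalIdeal R * Ideal.span {x} ≠ I := by
        intro he
        have hx' : x ∈ J' ⊔ IsLocalRing.maximalIdeal R * Ideal.span {x} := by rw [he]; exact hxI
        obtain ⟨j, hj, w, hw, hjw⟩ := Submodule.mem_sup.mp hx'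
        obtain ⟨a, ha, rfl⟩ := Ideal.mem_mul_span_singleton.mp hw
        have hu : IsUnit (1 - a) := by
          by_contra hnu
          have h3 : (1 - a) ∈ IsLocalRing.maximalIdeal R :=
            (IsLocalRing.mem_maximalIdeal _).mpr hnu
          have h4 : (1 : R) ∈ IsLocalRing.maximalIdeal R := by
            have := Ideal.add_mem _ h3 ha
            rwa [sub_add_cancel] at this
          exact (Ideal.ne_top_iff_one _).mp (IsLocalRing.maximalIdeal.isMaximal R).ne_top h4
        have h5 : (1 - a) * x ∈ J' := by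
          have : (1 - a) * x = j := by
            have := hjw
            linear_combination -this
          rw [this]; exact hj
        obtain ⟨u, hu'⟩ := hu
        have h6 := Ideal.mul_mem_left J' (↑u⁻¹ : R) h5
        rw [← hu', ← mul_assoc, Units.inv_mul, one_mul] at h6
        exact hx h6
      have h3 : ¬ J' < J' ⊔ IsLocalRing.maximalIdeal R * Ideal.span {x} :=
        hmax _ (lt_of_le_of_ne h1 h2)
      have h4 : J' ⊔ IsLocalRing.maximalIdeal R * Ideal.span {x} ≤ J' := by
        by_contra hnle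
        exact h3 (lt_of_le_not_ge le_sup_left hnle)
      intro a ha
      exact h4 (Ideal.mem_sup_right (Ideal.mul_mem_mul ha (Ideal.subset_span rfl)))
    have hinj := h _ _ (mor R k hk J' I hle hI) (isSmallExt R k hk J' I hle hI x hxI hx hsup hm)
    exact step M J' I hle hinj (ih J' hJ'lt' (hle.trans hI))

end Groth.Agent.Helper1.SmallExtFree
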