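import Mathlib

universe u

open AlgebraicGeometry CategoryTheory TopologicalSpace Opposite

namespace Groth.Agent.Helper1.SpreadUniq

/-- Two ring homs out of a finite type algebra agreeing on the base and on germs at `x` agree on a
neighbourhood. -/
lemma exists_opens_res_eq {X : Scheme.{u}} {x : X} {C B : CommRingCat.{u}} (θ : C ⟶ B)
    (hθ : θ.hom.FiniteType) (U₀ : X.Opens) (hx : x ∈ U₀) (φ ψ : B ⟶ Γ(X, U₀))
    (h1 : θ ≫ φ = θ ≫ ψ)
    (h2 : φ ≫ X.presheaf.germ U₀ x hx = ψ ≫ X.presheaf.germ U₀ x hx) :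
    ∃ (U₁ : X.Opens) (h : U₁ ≤ U₀), x ∈ U₁ ∧
      φ ≫ X.presheaf.map (homOfLE h).op = ψ ≫ X.presheaf.map (homOfLE h).op := by
  algebraize [θ.hom]
  obtain ⟨s, hs⟩ := hθ
  have key : ∀ b : B, ∃ (U : X.Opens) (h : U ≤ U₀), x ∈ U ∧
      X.presheaf.map (homOfLE h).op (φ b) = X.presheaf.map (homOfLE h).op (ψ b) := by
    intro b
    have hb : X.presheaf.germ U₀ x hx (φ b) = X.presheaf.germ U₀ x hx (ψ b) :=
      congr($(h2) b)
    obtain ⟨W, hxW, iW, iW', hW⟩ := X.presheaf.germ_eq x hx hx _ _ hb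
    exact ⟨W, iW.le, hxW, hW⟩
  choose W hW hxW hWeq using key
  refine ⟨s.inf W ⊓ U₀, inf_le_right, ?_, ?_⟩
  · rw [← SetLike.mem_coe, TopologicalSpace.Opens.coe_inf, TopologicalSpace.Opens.coe_finset_inf]
    exact ⟨by simpa using fun b _ ↦ hxW b, hx⟩
  · set r := X.presheaf.map (homOfLE (inf_le_right : s.inf W ⊓ U₀ ≤ U₀)).op with hr
    let E : Subalgebra C B :=
      { (RingHom.eqLocus (φ ≫ r).hom (ψ ≫ r).hom) with
        algebraMap_mem' := fun c => by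
          change (φ ≫ r).hom (θ.hom c) = (ψ ≫ r).hom (θ.hom c)
          have := congr($(h1) c)
          change φ.hom (θ.hom c) = ψ.hom (θ.hom c) at this
          simp only [CommRingCat.hom_comp, RingHom.comp_apply, this] }
    have hE : Algebra.adjoin C (s : Set B) ≤ E := by
      rw [Algebra.adjoin_le_iff]
      intro b hb
      change (φ ≫ r).hom b = (ψ ≫ r).hom b
      have hle : s.inf W ⊓ U₀ ≤ W b := inf_le_left.trans (Finset.inf_le hb)
      have h3 : r = X.presheaf.map (homOfLE (hW b)).op ≫ X.presheaf.map (homOfLE hle).op := by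
        rw [hr, ← Functor.map_comp]; rfl
      simp only [CommRingCat.hom_comp, RingHom.comp_apply, h3]
      exact congrArg _ (hWeq b)
    rw [hs] at hE
    ext b
    exact hE (Algebra.mem_top (x := b))

set_option backward.isDefEq.respectTransparency.types false in
theorem spread_out_unique {X Y S : Scheme.{u}} (sX : X ⟶ S) (sY : Y ⟶ S) [LocallyOfFiniteType sY]
    (f g : X ⟶ Y) (hf : f ≫ sY = sX) (hg : g ≫ sY = sX) {x : X} (e : f x = g x)
    (H : f.stalkMap x =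
      Y.presheaf.stalkSpecializes (Inseparable.of_eq e.symm).specializes ≫ g.stalkMap x) :
    ∃ U : X.Opens, x ∈ U ∧ U.ι ≫ f = U.ι ≫ g := by
  obtain ⟨_, ⟨W : S.Opens, hW, rfl⟩, hxW, -⟩ :=
    S.isBasis_affineOpens.exists_subset_of_mem_open (Set.mem_univ (sY (f x))) isOpen_univ
  obtain ⟨_, ⟨V : Y.Opens, hV, rfl⟩, hxV, hVW⟩ :=
    Y.isBasis_affineOpens.exists_subset_of_mem_open
      (show f x ∈ ((sY ⁻¹ᵁ W : Y.Opens) : Set Y) from hxW) (sY ⁻¹ᵁ W).2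
  have hVW' : V ≤ sY ⁻¹ᵁ W := hVW
  have hxV' : g x ∈ V := e ▸ hxV
  obtain ⟨_, ⟨U₀ : X.Opens, hU₀, rfl⟩, hxU₀, hU₀V⟩ :=
    X.isBasis_affineOpens.exists_subset_of_mem_open
      (show x ∈ ((f ⁻¹ᵁ V ⊓ g ⁻¹ᵁ V : X.Opens) : Set X) from ⟨hxV, hxV'⟩) (f ⁻¹ᵁ V ⊓ g ⁻¹ᵁ V).2
  have hU₀V' : U₀ ≤ f ⁻¹ᵁ V ⊓ g ⁻¹ᵁ V := hU₀V
  have hft : (sY.appLE W V hVW').hom.FiniteType :=
    HasRingHomProperty.appLE @LocallyOfFiniteType sY inferInstance ⟨W, hW⟩ ⟨V, hV⟩ hVW'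
  obtain ⟨U, hUU₀, hxU, hU⟩ := exists_opens_res_eq (sY.appLE W V hVW') hft U₀ hxU₀
    (f.appLE V U₀ (hU₀V'.trans inf_le_left)) (g.appLE V U₀ (hU₀V'.trans inf_le_right))
    (by
      rw [Scheme.Hom.appLE_comp_appLE, Scheme.Hom.appLE_comp_appLE]
      simp only [hf, hg])
    (by
      simp only [Scheme.Hom.appLE, Category.assoc, X.presheaf.germ_res',
        ← Scheme.Hom.germ_stalkMap, H]
      simp only [TopCat.Presheaf.germ_stalkSpecializes_assoc, Scheme.Hom.germ_stalkMap])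
  have hUV : U ≤ f ⁻¹ᵁ V ⊓ g ⁻¹ᵁ V := hUU₀.trans hU₀V'
  refine ⟨U, hxU, ?_⟩
  rw [← Scheme.Hom.resLE_comp_ι _ (hUV.trans inf_le_left),
    ← Scheme.Hom.resLE_comp_ι _ (hUV.trans inf_le_right)]
  congr 1
  have : IsAffine V := hV
  suffices ∀ (U₁ V₁) (eU : U = U₁) (eV : V = V₁),
      f.appLE V₁ U₁ (eU ▸ eV ▸ hUV.trans inf_le_left) =
        g.appLE V₁ U₁ (eU ▸ eV ▸ hUV.trans inf_le_right) by
    rw [← cancel_mono V.toScheme.isoSpec.hom]
    simp only [Scheme.isoSpec, asIso_hom, Scheme.toSpecΓ_naturality,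
      Scheme.Hom.app_eq_appLE, Scheme.Hom.resLE_appLE]
    congr 2
    apply this <;> simp
  rintro U V rfl rfl
  simpa only [Scheme.Hom.appLE_map] using hU

end Groth.Agent.Helper1.SpreadUniq
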