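import Mathlib

set_option autoImplicit false

open CategoryTheory AlgebraicGeometry Limits

namespace Groth.Agent.Helper1.SqZeroEndo

universe u

theorem bijective_of_sub_mem {R B : Type*} [CommRing R] [CommRing B] (ψ : R →+* B)
    (φ : B →+* B) (hψφ : φ.comp ψ = ψ) (J : Ideal R) (hJ : J * J = ⊥)
    (hmem : ∀ b, φ b - b ∈ J.map ψ) :
    Function.Bijective φ := by
  have hKK : J.map ψ * J.map ψ = ⊥ := by rw [← Ideal.map_mul, hJ, Ideal.map_bot]
  have hfix : ∀ k ∈ J.map ψ, φ k = k := by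
    intro k hk
    rw [Ideal.map] at hk
    induction hk using Submodule.span_induction with
    | mem x hx =>
      obtain ⟨j, hj, rfl⟩ := hx
      exact RingHom.congr_fun hψφ j
    | zero => exact map_zero φ
    | add x y _ _ hx hy => rw [map_add, hx, hy]
    | smul b x hxK hx =>
      rw [smul_eq_mul, map_mul, hx]
      have h1 : (φ b - b) * x ∈ J.map ψ * J.map ψ := Ideal.mul_mem_mul (hmem b) hxK
      rw [hKK, Ideal.mem_bot] at h1
      linear_combination h1
  constructor
  · rw [injective_iff_map_eq_zero]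
    intro b hb
    have h1 : b ∈ J.map ψ := by
      have h2 := hmem b
      rw [hb, zero_sub] at h2
      exact neg_mem_iff.1 h2
    rw [← hfix b h1]; exact hb
  · intro b
    refine ⟨b - (φ b - b), ?_⟩
    rw [map_sub, hfix _ (hmem b)]
    ring

theorem bijective_of_pullback (R : Type u) [CommRing R] (J : Ideal R) (hJ : J * J = ⊥)
    (B : CommRingCat.{u}) (ψ : CommRingCat.of R ⟶ B) (φ : B ⟶ B) (hψφ : ψ ≫ φ = ψ)
    (h : pullback.fst (Spec.map ψ) (Spec.map (CommRingCat.ofHom (Ideal.Quotient.mk J))) ≫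
        Spec.map φ =
      pullback.fst (Spec.map ψ) (Spec.map (CommRingCat.ofHom (Ideal.Quotient.mk J)))) :
    Function.Bijective φ.hom := by
  have hw' : (CommRingCat.ofHom (Ideal.Quotient.mk J)) ≫
      CommRingCat.ofHom (Ideal.quotientMap (J.map ψ.hom) ψ.hom Ideal.le_comap_map) =
      ψ ≫ CommRingCat.ofHom (Ideal.Quotient.mk (J.map ψ.hom)) := by
    ext r
    simp
  have hℓ : pullback.lift (Spec.map (CommRingCat.ofHom (Ideal.Quotient.mk (J.map ψ.hom))))
      (Spec.map (CommRingCat.ofHom (Ideal.quotientMap (J.map ψ.hom) ψ.hom Ideal.le_comap_map)))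
      (by rw [← Spec.map_comp, ← Spec.map_comp, hw']) ≫
      pullback.fst (Spec.map ψ) (Spec.map (CommRingCat.ofHom (Ideal.Quotient.mk J))) =
      Spec.map (CommRingCat.ofHom (Ideal.Quotient.mk (J.map ψ.hom))) := pullback.lift_fst _ _ _
  have h1 : Spec.map (φ ≫ CommRingCat.ofHom (Ideal.Quotient.mk (J.map ψ.hom))) =
      Spec.map (CommRingCat.ofHom (Ideal.Quotient.mk (J.map ψ.hom))) := by
    rw [Spec.map_comp, ← hℓ, Category.assoc, h]
  have h2 : φ ≫ CommRingCat.ofHom (Ideal.Quotient.mk (J.map ψ.hom)) =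
      CommRingCat.ofHom (Ideal.Quotient.mk (J.map ψ.hom)) := Spec.map_injective h1
  have hmem : ∀ b : B, φ.hom b - b ∈ J.map ψ.hom := by
    intro b
    have h3 := congrArg (fun k => k.hom b) h2
    rw [← Ideal.Quotient.eq]
    exact h3
  refine bijective_of_sub_mem ψ.hom φ.hom ?_ J hJ hmem
  have h4 := congrArg (fun k => k.hom) hψφ
  exact h4

theorem surjective_SpecMap_mk (R : Type u) [CommRing R] (J : Ideal R) (hJ : J * J = ⊥) :
    Surjective (Spec.map (CommRingCat.ofHom (Ideal.Quotient.mk J))) := by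
  constructor
  have hle : J ≤ nilradical R := by
    intro j hj
    refine ⟨2, ?_⟩
    have h1 : j * j ∈ J * J := Ideal.mul_mem_mul hj hj
    rw [hJ, Ideal.mem_bot] at h1
    rw [pow_two]; exact h1
  exact (PrimeSpectrum.comap_quotientMk_bijective_of_le_nilradical hle).2

theorem main (R : Type u) [CommRing R] (J : Ideal R) (hJ : J * J = ⊥)
    (X : Over (Spec (CommRingCat.of R))) (u : X ⟶ X)
    (h : (Over.pullback (Spec.map (CommRingCat.ofHom (Ideal.Quotient.mk J)))).map u = 𝟙 _) :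
    IsIso u := by
  have hstar : pullback.fst X.hom (Spec.map (CommRingCat.ofHom (Ideal.Quotient.mk J))) ≫ u.left =
      pullback.fst X.hom (Spec.map (CommRingCat.ofHom (Ideal.Quotient.mk J))) := by
    have h0 : ((Over.pullback (Spec.map (CommRingCat.ofHom (Ideal.Quotient.mk J)))).map u).left ≫
        pullback.fst X.hom (Spec.map (CommRingCat.ofHom (Ideal.Quotient.mk J))) =
        pullback.fst X.hom (Spec.map (CommRingCat.ofHom (Ideal.Quotient.mk J))) ≫ u.left :=
      pullback.lift_fst _ _ _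
    rw [h, Over.id_left] at h0
    exact h0.symm.trans (Category.id_comp _)
  have hsurj := surjective_SpecMap_mk R J hJ
  have hpt : ∀ x : X.left, u.left x = x := by
    intro x
    obtain ⟨y, rfl⟩ := (pullback.fst X.hom
      (Spec.map (CommRingCat.ofHom (Ideal.Quotient.mk J)))).surjective x
    have h0 := congrArg (fun k : _ ⟶ X.left => k y) hstar
    simpa using h0
  have hw : u.left ≫ X.hom = X.hom := Over.w u
  have hloc : ∀ U : X.left.affineOpens, IsIso (u.left ∣_ U.1) := by
    rintro ⟨U, hU0⟩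
    have hU : IsAffineOpen U := hU0
    have heq : u.left ⁻¹ᵁ U = U := by
      ext x
      show u.left x ∈ U ↔ x ∈ U
      rw [hpt]
    obtain ⟨uU, huU⟩ : ∃ uU : U.toScheme ⟶ U.toScheme,
      uU = (X.left.isoOfEq heq).inv ≫ (u.left ∣_ U) := ⟨_, rfl⟩
    have huUι : uU ≫ U.ι = U.ι ≫ u.left := by
      rw [huU, Category.assoc, morphismRestrict_ι, ← Category.assoc, Scheme.isoOfEq_inv_ι]
    obtain ⟨t, ht⟩ : ∃ t : Spec Γ(X.left, U) ⟶ X.left, t = hU.isoSpec.inv ≫ U.ι := ⟨_, rfl⟩
    obtain ⟨ψ, hψ⟩ : ∃ ψ : CommRingCat.of R ⟶ Γ(X.left, U), ψ = Spec.preimage (t ≫ X.hom) :=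
      ⟨_, rfl⟩
    obtain ⟨φ, hφ⟩ : ∃ φ : Γ(X.left, U) ⟶ Γ(X.left, U),
      φ = Spec.preimage (hU.isoSpec.inv ≫ uU ≫ hU.isoSpec.hom) := ⟨_, rfl⟩
    have hSψ : Spec.map ψ = t ≫ X.hom := by rw [hψ]; exact Spec.map_preimage _
    have hSφ : Spec.map φ = hU.isoSpec.inv ≫ uU ≫ hU.isoSpec.hom := by
      rw [hφ]; exact Spec.map_preimage _
    have hφt : Spec.map φ ≫ t = t ≫ u.left := by
      rw [hSφ, ht, Category.assoc, Category.assoc, Iso.hom_inv_id_assoc, huUι, Category.assoc]
    have hψφ : ψ ≫ φ = ψ := by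
      apply Spec.map_injective
      rw [Spec.map_comp, hSψ, ← Category.assoc, hφt, Category.assoc, hw]
    have hmono : Mono t := by rw [ht]; infer_instance
    have hfst : pullback.fst (Spec.map ψ) (Spec.map (CommRingCat.ofHom (Ideal.Quotient.mk J))) ≫
        Spec.map φ =
        pullback.fst (Spec.map ψ) (Spec.map (CommRingCat.ofHom (Ideal.Quotient.mk J))) := by
      have ha : pullback.map (Spec.map ψ) (Spec.map (CommRingCat.ofHom (Ideal.Quotient.mk J)))
          X.hom (Spec.map (CommRingCat.ofHom (Ideal.Quotient.mk J))) t (𝟙 _) (𝟙 _)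
          (by rw [Category.comp_id, hSψ])
          ((Category.comp_id _).trans (Category.id_comp _).symm) ≫ pullback.fst X.hom _ =
          pullback.fst (Spec.map ψ) _ ≫ t := pullback.lift_fst _ _ _
      rw [← cancel_mono t]
      calc (pullback.fst (Spec.map ψ) (Spec.map (CommRingCat.ofHom (Ideal.Quotient.mk J))) ≫
            Spec.map φ) ≫ t
          = pullback.fst (Spec.map ψ) _ ≫ (Spec.map φ ≫ t) := Category.assoc _ _ _
        _ = pullback.fst (Spec.map ψ) _ ≫ (t ≫ u.left) := by rw [hφt]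
        _ = (pullback.fst (Spec.map ψ) _ ≫ t) ≫ u.left := (Category.assoc _ _ _).symm
        _ = (_ ≫ pullback.fst X.hom _) ≫ u.left := by rw [ha]
        _ = _ ≫ (pullback.fst X.hom _ ≫ u.left) := Category.assoc _ _ _
        _ = _ ≫ pullback.fst X.hom _ := by rw [hstar]
        _ = pullback.fst (Spec.map ψ) _ ≫ t := ha
    have hbij := bijective_of_pullback R J hJ _ ψ φ hψφ hfst
    have hisoφ : IsIso φ := (ConcreteCategory.isIso_iff_bijective φ).2 hbij
    have hiso1 : IsIso (hU.isoSpec.inv ≫ uU ≫ hU.isoSpec.hom) := by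
      rw [← hSφ]; infer_instance
    have hiso2 : IsIso uU := by
      have h5 : uU = hU.isoSpec.hom ≫ (hU.isoSpec.inv ≫ uU ≫ hU.isoSpec.hom) ≫ hU.isoSpec.inv := by
        simp
      rw [h5]; infer_instance
    have h6 : u.left ∣_ U = (X.left.isoOfEq heq).hom ≫ uU := by
      rw [huU, Iso.hom_inv_id_assoc]
    show IsIso (u.left ∣_ U)
    rw [h6]; infer_instance
  have hleft : IsIso u.left :=
    IsZariskiLocalAtTarget.of_iSup_eq_top (P := MorphismProperty.isomorphisms Scheme.{u})
      (fun U : X.left.affineOpens => U.1) (iSup_affineOpens_eq_top X.left) hloc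
  have hleft' : IsIso ((Over.forget (Spec (CommRingCat.of R))).map u) := hleft
  exact isIso_of_reflects_iso u (Over.forget _)

end Groth.Agent.Helper1.SqZeroEndo

namespace Groth.Agent.Helper1.SqZeroEndo

universe u

theorem exists_algEquiv_lift (R A : Type u) [CommRing R] [CommRing A] [Algebra R A]
    [Algebra.Smooth R A] (J : Ideal R) (hJ : J * J = ⊥)
    (φ₀ : (A ⧸ Ideal.map (algebraMap R A) J) ≃ₐ[R] (A ⧸ Ideal.map (algebraMap R A) J)) :
    ∃ φ : A ≃ₐ[R] A,
      (Ideal.Quotient.mkₐ R (Ideal.map (algebraMap R A) J)).comp φ.toAlgHom =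
        φ₀.toAlgHom.comp (Ideal.Quotient.mkₐ R (Ideal.map (algebraMap R A) J)) := by
  have hI : IsNilpotent (Ideal.map (algebraMap R A) J) := by
    refine ⟨2, ?_⟩
    rw [pow_two, ← Ideal.map_mul, hJ, Ideal.map_bot]
    rfl
  obtain ⟨φ, hφ⟩ := Algebra.FormallySmooth.exists_lift (Ideal.map (algebraMap R A) J) hI
    (φ₀.toAlgHom.comp (Ideal.Quotient.mkₐ R (Ideal.map (algebraMap R A) J)))
  obtain ⟨ψ, hψ⟩ := Algebra.FormallySmooth.exists_lift (Ideal.map (algebraMap R A) J) hI
    (φ₀.symm.toAlgHom.comp (Ideal.Quotient.mkₐ R (Ideal.map (algebraMap R A) J)))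
  have hφ' : ∀ a : A, Ideal.Quotient.mk (Ideal.map (algebraMap R A) J) (φ a) =
      φ₀ (Ideal.Quotient.mk _ a) := fun a => AlgHom.congr_fun hφ a
  have hψ' : ∀ a : A, Ideal.Quotient.mk (Ideal.map (algebraMap R A) J) (ψ a) =
      φ₀.symm (Ideal.Quotient.mk _ a) := fun a => AlgHom.congr_fun hψ a
  have h1 : Function.Bijective ((ψ.comp φ : A →ₐ[R] A) : A →+* A) := by
    refine bijective_of_sub_mem (algebraMap R A) _ ?_ J hJ ?_
    · ext r
      exact (ψ.comp φ).commutes r
    · intro a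
      rw [← Ideal.Quotient.eq]
      show Ideal.Quotient.mk _ (ψ (φ a)) = _
      rw [hψ', hφ', AlgEquiv.symm_apply_apply]
  have h2 : Function.Bijective ((φ.comp ψ : A →ₐ[R] A) : A →+* A) := by
    refine bijective_of_sub_mem (algebraMap R A) _ ?_ J hJ ?_
    · ext r
      exact (φ.comp ψ).commutes r
    · intro a
      rw [← Ideal.Quotient.eq]
      show Ideal.Quotient.mk _ (φ (ψ a)) = _
      rw [hφ', hψ', AlgEquiv.apply_symm_apply]
  have hbij : Function.Bijective φ := by
    constructor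
    · exact Function.Injective.of_comp (f := ψ) h1.1
    · exact Function.Surjective.of_comp (g := ψ) h2.2
  refine ⟨AlgEquiv.ofBijective φ hbij, ?_⟩
  rw [← hφ]
  rfl

end Groth.Agent.Helper1.SqZeroEndo
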