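import Mathlib
import Groth.Agent.Lib.Helper1.SchLoc4

universe u

open AlgebraicGeometry CategoryTheory CategoryTheory.Limits TopologicalSpace

namespace Groth.Agent.Helper1.StalkBC

theorem isIso_stalkMap_fst {X Y : Scheme.{u}} (f : X ⟶ Y) (y : Y)
    (t : ↑(pullback f (Y.fromSpecStalk y))) :
    IsIso ((pullback.fst f (Y.fromSpecStalk y)).stalkMap t) := by
  let j := Y.fromSpecStalk y
  let P := pullback f j
  let p : P ⟶ X := pullback.fst f j
  let q : P ⟶ Spec (Y.presheaf.stalk y) := pullback.snd f j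
  let a := p.stalkMap t
  have hpq : p ≫ f = q ≫ j := pullback.condition
  -- f (p t) is a generization of y
  have h : f (p t) ⤳ y := by
    have e1 : f (p t) = j (q t) := by
      have e2 : f (p t) = (p ≫ f) t := rfl
      have e3 : j (q t) = (q ≫ j) t := rfl
      rw [e2, e3, hpq]
    have : f (p t) ∈ Set.range j := ⟨q t, e1.symm⟩
    rw [Scheme.range_fromSpecStalk] at this
    exact this
  let φ : Y.presheaf.stalk y ⟶ X.presheaf.stalk (p t) :=
    Y.presheaf.stalkSpecializes h ≫ f.stalkMap (p t)
  have hu : X.fromSpecStalk (p t) ≫ f = Spec.map φ ≫ j := by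
    dsimp only [φ, j]
    rw [Spec.map_comp, Category.assoc, Scheme.SpecMap_stalkSpecializes_fromSpecStalk,
      Scheme.SpecMap_stalkMap_fromSpecStalk]
  let s : Spec (X.presheaf.stalk (p t)) ⟶ P := pullback.lift (X.fromSpecStalk (p t)) (Spec.map φ) hu
  have hs : s ≫ p = X.fromSpecStalk (p t) := pullback.lift_fst _ _ _
  have hfss : P.fromSpecStalk t ≫ p = Spec.map a ≫ X.fromSpecStalk (p t) :=
    (Scheme.SpecMap_stalkMap_fromSpecStalk (f := p) (x := t)).symm
  have h2 : P.fromSpecStalk t = Spec.map a ≫ s := by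
    rw [← cancel_mono p, Category.assoc, hs, hfss]
  obtain ⟨t', σ, hloc, hσ, ht'⟩ := SchLoc.exists_factor P s
  have htt : t' = t := by
    apply p.isEmbedding.injective
    rw [← ht']
    have e1 : p (s (IsLocalRing.closedPoint (X.presheaf.stalk (p t)))) =
        (s ≫ p) (IsLocalRing.closedPoint (X.presheaf.stalk (p t))) := rfl
    rw [e1, hs]
    exact Scheme.fromSpecStalk_closedPoint
  subst htt
  have h3 : σ ≫ a = 𝟙 _ := by
    apply Spec.map_injective
    rw [← cancel_mono (P.fromSpecStalk t'), Spec.map_comp, Category.assoc, hσ, ← h2,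
      Spec.map_id, Category.id_comp]
  have h4 : a ≫ σ = 𝟙 _ := by
    apply Spec.map_injective
    rw [← cancel_mono (X.fromSpecStalk (p t')), Spec.map_comp, Category.assoc, ← hfss,
      ← Category.assoc, hσ, hs, Spec.map_id, Category.id_comp]
  exact ⟨σ, h4, h3⟩

end Groth.Agent.Helper1.StalkBC
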