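import Mathlib
import Groth.Prelude.Def_GrMod2
import Groth.Agent.Lib.Helper1.GrTildeLib
import Groth.Agent.Lib.Helper1.TildeQC

set_option autoImplicit false
universe u
open CategoryTheory CategoryTheory.Limits AlgebraicGeometry TopologicalSpace Opposite DirectSum

namespace Groth.Agent.Helper1.StalkFib

variable {R A : Type u} [CommRing R] [CommRing A] [Algebra R A] (𝒜 : ℕ → Submodule R A)
  [GradedAlgebra 𝒜] {M : Type u} [AddCommGroup M] [Module R M] [Module A M] [IsScalarTower R A M]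
  (ℳ : ℕ → Submodule R M) [DirectSum.Decomposition ℳ] [SetLike.GradedSMul 𝒜 ℳ] (n : ℤ)

/-- every element of `tildeAt` is a single fraction -/
theorem exists_rep (x : ProjectiveSpectrum 𝒜) (q : GrTilde.LocMod 𝒜 (M := M) x)
    (hq : q ∈ GrTilde.tildeAt 𝒜 ℳ n x) :
    ∃ (i j : ℕ) (m : ℳ i) (s : 𝒜 j) (hs : s.1 ∉ x.asHomogeneousIdeal),
      ((i : ℤ) = j + n ∨ m.1 = 0) ∧ q = LocalizedModule.mk m.1 ⟨s.1, hs⟩ := by
  induction hq using Submodule.span_induction with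
  | mem q hq =>
    obtain ⟨i, j, m, s, hs, hdeg, rfl⟩ := hq
    exact ⟨i, j, m, s, hs, Or.inl hdeg, rfl⟩
  | zero =>
    refine ⟨0, 0, 0, ⟨1, SetLike.GradedOne.one_mem⟩, ?_, Or.inr rfl, ?_⟩
    · exact fun h => x.isPrime.ne_top ((Ideal.eq_top_iff_one _).2 h)
    · exact (LocalizedModule.zero_mk _).symm
  | add q q' _ _ hq hq' =>
    obtain ⟨i, j, m, s, hs, hdeg, rfl⟩ := hq
    obtain ⟨i', j', m', s', hs', hdeg', rfl⟩ := hq'
    rcases hdeg with hdeg | hm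
    · rcases hdeg' with hdeg' | hm'
      · have e : j + i' = j' + i := by omega
        refine ⟨j' + i, j + j', ⟨s'.1 • m.1 + s.1 • m'.1, ?_⟩, ⟨s.1 * s'.1, ?_⟩, ?_, Or.inl ?_, ?_⟩
        · refine Submodule.add_mem _ (SetLike.GradedSMul.smul_mem s'.2 m.2) ?_
          have := SetLike.GradedSMul.smul_mem (A := 𝒜) (B := ℳ) s.2 m'.2
          rw [vadd_eq_add, e] at this
          exact this
        · exact SetLike.GradedMul.mul_mem s.2 s'.2
        · exact fun h => (x.isPrime.mem_or_mem h).elim hs hs'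
        · push_cast; omega
        · exact LocalizedModule.mk_add_mk
      · refine ⟨i, j, m, s, hs, Or.inl hdeg, ?_⟩
        rw [hm', LocalizedModule.zero_mk, add_zero]
    · refine ⟨i', j', m', s', hs', hdeg', ?_⟩
      rw [hm, LocalizedModule.zero_mk, zero_add]
  | smul c q _ hq =>
    obtain ⟨i, j, m, s, hs, hdeg, rfl⟩ := hq
    refine ⟨c.deg + i, c.deg + j, ⟨c.num • m.1, SetLike.GradedSMul.smul_mem c.num_mem_deg m.2⟩,
      ⟨c.den * s.1, SetLike.GradedMul.mul_mem c.den_mem_deg s.2⟩, ?_, ?_, ?_⟩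
    · exact fun h => (x.isPrime.mem_or_mem h).elim c.den_mem hs
    · rcases hdeg with hdeg | hm
      · left; push_cast; omega
      · right; change c.num • m.1 = 0; rw [hm, smul_zero]
    · rw [GrTilde.a0_smul_def, HomogeneousLocalization.eq_num_div_den]
      exact TildeQC.mk_smul_mk' 𝒜 x c.num ⟨c.den, c.den_mem⟩ ⟨s.1, hs⟩ m.1

theorem surj (p : ProjectiveSpectrum 𝒜) :
    Function.Surjective (TopCat.stalkToFiber (GrTilde.isLocFrac 𝒜 ℳ n) p) := by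
  apply TopCat.stalkToFiber_surjective
  rintro ⟨q, hq⟩
  obtain ⟨i, j, m, s, hs, hdeg, rfl⟩ := exists_rep 𝒜 ℳ n p q hq
  have hmem : ∀ (y : ProjectiveSpectrum 𝒜) (hy : s.1 ∉ y.asHomogeneousIdeal),
      (LocalizedModule.mk m.1 ⟨s.1, hy⟩ : GrTilde.LocMod 𝒜 (M := M) y) ∈
        GrTilde.tildeAt 𝒜 ℳ n y := fun y hy => by
    rcases hdeg with hdeg | hm
    · exact Submodule.subset_span ⟨i, j, m, s, hy, hdeg, rfl⟩
    · rw [hm, LocalizedModule.zero_mk]; exact Submodule.zero_mem _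
  let U : OpenNhds (X := ProjectiveSpectrum.top 𝒜) p :=
    ⟨ProjectiveSpectrum.basicOpen 𝒜 s.1, (ProjectiveSpectrum.mem_basicOpen 𝒜 s.1 p).2 hs⟩
  have hU : ∀ y : U.1, s.1 ∉ y.1.asHomogeneousIdeal := fun y =>
    (ProjectiveSpectrum.mem_basicOpen 𝒜 s.1 y.1).1 y.2
  refine ⟨U, fun y => ⟨LocalizedModule.mk m.1 ⟨s.1, hU y⟩, hmem y.1 (hU y)⟩, ?_, rfl⟩
  intro y
  exact ⟨U.1, y.2, 𝟙 _, i, j, m, s, hU, hdeg, fun _ => rfl⟩

theorem exists_comp_not_mem (p : ProjectiveSpectrum 𝒜) (u : A) (hu : u ∉ p.asHomogeneousIdeal) :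
    ∃ k : ℕ, (decompose 𝒜 u k : A) ∉ p.asHomogeneousIdeal := by
  classical
  by_contra h
  push Not at h
  apply hu
  rw [← DirectSum.sum_support_decompose 𝒜 u]
  exact Ideal.sum_mem _ (fun k _ => h k)

theorem inj (p : (ProjectiveSpectrum.top 𝒜)) :
    Function.Injective (TopCat.stalkToFiber (GrTilde.isLocFrac 𝒜 ℳ n) p) := by
  apply TopCat.stalkToFiber_injective
  intro U V fU hU fV hV e
  obtain ⟨V1, hp1, i1, i, j, m, s, s_nin, hdeg, hval⟩ := hU ⟨p, U.2⟩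
  obtain ⟨V2, hp2, i2, i', j', m', s', s_nin', hdeg', hval'⟩ := hV ⟨p, V.2⟩
  have e1 := hval ⟨p, hp1⟩
  have e2 := hval' ⟨p, hp2⟩
  have e3 : (LocalizedModule.mk m.1 ⟨s.1, s_nin ⟨p, hp1⟩⟩ : GrTilde.LocMod 𝒜 (M := M) p) =
      LocalizedModule.mk m'.1 ⟨s'.1, s_nin' ⟨p, hp2⟩⟩ := by
    rw [← e1, ← e2]
    exact congrArg Subtype.val e
  obtain ⟨⟨u, hu⟩, hu2⟩ := LocalizedModule.mk_eq.1 e3
  -- common degree
  obtain ⟨d, hd1, hd2⟩ : ∃ d : ℕ, s'.1 • m.1 ∈ ℳ d ∧ s.1 • m'.1 ∈ ℳ d := by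
    rcases hdeg with hdeg | hm
    · rcases hdeg' with hdeg' | hm'
      · have e : j + i' = j' + i := by omega
        refine ⟨j' + i, SetLike.GradedSMul.smul_mem s'.2 m.2, ?_⟩
        have := SetLike.GradedSMul.smul_mem (A := 𝒜) (B := ℳ) s.2 m'.2
        rw [vadd_eq_add, e] at this
        exact this
      · refine ⟨j' + i, SetLike.GradedSMul.smul_mem s'.2 m.2, ?_⟩
        rw [hm', smul_zero]; exact Submodule.zero_mem _
    · refine ⟨j + i', ?_, SetLike.GradedSMul.smul_mem s.2 m'.2⟩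
      rw [hm, smul_zero]; exact Submodule.zero_mem _
  have hz : s'.1 • m.1 - s.1 • m'.1 ∈ ℳ d := Submodule.sub_mem _ hd1 hd2
  have huz : u • (s'.1 • m.1 - s.1 • m'.1) = 0 := by
    rw [smul_sub, sub_eq_zero]
    exact hu2
  obtain ⟨k, hk⟩ := exists_comp_not_mem 𝒜 p u hu
  have hkz := GrTildeLib.comp_smul_eq_zero 𝒜 ℳ hz huz k
  set v : A := (decompose 𝒜 u k : A) with hv
  let W : Opens (ProjectiveSpectrum.top 𝒜) := V1 ⊓ V2 ⊓ ProjectiveSpectrum.basicOpen 𝒜 v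
  have hpW : p ∈ W := ⟨⟨hp1, hp2⟩, (ProjectiveSpectrum.mem_basicOpen 𝒜 v p).2 hk⟩
  have hW1 : W ≤ V1 := fun y hy => hy.1.1
  have hW2 : W ≤ V2 := fun y hy => hy.1.2
  refine ⟨⟨W, hpW⟩, homOfLE (hW1.trans i1.le), homOfLE (hW2.trans i2.le), ?_⟩
  intro w
  apply Subtype.ext
  have hvw : v ∉ w.1.asHomogeneousIdeal := (ProjectiveSpectrum.mem_basicOpen 𝒜 v w.1).1 w.2.2
  have a1 := hval ⟨w.1, hW1 w.2⟩
  have a2 := hval' ⟨w.1, hW2 w.2⟩
  refine a1.trans (Eq.trans ?_ a2.symm)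
  rw [LocalizedModule.mk_eq]
  refine ⟨⟨v, hvw⟩, ?_⟩
  change v • s'.1 • m.1 = v • s.1 • m'.1
  rw [← sub_eq_zero, ← smul_sub]
  exact hkz

theorem main (p : ProjectiveSpectrum 𝒜) :
    Function.Bijective (TopCat.stalkToFiber (GrTilde.isLocFrac 𝒜 ℳ n) p) :=
  ⟨inj 𝒜 ℳ n p, surj 𝒜 ℳ n p⟩

end Groth.Agent.Helper1.StalkFib
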