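import Mathlib
import Groth.Prelude.Def_BlowUp2
import Groth.Prelude.Def_Coh
import Groth.Prelude.Def_CohB1
import Groth.Agent.Lib.Helper1.QcAbel
import Groth.Agent.Lib.Helper1.AffPushEpi
import Groth.Agent.Lib.Helper1.FtLocal
import Groth.Agent.Lib.Lead.PBQc
import Groth.Agent.Lib.Lead.FLF7

/-!
# Strict transforms of quasi-coherent modules along locally principal ideals are quasi-coherent
(helper1, S19349)
-/

set_option autoImplicit false
set_option backward.isDefEq.respectTransparency.types false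
set_option synthInstance.maxHeartbeats 400000
set_option linter.unusedSectionVars false
set_option linter.style.haveILetI false
set_option linter.unusedVariables false
universe u
open CategoryTheory CategoryTheory.Limits AlgebraicGeometry TopologicalSpace Opposite

namespace Groth.Agent.Helper1.StrictQc

open Groth.Agent.Helper1.QcCech Groth.Agent.Helper1.TildeQC PrimeSpectrum
open Groth.Agent.Helper1.QcExt Groth.Agent.Helper1.QcAbel Groth.Agent.Helper1

variable {X : Scheme.{u}}

/-- criterion for quasi-coherence, tested on a covering family of affine opens -/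
theorem isQuasicoherent_of_kill_ext_on (G : X.Modules) (P : X.affineOpens → Prop)
    (hcov : ∀ x : X, ∃ V : X.affineOpens, P V ∧ x ∈ V.1)
    (hk : ∀ V : X.affineOpens, P V → ∀ (f : Γ(X, V.1)) (O : X.Opens) (hO : O = X.basicOpen f)
      (t : Γ(G, V.1)), res G (hO.le.trans (X.basicOpen_le f)) t = 0 → ∃ n : ℕ, f ^ n • t = 0)
    (he : ∀ V : X.affineOpens, P V → ∀ (f : Γ(X, V.1)) (O : X.Opens) (hO : O = X.basicOpen f)
      (y : Γ(G, O)), ∃ (n : ℕ) (t : Γ(G, V.1)), res G (hO.le.trans (X.basicOpen_le f)) t =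
        (resR (hO.le.trans (X.basicOpen_le f)) f) ^ n • y) :
    G.IsQuasicoherent := by
  refine QCohLib.isQuasicoherent_of_affine_charts _ (I := {V : X.affineOpens // P V})
    (fun V => Γ(X, V.1.1)) (fun V => V.1.2.fromSpec) ?_ ?_
  · apply le_antisymm le_top
    intro y _
    obtain ⟨V, hPV, hyV⟩ := hcov y
    refine Opens.mem_iSup.2 ⟨⟨V, hPV⟩, ?_⟩
    rw [IsAffineOpen.opensRange_fromSpec]
    exact hyV
  · rintro ⟨⟨V, hV⟩, hPV⟩
    apply isIso_fromTildeΓ_of
    · intro g y
      have e1 : hV.fromSpec ''ᵁ (basicOpen g) = X.basicOpen g := hV.fromSpec_image_basicOpen g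
      have e0 : hV.fromSpec ''ᵁ ⊤ = V := QcLoc.image_top hV
      let y' : Γ(G, hV.fromSpec ''ᵁ (basicOpen g)) := y
      obtain ⟨n, t, ht⟩ := he ⟨V, hV⟩ hPV g _ e1 y'
      refine ⟨n, (res G e0.le t : Γ(G, hV.fromSpec ''ᵁ ⊤)), ?_⟩
      rw [act_def, QcLoc.smul_eq hV G (basicOpen g) (g ^ n) y]
      have hle : hV.fromSpec ''ᵁ (basicOpen g) ≤ hV.fromSpec ''ᵁ ⊤ :=
        (hV.fromSpec.opensFunctor.map (basicOpen g).leTop).le
      change resR (QcLoc.image_le hV (basicOpen g)) (g ^ n) • y' = res G hle (res G e0.le t)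
      rw [res_res, map_pow]
      exact ht.symm
    · intro g t ht
      have e1 : hV.fromSpec ''ᵁ (basicOpen g) = X.basicOpen g := hV.fromSpec_image_basicOpen g
      have e0 : hV.fromSpec ''ᵁ ⊤ = V := QcLoc.image_top hV
      let t' : Γ(G, hV.fromSpec ''ᵁ ⊤) := t
      have hle : hV.fromSpec ''ᵁ (basicOpen g) ≤ hV.fromSpec ''ᵁ ⊤ :=
        (hV.fromSpec.opensFunctor.map (basicOpen g).leTop).le
      have ht' : res G hle t' = 0 := ht
      obtain ⟨n, hn⟩ := hk ⟨V, hV⟩ hPV g _ e1 (res G e0.ge t') (by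
        rw [res_res]
        exact ht')
      refine ⟨n, ?_⟩
      rw [act_def, QcLoc.smul_eq hV G ⊤ (g ^ n) t]
      change resR (QcLoc.image_le hV ⊤) (g ^ n) • t' = 0
      have h2 := congrArg (res G e0.le) hn
      rw [res_smul, res_res, res_self, map_zero] at h2
      exact h2

/-- sections killed by a morphism come from its kernel -/
theorem exists_of_app_eq_zero {N G : X.Modules} (π : N ⟶ G) (U : X.Opens) (x : Γ(N, U))
    (hx : π.app U x = 0) : ∃ y : Γ(kernel π, U), (kernel.ι π).app U y = x := by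
  haveI : Mono (ShortComplex.mk (kernel.ι π) π (kernel.condition π)).f :=
    inferInstanceAs (Mono (kernel.ι π))
  exact app_exact' (S := ShortComplex.mk (kernel.ι π) π (kernel.condition π))
    (ShortComplex.exact_of_f_is_kernel _ (kernelIsKernel π)) U x hx

theorem app_kernel_ι {N G : X.Modules} (π : N ⟶ G) (U : X.Opens) (y : Γ(kernel π, U)) :
    π.app U ((kernel.ι π).app U y) = 0 := by
  have h1 : kernel.ι π ≫ π = 0 := kernel.condition π
  exact congrArg (fun φ : kernel π ⟶ G => φ.app U y) h1

set_option maxHeartbeats 1600000 in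
/-- the kernel of a strict-transform quotient along a locally principal ideal sheaf is
quasi-coherent -/
theorem isQuasicoherent_kernel_of_strict {N G : X.Modules} [N.IsQuasicoherent] (π : N ⟶ G)
    (E : X.IdealSheafData)
    (hE : ∀ x : X, ∃ V : X.affineOpens,
      (∃ e : Γ(X, V.1), E.ideal V = Ideal.span {e}) ∧ x ∈ V.1)
    (hG : ∀ (V : X.affineOpens) (m : N.presheaf.obj (Opposite.op V.1)),
      π.app V.1 m = 0 ↔ BlowUp.KilledByPowerNear E N V m) :
    (kernel π).IsQuasicoherent := by
  apply isQuasicoherent_of_kill_ext_on (kernel π)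
    (fun V => ∃ e : Γ(X, V.1), E.ideal V = Ideal.span {e}) hE
  · rintro V - f O hO t ht
    have hle := hO.le.trans (X.basicOpen_le f)
    have h1 : res N hle ((kernel.ι π).app V.1 t) = 0 := by rw [← app_res, ht, map_zero]
    obtain ⟨n, hn⟩ := kill_aux N V.2 f O hO _ h1
    refine ⟨n, FtLocal.app_injective_of_mono (kernel.ι π) V.1 ?_⟩
    rw [Scheme.Modules.Hom.app_smul, hn, map_zero]
  · rintro V ⟨e, he⟩ f O hO y
    have hle : O ≤ V.1 := hO.le.trans (X.basicOpen_le f)
    have hOaff : IsAffineOpen O := by rw [hO]; exact V.2.basicOpen f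
    have hy0 : π.app O ((kernel.ι π).app O y) = 0 := app_kernel_ι π O y
    obtain ⟨k, hk⟩ := (hG ⟨O, hOaff⟩ ((kernel.ι π).app O y)).1 hy0
    have hid : E.ideal ⟨O, hOaff⟩ = Ideal.span {resR hle e} := by
      rw [← E.map_ideal (U := ⟨O, hOaff⟩) (V := V) hle, he, Ideal.map_span, Set.image_singleton]
      rfl
    have hpow : (resR hle e) ^ k • (kernel.ι π).app O y = 0 := by
      apply hk
      rw [Scheme.IdealSheafData.ideal_pow, Pi.pow_apply, hid]
      exact Ideal.pow_mem_pow (Ideal.mem_span_singleton_self _) k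
    obtain ⟨n, t, ht⟩ := extend_aux N V.2 f O hO ((kernel.ι π).app O y)
    have h1 : res N hle (e ^ k • t) = 0 := by
      rw [res_smul, ht, map_pow, ← mul_smul, mul_comm, mul_smul, hpow, smul_zero]
    obtain ⟨m, hm⟩ := kill_aux N V.2 f O hO _ h1
    have h2 : π.app V.1 (f ^ m • t) = 0 := by
      refine (hG V _).2 ?_
      unfold BlowUp.KilledByPowerNear
      refine ⟨k, fun a ha => ?_⟩
      rw [Scheme.IdealSheafData.ideal_pow, Pi.pow_apply, he, Ideal.span_singleton_pow,
        Ideal.mem_span_singleton'] at ha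
      obtain ⟨c, rfl⟩ := ha
      rw [mul_smul, ← mul_smul (e ^ k), mul_comm (e ^ k), mul_smul, hm, smul_zero]
    obtain ⟨s, hs⟩ := exists_of_app_eq_zero π V.1 _ h2
    refine ⟨m + n, s, FtLocal.app_injective_of_mono (kernel.ι π) O ?_⟩
    rw [app_res, hs, res_smul, ht, Scheme.Modules.Hom.app_smul, map_pow, ← mul_smul, ← pow_add]

/-- a strict-transform quotient of a quasi-coherent module along a locally principal ideal sheaf
is quasi-coherent -/
theorem isQuasicoherent_of_strict {N G : X.Modules} [N.IsQuasicoherent] (π : N ⟶ G) [Epi π]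
    (E : X.IdealSheafData)
    (hE : ∀ x : X, ∃ V : X.affineOpens,
      (∃ e : Γ(X, V.1), E.ideal V = Ideal.span {e}) ∧ x ∈ V.1)
    (hG : ∀ (V : X.affineOpens) (m : N.presheaf.obj (Opposite.op V.1)),
      π.app V.1 m = 0 ↔ BlowUp.KilledByPowerNear E N V m) :
    G.IsQuasicoherent := by
  haveI : (kernel π).IsQuasicoherent := isQuasicoherent_kernel_of_strict π E hE hG
  let T : ShortComplex X.Modules := ShortComplex.mk (kernel.ι π) π (kernel.condition π)
  have hT : T.ShortExact :=
    { exact := ShortComplex.exact_of_f_is_kernel _ (kernelIsKernel π)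
      mono_f := inferInstanceAs (Mono (kernel.ι π))
      epi_g := inferInstanceAs (Epi π) }
  haveI : T.X₁.IsQuasicoherent := inferInstanceAs (kernel π).IsQuasicoherent
  haveI : T.X₂.IsQuasicoherent := inferInstanceAs N.IsQuasicoherent
  exact isQuasicoherent_right hT

/-- a quasi-coherent quotient of a finite type quasi-coherent module is of finite type -/
theorem isFT_of_epi {N G : X.Modules} [N.IsQuasicoherent] [G.IsQuasicoherent] (π : N ⟶ G) [Epi π]
    (hFT : CohB1.IsFT N) : CohB1.IsFT G := by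
  apply Groth.Agent.Lead.FLF.isFT_of_ft_sections
  intro U hU
  have := Groth.Agent.Lead.FLF.ft_sections N hFT hU
  have hs := AffPushEpi.app_surjective_of_epi π U hU
  let f : Γ(N, U) →ₗ[Γ(X, U)] Γ(G, U) :=
    { toFun := fun x => π.app U x
      map_add' := fun x y => map_add _ x y
      map_smul' := fun r x => by rw [Scheme.Modules.Hom.app_smul]; rfl }
  exact Module.Finite.of_surjective f hs

/-- S19349: the strict transform of a coherent module along a morphism whose inverse image
ideal is effective Cartier is coherent -/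
theorem main {X' : Scheme.{u}} (b : X' ⟶ X) (I : X.IdealSheafData)
    (hE : BlowUp.IsEffCartierIdeal (I.comap b))
    (F : X.Modules) (hF : Coh.IsCoh F) (G : X'.Modules)
    (π : (Scheme.Modules.pullback b).obj F ⟶ G) (hG : BlowUp.IsStrictTransform b I F G π) :
    Coh.IsCoh G := by
  haveI : F.IsQuasicoherent := hF.1
  haveI : ((Scheme.Modules.pullback b).obj F).IsQuasicoherent :=
    Groth.Agent.Lead.PB.isQuasicoherent_pullback b F
  have hft : CohB1.IsFT ((Scheme.Modules.pullback b).obj F) :=
    Groth.Agent.Lead.PB.isFT_pullback b F hF.2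
  haveI : Epi π := hG.1
  have hE' : ∀ x : X', ∃ V : X'.affineOpens,
      (∃ e : Γ(X', V.1), (I.comap b).ideal V = Ideal.span {e}) ∧ x ∈ V.1 := by
    intro x
    obtain ⟨U₀, hx, f₀, -, hI⟩ := hE x
    exact ⟨U₀, ⟨f₀, hI⟩, hx⟩
  haveI : G.IsQuasicoherent := isQuasicoherent_of_strict π (I.comap b) hE' hG.2
  exact ⟨inferInstance, isFT_of_epi π hft⟩

end Groth.Agent.Helper1.StrictQc
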