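import Mathlib
import Groth.Prelude.Def_BlowUp2
import Groth.Prelude.Def_Coh
import Groth.Agent.Lib.Helper1.StrictQc
import Groth.Agent.Lib.Helper1.PushQc
import Groth.Agent.Lib.Helper4.IdealComap
import Groth.Agent.Lib.Lead.BCU4

/-!
# Strict transforms commute with affine direct images (helper1, S8922)
-/

set_option autoImplicit false
set_option backward.isDefEq.respectTransparency.types false
set_option synthInstance.maxHeartbeats 400000
set_option linter.unusedSectionVars false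
set_option linter.style.haveILetI false
set_option linter.unusedVariables false
universe u
open CategoryTheory CategoryTheory.Limits AlgebraicGeometry TopologicalSpace Opposite

namespace Groth.Agent.Helper1.StrictPush

open Groth.Agent.Helper1

/-- the left square of two pasted fibre products is cartesian -/
theorem isPullback_map {X Y S S' : Scheme.{u}} (hX : X ⟶ S) (hY : Y ⟶ S) (g : X ⟶ Y)
    (h : g ≫ hY = hX) (b : S' ⟶ S) (e₁ : hX ≫ 𝟙 S = g ≫ hY) (e₂ : b ≫ 𝟙 S = 𝟙 S' ≫ b) :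
    IsPullback (pullback.fst hX b) (pullback.map hX b hY b g (𝟙 S') (𝟙 S) e₁ e₂) g
      (pullback.fst hY b) := by
  have hbig : IsPullback (pullback.snd hX b) (pullback.fst hX b) b hX :=
    (IsPullback.of_hasPullback hX b).flip
  have hr : IsPullback (pullback.snd hY b) (pullback.fst hY b) b hY :=
    (IsPullback.of_hasPullback hY b).flip
  have e3 : pullback.map hX b hY b g (𝟙 S') (𝟙 S) e₁ e₂ ≫ pullback.snd hY b =
      pullback.snd hX b := (pullback.lift_snd _ _ _).trans (Category.comp_id _)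
  have e4 : pullback.map hX b hY b g (𝟙 S') (𝟙 S) e₁ e₂ ≫ pullback.fst hY b =
      pullback.fst hX b ≫ g := pullback.lift_fst _ _ _
  have hbig' : IsPullback (pullback.map hX b hY b g (𝟙 S') (𝟙 S) e₁ e₂ ≫ pullback.snd hY b)
      (pullback.fst hX b) b (g ≫ hY) := by
    rw [e3, h]
    exact hbig
  exact (IsPullback.of_right hbig' e4 hr).flip

set_option maxHeartbeats 1600000 in
/-- the strict transform property passes to the direct image along an affine morphism, through
an isomorphism onto the direct image of the source -/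
theorem strict_push {P Q : Scheme.{u}} (q : P ⟶ Q) [IsAffineHom q] (E : Q.IdealSheafData)
    {NP G : P.Modules} {NQ : Q.Modules} (β : NQ ⟶ (Scheme.Modules.pushforward q).obj NP) [IsIso β]
    (π : NP ⟶ G)
    (hπ : ∀ (W : P.affineOpens) (m : NP.presheaf.obj (Opposite.op W.1)),
      π.app W.1 m = 0 ↔ BlowUp.KilledByPowerNear (E.comap q) NP W m)
    (V : Q.affineOpens) (m : NQ.presheaf.obj (Opposite.op V.1)) :
    (β ≫ (Scheme.Modules.pushforward q).map π).app V.1 m = 0 ↔
      BlowUp.KilledByPowerNear E NQ V m := by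
  have hW : IsAffineOpen (q ⁻¹ᵁ V.1) := V.2.preimage q
  have hβinj : Function.Injective (β.app V.1) :=
    (AddCommGrpCat.mono_iff_injective _).1 inferInstance
  have happ : (β ≫ (Scheme.Modules.pushforward q).map π).app V.1 m =
      π.app (q ⁻¹ᵁ V.1) (β.app V.1 m) := rfl
  have hid : ∀ n : ℕ, ((E.comap q) ^ n).ideal ⟨q ⁻¹ᵁ V.1, hW⟩ =
      ((E ^ n).ideal V).map (q.app V.1).hom := by
    intro n
    have h0 := Groth.Agent.Helper4.IdealComap.ideal_comap_eq_map q E ⟨q ⁻¹ᵁ V.1, hW⟩ V le_rfl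
    rw [← Scheme.Hom.app_eq_appLE] at h0
    rw [Scheme.IdealSheafData.ideal_pow, Pi.pow_apply, h0, Scheme.IdealSheafData.ideal_pow,
      Pi.pow_apply, Ideal.map_pow]
  rw [happ]
  refine Iff.trans (hπ ⟨q ⁻¹ᵁ V.1, hW⟩ (β.app V.1 m)) ?_
  unfold BlowUp.KilledByPowerNear
  constructor
  · rintro ⟨n, hn⟩
    refine ⟨n, fun a ha => hβinj ?_⟩
    rw [map_zero, Scheme.Modules.Hom.app_smul]
    exact hn ((q.app V.1).hom a) (by rw [hid n]; exact Ideal.mem_map_of_mem _ ha)
  · rintro ⟨n, hn⟩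
    refine ⟨n, fun a ha => ?_⟩
    rw [hid n] at ha
    have key : ∀ βm : NP.presheaf.obj (Opposite.op (q ⁻¹ᵁ V.1)), βm = β.app V.1 m →
        a • βm = 0 := by
      intro βm hβm
      have hle : ((E ^ n).ideal V).map (q.app V.1).hom ≤
          Ideal.torsionOf Γ(P, q ⁻¹ᵁ V.1) (NP.presheaf.obj (Opposite.op (q ⁻¹ᵁ V.1))) βm := by
        rw [Ideal.map_le_iff_le_comap]
        intro a' ha'
        show (q.app V.1).hom a' • βm = 0
        have h1 := congrArg (β.app V.1) (hn a' ha')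
        rw [Scheme.Modules.Hom.app_smul, map_zero] at h1
        subst hβm
        exact h1
      exact hle ha
    exact key _ rfl

set_option maxHeartbeats 1600000 in
/-- S8922 -/
theorem main8922 {X Y S S' : Scheme.{u}} (hX : X ⟶ S) (hY : Y ⟶ S) (g : X ⟶ Y) [IsAffineHom g]
    (h : g ≫ hY = hX) (𝓘 : S.IdealSheafData) (b : S' ⟶ S)
    (hb : BlowUp.IsEffCartierIdeal (𝓘.comap b))
    (F : X.Modules) [F.IsQuasicoherent]
    (F' : (pullback hX b).Modules)
    (π : (Scheme.Modules.pullback (pullback.fst hX b)).obj F ⟶ F')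
    (hπ : BlowUp.IsStrictTransform (pullback.fst hX b) (𝓘.comap hX) F F' π)
    (e₁ : hX ≫ 𝟙 S = g ≫ hY) (e₂ : b ≫ 𝟙 S = 𝟙 S' ≫ b) :
    ∃ π' : (Scheme.Modules.pullback (pullback.fst hY b)).obj
          ((Scheme.Modules.pushforward g).obj F) ⟶
        (Scheme.Modules.pushforward (pullback.map hX b hY b g (𝟙 S') (𝟙 S) e₁ e₂)).obj F',
      BlowUp.IsStrictTransform (pullback.fst hY b) (𝓘.comap hY)
        ((Scheme.Modules.pushforward g).obj F)
        ((Scheme.Modules.pushforward (pullback.map hX b hY b g (𝟙 S') (𝟙 S) e₁ e₂)).obj F')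
        π' := by
  have hpb := isPullback_map hX hY g h b e₁ e₂
  haveI : IsAffineHom (pullback.map hX b hY b g (𝟙 S') (𝟙 S) e₁ e₂) :=
    MorphismProperty.of_isPullback hpb inferInstance
  haveI : IsIso (Groth.Agent.Lead.BCU.bcMap g (pullback.fst hY b) (pullback.fst hX b)
      (pullback.map hX b hY b g (𝟙 S') (𝟙 S) e₁ e₂) hpb F) :=
    Groth.Agent.Lead.BCU.isIso_bcMap g (pullback.fst hY b) (pullback.fst hX b)
      (pullback.map hX b hY b g (𝟙 S') (𝟙 S) e₁ e₂) hpb F
  have e4 : pullback.map hX b hY b g (𝟙 S') (𝟙 S) e₁ e₂ ≫ pullback.fst hY b =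
      pullback.fst hX b ≫ g := pullback.lift_fst _ _ _
  have hEX : (𝓘.comap hX).comap (pullback.fst hX b) =
      ((𝓘.comap hY).comap (pullback.fst hY b)).comap
        (pullback.map hX b hY b g (𝟙 S') (𝟙 S) e₁ e₂) := by
    calc (𝓘.comap hX).comap (pullback.fst hX b)
        = 𝓘.comap (pullback.fst hX b ≫ hX) := (Scheme.IdealSheafData.comap_comp 𝓘 _ _).symm
      _ = 𝓘.comap ((pullback.map hX b hY b g (𝟙 S') (𝟙 S) e₁ e₂ ≫ pullback.fst hY b) ≫ hY) := by
          rw [e4, Category.assoc, h]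
      _ = (𝓘.comap hY).comap (pullback.map hX b hY b g (𝟙 S') (𝟙 S) e₁ e₂ ≫
            pullback.fst hY b) := Scheme.IdealSheafData.comap_comp 𝓘 _ _
      _ = _ := Scheme.IdealSheafData.comap_comp _ _ _
  have hE2 : (𝓘.comap hX).comap (pullback.fst hX b) =
      (𝓘.comap b).comap (pullback.snd hX b) := by
    calc (𝓘.comap hX).comap (pullback.fst hX b)
        = 𝓘.comap (pullback.fst hX b ≫ hX) := (Scheme.IdealSheafData.comap_comp 𝓘 _ _).symm
      _ = 𝓘.comap (pullback.snd hX b ≫ b) := by rw [pullback.condition]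
      _ = _ := Scheme.IdealSheafData.comap_comp 𝓘 _ _
  have hloc : ∀ x : ↥(pullback hX b), ∃ V : (pullback hX b).affineOpens,
      (∃ e : Γ(pullback hX b, V.1),
        ((𝓘.comap hX).comap (pullback.fst hX b)).ideal V = Ideal.span {e}) ∧ x ∈ V.1 := by
    intro x
    obtain ⟨U₀, hxU₀, f₀, -, hI⟩ := hb ((pullback.snd hX b) x)
    obtain ⟨_, ⟨V, hV, rfl⟩, hxV, hle⟩ :=
      (pullback hX b).isBasis_affineOpens.exists_subset_of_mem_open
        (show x ∈ (pullback.snd hX b ⁻¹ᵁ U₀.1 : (pullback hX b).Opens) from hxU₀)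
        (pullback.snd hX b ⁻¹ᵁ U₀.1).2
    have hle' : V ≤ pullback.snd hX b ⁻¹ᵁ U₀.1 := fun y hy => hle hy
    refine ⟨⟨V, hV⟩, ⟨((pullback.snd hX b).appLE U₀.1 V hle').hom f₀, ?_⟩, hxV⟩
    rw [hE2, Groth.Agent.Helper4.IdealComap.ideal_comap_eq_map (pullback.snd hX b) (𝓘.comap b)
      ⟨V, hV⟩ U₀ hle', hI, Ideal.map_span, Set.image_singleton]
  haveI : ((Scheme.Modules.pullback (pullback.fst hX b)).obj F).IsQuasicoherent :=
    Groth.Agent.Lead.PB.isQuasicoherent_pullback _ F
  haveI : Epi π := hπ.1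
  haveI : F'.IsQuasicoherent := StrictQc.isQuasicoherent_of_strict π _ hloc hπ.2
  haveI : Epi ((Scheme.Modules.pushforward
      (pullback.map hX b hY b g (𝟙 S') (𝟙 S) e₁ e₂)).map π) :=
    AffPushEpi.epi_pushforward_of_isAffineHom _ π
  have hπ2 : ∀ (W : (pullback hX b).affineOpens)
      (m : ((Scheme.Modules.pullback (pullback.fst hX b)).obj F).presheaf.obj
        (Opposite.op W.1)),
      π.app W.1 m = 0 ↔ BlowUp.KilledByPowerNear
        (((𝓘.comap hY).comap (pullback.fst hY b)).comap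
          (pullback.map hX b hY b g (𝟙 S') (𝟙 S) e₁ e₂))
        ((Scheme.Modules.pullback (pullback.fst hX b)).obj F) W m := by
    rw [← hEX]
    exact hπ.2
  refine ⟨Groth.Agent.Lead.BCU.bcMap g (pullback.fst hY b) (pullback.fst hX b)
      (pullback.map hX b hY b g (𝟙 S') (𝟙 S) e₁ e₂) hpb F ≫
      (Scheme.Modules.pushforward (pullback.map hX b hY b g (𝟙 S') (𝟙 S) e₁ e₂)).map π, ?_⟩
  unfold BlowUp.IsStrictTransform
  refine ⟨inferInstance, fun V m => ?_⟩
  exact strict_push (pullback.map hX b hY b g (𝟙 S') (𝟙 S) e₁ e₂)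
    ((𝓘.comap hY).comap (pullback.fst hY b)) _ π hπ2 V m

end Groth.Agent.Helper1.StrictPush
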