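import Mathlib
import Groth.Prelude.Def_BlowUp2
import Groth.Agent.Lib.Helper1.PFrame3
import Groth.Agent.Lib.Helper5.Perf.Pull
import Groth.Agent.Lib.Lead.FLF1
import Groth.Agent.Lib.Helper1.FtLocal
import Groth.Agent.Lib.Helper1.CohACC
import Groth.Agent.Lib.Helper1.TwistSec

/-!
# The strict transform of a finite locally free module along a blow-up (helper1, S19350)
-/

set_option autoImplicit false
set_option backward.isDefEq.respectTransparency.types false
set_option synthInstance.maxHeartbeats 400000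
set_option linter.unusedSectionVars false
set_option linter.style.haveILetI false
set_option linter.unusedVariables false
universe u
open CategoryTheory CategoryTheory.Limits AlgebraicGeometry TopologicalSpace Opposite

namespace Groth.Agent.Helper1.StrictTr

open Groth.Agent.Helper1 Groth.Agent.Helper1.QcCech Groth.Agent.Helper1.PFrame

variable {X : Scheme.{u}}

/-- on an open where `N` has a basis, a nonzerodivisor acts injectively on sections -/
theorem eq_zero_of_smul_eq_zero {N : X.Modules} {W : X.Opens} {n : ℕ} {b : Fin n → Γ(N, W)}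
    (hb : IsBasisOn N W b) (V : X.Opens) (hV : V ≤ W) (a : Γ(X, V))
    (ha : a ∈ nonZeroDivisors Γ(X, V)) (m : Γ(N, V)) (h : a • m = 0) : m = 0 := by
  obtain ⟨r, hr⟩ := (hb V hV).2 m
  have hr' : ∑ i, r i • res N hV (b i) = m := hr
  have h1 : ∑ i, (a * r i) • res N hV (b i) = ∑ i, (0 : Γ(X, V)) • res N hV (b i) := by
    have h2 : ∑ i, (a * r i) • res N hV (b i) = a • ∑ i, r i • res N hV (b i) := by
      rw [Finset.smul_sum]
      exact Finset.sum_congr rfl (fun i _ => mul_smul a (r i) _)
    rw [h2, hr', h]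
    simp
  have h3 : (fun i => a * r i) = fun _ => (0 : Γ(X, V)) := (hb V hV).1 h1
  have h4 : r = fun _ => 0 := by
    funext i
    exact (mul_left_mem_nonZeroDivisors_eq_zero_iff ha).1 (congrFun h3 i)
  rw [← hr', h4]
  simp

set_option maxHeartbeats 1600000 in
/-- S19350 -/
theorem main {X' : Scheme.{u}} (b : X' ⟶ X) (I : X.IdealSheafData)
    (hE : BlowUp.IsEffCartierIdeal (I.comap b))
    (F : X.Modules) (hF : FlatMod.IsFinLocFree F) (G : X'.Modules)
    (π : (Scheme.Modules.pullback b).obj F ⟶ G) (hG : BlowUp.IsStrictTransform b I F G π) :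
    IsIso π ∧ FlatMod.IsFinLocFree G := by
  have hP : FlatMod.IsFinLocFree ((Scheme.Modules.pullback b).obj F) :=
    Groth.Agent.Lib.Helper5.PerfPull.isFinLocFree_pullback b F hF
  haveI : Epi π := hG.1
  have key : ∀ (V : X'.Opens) (m : Γ((Scheme.Modules.pullback b).obj F, V)),
      π.app V m = 0 → m = 0 := by
    intro V m hm
    apply TwistSec.eq_of_locally ((Scheme.Modules.pullback b).obj F) m 0
    intro x hx
    obtain ⟨U₀, hxU₀, f₀, hf₀, hI⟩ := hE x
    obtain ⟨W, n, bb, hxW, hfr⟩ := exists_isFrame hP x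
    obtain ⟨g, hgle, hxg⟩ := U₀.2.exists_basicOpen_le (V := W ⊓ V) ⟨x, ⟨hxW, hx⟩⟩ hxU₀
    refine ⟨X'.basicOpen g, hgle.trans inf_le_right, hxg, ?_⟩
    rw [map_zero]
    obtain ⟨m', hm'def⟩ : ∃ m', m' = res ((Scheme.Modules.pullback b).obj F)
      (hgle.trans inf_le_right) m := ⟨_, rfl⟩
    rw [← hm'def]
    have hm' : π.app (X'.basicOpen g) m' = 0 := by
      rw [hm'def, QcExt.app_res, hm, map_zero]
    obtain ⟨N, hN⟩ := (hG.2 (X'.affineBasicOpen g) m').1 hm'
    have hid : (I.comap b).ideal (X'.affineBasicOpen g) =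
        Ideal.span {algebraMap Γ(X', U₀.1) Γ(X', X'.basicOpen g) f₀} := by
      rw [← (I.comap b).map_ideal_basicOpen U₀ g, hI, Ideal.map_span, Set.image_singleton]
      rfl
    have hnzd : algebraMap Γ(X', U₀.1) Γ(X', X'.basicOpen g) f₀ ∈
        nonZeroDivisors Γ(X', X'.basicOpen g) := by
      haveI := U₀.2.isLocalization_basicOpen g
      exact IsLocalization.map_nonZeroDivisors_le (Submonoid.powers g) _
        (Submonoid.mem_map_of_mem _ hf₀)
    have hpow : (algebraMap Γ(X', U₀.1) Γ(X', X'.basicOpen g) f₀) ^ N • m' = 0 := by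
      apply hN
      rw [Scheme.IdealSheafData.ideal_pow, Pi.pow_apply, hid]
      exact Ideal.pow_mem_pow (Ideal.mem_span_singleton_self _) N
    exact eq_zero_of_smul_eq_zero hfr.isBasisOn (X'.basicOpen g) (hgle.trans inf_le_left) _
      (pow_mem hnzd N) m' hpow
  have hz : IsZero (kernel π) := by
    apply CohACC.isZero_of_sections
    intro V t
    apply FtLocal.app_injective_of_mono (kernel.ι π) V
    rw [map_zero]
    apply key V
    have h1 : kernel.ι π ≫ π = 0 := kernel.condition π
    have h2 := congrArg (fun φ : kernel π ⟶ G => φ.app V t) h1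
    exact h2
  haveI : Mono π := Preadditive.mono_of_kernel_zero (hz.eq_of_src _ _)
  haveI : IsIso π := isIso_of_mono_of_epi π
  exact ⟨inferInstance, Groth.Agent.Lead.FLF.isFinLocFree_of_iso (asIso π) hP⟩

end Groth.Agent.Helper1.StrictTr
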