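import Mathlib
import Groth.Agent.Lib.Helper1.AmpElt2

/-!
# Subring generated by finitely many λ-classes: nilpotent augmentation ideal, finite generation
(S8693, helper1)
-/

set_option backward.isDefEq.respectTransparency.types false
set_option synthInstance.maxHeartbeats 400000
set_option maxHeartbeats 1000000
set_option autoImplicit false
set_option linter.style.haveILetI false
set_option linter.unusedSectionVars false
set_option linter.unusedVariables false

universe v u
open CategoryTheory CategoryTheory.Limits AlgebraicGeometry TopologicalSpace Opposite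
open Groth.Agent.Helper1 Groth.Agent.Helper1.AmpElt

namespace Groth.Agent.Helper1.SubNil

section Abstract
variable {K : Type v} [CommRing K]

/-- elements of the subring generated by `S` are congruent to their augmentation modulo the ideal
generated by the `s - ε s`, `s ∈ S`. -/
theorem sub_mem_span (ε : K →+* ℤ) (S : Set K) (r : K) (hr : r ∈ Subring.closure S) :
    r - ((ε r : ℤ) : K) ∈ Ideal.span ((fun s : K => s - ((ε s : ℤ) : K)) '' S) := by
  induction hr using Subring.closure_induction with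
  | mem x hx => exact Ideal.subset_span ⟨x, hx, rfl⟩
  | zero => simp
  | one => simp
  | add x y hx hy px py =>
    have h : x + y - ((ε (x + y) : ℤ) : K)
        = (x - ((ε x : ℤ) : K)) + (y - ((ε y : ℤ) : K)) := by
      rw [map_add, Int.cast_add]; ring
    rw [h]; exact Ideal.add_mem _ px py
  | neg x hx px =>
    have h : -x - ((ε (-x) : ℤ) : K) = -(x - ((ε x : ℤ) : K)) := by
      rw [map_neg, Int.cast_neg]; ring
    rw [h]; exact (Ideal.neg_mem_iff _).2 px
  | mul x y hx hy px py =>
    have h : x * y - ((ε (x * y) : ℤ) : K)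
        = (x - ((ε x : ℤ) : K)) * y + ((ε x : ℤ) : K) * (y - ((ε y : ℤ) : K)) := by
      rw [map_mul, Int.cast_mul]; ring
    rw [h]
    exact Ideal.add_mem _ (Ideal.mul_mem_right _ _ px) (Ideal.mul_mem_left _ _ py)

theorem subring_nil (ε : K →+* ℤ) (S : Set K) (hfin : S.Finite)
    (hnil : ∀ s ∈ S, IsNilpotent (s - ((ε s : ℤ) : K))) :
    ∃ n : ℕ, ∀ f : Fin n → K, (∀ t : Fin n, f t ∈ Subring.closure S ∧ ε (f t) = 0) →
      ∏ t, f t = 0 := by
  have hIfg : (Ideal.span ((fun s : K => s - ((ε s : ℤ) : K)) '' S)).FG :=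
    ⟨(hfin.image _).toFinset, by rw [Set.Finite.coe_toFinset]⟩
  have hIrad : Ideal.span ((fun s : K => s - ((ε s : ℤ) : K)) '' S)
      ≤ (⊥ : Ideal K).radical := by
    rw [Ideal.span_le]
    rintro _ ⟨s, hs, rfl⟩
    obtain ⟨n, hn⟩ := hnil s hs
    exact Ideal.mem_radical_iff.2 ⟨n, by rw [hn]; exact Submodule.zero_mem _⟩
  obtain ⟨N, hN⟩ := Ideal.exists_pow_le_of_le_radical_of_fg hIrad hIfg
  refine ⟨N, fun f hf => ?_⟩
  have hmem : ∀ t : Fin N, f t ∈ Ideal.span ((fun s : K => s - ((ε s : ℤ) : K)) '' S) := by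
    intro t
    have h := sub_mem_span ε S (f t) (hf t).1
    rw [(hf t).2, Int.cast_zero, sub_zero] at h
    exact h
  have hprod : ∏ t, f t ∈ (Ideal.span ((fun s : K => s - ((ε s : ℤ) : K)) '' S)) ^ N := by
    have h := Ideal.prod_mem_prod (ι := Fin N) (s := Finset.univ)
      (I := fun _ => Ideal.span ((fun s : K => s - ((ε s : ℤ) : K)) '' S)) (x := f)
      (fun t _ => hmem t)
    rwa [Finset.prod_const, Finset.card_univ, Fintype.card_fin] at h
  exact (Submodule.mem_bot K).1 (hN hprod)

theorem subring_fg (ε : K →+* ℤ) (S : Set K) (hfin : S.Finite)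
    (hnil : ∀ s ∈ S, IsNilpotent (s - ((ε s : ℤ) : K))) :
    (Subring.closure S).toAddSubgroup.FG := by
  have hint : ∀ s ∈ S, IsIntegral ℤ s := by
    intro s hs
    obtain ⟨n, hn⟩ := hnil s hs
    have h1 : IsIntegral ℤ (s - ((ε s : ℤ) : K)) := by
      refine IsIntegral.of_pow (Nat.succ_pos n) ?_
      rw [pow_succ, hn, zero_mul]
      exact isIntegral_zero
    have h2 : IsIntegral ℤ (((ε s : ℤ) : K)) := by
      have h := isIntegral_algebraMap (R := ℤ) (A := K) (x := ε s)
      rwa [eq_intCast (algebraMap ℤ K)] at h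
    have h3 := h1.add h2
    rwa [sub_add_cancel] at h3
  have hfg : (Algebra.adjoin ℤ S).toSubmodule.FG := fg_adjoin_of_finite hfin hint
  rw [Algebra.adjoin_int] at hfg
  have h4 := (Submodule.fg_iff_addSubgroup_fg _).1 hfg
  have h5 : (Subring.closure S).toAddSubgroup
      = (Subalgebra.toSubmodule (subalgebraOfSubring (Subring.closure S))).toAddSubgroup := by
    ext x; rfl
  rw [h5]; exact h4

end Abstract

variable {X : Scheme.{u}}
variable {K : Type v} [CommRing K] [LambdaRing.LambdaOps K] {P : LambdaRing.PosStructure K}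
  {φ : SGA6.Kvb X →+ K}

theorem lam_zero_arg (j : ℕ) (hj : 0 < j) : LambdaRing.LambdaOps.lam j (0 : K) = 0 := by
  have h := congrArg (PowerSeries.coeff j)
    (Groth.Agent.Helper3.LambdaLib.lamSeries_zero (K := K))
  rw [Groth.Agent.Helper3.LambdaLib.coeff_lamSeries, PowerSeries.coeff_one] at h
  rw [h, if_neg (by omega)]

theorem finite_lamSet [ConnectedSpace X] (hK : KRR.IsModel X K P φ) (k : ℕ)
    (E : Fin k → X.Modules) (hE : ∀ i, FlatMod.IsFinLocFree (E i)) :
    {y : K | ∃ (i : Fin k) (j : ℕ),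
      y = LambdaRing.LambdaOps.lam j (φ (KRR.cl X (E i)))}.Finite := by
  have hi : ∀ i : Fin k, ∃ r : ℕ, ∀ j : ℕ, r < j →
      LambdaRing.LambdaOps.lam j (φ (KRR.cl X (E i))) = 0 := by
    intro i
    rcases pos_or_zero hK (E i) (hE i) with h | h
    · refine ⟨(P.aug (φ (KRR.cl X (E i)))).toNat, fun j hj => P.lam_eq_zero _ h j ?_⟩
      have h0 := P.aug_pos _ h
      have h1 := Int.toNat_of_nonneg h0.le
      omega
    · refine ⟨0, fun j hj => ?_⟩
      rw [h, map_zero]
      exact lam_zero_arg j hj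
  choose r hr using hi
  have hfin : (⋃ i : Fin k, (fun j => LambdaRing.LambdaOps.lam j (φ (KRR.cl X (E i))))
      '' Set.Iic (r i)).Finite :=
    Set.finite_iUnion fun i => (Set.finite_Iic (r i)).image _
  refine (hfin.union (Set.finite_singleton (0 : K))).subset ?_
  rintro y ⟨i, j, rfl⟩
  by_cases hj : j ≤ r i
  · exact Or.inl (Set.mem_iUnion.2 ⟨i, j, hj, rfl⟩)
  · exact Or.inr (hr i j (by omega))

/-- **S8693** -/
theorem main [ConnectedSpace X] (L : X.Modules) (hL : CohB1.IsAmple L)
    (hK : KRR.IsModel X K P φ) (k : ℕ) (E : Fin k → X.Modules)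
    (hE : ∀ i, FlatMod.IsFinLocFree (E i)) :
    (∃ n : ℕ, ∀ f : Fin n → K,
      (∀ t : Fin n, f t ∈ Subring.closure {y : K | ∃ (i : Fin k) (j : ℕ),
          y = LambdaRing.LambdaOps.lam j (φ (KRR.cl X (E i)))} ∧ P.aug (f t) = 0) →
        ∏ t, f t = 0) ∧
    (Subring.closure {y : K | ∃ (i : Fin k) (j : ℕ),
      y = LambdaRing.LambdaOps.lam j (φ (KRR.cl X (E i)))}).toAddSubgroup.FG := by
  have hfin := finite_lamSet hK k E hE
  have hnil : ∀ s ∈ {y : K | ∃ (i : Fin k) (j : ℕ),
      y = LambdaRing.LambdaOps.lam j (φ (KRR.cl X (E i)))},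
      IsNilpotent (s - ((P.aug s : ℤ) : K)) := fun s _ =>
    AmpElt2.isNilpotent_of_aug_zero hK L hL _
      (by rw [map_sub, map_intCast, Int.cast_id, sub_self])
  exact ⟨subring_nil P.aug _ hfin hnil, subring_fg P.aug _ hfin hnil⟩

end Groth.Agent.Helper1.SubNil
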