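import Mathlib
import Groth.Agent.Lib.Helper1.Minors

/-! Support of a finitely presented module: closed with quasi-compact complement
(helper1; S6285). -/

set_option autoImplicit false
universe u

namespace Groth.Agent.Helper1.SuppFP

open Matrix PrimeSpectrum

variable {R : Type u} [CommRing R]

/-- the maximal minors (with arbitrary column choices) of an `n × m` matrix -/
def minor {n m : ℕ} (A : Matrix (Fin n) (Fin m) R) (c : Fin n → Fin m) : R :=
  (A.submatrix id c).det

/-- A maximal minor times the identity factors through `A`. -/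
lemma exists_right_inv_of_minor {n m : ℕ} (A : Matrix (Fin n) (Fin m) R) (c : Fin n → Fin m) :
    ∃ B : Matrix (Fin m) (Fin n) R, A * B = minor A c • (1 : Matrix (Fin n) (Fin n) R) := by
  obtain ⟨B, hB⟩ := Minors.exists_left_inv_of_minor Aᵀ c id
  refine ⟨Bᵀ, ?_⟩
  have := congrArg Matrix.transpose hB
  rw [Matrix.transpose_mul, Matrix.transpose_transpose, Matrix.transpose_smul,
    Matrix.transpose_one] at this
  rw [this, minor]
  congr 1
  rw [← Matrix.det_transpose]
  rfl

/-- If `A * B = s • 1`, then `s ^ n` is a combination of maximal minors of `A`. -/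
lemma pow_mem_span_minors {n m : ℕ} (A : Matrix (Fin n) (Fin m) R) (B : Matrix (Fin m) (Fin n) R)
    (s : R) (h : A * B = s • (1 : Matrix (Fin n) (Fin n) R)) :
    s ^ n ∈ Ideal.span (Set.range (minor A)) := by
  have h1 : (A * B).det = s ^ n := by
    rw [h, Matrix.det_smul, Matrix.det_one, mul_one, Fintype.card_fin]
  rw [← h1, ← Matrix.det_transpose, Matrix.transpose_mul, Minors.weak_cauchy_binet]
  refine Ideal.sum_mem _ fun k _ => Ideal.mul_mem_left _ _ (Ideal.subset_span ⟨k, ?_⟩)
  rw [minor, ← Matrix.det_transpose]
  rfl

theorem main (M : Type u) [AddCommGroup M] [Module R M] [Module.FinitePresentation R M] :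
    IsClosed (Module.support R M) ∧ IsCompact (Module.support R M)ᶜ := by
  classical
  refine ⟨?_, ?_⟩
  · rw [Module.support_eq_zeroLocus]
    exact isClosed_zeroLocus _
  obtain ⟨n, m, f, g, hf, hex⟩ := Module.FinitePresentation.exists_fin' R M
  let A : Matrix (Fin n) (Fin m) R := LinearMap.toMatrix' g
  have hA : ∀ x, A.mulVec x = g x := fun x => by
    simp [A, LinearMap.toMatrix'_mulVec]
  -- minors annihilate `M`
  have hann : ∀ c (x : M), minor A c • x = 0 := by
    intro c x
    obtain ⟨y, rfl⟩ := hf x
    obtain ⟨B, hB⟩ := exists_right_inv_of_minor A c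
    have : minor A c • y = g (B.mulVec y) := by
      rw [← hA, Matrix.mulVec_mulVec, hB, Matrix.smul_mulVec, Matrix.one_mulVec]
    rw [← map_smul, this]
    exact (hex _).mpr ⟨_, rfl⟩
  have hU : (Module.support R M)ᶜ = ⋃ c : Fin n → Fin m, (basicOpen (minor A c) : Set _) := by
    ext p
    simp only [Set.mem_compl_iff, Set.mem_iUnion, SetLike.mem_coe, mem_basicOpen]
    constructor
    · intro hp
      rw [Module.notMem_support_iff'] at hp
      -- a common annihilator of the generators
      have : ∃ s ∉ p.asIdeal, ∀ i : Fin n, s • f (Pi.single i 1) = 0 := by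
        choose r hr hr0 using fun i : Fin n => hp (f (Pi.single i 1))
        refine ⟨∏ i, r i, ?_, fun i => ?_⟩
        · intro hmem
          obtain ⟨i, -, hi⟩ := (Ideal.IsPrime.prod_mem_iff).mp hmem
          exact hr i hi
        · rw [← Finset.mul_prod_erase _ _ (Finset.mem_univ i), mul_comm, mul_smul, hr0, smul_zero]
      obtain ⟨s, hs, hs0⟩ := this
      have hb : ∀ i : Fin n, ∃ b : Fin m → R, g b = s • Pi.single i 1 := by
        intro i
        have : f (s • Pi.single i 1) = 0 := by rw [map_smul]; exact hs0 i
        exact (hex _).mp this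
      choose b hb using hb
      let B : Matrix (Fin m) (Fin n) R := Matrix.of fun j i => b i j
      have hAB : A * B = s • (1 : Matrix (Fin n) (Fin n) R) := by
        ext i j
        have h1 := congrFun (hb j) i
        rw [← hA] at h1
        simp only [Matrix.mul_apply, Matrix.smul_apply, Matrix.one_apply, smul_eq_mul]
        simp only [Matrix.mulVec, dotProduct, Pi.smul_apply, Pi.single_apply, smul_eq_mul] at h1
        rw [show (∑ x, A i x * B x j) = ∑ x, A i x * b j x from rfl, h1]
      have hmem := pow_mem_span_minors A B s hAB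
      by_contra hcon
      push Not at hcon
      have hle : Ideal.span (Set.range (minor A)) ≤ p.asIdeal := by
        rw [Ideal.span_le]
        rintro _ ⟨c, rfl⟩
        exact hcon c
      exact hs (p.2.mem_of_pow_mem n (hle hmem))
    · rintro ⟨c, hc⟩
      rw [Module.notMem_support_iff']
      intro x
      exact ⟨minor A c, hc, hann c x⟩
  rw [hU]
  exact isCompact_iUnion fun c => isCompact_basicOpen _

end Groth.Agent.Helper1.SuppFP
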