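import Mathlib
import Groth.Agent.Lib.Helper1.SurfDual2

/-!
# A uniform bound for the vanishing of `H²` on a projective surface (helper1)
-/

set_option autoImplicit false
set_option linter.style.haveILetI false
set_option linter.unusedSectionVars false
universe u
open CategoryTheory CategoryTheory.Limits AlgebraicGeometry TopologicalSpace Opposite

namespace Groth.Agent.Helper1.SurfDual

open Groth.Agent.Helper1 Groth.Agent.Helper1.Euler Groth.Agent.Helper1.Dv
open Groth.Agent.Helper1.FinLen Groth.Agent.Helper1.TwForm Groth.Agent.Helper1.Curve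
open Groth.Agent.Helper1.Snap Groth.Agent.Helper1.SnapPos Groth.Agent.Helper1.FGAInt
open Groth.Agent.Helper1.FGAPos Groth.Agent.Helper1.Kleiman Groth.Agent.Helper1.Big
open Groth.Agent.Helper1.SurfPos Groth.Agent.Helper1.LGen Groth.Agent.Helper1.QcCech
open Groth.Agent.Lib.Helper4 Groth.Agent.Helper2.HomExt Groth.Agent.Helper2.HomExt.ChangeRings

section Main

variable (k : Type u) [Field k] (X : Scheme.{u}) [X.Over (Spec (CommRingCat.of k))]
  [IsProper (X ↘ (Spec (CommRingCat.of k)))] [IsIntegral X]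

/-- a uniform bound: `H²(N^m) ≠ 0` forces `m (N·H) ≤ n₀` (embedded version) -/
theorem h2_bound_of_embedding (hdim : topologicalKrullDim X = 2) (n : ℕ)
    (ι : X ⟶ CohB1.ProjSpace n k) [IsClosedImmersion ι]
    (hι : ι ≫ CohB1.ProjSpace.toSpec n k = X ↘ Spec (CommRingCat.of k))
    (H H' : X.Modules) (hH : CohB1.IsAmple H)
    (iH : CohB1.tensorMod H H' ≅ Coh.structureModule X) :
    ∃ n₀ : ℤ, ∀ (N N' : X.Modules) (_ : PicF.IsInvertible N)
      (_ : CohB1.tensorMod N N' ≅ Coh.structureModule X) (m : ℕ),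
      Nontrivial (Coh.HH X (CohB1.tensorPow N m) 2) →
        (m : ℤ) * FGA.intNum k X 2 ![N', H'] (Coh.structureModule X) ≤ n₀ := by
  haveI : IsLocallyNoetherian (CohB1.ProjSpace n k) := SerreFin.instLN n k
  haveI : CompactSpace ↥(CohB1.ProjSpace n k) :=
    Groth.Agent.Helper1.VA5.compactSpace_projSpace n k
  haveI : AlgebraicGeometry.IsNoetherian X := isNoetherian_of_proper k X
  have hd2 : topologicalKrullDim X = ((2 : ℕ) : WithBot ℕ∞) := by
    rw [hdim]; rfl
  by_cases hrn : 2 ≤ n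
  · haveI : ModSite.HasSheafHom (O := (CohB1.ProjSpace n k).sheaf)
        ((Scheme.Modules.pushforward ι).obj (Coh.structureModule X)) :=
      Groth.Agent.Helper3.SHomEx.hasSheafHom _
    haveI : HasInjectiveResolutions (ModSite.Mod (CohB1.ProjSpace n k).sheaf) :=
      Groth.Agent.Helper3.LerayCol.hasInjectiveResolutions (CohB1.ProjSpace n k)
    have hωP : Coh.IsCoh (Twist.twistProjSpace n k (-((n : ℤ) + 1))) :=
      SerreFin.isCoh_twist n k _
    obtain ⟨ω₀, hω₀⟩ : ∃ ω₀ : X.Modules, ω₀ = ((ish ι).rightDerived (n - 2)).obj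
      (Twist.twistProjSpace n k (-((n : ℤ) + 1))) := ⟨_, rfl⟩
    have hω₀e : Nonempty ((Scheme.Modules.pushforward ι).obj ω₀ ≅
        (ModSite.extSh (O := (CohB1.ProjSpace n k).sheaf)
          ((Scheme.Modules.pushforward ι).obj (Coh.structureModule X)) (n - 2)).obj
          (Twist.twistProjSpace n k (-((n : ℤ) + 1)))) := by
      rw [hω₀]
      exact ⟨pushRightDerivedIshIso ι _ (n - 2)⟩
    have hω₀coh : Coh.IsCoh ω₀ := by
      rw [hω₀]
      exact isCoh_rightDerived_ish ι _ hωP (n - 2)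
    obtain ⟨t, ht⟩ := Groth.Agent.S14432.result k n 2 hrn X ι hι hd2 ω₀ hω₀e
    have heq : ∀ Z : Set ↥X, Z ∈ irreducibleComponents ↥X →
        topologicalKrullDim ↥Z = ((2 : ℕ) : WithBot ℕ∞) := by
      intro Z hZ
      rw [irreducibleComponents_eq_singleton, Set.mem_singleton_iff] at hZ
      rw [hZ, ← hd2]
      exact IsHomeomorph.topologicalKrullDim_eq _ (Homeomorph.Set.univ X).isHomeomorph
    obtain ⟨-, hrk⟩ := Groth.Agent.Helper2.OmegaPn.main k n ι 2 hrn heq ω₀ hω₀e
    have hηc : closure ({genericPoint X} : Set X) ∈ irreducibleComponents X := by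
      rw [irreducibleComponents_eq_singleton, Set.mem_singleton_iff]
      exact (genericPoint_spec X).def
    have hrk1 := hrk (genericPoint X) hηc
    refine ⟨FGA.intNum k X 2 (fun _ : Fin 1 => H') ω₀ -
      FGA.intNum k X 2 (fun _ : Fin 1 => H') (Coh.structureModule X), ?_⟩
    intro N N' hN iN m hns
    have hNmc : Coh.IsCoh (CohB1.tensorPow N m) :=
      InvQc.isCoh_of_isInvertible _ (isInvertible_tensorPow hN m)
    obtain ⟨x, hx⟩ := exists_ne (0 : Coh.HH X (CohB1.tensorPow N m) 2)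
    haveI hfree : Module.Free k (Coh.HH X (CohB1.tensorPow N m) 2) :=
      Module.Free.of_divisionRing k _
    haveI hprojm : Module.Projective k (Coh.HH X (CohB1.tensorPow N m) 2) :=
      Module.Projective.of_free
    obtain ⟨ψ, hψ⟩ : ∃ ψ : Coh.HH X (CohB1.tensorPow N m) 2 →ₗ[k] k, ψ x ≠ 0 :=
      Module.Projective.exists_dual_ne_zero k hx
    obtain ⟨φ, hφ, -⟩ := ht _ hNmc ψ
    have hφ0 : φ ≠ 0 := by
      intro h0
      apply hψ
      rw [hφ x, h0]
      have h1 := HHFin1.HHlin_zero k (F := CohB1.tensorPow N m) (G := ω₀) 2 x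
      change t (Canon.HHlin k (0 : CohB1.tensorPow N m ⟶ ω₀) 2 x) = 0
      rw [h1, map_zero]
    have hNmi := isInvertible_tensorPow hN m
    have hst : stalkL φ (genericPoint X) ≠ 0 := by
      intro h0
      apply hφ0
      obtain ⟨U, hU, hUφ⟩ := exists_restrict_eq_zero hNmi φ h0
      apply Groth.Agent.Helper2.OmegaHom.main k n ι 2 hrn heq ω₀ hω₀e _ hNmc φ
      intro y hy
      rw [irreducibleComponents_eq_singleton, Set.mem_singleton_iff] at hy
      have hyg : y = genericPoint X := by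
        have h1 : IsGenericPoint y (Set.univ : Set X) := hy
        exact h1.eq (genericPoint_spec X)
      rw [hyg]
      exact ⟨U, hU, hUφ⟩
    have hbij := stalkL_bijective_of_ne_zero' hNmi hrk1 φ hst
    have hmono : Mono φ := mono_of_stalkL_injective hNmi φ hbij.1
    have hη := notMem_support_cokernel' φ (genericPoint X) hbij.2
    have hb := deg_bound k X hdim N N' hN iN H H' hH iH ω₀ hω₀coh m φ hmono hη
    linarith
  · refine ⟨0, ?_⟩
    intro N N' hN iN m hns
    exfalso
    have hNmc : Coh.IsCoh (CohB1.tensorPow N m) :=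
      InvQc.isCoh_of_isInvertible _ (isInvertible_tensorPow hN m)
    haveI : Coh.IsQCoh (CohB1.tensorPow N m) := hNmc.1
    haveI : (CohB1.tensorPow N m).IsQuasicoherent := hNmc.1
    haveI : ((Scheme.Modules.pushforward ι).obj (CohB1.tensorPow N m)).IsQuasicoherent :=
      Groth.Agent.Helper1.PushQc.isQuasicoherent_pushforward (f := ι) (F := CohB1.tensorPow N m)
    haveI : IsAffineHom ι := inferInstance
    have hsub : Subsingleton (Coh.HH (CohB1.ProjSpace n k)
        ((Coh.push ι).obj (CohB1.tensorPow N m)) 2) :=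
      Groth.Agent.S0022.result n k _ 2 (by omega)
    have hsub2 : Subsingleton (Coh.HH X (CohB1.tensorPow N m) 2) :=
      (LinBridge1.lerayEquiv ι (CohB1.tensorPow N m) k hι 2).symm.toEquiv.subsingleton
    exact not_subsingleton _ hsub2

/-- a uniform bound: `H²(N^m) ≠ 0` forces `m (N·H) ≤ n₀` -/
theorem h2_bound (hdim : topologicalKrullDim X = 2)
    (H H' : X.Modules) (hH : CohB1.IsAmple H)
    (iH : CohB1.tensorMod H H' ≅ Coh.structureModule X) :
    ∃ n₀ : ℤ, ∀ (N N' : X.Modules) (_ : PicF.IsInvertible N)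
      (_ : CohB1.tensorMod N N' ≅ Coh.structureModule X) (m : ℕ),
      Nontrivial (Coh.HH X (CohB1.tensorPow N m) 2) →
        (m : ℤ) * FGA.intNum k X 2 ![N', H'] (Coh.structureModule X) ≤ n₀ := by
  obtain ⟨n₁, h⟩ := VA8.exists_immersion_projSpace_powers (X ↘ Spec (CommRingCat.of k)) hH
    (GenLoc.isInvertible_O (X := X))
  obtain ⟨n, r, hr, hrq, -⟩ := h n₁ le_rfl
  haveI : IsImmersion r := hr
  haveI : IsProper (r ≫ CohB1.ProjSpace.toSpec n k) := by
    rw [hrq]; infer_instance
  haveI : IsClosedImmersion r :=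
    Chow.isClosedImmersion_of_isProper_comp r (CohB1.ProjSpace.toSpec n k)
  exact h2_bound_of_embedding k X hdim n r hrq H H' hH iH

/-- **`H²(L) = 0` once `(L·H)` is large** -/
theorem h2_vanishing (hdim : topologicalKrullDim X = 2) (H : X.Modules) (hH : CohB1.IsAmple H) :
    ∃ n₀ : ℤ, ∀ L : X.Modules, PicF.IsInvertible L →
      n₀ < FGA.intNum k X 2 ![L, H] (Coh.structureModule X) → Subsingleton (Coh.HH X L 2) := by
  obtain ⟨H', hH', ⟨eH⟩⟩ := InvInv2.exists_inverse hH.1
  have iH : CohB1.tensorMod H H' ≅ Coh.structureModule X := TildeTens.tensorModComm H H' ≪≫ eH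
  obtain ⟨n₀, hn₀⟩ := h2_bound k X hdim H H' hH iH
  refine ⟨n₀, fun L hL hlt => ?_⟩
  obtain ⟨L', hL', ⟨eL⟩⟩ := InvInv2.exists_inverse hL
  have iL : CohB1.tensorMod L L' ≅ Coh.structureModule X := TildeTens.tensorModComm L L' ≪≫ eL
  by_contra hns
  rw [not_subsingleton_iff_nontrivial] at hns
  have e1 : CohB1.tensorPow L 1 ≅ L :=
    TildeTens.tensorModComm (Coh.structureModule X) L ≪≫
      Groth.Agent.Lib.Helper5.LTenFlf.tensorUnitIso L
  haveI := hns
  have hnt : Nontrivial (Coh.HH X (CohB1.tensorPow L 1) 2) :=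
    (HHFin1.HHequiv k e1 2).toEquiv.nontrivial
  have h1 := hn₀ L L' hL iL 1 hnt
  rw [Groth.Agent.Helper1.SurfHodge.intNum_inv_inv k X hdim L L' H H' hL hH.1 iL iH] at h1
  push_cast at h1
  linarith

end Main

end Groth.Agent.Helper1.SurfDual
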