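import Mathlib
import Groth.Agent.Lib.Helper1.SymBr11

set_option autoImplicit false
universe u
open CategoryTheory CategoryTheory.Limits AlgebraicGeometry TopologicalSpace Opposite

namespace Groth.Agent.Helper1.SymBr

open Groth.Agent.Helper1.QcCech Groth.Agent.Helper1.LGen
open Groth.Agent.Helper1 Groth.Agent.Helper1.TmulLib Groth.Agent.Helper1.TensLib
open Groth.Agent.Helper1.TwistSec Groth.Agent.Helper1.VT Groth.Agent.Helper1.SymAlg
open Groth.Agent.Helper1.AmpleLib Groth.Agent.Helper1.TwForm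

section Bridge
variable {X : Scheme.{u}} {L : X.Modules} [L.IsQuasicoherent]
  {𝒮L : RelProj.QCGrAlg X} {j : L ⟶ 𝒮L.toModule} (hj : RelProj.IsGrSymAlg L 𝒮L j)

omit [L.IsQuasicoherent] in
theorem br_zero (n : ℕ) (W : X.Opens) : br j n W 0 = 0 := val_zero _ W

omit [L.IsQuasicoherent] in
theorem br_sub (n : ℕ) (W : X.Opens) (m m' : Γ(CohB1.tensorPow L n, W)) :
    br j n W (m - m') = br j n W m - br j n W m' :=
  map_sub ((powHom (A := 𝒮L.toQCAlg) j n).app W).hom m m'

include hj in
/-- the bridge is injective on sections -/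
theorem br_injective (hL : PicF.IsInvertible L) (n : ℕ) (W : X.Opens) :
    Function.Injective (br j n W) := by
  intro m m' h
  rw [← sub_eq_zero]
  have h0 : br j n W (m - m') = 0 := by rw [br_sub, h, sub_self]
  apply TwistSec.eq_of_locally (CohB1.tensorPow L n)
  intro x hx
  obtain ⟨V, hV, hVW, a, ha, c, hxV, hc⟩ := exists_chart_pow hL n (m - m') x hx
  refine ⟨V, hVW, hxV, ?_⟩
  rw [map_zero, hc]
  have h1 : mono L j V c a n = 0 := by
    rw [← br_smul_gpow, ← hc, ← rs_br, h0, map_zero]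
  rw [mono_eq_zero hj hV ha n c h1, zero_smul]

include hj in
/-- **every homogeneous section of the symmetric algebra comes from a section of the tensor
power** -/
theorem exists_br_eq (hL : PicF.IsInvertible L) (n : ℕ) {W : X.Opens}
    {σ : 𝒮L.presheaf.obj (op W)} (hσ : IsHomog 𝒮L W σ n) :
    ∃ m : Γ(CohB1.tensorPow L n, W), br j n W m = σ := by
  classical
  choose c hc using fun x : W => exists_chart hj hL hσ x.1 x.2
  let sf : ∀ x : W, Γ(CohB1.tensorPow L n, (c x).V) := fun x => (c x).r • gpow (c x).a n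
  have hsf : ∀ x : W, br j n (c x).V (sf x) = rs 𝒮L (c x).le σ := fun x => by
    rw [br_smul_gpow, (c x).hr]
  obtain ⟨m, hm⟩ := glue_of_compatible (CohB1.tensorPow L n) (fun x : W => (c x).V) W
    (fun x => (c x).le) (fun x hx => Opens.mem_iSup.2 ⟨⟨x, hx⟩, hc ⟨x, hx⟩⟩) sf
    (by
      intro x y
      apply br_injective hj hL n
      rw [← rs_br, ← rs_br, hsf, hsf, rs_rs, rs_rs])
  refine ⟨m, ?_⟩
  apply eq_of_locally'
  intro x hx
  refine ⟨(c ⟨x, hx⟩).V, (c ⟨x, hx⟩).le, hc ⟨x, hx⟩, ?_⟩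
  rw [rs_br, hm, hsf]

end Bridge

end Groth.Agent.Helper1.SymBr
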