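import Mathlib
import Groth.Agent.Lib.Helper1.SymCmp
import Groth.Agent.Lib.Helper1.FinPush

set_option autoImplicit false
universe u
open CategoryTheory CategoryTheory.Limits AlgebraicGeometry TopologicalSpace Opposite

namespace Groth.Agent.Helper1.SymAlg

open Groth.Agent.Helper1.SymLoc Groth.Agent.Helper1.QcCech Groth.Agent.Helper1

/-- the symmetric algebra of a finite module is of finite type -/
theorem finiteType_symmetricAlgebra (R M : Type*) [CommRing R] [AddCommGroup M] [Module R M]
    [Module.Finite R M] : Algebra.FiniteType R (SymmetricAlgebra R M) := by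
  obtain ⟨s, hs⟩ := (Module.finite_def (R := R) (M := M)).1 inferInstance
  classical
  refine ⟨⟨s.image (SymmetricAlgebra.ι R M), ?_⟩⟩
  rw [eq_top_iff]
  rintro x -
  induction x using SymmetricAlgebra.induction with
  | algebraMap r => exact Subalgebra.algebraMap_mem _ r
  | ι m =>
    have hm : m ∈ Submodule.span R (s : Set M) := by rw [hs]; trivial
    induction hm using Submodule.span_induction with
    | mem y hy =>
      apply Algebra.subset_adjoin
      rw [Finset.coe_image]
      exact ⟨y, hy, rfl⟩
    | zero => rw [map_zero]; exact Subalgebra.zero_mem _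
    | add a b _ _ ha hb => rw [map_add]; exact Subalgebra.add_mem _ ha hb
    | smul r a _ ha => rw [map_smul]; exact Subalgebra.smul_mem _ ha r
  | mul a b ha hb => exact Subalgebra.mul_mem _ ha hb
  | add a b ha hb => exact Subalgebra.add_mem _ ha hb

variable {S : Scheme.{u}}

theorem finiteType_str (E : S.Modules) (hE : Coh.IsCoh E) {A : RelSpec.QCAlg S}
    {jA : E ⟶ A.toModule} (hA : RelSpec.IsSymAlg E A jA) (U : S.Opens) (hU : IsAffineOpen U) :
    (A.str.app (op U)).hom.FiniteType := by
  have : E.IsQuasicoherent := hE.1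
  obtain ⟨c, hc1, -⟩ := exists_ringEquiv E hA U hU
  have : Module.Finite Γ(S, U) Γ(E, U) := FinPush.finite_sections E hE hU
  have h1 : (algebraMap Γ(S, U) (SymSec E U)).FiniteType :=
    RingHom.finiteType_algebraMap.2 (finiteType_symmetricAlgebra _ _)
  have h2 : (c : SymSec E U →+* A.presheaf.obj (op U)).FiniteType :=
    RingHom.FiniteType.of_surjective _ c.surjective
  have h3 := h2.comp h1
  have e : (c : SymSec E U →+* A.presheaf.obj (op U)).comp (algebraMap Γ(S, U) (SymSec E U)) =
      (A.str.app (op U)).hom := RingHom.ext hc1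
  rwa [e] at h3

theorem locallyOfFiniteType_π (E : S.Modules) (hE : Coh.IsCoh E) {A : RelSpec.QCAlg S}
    {jA : E ⟶ A.toModule} (hA : RelSpec.IsSymAlg E A jA) : LocallyOfFiniteType A.π := by
  refine (IsZariskiLocalAtSource.iff_of_openCover (P := @LocallyOfFiniteType)
    (f := A.π) (show A.spec.OpenCover from A.glueData.cover)).2 ?_
  intro U
  change LocallyOfFiniteType (A.ι U.1 U.2 ≫ A.π)
  rw [A.ι_π]
  have : LocallyOfFiniteType (Spec.map (A.str.app (op U.1))) := by
    rw [HasRingHomProperty.Spec_iff (P := @LocallyOfFiniteType)]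
    exact finiteType_str E hE hA U.1 U.2
  infer_instance

end Groth.Agent.Helper1.SymAlg
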