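import Groth.Agent.Lib.Helper1.Chevalley
universe u
open IsLocalRing
namespace Groth.Agent.Helper1.SymPow
variable {A : Type u} [CommRing A] [IsDomain A] [IsLocalRing A] [IsNoetherianRing A]

/-- symbolic power -/
noncomputable def S (p : Ideal A) [p.IsPrime] (m : ℕ) : Ideal A :=
  ((Ideal.map (algebraMap A (Localization.AtPrime p)) p) ^ m).comap
    (algebraMap A (Localization.AtPrime p))

theorem S_antitone (p : Ideal A) [p.IsPrime] : Antitone (S p) := fun _ _ h =>
  Ideal.comap_mono (Ideal.pow_le_pow_right h)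

theorem mem_S_iff (p : Ideal A) [p.IsPrime] (m : ℕ) (x : A) :
    x ∈ S p m ↔ ∃ t, t ∉ p ∧ x * t ∈ p ^ m := by
  unfold S
  rw [Ideal.mem_comap, ← Ideal.map_pow, IsLocalization.mem_map_algebraMap_iff p.primeCompl]
  have hinj : Function.Injective (algebraMap A (Localization.AtPrime p)) :=
    IsLocalization.injective _ p.primeCompl_le_nonZeroDivisors
  constructor
  · rintro ⟨⟨a, t⟩, h⟩
    refine ⟨t.1, t.2, ?_⟩
    rw [← map_mul] at h
    have := hinj h
    simp only at this
    rw [this]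
    exact a.2
  · rintro ⟨t, ht, h⟩
    exact ⟨⟨⟨x * t, h⟩, ⟨t, ht⟩⟩, by simp⟩

theorem pow_le_S (p : Ideal A) [p.IsPrime] (m : ℕ) : p ^ m ≤ S p m := fun x hx =>
  (mem_S_iff p m x).mpr ⟨1, fun h => (Ideal.ne_top_iff_one p).mp (Ideal.IsPrime.ne_top ‹_›) h,
    by simpa using hx⟩

theorem iInf_S (p : Ideal A) [p.IsPrime] : ⨅ m, S p m = ⊥ := by
  unfold S
  rw [← Ideal.comap_iInf]
  have hmax : Ideal.map (algebraMap A (Localization.AtPrime p)) p =
      maximalIdeal (Localization.AtPrime p) := Localization.AtPrime.map_eq_maximalIdeal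
  rw [hmax, Ideal.iInf_pow_eq_bot_of_isLocalRing _ (Ideal.IsPrime.ne_top inferInstance)]
  have hinj : Function.Injective (algebraMap A (Localization.AtPrime p)) :=
    IsLocalization.injective _ p.primeCompl_le_nonZeroDivisors
  rw [← RingHom.ker_eq_comap_bot]
  exact (RingHom.injective_iff_ker_eq_bot _).mp hinj

/-- primes strictly above `p` are maximal when `dim A/p ≤ 1` -/
theorem eq_maximalIdeal_of_lt (p : Ideal A) [p.IsPrime] (hp : ringKrullDim (A ⧸ p) = 1)
    (q : Ideal A) [hq : q.IsPrime] (hpq : p ≤ q) (hne : q ≠ p) : q = maximalIdeal A := by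
  have hdim : Ring.KrullDimLE 1 (A ⧸ p) := by
    rw [Ring.KrullDimLE, Order.krullDimLE_iff]
    exact le_of_eq hp
  have hker : RingHom.ker (Ideal.Quotient.mk p) ≤ q := by rwa [Ideal.mk_ker]
  have hprime : (q.map (Ideal.Quotient.mk p)).IsPrime :=
    Ideal.map_isPrime_of_surjective Ideal.Quotient.mk_surjective hker
  have hne' : q.map (Ideal.Quotient.mk p) ≠ ⊥ := by
    intro h
    apply hne
    apply le_antisymm _ hpq
    have := Ideal.le_comap_map (f := Ideal.Quotient.mk p) (I := q)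
    rw [h, ← RingHom.ker_eq_comap_bot, Ideal.mk_ker] at this
    exact this
  have hmax : (q.map (Ideal.Quotient.mk p)).IsMaximal := hprime.isMaximal_of_ne_bot hne'
  have hq' : q = (q.map (Ideal.Quotient.mk p)).comap (Ideal.Quotient.mk p) := by
    rw [Ideal.comap_map_of_surjective _ Ideal.Quotient.mk_surjective,
      ← RingHom.ker_eq_comap_bot, Ideal.mk_ker]
    exact (sup_eq_left.mpr hpq).symm
  have : q.IsMaximal := by
    rw [hq']
    exact Ideal.comap_isMaximal_of_surjective _ Ideal.Quotient.mk_surjective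
  exact IsLocalRing.eq_maximalIdeal this

/-- some power of the maximal ideal multiplies `S p n` into `p ^ n` -/
theorem exists_pow_mul_le (p : Ideal A) [p.IsPrime] (hp : ringKrullDim (A ⧸ p) = 1) (n : ℕ)
    (hn : 1 ≤ n) : ∃ k, maximalIdeal A ^ k * S p n ≤ p ^ n := by
  classical
  set C : Ideal A := (p ^ n).colon (S p n : Set A) with hC
  -- C ⊄ p
  have hCp : ¬ C ≤ p := by
    obtain ⟨s, hs⟩ := (isNoetherianRing_iff_ideal_fg A).mp inferInstance (S p n)
    have ht : ∀ x : A, x ∈ S p n → ∃ t, t ∉ p ∧ x * t ∈ p ^ n := fun x hx => (mem_S_iff p n x).mp hx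
    choose! t ht1 ht2 using ht
    have hs' : ∀ x ∈ s, x ∈ S p n := fun x hx => hs ▸ Ideal.subset_span hx
    set T := ∏ x ∈ s, t x with hT
    have hTp : T ∉ p := by
      intro h
      obtain ⟨x, hx, hxp⟩ := (Ideal.IsPrime.prod_mem_iff).mp h
      exact ht1 x (hs' x hx) hxp
    intro hle
    apply hTp
    apply hle
    rw [hC, Submodule.mem_colon]
    intro y hy
    rw [SetLike.mem_coe, ← hs] at hy
    rw [smul_eq_mul]
    refine Submodule.span_induction (p := fun y _ => T * y ∈ p ^ n) ?_ ?_ ?_ ?_ hy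
    · intro x hx
      have h1 := ht2 x (hs' x hx)
      have h2 : T = t x * ∏ z ∈ s.erase x, t z := by
        rw [hT, ← Finset.mul_prod_erase s t hx]
      rw [h2]
      have : (t x * ∏ z ∈ s.erase x, t z) * x = (x * t x) * ∏ z ∈ s.erase x, t z := by ring
      rw [this]
      exact Ideal.mul_mem_right _ _ h1
    · simp
    · intro a b _ _ ha hb
      rw [mul_add]; exact Ideal.add_mem _ ha hb
    · intro a b _ hb
      rw [smul_eq_mul, mul_left_comm]
      exact Ideal.mul_mem_left _ _ hb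
  have hpC : p ^ n ≤ C := by
    intro a ha
    rw [hC, Submodule.mem_colon]
    intro y _
    exact Ideal.mul_mem_right _ _ ha
  have hrad : maximalIdeal A ≤ C.radical := by
    rw [Ideal.radical_eq_sInf]
    refine le_sInf ?_
    rintro q ⟨hCq, hq⟩
    have hpq : p ≤ q := hq.le_of_pow_le (hpC.trans hCq)
    have hne : q ≠ p := fun h => hCp (h ▸ hCq)
    rw [eq_maximalIdeal_of_lt p hp q hpq hne]
  obtain ⟨k, hk⟩ := Ideal.exists_radical_pow_le_of_fg C
    ((isNoetherianRing_iff_ideal_fg A).mp inferInstance _)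
  refine ⟨k, ?_⟩
  rw [Ideal.mul_le]
  intro a ha y hy
  have haC : a ∈ C := hk (Ideal.pow_right_mono hrad k ha)
  rw [hC, Submodule.mem_colon] at haC
  exact haC y hy

theorem main [IsAdicComplete (maximalIdeal A) A] (p : Ideal A) [p.IsPrime]
    (hp : ringKrullDim (A ⧸ p) = 1) (n : ℕ) (hn : 1 ≤ n) : ∃ m, n ≤ m ∧ S p m ≤ p ^ n := by
  obtain ⟨k, hk⟩ := exists_pow_mul_le p hp n hn
  obtain ⟨c, hc⟩ := Ideal.exists_pow_inf_eq_pow_smul (maximalIdeal A) (S p n : Submodule A A)
  have hK : maximalIdeal A ^ (k + c) ⊓ S p n ≤ p ^ n := by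
    have h1 := hc (k + c) (by omega)
    have : k + c - c = k := by omega
    rw [this] at h1
    intro x hx
    have hx' : x ∈ (maximalIdeal A ^ (k + c) • ⊤ ⊓ (S p n) : Submodule A A) := by
      rw [smul_eq_mul, Ideal.mul_top]; exact hx
    rw [h1] at hx'
    apply hk
    have : (maximalIdeal A ^ k • (maximalIdeal A ^ c • ⊤ ⊓ S p n : Submodule A A)) ≤
        maximalIdeal A ^ k * S p n := by
      rw [smul_eq_mul]
      exact Ideal.mul_mono_right inf_le_right
    exact this hx'
  obtain ⟨s, hs⟩ := Chevalley.main (S p) (S_antitone p) (iInf_S p) (k + c)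
  exact ⟨max s n, le_max_right _ _, fun x hx =>
    hK ⟨hs (S_antitone p (le_max_left s n) hx), S_antitone p (le_max_right s n) hx⟩⟩

end Groth.Agent.Helper1.SymPow
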