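import Mathlib
import Groth.Agent.Lib.Helper1.SymU5

set_option autoImplicit false
universe u

open CategoryTheory CategoryTheory.Limits AlgebraicGeometry TopologicalSpace Opposite
open HomogeneousLocalization
open scoped HomogeneousIdeal

namespace Groth.Agent.Helper1.SymInvLocU

open Groth.Agent.Helper1.SymAlg Groth.Agent.Helper1.LGen Groth.Agent.Helper1.QcCech
open Groth.Agent.Helper1.ProjQ Groth.Agent.Helper1.SymInvLoc Groth.Agent.Helper1.SymBr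
open Groth.Agent.Helper1.AmpleLib

section Main
variable {Y X P PL : Scheme.{u}} (q : X ⟶ Y) (L : X.Modules) [L.IsQuasicoherent]
  {𝒮 : RelProj.QCGrAlg Y} {𝒮L : RelProj.QCGrAlg X} {j : L ⟶ 𝒮L.toModule}
  (hj : RelProj.IsGrSymAlg L 𝒮L j) (u : RelProj.QGrHom q 𝒮 𝒮L)
  {p : P ⟶ Y}
  {chart : ∀ (U : Y.Opens) (hU : IsAffineOpen U),
    (((p ⁻¹ᵁ U : P.Opens) : Scheme.{u}) ≅ Proj (𝒮.deg U hU))}
  {pL : PL ⟶ X}
  {chartL : ∀ (U : X.Opens) (hU : IsAffineOpen U),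
    (((pL ⁻¹ᵁ U : PL.Opens) : Scheme.{u}) ≅ Proj (𝒮L.deg U hU))}

include hj in
/-- **criterion for `r` to be an everywhere defined open immersion**, with a family over varying
affine opens of the base -/
theorem mainU_openImm (hL : PicF.IsInvertible L) (hP : RelProj.IsRelProj 𝒮 p chart)
    (hPL : RelProj.IsRelProj 𝒮L pL chartL)
    (r : ((RelProj.domQ u pL chartL : PL.Opens) : Scheme.{u}) ⟶ P)
    (hr : RelProj.IsProjQMapOn u p chart pL chartL (RelProj.domQ u pL chartL) r)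
    (ι : Type u) (U : ι → Y.Opens) (hU : ∀ a, IsAffineOpen (U a)) (n : ι → ℕ)
    (s : ∀ a, 𝒮.presheaf.obj (op (U a)))
    (h1 : ∀ a, 0 < n a ∧ s a ∈ 𝒮.deg (U a) (hU a) (n a))
    (h3 : (⨆ a, nz 𝒮L (q ⁻¹ᵁ U a) (n a) ((u.app (U a)).hom (s a))) = ⊤)
    (h4 : ∀ a, IsAffineOpen (nz 𝒮L (q ⁻¹ᵁ U a) (n a) ((u.app (U a)).hom (s a))))
    (h5 : ∀ (a : ι) (t : Γ(X, nz 𝒮L (q ⁻¹ᵁ U a) (n a) ((u.app (U a)).hom (s a)))),
      ∃ (m : ℕ) (_ : 0 < m) (s' : 𝒮.presheaf.obj (op (U a)))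
        (_ : s' ∈ 𝒮.deg (U a) (hU a) (m * n a)),
        (𝒮L.str.app (op (nz 𝒮L (q ⁻¹ᵁ U a) (n a) ((u.app (U a)).hom (s a))))).hom t *
          (u.gradedAt (U a) (hU a) _ (h4 a) nz_le (s a)) ^ m =
        u.gradedAt (U a) (hU a) _ (h4 a) nz_le s')
    (h6 : ∀ (a : ι) (m : ℕ), 0 < m → ∀ s' ∈ 𝒮.deg (U a) (hU a) (m * n a),
      u.gradedAt (U a) (hU a) (nz 𝒮L (q ⁻¹ᵁ U a) (n a) ((u.app (U a)).hom (s a))) (h4 a)
        nz_le s' = 0 → ∃ (k : ℕ), 0 < k ∧ (s a) ^ k * s' = 0) :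
    RelProj.domQ u pL chartL = ⊤ ∧ IsOpenImmersion r := by
  have hdom : RelProj.domQ u pL chartL = ⊤ := domQ_eq_top_of_cover q L hj u hPL (fun x => by
    have hx : x ∈ ⨆ a, nz 𝒮L (q ⁻¹ᵁ U a) (n a) ((u.app (U a)).hom (s a)) := by rw [h3]; trivial
    obtain ⟨a, ha⟩ := Opens.mem_iSup.1 hx
    exact ⟨U a, hU a, n a, (h1 a).1, s a, (h1 a).2, ha⟩)
  refine ⟨hdom, ?_⟩
  obtain ⟨r', hr', hci⟩ := local_propU q L hj u @IsOpenImmersion hL hP hPL r hr ι U hU n s h1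
    h3 h4 (fun a => by
      have hnot := hnot_of_eq q L hj u (hU a) _ (h4 a) nz_le (s a) rfl hPL
      have hbij := cmp_bijective q L hj u (hU a) _ (h4 a) nz_le (h1 a).1 (s a)
        (h1 a).2 hnot hL hPL
      have hs := (cond3_iff q u (hU a) _ (h4 a) nz_le (h1 a).1 (s a) (h1 a).2 hbij).1 (h5 a)
      have hi := (cond4_iff q u (hU a) _ (h4 a) nz_le (h1 a).1 (s a) (h1 a).2).1 (h6 a)
      have : IsIso (Spec.map (CommRingCat.ofHom (HomogeneousLocalization.Away.map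
          (u.gradedAt (U a) (hU a) _ (h4 a) nz_le) (s a)))) :=
        isIso_SpecMap_iff.2 ⟨hi, hs⟩
      infer_instance)
  rw [← hr']
  infer_instance

end Main

end Groth.Agent.Helper1.SymInvLocU
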