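import Mathlib
import Groth.Agent.Lib.Helper1.SymU6

set_option autoImplicit false
universe u

open CategoryTheory CategoryTheory.Limits AlgebraicGeometry TopologicalSpace Opposite
open HomogeneousLocalization
open scoped HomogeneousIdeal

namespace Groth.Agent.Helper1.SymInvLocU

open Groth.Agent.Helper1.SymAlg Groth.Agent.Helper1.LGen Groth.Agent.Helper1.QcCech
open Groth.Agent.Helper1.ProjQ Groth.Agent.Helper1.SymInvLoc Groth.Agent.Helper1.SymBr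
open Groth.Agent.Helper1.AmpleLib Groth.Agent.Helper1.VT

section Main
variable {Y X P PL : Scheme.{u}} (q : X ⟶ Y) (L : X.Modules) [L.IsQuasicoherent]
  {𝒮 : RelProj.QCGrAlg Y} {𝒮L : RelProj.QCGrAlg X} {j : L ⟶ 𝒮L.toModule}
  (hj : RelProj.IsGrSymAlg L 𝒮L j) (u : RelProj.QGrHom q 𝒮 𝒮L)
  {p : P ⟶ Y}
  {chart : ∀ (U : Y.Opens) (hU : IsAffineOpen U),
    (((p ⁻¹ᵁ U : P.Opens) : Scheme.{u}) ≅ Proj (𝒮.deg U hU))}
  {pL : PL ⟶ X}
  {chartL : ∀ (U : X.Opens) (hU : IsAffineOpen U),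
    (((pL ⁻¹ᵁ U : PL.Opens) : Scheme.{u}) ≅ Proj (𝒮L.deg U hU))}

omit [L.IsQuasicoherent] in
/-- quasi-separatedness of an open with an ample restriction, in terms of affine opens of `X` -/
theorem isCompact_inf_of_isAmple_restrict (W : X.Opens)
    (hA : CohB1.IsAmple (L.restrict W.ι)) (V V' : X.Opens) (hV : IsAffineOpen V)
    (hV' : IsAffineOpen V') (hVW : V ≤ W) (hV'W : V' ≤ W) :
    IsCompact ((V ⊓ V' : X.Opens) : Set X) := by
  have hqs : QuasiSeparatedSpace ↥(W : Scheme.{u}) := quasiSeparatedSpace_of_isAmple hA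
  have hqs' : IsQuasiSeparated (W : Set X) :=
    (isQuasiSeparated_iff_quasiSeparatedSpace _ W.2).2 hqs
  exact hqs' V.1 V'.1 hVW V.2 hV.isCompact hV'W V'.2 hV'.isCompact

include hj in
/-- **S12679**, main part: if `L` is relatively ample and `u` is bijective over affine opens, then
`r` is everywhere defined and an open immersion -/
theorem main12679a [QuasiCompact q] (h : RelAmple.IsRelAmple q L)
    (hP : RelProj.IsRelProj 𝒮 p chart) (hPL : RelProj.IsRelProj 𝒮L pL chartL)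
    (r : ((RelProj.domQ u pL chartL : PL.Opens) : Scheme.{u}) ⟶ P)
    (hr : RelProj.IsProjQMapOn u p chart pL chartL (RelProj.domQ u pL chartL) r)
    (hL : PicF.IsInvertible L)
    (hu : ∀ (U : Y.Opens), IsAffineOpen U → Function.Bijective (u.app U).hom) :
    RelProj.domQ u pL chartL = ⊤ ∧ IsOpenImmersion r := by
  classical
  -- the data attached to an affine open and a point over it
  have hex : ∀ a : (Σ U : Y.affineOpens, ↥(q ⁻¹ᵁ U.1)),
      ∃ (N : ℕ) (τ : 𝒮.presheaf.obj (op a.1.1)), τ ∈ 𝒮.deg a.1.1 a.1.2 (N + 1) ∧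
        a.2.1 ∈ nz 𝒮L (q ⁻¹ᵁ a.1.1) (N + 1) ((u.app a.1.1).hom τ) ∧
        IsAffineOpen (nz 𝒮L (q ⁻¹ᵁ a.1.1) (N + 1) ((u.app a.1.1).hom τ)) := by
    rintro ⟨U, x⟩
    have hA := h.2 U
    obtain ⟨N, s', hxs', haff⟩ := hA.2.2 x
    obtain ⟨m, hm⟩ := exists_section_of_restrict hL (q ⁻¹ᵁ U.1) (N + 1) s'
    obtain ⟨τ, hτ⟩ := (hu U.1 U.2).2 (br j (N + 1) (q ⁻¹ᵁ U.1) m)
    have hnz : nz 𝒮L (q ⁻¹ᵁ U.1) (N + 1) ((u.app U.1).hom τ) =
        (q ⁻¹ᵁ U.1).ι ''ᵁ (CohB1.genLocus _ s') := by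
      rw [hτ, ← gl_eq_nz hj hL, hm]
    refine ⟨N, τ, mem_deg_of_isHomog u U.1 U.2 (hu U.1 U.2).1
      (by rw [hτ]; exact isHomog_br hj hL _ _), ?_, ?_⟩
    · rw [hnz]; exact ⟨x, hxs', rfl⟩
    · rw [hnz]; exact haff.image_of_isOpenImmersion _
  choose N τ hτd hxnz haff using hex
  refine mainU_openImm q L hj u hL hP hPL r hr _ (fun a => a.1.1) (fun a => a.1.2)
    (fun a => N a + 1) τ (fun a => ⟨Nat.succ_pos _, hτd a⟩) ?_ haff ?_ ?_
  · refine eq_top_iff.2 fun x _ => ?_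
    obtain ⟨_, ⟨U, hU, rfl⟩, hxU, -⟩ := Y.isBasis_affineOpens.exists_subset_of_mem_open
      (Set.mem_univ (q x)) isOpen_univ
    exact Opens.mem_iSup.2 ⟨⟨⟨U, hU⟩, ⟨x, hxU⟩⟩, hxnz ⟨⟨U, hU⟩, ⟨x, hxU⟩⟩⟩
  · intro a t
    have hWc : IsCompact ((q ⁻¹ᵁ a.1.1 : X.Opens) : Set X) :=
      q.isCompact_preimage a.1.2.isCompact
    have hWs := isCompact_inf_of_isAmple_restrict L (q ⁻¹ᵁ a.1.1) (h.2 a.1)
    obtain ⟨m, hm, σ', hσ'h, hσ'⟩ := exists_extension hj hL hWc hWs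
      (isHomog_app u a.1.1 a.1.2 (hτd a)) t
    obtain ⟨s', hs'⟩ := (hu a.1.1 a.1.2).2 σ'
    refine ⟨m, hm, s', mem_deg_of_isHomog u a.1.1 a.1.2 (hu a.1.1 a.1.2).1
      (by rw [hs']; exact hσ'h), ?_⟩
    change _ * rs 𝒮L _ ((u.app a.1.1).hom (τ a)) ^ m = rs 𝒮L _ ((u.app a.1.1).hom s')
    rw [hs']
    exact hσ'.symm
  · intro a m hm s' hs' h0
    have hWc : IsCompact ((q ⁻¹ᵁ a.1.1 : X.Opens) : Set X) :=
      q.isCompact_preimage a.1.2.isCompact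
    obtain ⟨k, hk⟩ := exists_kill hj hL hWc (isHomog_app u a.1.1 a.1.2 (hτd a))
      (isHomog_app u a.1.1 a.1.2 hs') h0
    refine ⟨k + 1, Nat.succ_pos _, (hu a.1.1 a.1.2).1 ?_⟩
    rw [map_mul, map_pow, map_zero]
    exact hk (k + 1) (Nat.le_succ _)

/-- dominance of `r` when `u` is injective over affine opens and `q` is quasi-compact -/
theorem isDominant_rU [QuasiCompact q] (hP : RelProj.IsRelProj 𝒮 p chart)
    (hPL : RelProj.IsRelProj 𝒮L pL chartL)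
    (r : ((RelProj.domQ u pL chartL : PL.Opens) : Scheme.{u}) ⟶ P)
    (hr : RelProj.IsProjQMapOn u p chart pL chartL (RelProj.domQ u pL chartL) r)
    (hinj : ∀ (U : Y.Opens), IsAffineOpen U → Function.Injective (u.app U).hom) :
    IsDominant r := by
  rw [isDominant_iff u r hr hP hPL]
  intro U hU n hn s hs hnil
  have hnil' : ¬ IsNilpotent ((u.app U).hom s) := by
    rintro ⟨k, hk⟩
    apply hnil
    refine ⟨k, hinj U hU ?_⟩
    rw [map_pow, hk, map_zero]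
  have hWc : IsCompact ((q ⁻¹ᵁ U : X.Opens) : Set X) := q.isCompact_preimage hU.isCompact
  have hex : ∃ (V : X.Opens) (hV : IsAffineOpen V) (hVW : V ≤ q ⁻¹ᵁ U),
      ¬ IsNilpotent (rs 𝒮L hVW ((u.app U).hom s)) := by
    by_contra hcon
    push Not at hcon
    exact hnil' (isNilpotent_of_locally hWc _ hcon)
  obtain ⟨V, hV, hVW, hVnil⟩ := hex
  have hmem : rs 𝒮L hVW ((u.app U).hom s) ∈ 𝒮L.deg V hV n := u.map_mem U hU V hV hVW hs
  obtain ⟨y, hy⟩ := ProjTop.exists_notMem_of_not_isNilpotent (𝒮L.deg V hV)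
    (HomogeneousIdeal.mem_irrelevant_of_mem _ hn hmem) hVnil
  exact ⟨V, hV, hVW, y, hy⟩

end Main

end Groth.Agent.Helper1.SymInvLocU
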