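import Mathlib
import Groth.Agent.Lib.Helper1.SymU7

set_option autoImplicit false
universe u

open CategoryTheory CategoryTheory.Limits AlgebraicGeometry TopologicalSpace Opposite

namespace Groth.Agent.Helper1.SymInvLocU

open Groth.Agent.Helper1.SymAlg Groth.Agent.Helper1.LGen Groth.Agent.Helper1.QcCech
open Groth.Agent.Helper1.ProjQ Groth.Agent.Helper1.SymInvLoc Groth.Agent.Helper1.SymBr

section Main
variable {Y X P PL : Scheme.{u}} (q : X ⟶ Y) (L : X.Modules) [L.IsQuasicoherent]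
  {𝒮 : RelProj.QCGrAlg Y} {𝒮L : RelProj.QCGrAlg X} {j : L ⟶ 𝒮L.toModule}
  (hj : RelProj.IsGrSymAlg L 𝒮L j) (u : RelProj.QGrHom q 𝒮 𝒮L)
  {p : P ⟶ Y}
  {chart : ∀ (U : Y.Opens) (hU : IsAffineOpen U),
    (((p ⁻¹ᵁ U : P.Opens) : Scheme.{u}) ≅ Proj (𝒮.deg U hU))}
  {pL : PL ⟶ X}
  {chartL : ∀ (U : X.Opens) (hU : IsAffineOpen U),
    (((pL ⁻¹ᵁ U : PL.Opens) : Scheme.{u}) ≅ Proj (𝒮L.deg U hU))}

include hj in
/-- **S12681**: for `q` universally closed, `r` is an isomorphism -/
theorem main12681 [UniversallyClosed q] (h : RelAmple.IsRelAmple q L)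
    (hP : RelProj.IsRelProj 𝒮 p chart) (hPL : RelProj.IsRelProj 𝒮L pL chartL)
    (r : ((RelProj.domQ u pL chartL : PL.Opens) : Scheme.{u}) ⟶ P)
    (hr : RelProj.IsProjQMapOn u p chart pL chartL (RelProj.domQ u pL chartL) r)
    (hL : PicF.IsInvertible L)
    (hu : ∀ (U : Y.Opens), IsAffineOpen U → Function.Bijective (u.app U).hom) :
    RelProj.domQ u pL chartL = ⊤ ∧ IsIso r := by
  obtain ⟨htop, hoi⟩ := main12679a q L hj u h hP hPL r hr hL hu
  have hdom : IsDominant r := isDominant_rU q u hP hPL r hr (fun U hU => (hu U hU).1)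
  refine ⟨htop, ?_⟩
  have hiso : IsIso pL := main12143 L hj hL hPL
  have hι : IsIso (RelProj.domQ u pL chartL).ι := isIso_ι_of_eq_top _ htop
  have hcomp := comp_eq u p chart pL chartL hP hPL _ rfl r hr
  have hsep : IsSeparated p := RP1.isSeparated hP
  have : UniversallyClosed (r ≫ p) := by
    rw [hcomp]
    infer_instance
  have huc : UniversallyClosed r := UniversallyClosed.of_comp_of_isSeparated r p
  have hclosed : IsClosed (Set.range r) := r.isClosedMap.isClosed_range
  have hsurj : Function.Surjective r := by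
    rw [← Set.range_eq_univ, ← hclosed.closure_eq]
    exact hdom.denseRange.closure_eq
  rw [isIso_iff_isOpenImmersion_and_epi_base]
  exact ⟨hoi, (TopCat.epi_iff_surjective _).2 hsurj⟩

end Main

end Groth.Agent.Helper1.SymInvLocU
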