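import Mathlib
import Groth.Agent.Lib.Helper1.SymU8
import Groth.Agent.Lib.Helper1.SymBr12

set_option autoImplicit false
universe u

open CategoryTheory CategoryTheory.Limits AlgebraicGeometry TopologicalSpace Opposite

namespace Groth.Agent.Helper1.SymInvLocU

open Groth.Agent.Helper1.SymAlg Groth.Agent.Helper1.LGen Groth.Agent.Helper1.QcCech
open Groth.Agent.Helper1.ProjQ Groth.Agent.Helper1.SymInvLoc Groth.Agent.Helper1.SymBr
open Groth.Agent.Helper1.AmpleLib Groth.Agent.Helper1.TwForm Groth.Agent.Helper1.VT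
open Groth.Agent.Helper1.SubSh

section RB
variable {X : Scheme.{u}}

/-- **sections over an open give sections of tensor powers of the restriction** -/
theorem exists_restrict_section {L : X.Modules} (hL : PicF.IsInvertible L) (W : X.Opens)
    (N : ℕ) (m : Γ(CohB1.tensorPow L N, W)) :
    ∃ s : Coh.structureModule (W : Scheme.{u}) ⟶ CohB1.tensorPow (L.restrict W.ι) N,
      W.ι ''ᵁ (CohB1.genLocus _ s) = gl (CohB1.tensorPow L N) m := by
  let e := restrictTensorPowIso W.ι hL N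
  have hW : W.ι ''ᵁ ⊤ = W := Scheme.Opens.ι_image_top W
  let m₀ : Γ(CohB1.tensorPow L N, W.ι ''ᵁ ⊤) := res (CohB1.tensorPow L N) (le_of_eq hW) m
  let s'' : Coh.structureModule (W : Scheme.{u}) ⟶ (CohB1.tensorPow L N).restrict W.ι :=
    TwistAmple.homOfSec ((CohB1.tensorPow L N).restrict W.ι)
      (show Γ((CohB1.tensorPow L N).restrict W.ι, ⊤) from m₀)
  refine ⟨s'' ≫ e.hom, ?_⟩
  rw [TwistAmple.genLocus_comp_iso s'' e, image_genLocus_restrict]
  have h1 : (show Γ(CohB1.tensorPow L N, W.ι ''ᵁ ⊤) from secVal s'' ⊤) = m₀ := by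
    have := secVal_homOfSec ((CohB1.tensorPow L N).restrict W.ι)
      (show Γ((CohB1.tensorPow L N).restrict W.ι, ⊤) from m₀) ⊤
    rw [res_self] at this
    exact this
  rw [h1]
  exact (gl_congr (CohB1.tensorPow L N) hW.symm m m₀ rfl).symm

end RB

section Aff
variable {X : Scheme.{u}} {L : X.Modules} [L.IsQuasicoherent]
  {𝒮L : RelProj.QCGrAlg X} {j : L ⟶ 𝒮L.toModule} (hj : RelProj.IsGrSymAlg L 𝒮L j)

include hj in
/-- the non-vanishing locus of a homogeneous section meets affine opens in affine opens -/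
theorem isAffineOpen_nz_of_isAffineOpen (hL : PicF.IsInvertible L) {V : X.Opens}
    (hV : IsAffineOpen V) {n : ℕ} {σ : 𝒮L.presheaf.obj (op V)} (hσ : IsHomog 𝒮L V σ n) :
    IsAffineOpen (nz 𝒮L V n σ) := by
  obtain ⟨m, hm⟩ := exists_br_eq hj hL n hσ
  obtain ⟨s, hs⟩ := exists_restrict_section hL V n m
  rw [← hm, ← gl_eq_nz hj hL, ← hs]
  have hinv : PicF.IsInvertible (CohB1.tensorPow (L.restrict V.ι) n) :=
    isInvertible_tensorPow (isInvertible_restrict V.ι hL) n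
  have haff : IsAffineHom (CohB1.genLocus _ s).ι := GenLoc.isAffineHom_genLocus_ι _ s hinv
  have : IsAffine (V : Scheme.{u}) := hV
  have h1 : IsAffineOpen (CohB1.genLocus _ s) := by
    have : IsAffine ((CohB1.genLocus _ s : (V : Scheme.{u}).Opens) : Scheme.{u}) :=
      isAffine_of_isAffineHom (CohB1.genLocus _ s).ι
    exact this
  exact h1.image_of_isOpenImmersion V.ι

end Aff

section Conv
variable {Y X P PL : Scheme.{u}} (q : X ⟶ Y) (L : X.Modules) [L.IsQuasicoherent]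
  {𝒮 : RelProj.QCGrAlg Y} {𝒮L : RelProj.QCGrAlg X} {j : L ⟶ 𝒮L.toModule}
  (hj : RelProj.IsGrSymAlg L 𝒮L j) (u : RelProj.QGrHom q 𝒮 𝒮L)
  {p : P ⟶ Y}
  {chart : ∀ (U : Y.Opens) (hU : IsAffineOpen U),
    (((p ⁻¹ᵁ U : P.Opens) : Scheme.{u}) ≅ Proj (𝒮.deg U hU))}
  {pL : PL ⟶ X}
  {chartL : ∀ (U : X.Opens) (hU : IsAffineOpen U),
    (((pL ⁻¹ᵁ U : PL.Opens) : Scheme.{u}) ≅ Proj (𝒮L.deg U hU))}

include hj in
/-- relative ampleness from homogeneous sections with affine non-vanishing loci -/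
theorem isRelAmple_of_sections [QuasiCompact q] (hL : PicF.IsInvertible L)
    (h : ∀ (U : Y.Opens) (_ : IsAffineOpen U) (x : X), x ∈ q ⁻¹ᵁ U →
      ∃ (n : ℕ) (_ : 0 < n) (σ : 𝒮L.presheaf.obj (op (q ⁻¹ᵁ U))),
        IsHomog 𝒮L (q ⁻¹ᵁ U) σ n ∧ x ∈ nz 𝒮L (q ⁻¹ᵁ U) n σ ∧
          IsAffineOpen (nz 𝒮L (q ⁻¹ᵁ U) n σ)) :
    RelAmple.IsRelAmple q L := by
  refine ⟨inferInstance, fun V => ?_⟩
  refine ⟨isInvertible_restrict _ hL,
    isCompact_iff_compactSpace.1 (q.isCompact_preimage V.2.isCompact), fun x => ?_⟩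
  obtain ⟨n, hn, σ, hσ, hx, haff⟩ := h V.1 V.2 x.1 x.2
  obtain ⟨n', rfl⟩ : ∃ n', n = n' + 1 := ⟨n - 1, by omega⟩
  obtain ⟨m, hm⟩ := exists_br_eq hj hL (n' + 1) hσ
  obtain ⟨s, hs⟩ := exists_restrict_section hL (q ⁻¹ᵁ V.1) (n' + 1) m
  have e : (q ⁻¹ᵁ V.1).ι ''ᵁ (CohB1.genLocus _ s) = nz 𝒮L (q ⁻¹ᵁ V.1) (n' + 1) σ := by
    rw [hs, gl_eq_nz hj hL, hm]
  refine ⟨n', s, ?_, ?_⟩
  · have hx' : x.1 ∈ (q ⁻¹ᵁ V.1).ι ''ᵁ (CohB1.genLocus _ s) := by rw [e]; exact hx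
    obtain ⟨x', hx's, hxx⟩ := hx'
    have : x' = x := (q ⁻¹ᵁ V.1).ι.isOpenEmbedding.injective hxx
    rw [← this]
    exact hx's
  · rw [← Scheme.Hom.isAffineOpen_iff_of_isOpenImmersion (q ⁻¹ᵁ V.1).ι, e]
    exact haff

include hj in
/-- if `r` is everywhere defined and factors through an open by an affine morphism, the
non-vanishing loci of sections of `𝒮` which are affine cover `X` -/
theorem exists_affine_nz (hL : PicF.IsInvertible L) (hP : RelProj.IsRelProj 𝒮 p chart)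
    (hPL : RelProj.IsRelProj 𝒮L pL chartL)
    (r : ((RelProj.domQ u pL chartL : PL.Opens) : Scheme.{u}) ⟶ P)
    (hr : RelProj.IsProjQMapOn u p chart pL chartL (RelProj.domQ u pL chartL) r)
    (hdom : RelProj.domQ u pL chartL = ⊤)
    (O : P.Opens) (r' : ((RelProj.domQ u pL chartL : PL.Opens) : Scheme.{u}) ⟶ O)
    (hr' : r' ≫ O.ι = r) [IsAffineHom r']
    (U : Y.Opens) (hU : IsAffineOpen U) (x : X) (hx : x ∈ q ⁻¹ᵁ U) (O₁ : P.Opens)
    (hO₁ : ∀ x'' : ((RelProj.domQ u pL chartL : PL.Opens) : Scheme.{u}),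
      pL ((RelProj.domQ u pL chartL).ι x'') = x → r x'' ∈ O₁) :
    ∃ (n : ℕ) (_ : 0 < n) (s : 𝒮.presheaf.obj (op U)) (_ : s ∈ 𝒮.deg U hU n),
      x ∈ nz 𝒮L (q ⁻¹ᵁ U) n ((u.app U).hom s) ∧
        IsAffineOpen (nz 𝒮L (q ⁻¹ᵁ U) n ((u.app U).hom s)) ∧
        (RelProj.emb p chart U hU) ''ᵁ Proj.basicOpen (𝒮.deg U hU) s ≤ O₁ := by
  have hiso : IsIso pL := main12143 L hj hL hPL
  obtain ⟨x', hx'⟩ := pL.homeomorph.surjective x
  have hx'd : x' ∈ RelProj.domQ u pL chartL := by rw [hdom]; trivial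
  let x'' : ((RelProj.domQ u pL chartL : PL.Opens) : Scheme.{u}) := ⟨x', hx'd⟩
  have hxx : pL ((RelProj.domQ u pL chartL).ι x'') = x := hx'
  have hcomp := comp_eq u p chart pL chartL hP hPL _ rfl r hr
  have hrU : r x'' ∈ Set.range (RelProj.emb p chart U hU) := by
    rw [RelCone3.range_emb]
    have h1 : (r ≫ p) x'' ∈ U := by
      rw [hcomp]
      show q (pL ((RelProj.domQ u pL chartL).ι x'')) ∈ U
      rw [hxx]; exact hx
    exact h1
  obtain ⟨z, hz⟩ := hrU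
  have hrO : r x'' ∈ O := by
    rw [← hr']
    exact (r' x'').2
  have hzO : z ∈ (RelProj.emb p chart U hU) ⁻¹ᵁ (O ⊓ O₁) := by
    change RelProj.emb p chart U hU z ∈ O ⊓ O₁
    rw [hz]; exact ⟨hrO, hO₁ x'' hxx⟩
  obtain ⟨n, hn, s, hs, hzs, hle⟩ := exists_basicOpen_le (𝒮.deg U hU) _ z hzO
  have hGO : (RelProj.emb p chart U hU) ''ᵁ Proj.basicOpen (𝒮.deg U hU) s ≤ O ⊓ O₁ := by
    rintro _ ⟨z', hz', rfl⟩
    exact hle hz'
  refine ⟨n, hn, s, hs, ?_, ?_, hGO.trans inf_le_right⟩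
  · have := (mem_preimage_iffU q L hj u hL hP hPL r hr hU hn s hs x'').1 ⟨z, hzs, hz⟩
    rwa [hxx] at this
  · exact isAffineOpen_nzU q L hj u hL hP hPL r hr O r' hr' hU hn s hs (hGO.trans inf_le_left)

end Conv

end Groth.Agent.Helper1.SymInvLocU
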