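import Mathlib
import Groth.Agent.Lib.Helper1.SymU9

set_option autoImplicit false
universe u

open CategoryTheory CategoryTheory.Limits AlgebraicGeometry TopologicalSpace Opposite

namespace Groth.Agent.Helper1.SymInvLocU

open Groth.Agent.Helper1.SymAlg Groth.Agent.Helper1.LGen Groth.Agent.Helper1.QcCech
open Groth.Agent.Helper1.ProjQ Groth.Agent.Helper1.SymInvLoc Groth.Agent.Helper1.SymBr
open Groth.Agent.Helper1.AmpleLib Groth.Agent.Helper1.TwForm Groth.Agent.Helper1.VT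
open Groth.Agent.Helper1.SubSh

section Conv
variable {Y X P PL : Scheme.{u}} (q : X ⟶ Y) (L : X.Modules) [L.IsQuasicoherent]
  {𝒮 : RelProj.QCGrAlg Y} {𝒮L : RelProj.QCGrAlg X} {j : L ⟶ 𝒮L.toModule}
  (hj : RelProj.IsGrSymAlg L 𝒮L j) (u : RelProj.QGrHom q 𝒮 𝒮L)
  {p : P ⟶ Y}
  {chart : ∀ (U : Y.Opens) (hU : IsAffineOpen U),
    (((p ⁻¹ᵁ U : P.Opens) : Scheme.{u}) ≅ Proj (𝒮.deg U hU))}
  {pL : PL ⟶ X}
  {chartL : ∀ (U : X.Opens) (hU : IsAffineOpen U),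
    (((pL ⁻¹ᵁ U : PL.Opens) : Scheme.{u}) ≅ Proj (𝒮L.deg U hU))}

include hj in
/-- if `r` is everywhere defined, basic opens of `P` inside a given open neighbourhood -/
theorem exists_nz_le (hL : PicF.IsInvertible L) (hP : RelProj.IsRelProj 𝒮 p chart)
    (hPL : RelProj.IsRelProj 𝒮L pL chartL)
    (r : ((RelProj.domQ u pL chartL : PL.Opens) : Scheme.{u}) ⟶ P)
    (hr : RelProj.IsProjQMapOn u p chart pL chartL (RelProj.domQ u pL chartL) r)
    (hdom : RelProj.domQ u pL chartL = ⊤)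
    (U : Y.Opens) (hU : IsAffineOpen U) (x : X) (hx : x ∈ q ⁻¹ᵁ U) (O₁ : P.Opens)
    (hO₁ : ∀ x'' : ((RelProj.domQ u pL chartL : PL.Opens) : Scheme.{u}),
      pL ((RelProj.domQ u pL chartL).ι x'') = x → r x'' ∈ O₁) :
    ∃ (n : ℕ) (_ : 0 < n) (s : 𝒮.presheaf.obj (op U)) (_ : s ∈ 𝒮.deg U hU n),
      x ∈ nz 𝒮L (q ⁻¹ᵁ U) n ((u.app U).hom s) ∧
        (RelProj.emb p chart U hU) ''ᵁ Proj.basicOpen (𝒮.deg U hU) s ≤ O₁ := by
  have hiso : IsIso pL := main12143 L hj hL hPL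
  obtain ⟨x', hx'⟩ := pL.homeomorph.surjective x
  have hx'd : x' ∈ RelProj.domQ u pL chartL := by rw [hdom]; trivial
  let x'' : ((RelProj.domQ u pL chartL : PL.Opens) : Scheme.{u}) := ⟨x', hx'd⟩
  have hxx : pL ((RelProj.domQ u pL chartL).ι x'') = x := hx'
  have hcomp := comp_eq u p chart pL chartL hP hPL _ rfl r hr
  have hrU : r x'' ∈ Set.range (RelProj.emb p chart U hU) := by
    rw [RelCone3.range_emb]
    have h1 : (r ≫ p) x'' ∈ U := by
      rw [hcomp]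
      show q (pL ((RelProj.domQ u pL chartL).ι x'')) ∈ U
      rw [hxx]; exact hx
    exact h1
  obtain ⟨z, hz⟩ := hrU
  have hzO : z ∈ (RelProj.emb p chart U hU) ⁻¹ᵁ O₁ := by
    change RelProj.emb p chart U hU z ∈ O₁
    rw [hz]; exact hO₁ x'' hxx
  obtain ⟨n, hn, s, hs, hzs, hle⟩ := exists_basicOpen_le (𝒮.deg U hU) _ z hzO
  have hGO : (RelProj.emb p chart U hU) ''ᵁ Proj.basicOpen (𝒮.deg U hU) s ≤ O₁ := by
    rintro _ ⟨z', hz', rfl⟩
    exact hle hz'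
  refine ⟨n, hn, s, hs, ?_, hGO⟩
  have := (mem_preimage_iffU q L hj u hL hP hPL r hr hU hn s hs x'').1 ⟨z, hzs, hz⟩
  rwa [hxx] at this

include hj in
/-- **S12680**: if `r` is everywhere defined and a topological embedding, `L` is relatively ample -/
theorem main12680 [QuasiCompact q] (hL : PicF.IsInvertible L) (hP : RelProj.IsRelProj 𝒮 p chart)
    (hPL : RelProj.IsRelProj 𝒮L pL chartL)
    (r : ((RelProj.domQ u pL chartL : PL.Opens) : Scheme.{u}) ⟶ P)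
    (hr : RelProj.IsProjQMapOn u p chart pL chartL (RelProj.domQ u pL chartL) r)
    (hdom : RelProj.domQ u pL chartL = ⊤) (hemb : Topology.IsEmbedding r.base) :
    RelAmple.IsRelAmple q L := by
  have hiso : IsIso pL := main12143 L hj hL hPL
  refine isRelAmple_of_sections q L hj hL ?_
  intro U hU x hx
  -- affine neighbourhood inside the preimage
  obtain ⟨V, hV, hxV, hVU⟩ : ∃ V : X.Opens, IsAffineOpen V ∧ x ∈ V ∧ V ≤ q ⁻¹ᵁ U := by
    obtain ⟨_, ⟨V, hV, rfl⟩, hxV, hVU⟩ :=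
      (X.isBasis_affineOpens).exists_subset_of_mem_open hx (q ⁻¹ᵁ U).2
    exact ⟨V, hV, hxV, hVU⟩
  -- the corresponding open of `P`
  let W : ((RelProj.domQ u pL chartL : PL.Opens) : Scheme.{u}).Opens :=
    ((RelProj.domQ u pL chartL).ι ≫ pL) ⁻¹ᵁ V
  obtain ⟨O₁s, hO₁s, hO₁W⟩ := hemb.isInducing.isOpen_iff.1 W.2
  let O₁ : P.Opens := ⟨O₁s, hO₁s⟩
  have hmemW : ∀ x'' : ((RelProj.domQ u pL chartL : PL.Opens) : Scheme.{u}),
      r x'' ∈ O₁ ↔ pL ((RelProj.domQ u pL chartL).ι x'') ∈ V := by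
    intro x''
    have : x'' ∈ r.base ⁻¹' O₁s ↔ x'' ∈ (W : Set _) := by rw [hO₁W]; rfl
    exact this
  obtain ⟨n, hn, s, hs, hxs, hle⟩ := exists_nz_le q L hj u hL hP hPL r hr hdom U hU x hx O₁
    (fun x'' hx'' => (hmemW x'').2 (by rw [hx'']; exact hxV))
  have hσ := isHomog_app u U hU hs
  refine ⟨n, hn, (u.app U).hom s, hσ, hxs, ?_⟩
  have hnzV : nz 𝒮L (q ⁻¹ᵁ U) n ((u.app U).hom s) ≤ V := by
    intro y hy
    obtain ⟨y', hy'⟩ := pL.homeomorph.surjective y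
    have hy'd : y' ∈ RelProj.domQ u pL chartL := by rw [hdom]; trivial
    let y'' : ((RelProj.domQ u pL chartL : PL.Opens) : Scheme.{u}) := ⟨y', hy'd⟩
    have hyy : pL ((RelProj.domQ u pL chartL).ι y'') = y := hy'
    have h1 := (mem_preimage_iffU q L hj u hL hP hPL r hr hU hn s hs y'').2 (by rw [hyy]; exact hy)
    have h2 := (hmemW y'').1 (hle h1)
    rwa [hyy] at h2
  have h3 : nz 𝒮L (q ⁻¹ᵁ U) n ((u.app U).hom s) = nz 𝒮L V n (rs 𝒮L hVU ((u.app U).hom s)) := by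
    rw [nz_res hVU]
    exact (inf_eq_left.2 hnzV).symm
  rw [h3]
  exact isAffineOpen_nz_of_isAffineOpen hj hL hV (hσ.res hVU)

end Conv

end Groth.Agent.Helper1.SymInvLocU
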