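import Mathlib
import Groth.Agent.Lib.Helper1.SymU10

set_option autoImplicit false
universe u

open CategoryTheory CategoryTheory.Limits AlgebraicGeometry TopologicalSpace Opposite

namespace Groth.Agent.Helper1.SymInvLocU

open Groth.Agent.Helper1.SymAlg Groth.Agent.Helper1.LGen Groth.Agent.Helper1.QcCech
open Groth.Agent.Helper1.ProjQ Groth.Agent.Helper1.SymInvLoc Groth.Agent.Helper1.SymBr
open Groth.Agent.Helper1.AmpleLib Groth.Agent.Helper1.TwForm Groth.Agent.Helper1.VT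
open Groth.Agent.Helper1.SubSh

section Imm
variable {Y X P PL : Scheme.{u}} (q : X ⟶ Y) (L : X.Modules) [L.IsQuasicoherent]
  {𝒮 : RelProj.QCGrAlg Y} {𝒮L : RelProj.QCGrAlg X} {j : L ⟶ 𝒮L.toModule}
  (hj : RelProj.IsGrSymAlg L 𝒮L j) (u : RelProj.QGrHom q 𝒮 𝒮L)
  {p : P ⟶ Y}
  {chart : ∀ (U : Y.Opens) (hU : IsAffineOpen U),
    (((p ⁻¹ᵁ U : P.Opens) : Scheme.{u}) ≅ Proj (𝒮.deg U hU))}
  {pL : PL ⟶ X}
  {chartL : ∀ (U : X.Opens) (hU : IsAffineOpen U),
    (((pL ⁻¹ᵁ U : PL.Opens) : Scheme.{u}) ≅ Proj (𝒮L.deg U hU))}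

/-- the local immersion criterion for `r_{L,ψ}` at the section `s` over the affine open `U` -/
def ImmCritFor (U : Y.Opens) (hU : IsAffineOpen U) (n : ℕ) (s : 𝒮.presheaf.obj (op U)) : Prop :=
  ∃ hW : IsAffineOpen (nz 𝒮L (q ⁻¹ᵁ U) n ((u.app U).hom s)),
    ∀ t : Γ(X, nz 𝒮L (q ⁻¹ᵁ U) n ((u.app U).hom s)),
      ∃ (m : ℕ) (_ : 0 < m) (s' : 𝒮.presheaf.obj (op U)) (_ : s' ∈ 𝒮.deg U hU (m * n)),
        (𝒮L.str.app (op (nz 𝒮L (q ⁻¹ᵁ U) n ((u.app U).hom s)))).hom t *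
          (u.gradedAt U hU _ hW nz_le s) ^ m = u.gradedAt U hU _ hW nz_le s'

include hj in
/-- necessity: if `r` is everywhere defined and an immersion, the local criterion holds around
every point, over every affine open of the base -/
theorem immCrit_of_isImmersion (hL : PicF.IsInvertible L) (hP : RelProj.IsRelProj 𝒮 p chart)
    (hPL : RelProj.IsRelProj 𝒮L pL chartL)
    (r : ((RelProj.domQ u pL chartL : PL.Opens) : Scheme.{u}) ⟶ P)
    (hr : RelProj.IsProjQMapOn u p chart pL chartL (RelProj.domQ u pL chartL) r)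
    (hdom : RelProj.domQ u pL chartL = ⊤) [IsImmersion r]
    (U : Y.Opens) (hU : IsAffineOpen U) (x : X) (hx : x ∈ q ⁻¹ᵁ U) :
    ∃ (n : ℕ) (_ : 0 < n) (s : 𝒮.presheaf.obj (op U)) (_ : s ∈ 𝒮.deg U hU n),
      x ∈ nz 𝒮L (q ⁻¹ᵁ U) n ((u.app U).hom s) ∧ ImmCritFor q u U hU n s := by
  have : IsAffineHom r.liftCoborder := inferInstance
  obtain ⟨n, hn, s, hs, hxs, haff, hle⟩ :=
    exists_affine_nz q L hj u hL hP hPL r hr hdom r.coborderRange r.liftCoborder
      r.liftCoborder_ι U hU x hx r.coborderRange (fun x'' _ => by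
        have : r x'' = r.coborderRange.ι (r.liftCoborder x'') := by
          rw [← Scheme.Hom.comp_apply, r.liftCoborder_ι]
        rw [this]
        exact (r.liftCoborder x'').2)
  refine ⟨n, hn, s, hs, hxs, haff, ?_⟩
  have hci := chart_propU q L hj u @IsClosedImmersion hL hP hPL r hr r.coborderRange
    r.liftCoborder r.liftCoborder_ι inferInstance hU hn s hs hle haff
  have hsurj := @surjective_of_isClosedImmersion_SpecMap _ _ _ hci
  have hnot := hnot_of_eq q L hj u hU (nz 𝒮L (q ⁻¹ᵁ U) n ((u.app U).hom s)) haff nz_le s rfl hPL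
  have hbij := cmp_bijective q L hj u hU (nz 𝒮L (q ⁻¹ᵁ U) n ((u.app U).hom s)) haff nz_le hn s
    hs hnot hL hPL
  exact (cond3_iff q u hU (nz 𝒮L (q ⁻¹ᵁ U) n ((u.app U).hom s)) haff nz_le hn s hs hbij).2 hsurj

include hj in
/-- sufficiency: the local criterion around every point implies that `r` is everywhere defined
and an immersion -/
theorem isImmersion_of_immCrit (hL : PicF.IsInvertible L) (hP : RelProj.IsRelProj 𝒮 p chart)
    (hPL : RelProj.IsRelProj 𝒮L pL chartL)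
    (r : ((RelProj.domQ u pL chartL : PL.Opens) : Scheme.{u}) ⟶ P)
    (hr : RelProj.IsProjQMapOn u p chart pL chartL (RelProj.domQ u pL chartL) r)
    (h : ∀ x : X, ∃ (U : Y.Opens) (hU : IsAffineOpen U) (n : ℕ) (_ : 0 < n)
      (s : 𝒮.presheaf.obj (op U)) (_ : s ∈ 𝒮.deg U hU n),
      x ∈ nz 𝒮L (q ⁻¹ᵁ U) n ((u.app U).hom s) ∧ ImmCritFor q u U hU n s) :
    RelProj.domQ u pL chartL = ⊤ ∧ IsImmersion r := by
  have hdom : RelProj.domQ u pL chartL = ⊤ := by
    apply domQ_eq_top_of_cover q L hj u hPL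
    intro x
    obtain ⟨U, hU, n, hn, s, hs, hx, -⟩ := h x
    exact ⟨U, hU, n, hn, s, hs, hx⟩
  refine ⟨hdom, ?_⟩
  choose U hU n hn s hs hx hcrit using h
  have h3 : (⨆ a, nz 𝒮L (q ⁻¹ᵁ U a) (n a) ((u.app (U a)).hom (s a))) = ⊤ :=
    eq_top_iff.2 fun x _ => Opens.mem_iSup.2 ⟨x, hx x⟩
  obtain ⟨r', hr', hci⟩ := local_propU q L hj u @IsClosedImmersion hL hP hPL r hr X U hU n s
    (fun a => ⟨hn a, hs a⟩) h3 (fun a => (hcrit a).1) (fun a => by
      apply IsClosedImmersion.spec_of_surjective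
      obtain ⟨haff, h5⟩ := hcrit a
      have hnot := hnot_of_eq q L hj u (hU a)
        (nz 𝒮L (q ⁻¹ᵁ U a) (n a) ((u.app (U a)).hom (s a))) haff nz_le (s a) rfl hPL
      have hbij := cmp_bijective q L hj u (hU a)
        (nz 𝒮L (q ⁻¹ᵁ U a) (n a) ((u.app (U a)).hom (s a))) haff nz_le (hn a) (s a)
        (hs a) hnot hL hPL
      exact (cond3_iff q u (hU a) (nz 𝒮L (q ⁻¹ᵁ U a) (n a) ((u.app (U a)).hom (s a))) haff nz_le
        (hn a) (s a) (hs a) hbij).1 h5)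
  rw [← hr']
  infer_instance

end Imm

end Groth.Agent.Helper1.SymInvLocU
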