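import Mathlib
import Groth.Agent.Lib.Helper1.SymU11

set_option autoImplicit false
universe u

open CategoryTheory CategoryTheory.Limits AlgebraicGeometry TopologicalSpace Opposite

namespace Groth.Agent.Helper1.SymInvLocU

open Groth.Agent.Helper1.SymAlg Groth.Agent.Helper1.LGen Groth.Agent.Helper1.QcCech
open Groth.Agent.Helper1.ProjQ Groth.Agent.Helper1.SymInvLoc Groth.Agent.Helper1.SymBr

section Transfer
variable {Y X : Scheme.{u}} (q : X ⟶ Y) {𝒮L : RelProj.QCGrAlg X}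

/-- section-level form of the local immersion criterion -/
def ImmCritSec (U : Y.Opens) (n : ℕ) (σ : 𝒮L.presheaf.obj (op (q ⁻¹ᵁ U)))
    (T : ℕ → Set (𝒮L.presheaf.obj (op (q ⁻¹ᵁ U)))) : Prop :=
  IsAffineOpen (nz 𝒮L (q ⁻¹ᵁ U) n σ) ∧
    ∀ t : Γ(X, nz 𝒮L (q ⁻¹ᵁ U) n σ), ∃ (m : ℕ) (_ : 0 < m), ∃ σ' ∈ T (m * n),
      (𝒮L.str.app (op (nz 𝒮L (q ⁻¹ᵁ U) n σ))).hom t * (rs 𝒮L nz_le σ) ^ m = rs 𝒮L nz_le σ'

variable {q}

theorem ImmCritSec.mono {U : Y.Opens} {n : ℕ} {σ : 𝒮L.presheaf.obj (op (q ⁻¹ᵁ U))}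
    {T T' : ℕ → Set (𝒮L.presheaf.obj (op (q ⁻¹ᵁ U)))} (h : ∀ k, T k ⊆ T' k)
    (hc : ImmCritSec q U n σ T) : ImmCritSec q U n σ T' := by
  obtain ⟨hW, h5⟩ := hc
  refine ⟨hW, fun t => ?_⟩
  obtain ⟨m, hm, σ', hσ', e⟩ := h5 t
  exact ⟨m, hm, σ', h _ hσ', e⟩

variable (q)

theorem immCritFor_iff {𝒮 : RelProj.QCGrAlg Y} (u : RelProj.QGrHom q 𝒮 𝒮L) (U : Y.Opens)
    (hU : IsAffineOpen U) (n : ℕ) (s : 𝒮.presheaf.obj (op U)) :
    ImmCritFor q u U hU n s ↔ ImmCritSec q U n ((u.app U).hom s)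
      (fun k => (u.app U).hom '' (𝒮.deg U hU k : Set (𝒮.presheaf.obj (op U)))) := by
  constructor
  · rintro ⟨hW, h5⟩
    refine ⟨hW, fun t => ?_⟩
    obtain ⟨m, hm, s', hs', e⟩ := h5 t
    exact ⟨m, hm, _, ⟨s', hs', rfl⟩, e⟩
  · rintro ⟨hW, h5⟩
    refine ⟨hW, fun t => ?_⟩
    obtain ⟨m, hm, _, ⟨s', hs', rfl⟩, e⟩ := h5 t
    exact ⟨m, hm, s', hs', e⟩

/-- transfer of the criterion along a graded homomorphism of the algebras on the base -/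
theorem ImmCritFor.map {𝒜 ℬ : RelProj.QCGrAlg Y} (θ : 𝒜.toQCAlg ⟶ ℬ.toQCAlg)
    (hθ : RelProj.IsGradedHom θ) (uA : RelProj.QGrHom q 𝒜 𝒮L) (uB : RelProj.QGrHom q ℬ 𝒮L)
    (h : ∀ U : Y.Opens, uA.app U = θ.hom.app (op U) ≫ uB.app U)
    {U : Y.Opens} {hU : IsAffineOpen U} {n : ℕ} {s : 𝒜.presheaf.obj (op U)}
    (hc : ImmCritFor q uA U hU n s) :
    ImmCritFor q uB U hU n ((θ.hom.app (op U)).hom s) := by
  rw [immCritFor_iff] at hc ⊢
  have e : ∀ a, (uB.app U).hom ((θ.hom.app (op U)).hom a) = (uA.app U).hom a := by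
    intro a; rw [h]; rfl
  rw [e]
  apply hc.mono
  rintro k _ ⟨a, ha, rfl⟩
  exact ⟨(θ.hom.app (op U)).hom a, hθ U hU k a ha, e a⟩

end Transfer

section Colim
variable {Y X : Scheme.{u}} (q : X ⟶ Y) {𝒮 : RelProj.QCGrAlg Y} {𝒮L : RelProj.QCGrAlg X}
  (u : RelProj.QGrHom q 𝒮 𝒮L)
  {Λ : Type u} [Preorder Λ] [IsDirected Λ (· ≤ ·)] [Nonempty Λ]
  (𝒮i : Λ → RelProj.QCGrAlg Y) (φ : ∀ i, (𝒮i i).toQCAlg ⟶ 𝒮.toQCAlg)
  (hφ : ∀ i, RelProj.IsGradedHom (φ i))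
  (t : ∀ i j, i ≤ j → ((𝒮i i).toQCAlg ⟶ (𝒮i j).toQCAlg))
  (ht : ∀ i j (h : i ≤ j), RelProj.IsGradedHom (t i j h))
  (hφt : ∀ i j (h : i ≤ j), t i j h ≫ φ j = φ i)
  (hsurj : ∀ (U : Y.Opens), IsAffineOpen U → ∀ x : 𝒮.presheaf.obj (op U),
    ∃ (i : Λ) (y : (𝒮i i).presheaf.obj (op U)), ((φ i).hom.app (op U)).hom y = x)
  (ui : ∀ i, RelProj.QGrHom q (𝒮i i) 𝒮L)
  (hui : ∀ i (U : Y.Opens), (ui i).app U = (φ i).hom.app (op U) ≫ u.app U)

include hφ hsurj in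
/-- homogeneous elements lift to homogeneous elements of some stage -/
theorem exists_homog_lift (U : Y.Opens) (hU : IsAffineOpen U) {k : ℕ} {x : 𝒮.presheaf.obj (op U)}
    (hx : x ∈ 𝒮.deg U hU k) :
    ∃ (i : Λ) (y : (𝒮i i).presheaf.obj (op U)), y ∈ (𝒮i i).deg U hU k ∧
      ((φ i).hom.app (op U)).hom y = x := by
  classical
  obtain ⟨i, y0, hy0⟩ := hsurj U hU x
  refine ⟨i, (DirectSum.decompose ((𝒮i i).deg U hU) y0 k : (𝒮i i).presheaf.obj (op U)),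
    SetLike.coe_mem _, ?_⟩
  have h1 := GradedRingHom.map_directSumDecompose ((𝒮i i).deg U hU) (𝒮.deg U hU)
    (RelProj.gradedHomAt (φ i) (hφ i) U hU) (x := y0) (i := k)
  have h2 : (RelProj.gradedHomAt (φ i) (hφ i) U hU) y0 = x := hy0
  rw [h2, DirectSum.decompose_of_mem_same _ hx] at h1
  exact h1

include hφt in
theorem φ_t_apply (i j : Λ) (h : i ≤ j) (U : Y.Opens) (y : (𝒮i i).presheaf.obj (op U)) :
    ((φ j).hom.app (op U)).hom (((t i j h).hom.app (op U)).hom y) =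
      ((φ i).hom.app (op U)).hom y := by
  rw [← hφt i j h]
  rfl

include hφt hui in
theorem ui_t (i j : Λ) (h : i ≤ j) (U : Y.Opens) :
    (ui i).app U = (t i j h).hom.app (op U) ≫ (ui j).app U := by
  rw [hui i, hui j, ← hφt i j h]
  rfl

/-- the structure-map compatibility of a graded `q`-morphism on sections, after restriction -/
theorem rs_app_str {𝒜 : RelProj.QCGrAlg Y} (v : RelProj.QGrHom q 𝒜 𝒮L) (U : Y.Opens)
    {W : X.Opens} (hW : W ≤ q ⁻¹ᵁ U) (a : Γ(Y, U)) :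
    rs 𝒮L hW ((v.app U).hom ((𝒜.str.app (op U)).hom a)) =
      (𝒮L.str.app (op W)).hom ((q.appLE U W hW).hom a) := by
  have h1 : (v.app U).hom ((𝒜.str.app (op U)).hom a) =
      (𝒮L.str.app (op (q ⁻¹ᵁ U))).hom ((q.app U).hom a) :=
    congrArg (fun ψ => ψ.hom a) (v.str_app U)
  rw [h1, rs_str]
  rfl

include hφ ht hφt hsurj hui in
/-- the local criterion for the colimit descends to some stage (finite type case) -/
theorem exists_index [LocallyOfFiniteType q] (U : Y.Opens) (hU : IsAffineOpen U) {n : ℕ}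
    (s : 𝒮.presheaf.obj (op U)) (hs : s ∈ 𝒮.deg U hU n) (hc : ImmCritFor q u U hU n s) :
    ∃ (i : Λ) (si : (𝒮i i).presheaf.obj (op U)), si ∈ (𝒮i i).deg U hU n ∧
      ((φ i).hom.app (op U)).hom si = s ∧ ImmCritFor q (ui i) U hU n si := by
  classical
  obtain ⟨hW, h5⟩ := hc
  set σ := (u.app U).hom s with hσ
  set W := nz 𝒮L (q ⁻¹ᵁ U) n σ with hWdef
  have hft := LocallyOfFiniteType.finiteType_appLE q hU hW nz_le
  let alg : Algebra Γ(Y, U) Γ(X, W) := (q.appLE U W nz_le).hom.toAlgebra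
  obtain ⟨G, hG⟩ := (show Algebra.FiniteType Γ(Y, U) Γ(X, W) from hft).out
  choose m hm s' hs' he using h5
  have hl := fun g => exists_homog_lift 𝒮i φ hφ hsurj U hU (hs' g)
  choose ig yg hyg hφyg using hl
  obtain ⟨i0, y0, hy0, hφy0⟩ := exists_homog_lift 𝒮i φ hφ hsurj U hU hs
  obtain ⟨i, hi⟩ := Finset.exists_le (insert i0 (G.image ig))
  have hi0 : i0 ≤ i := hi i0 (Finset.mem_insert_self _ _)
  have hig : ∀ g ∈ G, ig g ≤ i := fun g hg =>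
    hi _ (Finset.mem_insert_of_mem (Finset.mem_image_of_mem _ hg))
  set si := ((t i0 i hi0).hom.app (op U)).hom y0 with hsi
  have hsi_mem : si ∈ (𝒮i i).deg U hU n := ht i0 i hi0 U hU n y0 hy0
  have hφsi : ((φ i).hom.app (op U)).hom si = s := by
    rw [hsi, φ_t_apply 𝒮i φ t hφt]; exact hφy0
  have hu_i : ∀ a, ((ui i).app U).hom a = (u.app U).hom (((φ i).hom.app (op U)).hom a) := by
    intro a; rw [hui i]; rfl
  refine ⟨i, si, hsi_mem, hφsi, ?_⟩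
  rw [immCritFor_iff]
  have e : ((ui i).app U).hom si = σ := by rw [hu_i, hφsi]
  rw [e]
  refine ⟨hW, ?_⟩
  -- the subalgebra of good functions
  let good : Γ(X, W) → Prop := fun t' => ∃ (m : ℕ) (_ : 0 < m),
    ∃ σ' ∈ ((ui i).app U).hom '' ((𝒮i i).deg U hU (m * n) : Set ((𝒮i i).presheaf.obj (op U))),
      (𝒮L.str.app (op W)).hom t' * (rs 𝒮L nz_le σ) ^ m = rs 𝒮L nz_le σ'
  have hrsσ : rs 𝒮L (nz_le : W ≤ q ⁻¹ᵁ U) σ = rs 𝒮L nz_le (((ui i).app U).hom si) := by rw [e]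
  have hAlg : ∀ a : Γ(Y, U), good (algebraMap Γ(Y, U) Γ(X, W) a) := by
    intro a
    refine ⟨1, one_pos, _, ⟨((𝒮i i).str.app (op U)).hom a * si, ?_, rfl⟩, ?_⟩
    · rw [one_mul]
      have := SetLike.mul_mem_graded ((𝒮i i).str_mem U hU a) hsi_mem
      rwa [zero_add] at this
    · rw [pow_one, map_mul, map_mul, rs_app_str q (ui i) U nz_le a, hrsσ]
      rfl
  have hmul : ∀ t₁ t₂, good t₁ → good t₂ → good (t₁ * t₂) := by
    rintro t₁ t₂ ⟨m₁, hm₁, _, ⟨a₁, ha₁, rfl⟩, e₁⟩ ⟨m₂, hm₂, _, ⟨a₂, ha₂, rfl⟩, e₂⟩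
    refine ⟨m₁ + m₂, by omega, _, ⟨a₁ * a₂, ?_, rfl⟩, ?_⟩
    · have := SetLike.mul_mem_graded ha₁ ha₂
      rwa [← add_mul] at this
    · rw [map_mul, map_mul, map_mul, ← e₁, ← e₂, pow_add]
      ring
  have hadd : ∀ t₁ t₂, good t₁ → good t₂ → good (t₁ + t₂) := by
    rintro t₁ t₂ ⟨m₁, hm₁, _, ⟨a₁, ha₁, rfl⟩, e₁⟩ ⟨m₂, hm₂, _, ⟨a₂, ha₂, rfl⟩, e₂⟩
    refine ⟨m₁ + m₂, by omega, _, ⟨a₁ * si ^ m₂ + a₂ * si ^ m₁, ?_, rfl⟩, ?_⟩
    · apply AddSubgroup.add_mem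
      · have := SetLike.mul_mem_graded ha₁ (SetLike.pow_mem_graded m₂ hsi_mem)
        rwa [smul_eq_mul, ← add_mul] at this
      · have := SetLike.mul_mem_graded ha₂ (SetLike.pow_mem_graded m₁ hsi_mem)
        rwa [smul_eq_mul, ← add_mul, add_comm m₂ m₁] at this
    · simp only [map_add, map_mul, map_pow]
      rw [← e₁, ← e₂, ← hrsσ, pow_add]
      ring
  let Tsub : Subalgebra Γ(Y, U) Γ(X, W) :=
    { carrier := {t' | good t'}
      mul_mem' := fun {a b} ha hb => hmul a b ha hb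
      add_mem' := fun {a b} ha hb => hadd a b ha hb
      algebraMap_mem' := hAlg }
  have hGsub : (G : Set Γ(X, W)) ⊆ Tsub := by
    intro g hg
    have hgG : g ∈ G := hg
    refine ⟨m g, hm g, _, ⟨((t (ig g) i (hig g hgG)).hom.app (op U)).hom (yg g),
      ht _ _ _ U hU _ _ (hyg g), rfl⟩, ?_⟩
    have h1 : ((ui i).app U).hom (((t (ig g) i (hig g hgG)).hom.app (op U)).hom (yg g)) =
        (u.app U).hom (s' g) := by
      rw [hu_i, φ_t_apply 𝒮i φ t hφt, hφyg]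
    rw [h1]
    exact he g
  have htop : (⊤ : Subalgebra Γ(Y, U) Γ(X, W)) ≤ Tsub := by
    rw [← hG]
    exact Algebra.adjoin_le hGsub
  intro t'
  exact htop (Algebra.mem_top : t' ∈ (⊤ : Subalgebra Γ(Y, U) Γ(X, W)))

end Colim

section Main
variable {Y X PL : Scheme.{u}} (q : X ⟶ Y) (L : X.Modules) [L.IsQuasicoherent]
  {𝒮L : RelProj.QCGrAlg X} {j : L ⟶ 𝒮L.toModule}
  (hj : RelProj.IsGrSymAlg L 𝒮L j)
  {pL : PL ⟶ X}
  {chartL : ∀ (U : X.Opens) (hU : IsAffineOpen U),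
    (((pL ⁻¹ᵁ U : PL.Opens) : Scheme.{u}) ≅ Proj (𝒮L.deg U hU))}

include hj in
/-- being everywhere defined and an immersion passes along graded homomorphisms of the algebras
on the base -/
theorem isImmersion_of_map (hL : PicF.IsInvertible L) (hPL : RelProj.IsRelProj 𝒮L pL chartL)
    {𝒜 ℬ : RelProj.QCGrAlg Y} (θ : 𝒜.toQCAlg ⟶ ℬ.toQCAlg)
    (hθ : RelProj.IsGradedHom θ) (uA : RelProj.QGrHom q 𝒜 𝒮L) (uB : RelProj.QGrHom q ℬ 𝒮L)
    (h : ∀ U : Y.Opens, uA.app U = θ.hom.app (op U) ≫ uB.app U)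
    {PA PB : Scheme.{u}} {pA : PA ⟶ Y}
    {chartA : ∀ (U : Y.Opens) (hU : IsAffineOpen U),
      (((pA ⁻¹ᵁ U : PA.Opens) : Scheme.{u}) ≅ Proj (𝒜.deg U hU))}
    (hPA : RelProj.IsRelProj 𝒜 pA chartA)
    {pB : PB ⟶ Y}
    {chartB : ∀ (U : Y.Opens) (hU : IsAffineOpen U),
      (((pB ⁻¹ᵁ U : PB.Opens) : Scheme.{u}) ≅ Proj (ℬ.deg U hU))}
    (hPB : RelProj.IsRelProj ℬ pB chartB)
    (rA : ((RelProj.domQ uA pL chartL : PL.Opens) : Scheme.{u}) ⟶ PA)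
    (hrA : RelProj.IsProjQMapOn uA pA chartA pL chartL (RelProj.domQ uA pL chartL) rA)
    (rB : ((RelProj.domQ uB pL chartL : PL.Opens) : Scheme.{u}) ⟶ PB)
    (hrB : RelProj.IsProjQMapOn uB pB chartB pL chartL (RelProj.domQ uB pL chartL) rB)
    (hA : RelProj.domQ uA pL chartL = ⊤ ∧ IsImmersion rA) :
    RelProj.domQ uB pL chartL = ⊤ ∧ IsImmersion rB := by
  obtain ⟨hdomA, himmA⟩ := hA
  apply isImmersion_of_immCrit q L hj uB hL hPB hPL rB hrB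
  intro x
  obtain ⟨U, hU, hxU⟩ := RP6.exists_affine_mem (q x)
  obtain ⟨n, hn, s, hs, hx, hc⟩ :=
    immCrit_of_isImmersion q L hj uA hL hPA hPL rA hrA hdomA U hU x hxU
  have e : (uB.app U).hom ((θ.hom.app (op U)).hom s) = (uA.app U).hom s := by rw [h]; rfl
  refine ⟨U, hU, n, hn, (θ.hom.app (op U)).hom s, hθ U hU n s hs, ?_, hc.map q θ hθ uA uB h⟩
  rw [e]; exact hx

include hj in
/-- **S12161** -/
theorem main12161 {P : Scheme.{u}} (hL : PicF.IsInvertible L)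
    (𝒮 : RelProj.QCGrAlg Y) (u : RelProj.QGrHom q 𝒮 𝒮L)
    (p : P ⟶ Y) (chart : ∀ (U : Y.Opens) (hU : IsAffineOpen U),
      (((p ⁻¹ᵁ U : P.Opens) : Scheme.{u}) ≅ Proj (𝒮.deg U hU)))
    (hP : RelProj.IsRelProj 𝒮 p chart)
    (hPL : RelProj.IsRelProj 𝒮L pL chartL)
    [CompactSpace Y] [QuasiCompact q] [LocallyOfFiniteType q]
    (r : ((RelProj.domQ u pL chartL : PL.Opens) : Scheme.{u}) ⟶ P)
    (hr : RelProj.IsProjQMapOn u p chart pL chartL (RelProj.domQ u pL chartL) r)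
    (Λ : Type u) [Preorder Λ] [IsDirected Λ (· ≤ ·)] [Nonempty Λ]
    (𝒮i : Λ → RelProj.QCGrAlg Y) (φ : ∀ i, (𝒮i i).toQCAlg ⟶ 𝒮.toQCAlg)
    (hφ : ∀ i, RelProj.IsGradedHom (φ i))
    (t : ∀ i j, i ≤ j → ((𝒮i i).toQCAlg ⟶ (𝒮i j).toQCAlg))
    (ht : ∀ i j (h : i ≤ j), RelProj.IsGradedHom (t i j h))
    (hφt : ∀ i j (h : i ≤ j), t i j h ≫ φ j = φ i)
    (hsurj : ∀ (U : Y.Opens), IsAffineOpen U → ∀ x : 𝒮.presheaf.obj (op U),
      ∃ (i : Λ) (y : (𝒮i i).presheaf.obj (op U)), ((φ i).hom.app (op U)).hom y = x)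
    (ui : ∀ i, RelProj.QGrHom q (𝒮i i) 𝒮L)
    (hui : ∀ i (U : Y.Opens), (ui i).app U = (φ i).hom.app (op U) ≫ u.app U)
    (Pi : Λ → Scheme.{u}) (pi : ∀ i, Pi i ⟶ Y)
    (charti : ∀ i (U : Y.Opens) (hU : IsAffineOpen U),
      ((((pi i) ⁻¹ᵁ U : (Pi i).Opens) : Scheme.{u}) ≅ Proj ((𝒮i i).deg U hU)))
    (hPi : ∀ i, RelProj.IsRelProj (𝒮i i) (pi i) (charti i))
    (ri : ∀ i, ((RelProj.domQ (ui i) pL chartL : PL.Opens) : Scheme.{u}) ⟶ Pi i)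
    (hri : ∀ i, RelProj.IsProjQMapOn (ui i) (pi i) (charti i) pL chartL
      (RelProj.domQ (ui i) pL chartL) (ri i)) :
    ((RelProj.domQ u pL chartL = ⊤ ∧ IsImmersion r) ↔
        ∃ i, RelProj.domQ (ui i) pL chartL = ⊤ ∧ IsImmersion (ri i)) ∧
      ∀ i, (RelProj.domQ (ui i) pL chartL = ⊤ ∧ IsImmersion (ri i)) →
        ∀ j, i ≤ j → RelProj.domQ (ui j) pL chartL = ⊤ ∧ IsImmersion (ri j) := by
  classical
  refine ⟨⟨?_, ?_⟩, ?_⟩
  · rintro ⟨hdom, himm⟩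
    have hXc : CompactSpace X := QuasiCompact.compactSpace_of_compactSpace q
    -- local data at every point
    have hloc : ∀ x : X, ∃ (U : Y.Opens) (hU : IsAffineOpen U) (n : ℕ) (_ : 0 < n) (i : Λ)
        (si : (𝒮i i).presheaf.obj (op U)), si ∈ (𝒮i i).deg U hU n ∧
        x ∈ nz 𝒮L (q ⁻¹ᵁ U) n (((ui i).app U).hom si) ∧ ImmCritFor q (ui i) U hU n si := by
      intro x
      obtain ⟨U, hU, hxU⟩ := RP6.exists_affine_mem (q x)
      obtain ⟨n, hn, s, hs, hx, hc⟩ :=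
        immCrit_of_isImmersion q L hj u hL hP hPL r hr hdom U hU x hxU
      obtain ⟨i, si, hsi, hφsi, hci⟩ := exists_index q u 𝒮i φ hφ t ht hφt hsurj ui hui U hU s hs hc
      refine ⟨U, hU, n, hn, i, si, hsi, ?_, hci⟩
      have e : ((ui i).app U).hom si = (u.app U).hom s := by rw [hui i, ← hφsi]; rfl
      rw [e]; exact hx
    choose U hU n hn ix si hsi hx hci using hloc
    obtain ⟨F, hF⟩ := isCompact_univ.elim_finite_subcover
      (fun x : X => ((nz 𝒮L (q ⁻¹ᵁ U x) (n x) (((ui (ix x)).app (U x)).hom (si x)) : X.Opens) :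
        Set X)) (fun x => (nz 𝒮L (q ⁻¹ᵁ U x) (n x) (((ui (ix x)).app (U x)).hom (si x))).2)
      (fun x _ => Set.mem_iUnion.2 ⟨x, hx x⟩)
    obtain ⟨i, hi⟩ := Finset.exists_le (F.image ix)
    have hiF : ∀ x ∈ F, ix x ≤ i := fun x hxF => hi _ (Finset.mem_image_of_mem _ hxF)
    refine ⟨i, ?_⟩
    apply isImmersion_of_immCrit q L hj (ui i) hL (hPi i) hPL (ri i) (hri i)
    intro x'
    obtain ⟨x, hxF, hx'x⟩ : ∃ x ∈ F,
        x' ∈ nz 𝒮L (q ⁻¹ᵁ U x) (n x) (((ui (ix x)).app (U x)).hom (si x)) := by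
      have := hF (Set.mem_univ x')
      simp only [Set.mem_iUnion] at this
      obtain ⟨x, hxF, hx'⟩ := this
      exact ⟨x, hxF, hx'⟩
    have hmap := (hci x).map q (t (ix x) i (hiF x hxF)) (ht _ _ _) (ui (ix x)) (ui i)
      (ui_t q u 𝒮i φ t hφt ui hui (ix x) i (hiF x hxF))
    have e : ((ui i).app (U x)).hom (((t (ix x) i (hiF x hxF)).hom.app (op (U x))).hom (si x)) =
        ((ui (ix x)).app (U x)).hom (si x) := by
      rw [ui_t q u 𝒮i φ t hφt ui hui (ix x) i (hiF x hxF)]; rfl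
    refine ⟨U x, hU x, n x, hn x, _, ht _ _ _ (U x) (hU x) (n x) (si x) (hsi x), ?_, hmap⟩
    rw [e]; exact hx'x
  · rintro ⟨i, hi⟩
    exact isImmersion_of_map q L hj hL hPL (φ i) (hφ i) (ui i) u (hui i) (hPi i) hP (ri i) (hri i)
      r hr hi
  · intro i hi j hij
    exact isImmersion_of_map q L hj hL hPL (t i j hij) (ht i j hij) (ui i) (ui j)
      (ui_t q u 𝒮i φ t hφt ui hui i j hij) (hPi i) (hPi j) (ri i) (hri i) (ri j) (hri j) hi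

end Main

end Groth.Agent.Helper1.SymInvLocU
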