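import Mathlib
import Groth.Agent.Lib.Helper1.SymU12

set_option autoImplicit false
universe u
open CategoryTheory CategoryTheory.Limits AlgebraicGeometry TopologicalSpace Opposite

namespace Groth.Agent.Helper1.SymV

open Groth.Agent.Helper1.QcCech Groth.Agent.Helper1.LGen
open Groth.Agent.Helper1 Groth.Agent.Helper1.TmulLib Groth.Agent.Helper1.TensLib
open Groth.Agent.Helper1.TwistSec Groth.Agent.Helper1.VT Groth.Agent.Helper1.SymAlg
open Groth.Agent.Helper1.AmpleLib Groth.Agent.Helper1.TwForm Groth.Agent.Helper1.SymBr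

section Nz
variable {X : Scheme.{u}} {L : X.Modules} [L.IsQuasicoherent]
  {𝒮L : RelProj.QCGrAlg X} {j : L ⟶ 𝒮L.toModule} (hj : RelProj.IsGrSymAlg L 𝒮L j)

omit [L.IsQuasicoherent] in
/-- an affine chart with a generator around a point of an open -/
theorem exists_chart_gen (hL : PicF.IsInvertible L) {W : X.Opens} (x : X) (hx : x ∈ W) :
    ∃ (V : X.Opens) (_ : IsAffineOpen V) (_ : V ≤ W) (a : Γ(L, V)) (_ : IsGen L V a), x ∈ V := by
  obtain ⟨W₀, a₀, hxW₀, ha₀⟩ := exists_isGen hL x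
  obtain ⟨_, ⟨V, hV, rfl⟩, hxV, hVle⟩ :=
    X.isBasis_affineOpens.exists_subset_of_mem_open (show x ∈ ((W₀ ⊓ W : X.Opens) : Set X) from
      ⟨hxW₀, hx⟩) (W₀ ⊓ W).2
  have hVW₀ : V ≤ W₀ := fun y hy => (hVle hy).1
  have hVW : V ≤ W := fun y hy => (hVle hy).2
  exact ⟨V, hV, hVW, _, ha₀.res hVW₀, hxV⟩

include hj in
/-- the non-vanishing locus of a product of homogeneous sections -/
theorem nz_mul (hL : PicF.IsInvertible L) {W : X.Opens} {k l : ℕ}
    {σ τ : 𝒮L.presheaf.obj (op W)} (hσ : IsHomog 𝒮L W σ k) (hτ : IsHomog 𝒮L W τ l) :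
    nz 𝒮L W (k + l) (σ * τ) = nz 𝒮L W k σ ⊓ nz 𝒮L W l τ := by
  have key : ∀ x ∈ W, (x ∈ nz 𝒮L W (k + l) (σ * τ) ↔ x ∈ nz 𝒮L W k σ ⊓ nz 𝒮L W l τ) := by
    intro x hx
    obtain ⟨V, hV, hVW, a, ha, hxV⟩ := exists_chart_gen hL x hx
    obtain ⟨c, hc⟩ := exists_mono hj hV ha k _ (hσ V hV hVW)
    obtain ⟨d, hd⟩ := exists_mono hj hV ha l _ (hτ V hV hVW)
    have h1 : nz 𝒮L W k σ ⊓ V = X.basicOpen c := nz_inf_eq_basicOpen hj hV hVW ha c hc
    have h2 : nz 𝒮L W l τ ⊓ V = X.basicOpen d := nz_inf_eq_basicOpen hj hV hVW ha d hd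
    have h3 : nz 𝒮L W (k + l) (σ * τ) ⊓ V = X.basicOpen (c * d) :=
      nz_inf_eq_basicOpen hj hV hVW ha (c * d) (by rw [map_mul, hc, hd, mono_mul_mono])
    rw [Scheme.basicOpen_mul] at h3
    constructor
    · intro h
      have : x ∈ nz 𝒮L W (k + l) (σ * τ) ⊓ V := ⟨h, hxV⟩
      rw [h3, ← h1, ← h2] at this
      exact ⟨this.1.1, this.2.1⟩
    · rintro ⟨h, h'⟩
      have : x ∈ X.basicOpen c ⊓ X.basicOpen d := by
        rw [← h1, ← h2]; exact ⟨⟨h, hxV⟩, ⟨h', hxV⟩⟩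
      rw [← h3] at this
      exact this.1
  ext x
  constructor
  · intro h
    exact (key x (nz_le h)).1 h
  · intro h
    exact (key x (nz_le h.1)).2 h

include hj in
/-- the non-vanishing locus of the image of a section of `L` is its generating locus -/
theorem nz_val (hL : PicF.IsInvertible L) {W : X.Opens} (m : Γ(L, W)) :
    nz 𝒮L W 1 (val (A := 𝒮L.toQCAlg) j W m) = gl L m := by
  have key : ∀ x ∈ W, (x ∈ nz 𝒮L W 1 (val (A := 𝒮L.toQCAlg) j W m) ↔ x ∈ gl L m) := by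
    intro x hx
    obtain ⟨V, hV, hVW, a, ha, hxV⟩ := exists_chart_gen hL x hx
    obtain ⟨c, hc⟩ := ha.exists_coeff (res L hVW m)
    have h1 : nz 𝒮L W 1 (val (A := 𝒮L.toQCAlg) j W m) ⊓ V = X.basicOpen c := by
      apply nz_inf_eq_basicOpen hj hV hVW ha c
      change (𝒮L.presheaf.map (homOfLE hVW).op).hom _ = _
      rw [← val_res, ← hc, val_smul]
      unfold mono
      rw [pow_one]
    have h2 : gl L m ⊓ V = X.basicOpen c := by
      rw [← gl_res _ hVW, ← hc, gl_smul_gen ha]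
    constructor
    · intro h
      have : x ∈ nz 𝒮L W 1 (val (A := 𝒮L.toQCAlg) j W m) ⊓ V := ⟨h, hxV⟩
      rw [h1, ← h2] at this
      exact this.1
    · intro h
      have : x ∈ gl L m ⊓ V := ⟨h, hxV⟩
      rw [h2, ← h1] at this
      exact this.1
  ext x
  constructor
  · intro h
    exact (key x (nz_le h)).1 h
  · intro h
    exact (key x (gl_le L m h)).2 h

include hj in
omit [L.IsQuasicoherent] in
theorem isHomog_val {W : X.Opens} (m : Γ(L, W)) :
    IsHomog 𝒮L W (val (A := 𝒮L.toQCAlg) j W m) 1 := by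
  intro V hV hVW
  change (𝒮L.presheaf.map (homOfLE hVW).op).hom _ ∈ _
  rw [← val_res]
  exact hj.2 V hV _

include hj in
/-- a homogeneous section which is a function times a power of a section of `L` on the
generating locus of the latter -/
theorem nz_inf_gl (hL : PicF.IsInvertible L) {W : X.Opens} (m : Γ(L, W)) {k : ℕ}
    (σ : 𝒮L.presheaf.obj (op W)) (b : Γ(X, gl L m))
    (hb : (𝒮L.str.app (op (gl L m))).hom b *
      (rs 𝒮L (gl_le L m) (val (A := 𝒮L.toQCAlg) j W m)) ^ k = rs 𝒮L (gl_le L m) σ) :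
    nz 𝒮L W k σ ⊓ gl L m = X.basicOpen b := by
  ext x
  constructor
  · rintro ⟨hxσ, hxG⟩
    obtain ⟨V, hV, hVG, a, ha, hxV⟩ := exists_chart_gen hL x hxG
    have hgen : IsGen L V (res L (hVG.trans (gl_le L m)) m) := isGen_of_le_gl L m hVG
    have h1 : nz 𝒮L W k σ ⊓ V = X.basicOpen (resR hVG b) := by
      apply nz_inf_eq_basicOpen hj hV (hVG.trans (gl_le L m)) hgen (resR hVG b)
      rw [← rs_rs 𝒮L (gl_le L m) hVG, ← hb, map_mul, map_pow, rs_str, rs_rs]
      unfold mono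
      congr 2
      exact (val_res _ _ _).symm
    have h2 : X.basicOpen (resR hVG b) = V ⊓ X.basicOpen b :=
      Scheme.basicOpen_res X b (homOfLE hVG).op
    have : x ∈ nz 𝒮L W k σ ⊓ V := ⟨hxσ, hxV⟩
    rw [h1, h2] at this
    exact this.2
  · intro hxb
    have hxG : x ∈ gl L m := X.basicOpen_le b hxb
    obtain ⟨V, hV, hVG, a, ha, hxV⟩ := exists_chart_gen hL x hxG
    have hgen : IsGen L V (res L (hVG.trans (gl_le L m)) m) := isGen_of_le_gl L m hVG
    have h1 : nz 𝒮L W k σ ⊓ V = X.basicOpen (resR hVG b) := by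
      apply nz_inf_eq_basicOpen hj hV (hVG.trans (gl_le L m)) hgen (resR hVG b)
      rw [← rs_rs 𝒮L (gl_le L m) hVG, ← hb, map_mul, map_pow, rs_str, rs_rs]
      unfold mono
      congr 2
      exact (val_res _ _ _).symm
    have h2 : X.basicOpen (resR hVG b) = V ⊓ X.basicOpen b :=
      Scheme.basicOpen_res X b (homOfLE hVG).op
    have : x ∈ V ⊓ X.basicOpen b := ⟨hxV, hxb⟩
    rw [← h2, ← h1] at this
    exact ⟨this.1, hxG⟩

end Nz

end Groth.Agent.Helper1.SymV
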