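import Mathlib
import Groth.Agent.Lib.Helper1.SymV1
import Groth.Agent.Lib.Helper1.VT6

set_option autoImplicit false
universe u
open CategoryTheory CategoryTheory.Limits AlgebraicGeometry TopologicalSpace Opposite

namespace Groth.Agent.Helper1.SymV

open Groth.Agent.Helper1.QcCech Groth.Agent.Helper1.LGen
open Groth.Agent.Helper1 Groth.Agent.Helper1.TmulLib Groth.Agent.Helper1.TensLib
open Groth.Agent.Helper1.TwistSec Groth.Agent.Helper1.VT Groth.Agent.Helper1.SymAlg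
open Groth.Agent.Helper1.AmpleLib Groth.Agent.Helper1.TwForm Groth.Agent.Helper1.SymBr
open Groth.Agent.Helper1.SymInvLocU

section Tr
variable {Y X : Scheme.{u}} (q : X ⟶ Y) {L : X.Modules} [L.IsQuasicoherent]
  {𝒜 : RelProj.QCGrAlg Y} {𝒮L : RelProj.QCGrAlg X} {j : L ⟶ 𝒮L.toModule}
  (hj : RelProj.IsGrSymAlg L 𝒮L j) (u : RelProj.QGrHom q 𝒜 𝒮L)

omit [L.IsQuasicoherent] in
/-- **homogenization**: elements of the subring generated by the ratios are fractions of images of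
homogeneous elements by powers of the chosen section -/
theorem exists_homogenize (U : Y.Opens) (hU : IsAffineOpen U) (Sg : Set Γ(L, q ⁻¹ᵁ U))
    (hSg : ∀ m' ∈ Sg, ∃ a ∈ 𝒜.deg U hU 1,
      (u.app U).hom a = val (A := 𝒮L.toQCAlg) j (q ⁻¹ᵁ U) m')
    (m : Γ(L, q ⁻¹ᵁ U)) (hm : m ∈ Sg) (τ : Γ(X, gl L m)) (hτ : τ ∈ TS q L U m Sg) :
    ∃ (k : ℕ) (a : 𝒜.presheaf.obj (op U)), a ∈ 𝒜.deg U hU k ∧
      (𝒮L.str.app (op (gl L m))).hom τ *
        (rs 𝒮L (gl_le L m) (val (A := 𝒮L.toQCAlg) j (q ⁻¹ᵁ U) m)) ^ k =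
      rs 𝒮L (gl_le L m) ((u.app U).hom a) := by
  obtain ⟨e, he, hue⟩ := hSg m hm
  set M := rs 𝒮L (gl_le L m) (val (A := 𝒮L.toQCAlg) j (q ⁻¹ᵁ U) m) with hM
  have hMe : rs 𝒮L (gl_le L m) ((u.app U).hom e) = M := by rw [hue]
  unfold TS at hτ
  induction hτ using Subring.closure_induction with
  | mem τ hτ =>
    rcases hτ with ⟨c, rfl⟩ | ⟨m', hm', rfl⟩
    · refine ⟨0, (𝒜.str.app (op U)).hom c, 𝒜.str_mem U hU c, ?_⟩
      rw [pow_zero, mul_one, rs_app_str q u U (gl_le L m) c]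
      rfl
    · obtain ⟨e', he', hue'⟩ := hSg m' hm'
      refine ⟨1, e', he', ?_⟩
      rw [pow_one, hue', hM]
      change _ * (𝒮L.presheaf.map (homOfLE (gl_le L m)).op).hom _ =
        (𝒮L.presheaf.map (homOfLE (gl_le L m)).op).hom _
      rw [← val_res, ← val_res, ← val_smul, ratio_spec]
  | zero => exact ⟨0, 0, AddSubgroup.zero_mem _, by rw [map_zero, zero_mul, map_zero, map_zero]⟩
  | one =>
    exact ⟨0, 1, SetLike.GradedOne.one_mem, by rw [map_one, one_mul, pow_zero, map_one, map_one]⟩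
  | add τ₁ τ₂ _ _ h₁ h₂ =>
    obtain ⟨k₁, a₁, ha₁, e₁⟩ := h₁
    obtain ⟨k₂, a₂, ha₂, e₂⟩ := h₂
    refine ⟨k₁ + k₂, a₁ * e ^ k₂ + a₂ * e ^ k₁, ?_, ?_⟩
    · apply AddSubgroup.add_mem
      · have := SetLike.mul_mem_graded ha₁ (SetLike.pow_mem_graded k₂ he)
        rwa [smul_eq_mul, mul_one] at this
      · have := SetLike.mul_mem_graded ha₂ (SetLike.pow_mem_graded k₁ he)
        rwa [smul_eq_mul, mul_one, add_comm k₂ k₁] at this
    · simp only [map_add, map_mul, map_pow]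
      rw [hMe, ← e₁, ← e₂, pow_add]
      ring
  | neg τ _ h =>
    obtain ⟨k, a, ha, e₁⟩ := h
    exact ⟨k, -a, AddSubgroup.neg_mem _ ha, by rw [map_neg, neg_mul, e₁, map_neg, map_neg]⟩
  | mul τ₁ τ₂ _ _ h₁ h₂ =>
    obtain ⟨k₁, a₁, ha₁, e₁⟩ := h₁
    obtain ⟨k₂, a₂, ha₂, e₂⟩ := h₂
    refine ⟨k₁ + k₂, a₁ * a₂, SetLike.mul_mem_graded ha₁ ha₂, ?_⟩
    simp only [map_mul]
    rw [← e₁, ← e₂, pow_add]
    ring

omit [L.IsQuasicoherent] in
/-- the section-level criterion over an open given up to equality -/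
theorem immCritSec_of_open {U : Y.Opens} {n : ℕ} {σ : 𝒮L.presheaf.obj (op (q ⁻¹ᵁ U))}
    {T : ℕ → Set (𝒮L.presheaf.obj (op (q ⁻¹ᵁ U)))} (W' : X.Opens)
    (hW' : nz 𝒮L (q ⁻¹ᵁ U) n σ = W') (hle : W' ≤ q ⁻¹ᵁ U) (haff : IsAffineOpen W')
    (h : ∀ t : Γ(X, W'), ∃ (m : ℕ) (_ : 0 < m), ∃ σ' ∈ T (m * n),
      (𝒮L.str.app (op W')).hom t * (rs 𝒮L hle σ) ^ m = rs 𝒮L hle σ') :
    ImmCritSec q U n σ T := by
  subst hW'
  exact ⟨haff, h⟩

include hj in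
/-- **from the ratio criterion to the graded criterion** -/
theorem immCritFor_of_critAt (hL : PicF.IsInvertible L) (U : Y.Opens) (hU : IsAffineOpen U)
    (Sg : Set Γ(L, q ⁻¹ᵁ U))
    (hSg : ∀ m' ∈ Sg, ∃ a ∈ 𝒜.deg U hU 1,
      (u.app U).hom a = val (A := 𝒮L.toQCAlg) j (q ⁻¹ᵁ U) m')
    (x : X) (hc : CritAt q L U Sg x) :
    ∃ (n : ℕ) (_ : 0 < n) (s : 𝒜.presheaf.obj (op U)) (_ : s ∈ 𝒜.deg U hU n),
      x ∈ nz 𝒮L (q ⁻¹ᵁ U) n ((u.app U).hom s) ∧ ImmCritFor q u U hU n s := by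
  obtain ⟨m, hm, b, hb, hxb, haff, hf⟩ := hc
  obtain ⟨e, he, hue⟩ := hSg m hm
  obtain ⟨k, a, ha, hka⟩ := exists_homogenize q u U hU Sg hSg m hm b hb
  have hs : a * e ∈ 𝒜.deg U hU (k + 1) := SetLike.mul_mem_graded ha he
  have hus : (u.app U).hom (a * e) =
      (u.app U).hom a * val (A := 𝒮L.toQCAlg) j (q ⁻¹ᵁ U) m := by rw [map_mul, hue]
  have hnz : nz 𝒮L (q ⁻¹ᵁ U) (k + 1) ((u.app U).hom (a * e)) = X.basicOpen b := by
    rw [hus, nz_mul hj hL (isHomog_app u U hU ha) (isHomog_val hj m), nz_val hj hL]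
    exact nz_inf_gl hj hL m _ b hka
  have hble : X.basicOpen b ≤ q ⁻¹ᵁ U := (X.basicOpen_le b).trans (gl_le L m)
  refine ⟨k + 1, Nat.succ_pos k, a * e, hs, by rw [hnz]; exact hxb, ?_⟩
  rw [immCritFor_iff]
  apply immCritSec_of_open q (X.basicOpen b) hnz hble haff
  intro t
  obtain ⟨n₁, τ, hτ, hft⟩ := hf t
  obtain ⟨k', a', ha', hka'⟩ := exists_homogenize q u U hU Sg hSg m hm τ hτ
  -- restrict the two homogenization identities to the basic open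
  set bb := resR (X.basicOpen_le b) b with hbb
  set ττ := resR (X.basicOpen_le b) τ with hττ
  set M' := rs 𝒮L hble (val (A := 𝒮L.toQCAlg) j (q ⁻¹ᵁ U) m) with hM'
  have h2 : (𝒮L.str.app (op (X.basicOpen b))).hom bb * M' ^ k =
      rs 𝒮L hble ((u.app U).hom a) := by
    have := congrArg (rs 𝒮L (X.basicOpen_le b)) hka
    rwa [map_mul, map_pow, rs_str, rs_rs, rs_rs] at this
  have h3 : (𝒮L.str.app (op (X.basicOpen b))).hom ττ * M' ^ k' =
      rs 𝒮L hble ((u.app U).hom a') := by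
    have := congrArg (rs 𝒮L (X.basicOpen_le b)) hka'
    rwa [map_mul, map_pow, rs_str, rs_rs, rs_rs] at this
  have h1 : (𝒮L.str.app (op (X.basicOpen b))).hom t *
      (𝒮L.str.app (op (X.basicOpen b))).hom bb ^ n₁ =
      (𝒮L.str.app (op (X.basicOpen b))).hom ττ := by
    rw [← map_pow, ← map_mul, hft]
  have hMe : rs 𝒮L hble ((u.app U).hom e) = M' := by rw [hue]
  refine ⟨n₁ + k' + 1, by omega, _,
    ⟨a' * e ^ (k * n₁ + n₁ + 1) * a ^ (k' + 1), ?_, rfl⟩, ?_⟩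
  · have h := SetLike.mul_mem_graded (SetLike.mul_mem_graded ha'
      (SetLike.pow_mem_graded (k * n₁ + n₁ + 1) he)) (SetLike.pow_mem_graded (k' + 1) ha)
    have e0 : k' + (k * n₁ + n₁ + 1) • 1 + (k' + 1) • k = (n₁ + k' + 1) * (k + 1) := by
      simp only [smul_eq_mul]; ring
    rwa [e0] at h
  · simp only [map_mul, map_pow]
    rw [hMe, ← h3, ← h1, ← h2]
    ring

end Tr

end Groth.Agent.Helper1.SymV
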