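import Mathlib
import Groth.Agent.Lib.Helper1.VT15
import Groth.Agent.Lib.Helper1.VT17

/-!
# Transfer of the immersion criterion between rings of ratios (helper1 library, very ample theory 28)
-/

set_option autoImplicit false
universe u
open CategoryTheory CategoryTheory.Limits AlgebraicGeometry TopologicalSpace Opposite

namespace Groth.Agent.Helper1.VT

open Groth.Agent.Helper1.QcCech Groth.Agent.Helper1.LGen Groth.Agent.Helper1.CocycleIso
open Groth.Agent.Helper1 Groth.Agent.Helper1.TmulLib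

section Abstract

variable {X : Scheme.{u}}

/-- the criterion for a subring `T` of the functions on an open `G`: some basic open of an element
of `T`, contained in `W`, is an affine neighbourhood of `x` whose functions are fractions of
elements of `T` -/
def CritT (G : X.Opens) (T : Subring Γ(X, G)) (W : X.Opens) (x : X) : Prop :=
  ∃ b ∈ T, ∃ (D : X.Opens) (hDG : D ≤ G), X.basicOpen b = D ∧ D ≤ W ∧ x ∈ D ∧ IsAffineOpen D ∧
    ∀ φ : Γ(X, D), ∃ (n : ℕ) (t : Γ(X, G)), t ∈ T ∧ φ * resR hDG b ^ n = resR hDG t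

theorem basicOpen_resR {G G' : X.Opens} (h : G' ≤ G) (r : Γ(X, G)) :
    X.basicOpen (resR h r) = G' ⊓ X.basicOpen r := by
  rw [resR]
  erw [Scheme.basicOpen_res]

/-- **shrinking**: the affine neighbourhood can be taken inside any given neighbourhood -/
theorem CritT.shrink {G : X.Opens} {T : Subring Γ(X, G)} {W : X.Opens} {x : X}
    (h : CritT G T W x) (W' : X.Opens) (hx : x ∈ W') : CritT G T W' x := by
  obtain ⟨b, hb, D, hDG, hD, hDW, hxD, haff, hf⟩ := h
  obtain ⟨g, hgle, hxg⟩ := haff.exists_basicOpen_le (V := D ⊓ W') ⟨x, ⟨hxD, hx⟩⟩ hxD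
  obtain ⟨n, t, ht, hgt⟩ := hf g
  have hOg : X.basicOpen g ≤ D := X.basicOpen_le g
  have hub : IsUnit (resR hDG b) := by
    have := X.toRingedSpace.isUnit_res_basicOpen b
    subst hD
    exact this
  have hbasic : X.basicOpen (b * t) = X.basicOpen g := by
    have h2 : D ⊓ X.basicOpen t = X.basicOpen (resR hDG t) := (basicOpen_resR hDG t).symm
    have h3 : X.basicOpen (resR hDG t) = X.basicOpen g := by
      rw [← hgt, Scheme.basicOpen_mul, X.basicOpen_of_isUnit (hub.pow n)]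
      exact inf_eq_left.2 hOg
    rw [Scheme.basicOpen_mul, hD, h2, h3]
  refine ⟨b * t, Subring.mul_mem _ hb ht, X.basicOpen g, hOg.trans hDG, hbasic,
    hgle.trans inf_le_right, hxg, haff.basicOpen g, fun φ => ?_⟩
  have hloc := haff.isLocalization_basicOpen g
  obtain ⟨⟨f₀, ⟨_, k, rfl⟩⟩, hf₀⟩ := IsLocalization.surj (Submonoid.powers g) φ
  obtain ⟨n₀, t₀, ht₀, hft₀⟩ := hf f₀
  refine ⟨k + n₀, t₀ * b ^ ((n + 1) * k) * t ^ n₀,
    Subring.mul_mem _ (Subring.mul_mem _ ht₀ (Subring.pow_mem _ hb _)) (Subring.pow_mem _ ht _), ?_⟩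
  have hOgG : X.basicOpen g ≤ G := hOg.trans hDG
  have R1 : resR hOg g * resR hOgG b ^ n = resR hOgG t := by
    have := congrArg (resR hOg) hgt
    rw [map_mul, map_pow, resR_resR, resR_resR] at this
    exact this
  have R2 : φ * resR hOg g ^ k = resR hOg f₀ := by
    have h1 : φ * (algebraMap Γ(X, D) Γ(X, X.basicOpen g)) (g ^ k) =
        (algebraMap Γ(X, D) Γ(X, X.basicOpen g)) f₀ := hf₀
    rw [map_pow] at h1
    exact h1
  have R3 : resR hOg f₀ * resR hOgG b ^ n₀ = resR hOgG t₀ := by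
    have := congrArg (resR hOg) hft₀
    rw [map_mul, map_pow, resR_resR, resR_resR] at this
    exact this
  rw [map_mul, map_mul, map_mul, map_pow, map_pow]
  have h1 : (resR hOgG b * resR hOgG t) ^ k =
      resR hOg g ^ k * resR hOgG b ^ ((n + 1) * k) := by
    rw [← R1]; ring
  rw [pow_add, h1, mul_pow]
  linear_combination (resR hOgG b ^ ((n + 1) * k) * resR hOgG b ^ n₀ * resR hOgG t ^ n₀) * R2 +
    (resR hOgG b ^ ((n + 1) * k) * resR hOgG t ^ n₀) * R3

/-- the functions on `Gs` which become restrictions of elements of `T` after multiplication by a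
power of `d` -/
def fracRing {G : X.Opens} (T : Subring Γ(X, G)) (d : Γ(X, G)) (hd : d ∈ T) (Gs : X.Opens)
    (h : Gs ≤ G) : Subring Γ(X, Gs) where
  carrier := {φ | ∃ (N : ℕ) (s : Γ(X, G)), s ∈ T ∧ φ * resR h d ^ N = resR h s}
  mul_mem' := by
    rintro φ₁ φ₂ ⟨N₁, s₁, hs₁, e₁⟩ ⟨N₂, s₂, hs₂, e₂⟩
    refine ⟨N₁ + N₂, s₁ * s₂, Subring.mul_mem _ hs₁ hs₂, ?_⟩
    rw [map_mul, ← e₁, ← e₂, pow_add]
    ring
  one_mem' := ⟨0, 1, Subring.one_mem _, by rw [pow_zero, mul_one, map_one]⟩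
  add_mem' := by
    rintro φ₁ φ₂ ⟨N₁, s₁, hs₁, e₁⟩ ⟨N₂, s₂, hs₂, e₂⟩
    refine ⟨N₁ + N₂, s₁ * d ^ N₂ + s₂ * d ^ N₁,
      Subring.add_mem _ (Subring.mul_mem _ hs₁ (Subring.pow_mem _ hd _))
        (Subring.mul_mem _ hs₂ (Subring.pow_mem _ hd _)), ?_⟩
    rw [map_add, map_mul, map_mul, map_pow, map_pow, ← e₁, ← e₂, pow_add]
    ring
  zero_mem' := ⟨0, 0, Subring.zero_mem _, by rw [zero_mul, map_zero]⟩
  neg_mem' := by
    rintro φ ⟨N, s, hs, e⟩
    exact ⟨N, -s, Subring.neg_mem _ hs, by rw [neg_mul, e, map_neg]⟩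

theorem mem_fracRing {G : X.Opens} {T : Subring Γ(X, G)} {d : Γ(X, G)} {hd : d ∈ T}
    {Gs : X.Opens} {h : Gs ≤ G} {φ : Γ(X, Gs)} :
    φ ∈ fracRing T d hd Gs h ↔
      ∃ (N : ℕ) (s : Γ(X, G)), s ∈ T ∧ φ * resR h d ^ N = resR h s := Iff.rfl

/-- **the transfer lemma**: if the ring `T₀` restricts, on the basic open `Gs` of `d ∈ T₁`, into
the fractions of `T₁` with denominators powers of `d`, the criterion for `T₀` (inside `Gs`) gives
the criterion for `T₁` -/
theorem CritT.transfer {G₀ G₁ : X.Opens} {T₀ : Subring Γ(X, G₀)} {T₁ : Subring Γ(X, G₁)}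
    (d : Γ(X, G₁)) (hd : d ∈ T₁) (Gs : X.Opens) (hGs : X.basicOpen d = Gs) (h₀ : Gs ≤ G₀)
    (h₁ : Gs ≤ G₁)
    (htr : T₀ ≤ (fracRing T₁ d hd Gs h₁).comap (resR h₀)) {x : X}
    (h : CritT G₀ T₀ Gs x) : CritT G₁ T₁ Gs x := by
  obtain ⟨b, hb, D, hDG, hD, hDGs, hxD, haff, hf⟩ := h
  obtain ⟨Nb, sb, hsb, eb⟩ := htr hb
  have hud : IsUnit (resR h₁ d) := by
    have := X.toRingedSpace.isUnit_res_basicOpen d
    subst hGs
    exact this
  have hbasic : X.basicOpen (d * sb) = D := by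
    have h1 : Gs ⊓ X.basicOpen sb = X.basicOpen (resR h₁ sb) := (basicOpen_resR h₁ sb).symm
    have h2 : X.basicOpen (resR h₁ sb) = X.basicOpen (resR h₀ b) := by
      rw [← eb, Scheme.basicOpen_mul, X.basicOpen_of_isUnit (hud.pow Nb)]
      exact inf_eq_left.2 (X.basicOpen_le _)
    rw [Scheme.basicOpen_mul, hGs, h1, h2, basicOpen_resR, hD]
    exact inf_eq_right.2 hDGs
  have hDG₁ : D ≤ G₁ := hDGs.trans h₁
  refine ⟨d * sb, Subring.mul_mem _ hd hsb, D, hDG₁, hbasic, hDGs, hxD, haff, fun φ => ?_⟩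
  obtain ⟨n, t, ht, hφ⟩ := hf φ
  obtain ⟨Nt, st, hst, et⟩ := htr ht
  refine ⟨n + Nt, st * d ^ ((Nb + 1) * n) * sb ^ Nt,
    Subring.mul_mem _ (Subring.mul_mem _ hst (Subring.pow_mem _ hd _)) (Subring.pow_mem _ hsb _), ?_⟩
  have eb' : resR hDG b * resR hDG₁ d ^ Nb = resR hDG₁ sb := by
    have := congrArg (resR hDGs) eb
    rw [map_mul, map_pow, resR_resR, resR_resR, resR_resR] at this
    exact this
  have et' : resR hDG t * resR hDG₁ d ^ Nt = resR hDG₁ st := by
    have := congrArg (resR hDGs) et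
    rw [map_mul, map_pow, resR_resR, resR_resR, resR_resR] at this
    exact this
  rw [map_mul, map_mul, map_mul, map_pow, map_pow, ← et', ← eb', ← hφ]
  ring

end Abstract

end Groth.Agent.Helper1.VT
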