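import Mathlib
import Groth.Agent.Lib.Helper1.VT28

/-!
# The criterion for a composite (helper1 library, very ample theory 29)
-/

set_option autoImplicit false
universe u
open CategoryTheory CategoryTheory.Limits AlgebraicGeometry TopologicalSpace Opposite

namespace Groth.Agent.Helper1.VT

open Groth.Agent.Helper1.QcCech Groth.Agent.Helper1.LGen Groth.Agent.Helper1.CocycleIso
open Groth.Agent.Helper1 Groth.Agent.Helper1.TmulLib

section Link

variable {X Y : Scheme.{u}} (q : X ⟶ Y) (L : X.Modules)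

theorem critAt_iff_critT (U : Y.Opens) (Sg : Set Γ(L, q ⁻¹ᵁ U)) (x : X) :
    CritAt q L U Sg x ↔ ∃ m ∈ Sg, CritT (gl L m) (TS q L U m Sg) ⊤ x := by
  constructor
  · rintro ⟨m, hm, b, hb, hxb, haff, hf⟩
    exact ⟨m, hm, b, hb, X.basicOpen b, X.basicOpen_le b, rfl, le_top, hxb, haff, hf⟩
  · rintro ⟨m, hm, b, hb, D, hDG, hD, -, hxb, haff, hf⟩
    subst hD
    exact ⟨m, hm, b, hb, hxb, haff, hf⟩

/-- **change of generator**: the criterion can be expressed with any section of the family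
generating at the point -/
theorem CritT.change_gen (U : Y.Opens) (Sg : Set Γ(L, q ⁻¹ᵁ U)) (x : X)
    (m m₁ : Γ(L, q ⁻¹ᵁ U)) (hm : m ∈ Sg) (hx : x ∈ gl L m₁)
    (h : CritT (gl L m) (TS q L U m Sg) ⊤ x) : CritT (gl L m₁) (TS q L U m₁ Sg) ⊤ x := by
  have hxm : x ∈ gl L m := by
    obtain ⟨b, -, D, hDG, -, -, hxD, -, -⟩ := h
    exact hDG hxD
  set d := ratio L m₁ m with hd_def
  have hd : d ∈ TS q L U m₁ Sg := Subring.subset_closure (Or.inr ⟨m, hm, rfl⟩)
  have hGs : X.basicOpen d = gl L m₁ ⊓ gl L m := (gl_inf_gl L m₁ m).symm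
  have h₀ : gl L m₁ ⊓ gl L m ≤ gl L m := inf_le_right
  have h₁ : gl L m₁ ⊓ gl L m ≤ gl L m₁ := inf_le_left
  refine (CritT.transfer d hd _ hGs h₀ h₁ ?_ (h.shrink _ ⟨hx, hxm⟩)).shrink ⊤ trivial
  apply Subring.closure_le.2
  rintro _ (⟨r, rfl⟩ | ⟨m', hm', rfl⟩)
  · rw [SetLike.mem_coe, Subring.mem_comap]
    refine ⟨0, resR (gl_le L m₁) ((q.app U).hom r), Subring.subset_closure (Or.inl ⟨r, rfl⟩), ?_⟩
    rw [pow_zero, mul_one]
    change resR h₀ (resR _ _) = _
    rw [resR_resR, resR_resR]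
  · rw [SetLike.mem_coe, Subring.mem_comap]
    refine ⟨1, ratio L m₁ m', Subring.subset_closure (Or.inr ⟨m', hm', rfl⟩), ?_⟩
    rw [pow_one]
    have := ratio_trans L m₁ m m'
    rw [mul_comm]
    exact this.symm

end Link

section GlSigma

variable {X Y : Scheme.{u}} (f : X ⟶ Y) {K : Y.Modules}

/-- **the generating locus of a pulled back section is the preimage of the generating locus** -/
theorem gl_σ (hK : PicF.IsInvertible K) (W : Y.Opens) (k : Γ(K, W)) :
    gl ((Scheme.Modules.pullback f).obj K) (PullSec.σ f K W k) = f ⁻¹ᵁ (gl K k) := by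
  set N := (Scheme.Modules.pullback f).obj K with hN
  apply le_antisymm
  · intro z hz
    obtain ⟨V', hV', hzV', hg⟩ := (mem_gl_iff N _ z).1 hz
    obtain ⟨W₀, a, hzW₀, ha⟩ := exists_isGen hK (f z)
    have hzW : f z ∈ W := hV' hzV'
    set W₁ : Y.Opens := W₀ ⊓ W with hW₁
    have ha₁ : IsGen K W₁ (res K inf_le_left a) := ha.res inf_le_left
    obtain ⟨r, hr⟩ := ha₁.exists_coeff (res K inf_le_right k)
    -- on `V' ⊓ f⁻¹ W₁`
    set V'' : X.Opens := V' ⊓ f ⁻¹ᵁ W₁ with hV''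
    have hzV'' : z ∈ V'' := ⟨hzV', hzW₀, hzW⟩
    have hle1 : V'' ≤ f ⁻¹ᵁ W₁ := inf_le_right
    have hσa : IsGen N V'' (res N hle1 (PullSec.σ f K W₁ (res K inf_le_left a))) :=
      (PullGen.isGen_σ f ha₁).res hle1
    have hσk : IsGen N V'' (res N (inf_le_left.trans hV') (PullSec.σ f K W k)) := by
      have := hg.res (inf_le_left : V'' ≤ V')
      rwa [res_res] at this
    have e1 : res N (inf_le_left.trans hV') (PullSec.σ f K W k) =
        resR hle1 ((f.app W₁).hom r) •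
          res N hle1 (PullSec.σ f K W₁ (res K inf_le_left a)) := by
      rw [← res_smul, ← PullSec.σ_smul, hr, ← PullSec.σ_res f K (inf_le_right : W₁ ≤ W) k, res_res]
    rw [e1] at hσk
    have hu := isUnit_of_isGen_smul hσa hσk
    have hle2 : V'' ≤ X.basicOpen ((f.app W₁).hom r) :=
      (GenLoc.isUnit_res_iff _ V'' hle1).1 hu
    have hz2 : z ∈ X.basicOpen ((f.app W₁).hom r) := hle2 hzV''
    rw [← Scheme.preimage_basicOpen] at hz2
    have hfz : f z ∈ Y.basicOpen r := hz2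
    have hBle : Y.basicOpen r ≤ W₁ := Y.basicOpen_le r
    have hur : IsUnit (resR hBle r) := (GenLoc.isUnit_res_iff r _ hBle).2 le_rfl
    have hgk : IsGen K (Y.basicOpen r) (res K (hBle.trans inf_le_right) k) := by
      have e2 : res K (hBle.trans inf_le_right) k =
          resR hBle r • res K (hBle.trans inf_le_left) a := by
        have := congrArg (res K hBle) hr
        rw [res_smul, res_res, res_res] at this
        exact this.symm
      rw [e2]
      exact TwForm.IsGen.smul_unit (ha.res (hBle.trans inf_le_left)) hur.unit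
    exact le_gl K k (hBle.trans inf_le_right) hgk hfz
  · have hle : f ⁻¹ᵁ (gl K k) ≤ f ⁻¹ᵁ W := f.preimage_mono (gl_le K k)
    apply le_gl N _ hle
    have := PullSec.σ_res f K (gl_le K k) k
    rw [this]
    exact PullGen.isGen_σ f (isGen_gl K k)

end GlSigma

section Comp

variable {X Y Z : Scheme.{u}} (f : X ⟶ Y) (g : Y ⟶ Z) {L : X.Modules} {K : Y.Modules}
  {E : Y.Modules} (u : E ⟶ (Scheme.Modules.pushforward f).obj L)

theorem app_resR {V V' : Y.Opens} (h : V' ≤ V) (r : Γ(Y, V)) :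
    (f.app V').hom (resR h r) = resR (f.preimage_mono h) ((f.app V).hom r) := by
  have := congrArg (fun φ => φ.hom r) (f.naturality (homOfLE h).op)
  exact this

include f u in
/-- a section in the span of a family which generates at a point forces a member of the family
to generate there -/
theorem exists_gl_of_mem_span (hL : PicF.IsInvertible L) (V : Y.Opens) (S : Set Γ(E, V))
    (e : Γ(E, V)) (he : e ∈ Submodule.span Γ(Y, V) S) (x : X) (hx : x ∈ gl L (sec f u V e)) :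
    ∃ s ∈ S, x ∈ gl L (sec f u V s) := by
  obtain ⟨W₀, a₀, hxW₀, ha₀⟩ := exists_isGen hL x
  have hxV : x ∈ f ⁻¹ᵁ V := gl_le L _ hx
  set W : X.Opens := W₀ ⊓ f ⁻¹ᵁ V with hW
  have hxW : x ∈ W := ⟨hxW₀, hxV⟩
  obtain ⟨a, ha⟩ : ∃ a : Γ(L, W), IsGen L W a := ⟨_, ha₀.res inf_le_left⟩
  have hWV : W ≤ f ⁻¹ᵁ V := inf_le_right
  have key : ∀ (e : Γ(E, V)), e ∈ Submodule.span Γ(Y, V) S → ∀ c : Γ(X, W),
      c • a = res L hWV (sec f u V e) → x ∈ X.basicOpen c → ∃ s ∈ S, x ∈ gl L (sec f u V s) := by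
    intro e he
    induction he using Submodule.span_induction with
    | mem s hs =>
      intro c hc hxc
      refine ⟨s, hs, ?_⟩
      have hle : X.basicOpen c ≤ W := X.basicOpen_le c
      apply le_gl L _ (hle.trans hWV) _ hxc
      have hu : IsUnit (resR hle c) := (GenLoc.isUnit_res_iff c _ hle).2 le_rfl
      have h1 := congrArg (res L hle) hc
      rw [res_smul, res_res] at h1
      rw [← h1]
      exact TwForm.IsGen.smul_unit (ha.res hle) hu.unit
    | zero =>
      intro c hc hxc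
      have h0 : c = 0 := by
        apply (ha W le_rfl).1
        simp only [res_self]
        rw [hc, sec_zero, map_zero, zero_smul]
      rw [h0, Scheme.basicOpen_zero] at hxc
      exact absurd hxc (by simp)
    | add t₁ t₂ _ _ ih₁ ih₂ =>
      intro c hc hxc
      obtain ⟨c₁, hc₁⟩ := ha.exists_coeff (res L hWV (sec f u V t₁))
      obtain ⟨c₂, hc₂⟩ := ha.exists_coeff (res L hWV (sec f u V t₂))
      have h0 : c = c₁ + c₂ := by
        apply (ha W le_rfl).1
        simp only [res_self]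
        rw [hc, add_smul, hc₁, hc₂, sec_add, map_add]
      rw [h0] at hxc
      rcases X.basicOpen_add_le c₁ c₂ hxc with h | h
      · exact ih₁ c₁ hc₁ h
      · exact ih₂ c₂ hc₂ h
    | smul r t₁ _ ih =>
      intro c hc hxc
      obtain ⟨c₁, hc₁⟩ := ha.exists_coeff (res L hWV (sec f u V t₁))
      have h0 : c = resR hWV ((f.app V).hom r) * c₁ := by
        apply (ha W le_rfl).1
        simp only [res_self]
        rw [hc, mul_smul, hc₁, sec_smul, res_smul]
      rw [h0, Scheme.basicOpen_mul] at hxc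
      exact ih c₁ hc₁ hxc.2
  obtain ⟨c, hc⟩ := ha.exists_coeff (res L hWV (sec f u V e))
  refine key e he c hc ?_
  -- `c` is a unit near `x`
  set O : X.Opens := gl L (sec f u V e) ⊓ W with hO
  have hxO : x ∈ O := ⟨hx, hxW⟩
  have hOW : O ≤ W := inf_le_right
  have hg : IsGen L O (res L (hOW.trans hWV) (sec f u V e)) := isGen_of_le_gl L _ inf_le_left
  have h1 := congrArg (res L hOW) hc
  rw [res_smul, res_res] at h1
  rw [← h1] at hg
  have hu := isUnit_of_isGen_smul (ha.res hOW) hg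
  exact (GenLoc.isUnit_res_iff c O hOW).1 hu hxO

/-- the sections of `L ⊗ f^*K` over the preimage of `U` built from sections of `E` and `K` over
`g⁻¹ U` -/
noncomputable def μ (U : Z.Opens) (w : Γ(E, g ⁻¹ᵁ U)) (k : Γ(K, g ⁻¹ᵁ U)) :
    Γ(CohB1.tensorMod L ((Scheme.Modules.pullback f).obj K), (f ≫ g) ⁻¹ᵁ U) :=
  tm L ((Scheme.Modules.pullback f).obj K) (f ⁻¹ᵁ g ⁻¹ᵁ U) (sec f u (g ⁻¹ᵁ U) w)
    (PullSec.σ f K (g ⁻¹ᵁ U) k)

set_option quotPrecheck false in
local notation "NN" => (Scheme.Modules.pullback f).obj K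
set_option quotPrecheck false in
local notation "MM" => CohB1.tensorMod L ((Scheme.Modules.pullback f).obj K)

theorem gl_μ (hL : PicF.IsInvertible L) (hK : PicF.IsInvertible K) (U : Z.Opens)
    (w : Γ(E, g ⁻¹ᵁ U)) (k : Γ(K, g ⁻¹ᵁ U)) :
    gl MM (μ f g u U w k) = gl L (sec f u (g ⁻¹ᵁ U) w) ⊓ f ⁻¹ᵁ (gl K k) := by
  have hN : PicF.IsInvertible NN := PullGen.isInvertible_pullback f hK
  refine (gl_tm hL hN (sec f u (g ⁻¹ᵁ U) w) (PullSec.σ f K (g ⁻¹ᵁ U) k)).trans ?_
  rw [gl_σ f hK]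

theorem res_μ (U : Z.Opens) (w : Γ(E, g ⁻¹ᵁ U)) (k : Γ(K, g ⁻¹ᵁ U)) {O : X.Opens}
    (hO : O ≤ (f ≫ g) ⁻¹ᵁ U) :
    res MM hO (μ f g u U w k) = tm L NN O (res L hO (sec f u (g ⁻¹ᵁ U) w))
      (res NN hO (PullSec.σ f K (g ⁻¹ᵁ U) k)) :=
  res_tm L NN hO _ _

set_option maxHeartbeats 1600000 in
/-- **the criterion for a composite**: if `L` satisfies the criterion relative to `f` for the
sections coming from `E`, if `E` is spanned over `g⁻¹ U` by a family of sections `SgE`, and if `K`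
satisfies the criterion relative to `g` over `U`, then `L ⊗ f^*K` satisfies the criterion relative
to `f ≫ g` over `U` for the products of the sections. -/
theorem critAt_comp (hL : PicF.IsInvertible L) (hK : PicF.IsInvertible K) (U : Z.Opens)
    (SgK : Set Γ(K, g ⁻¹ᵁ U)) (SgE : Set Γ(E, g ⁻¹ᵁ U))
    (hspan : ∀ (V : Y.Opens) (hV : V ≤ g ⁻¹ᵁ U), IsAffineOpen V → ∀ e : Γ(E, V),
      e ∈ Submodule.span Γ(Y, V) ((fun w => res E hV w) '' SgE))
    (hcritL : ∀ (V : Y.Opens), IsAffineOpen V → ∀ x : X, f x ∈ V →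
      CritAt f L V (Set.range (sec f u V)) x)
    (x : X) (hcritK : CritAt g K U SgK (f x))
    (SgM : Set Γ(MM, (f ≫ g) ⁻¹ᵁ U))
    (hSgM : ∀ w ∈ SgE, ∀ k ∈ SgK, μ f g u U w k ∈ SgM) :
    CritAt (f ≫ g) MM U SgM x := by
  obtain ⟨k, hk, b', hb', hyb', haffV, hfK⟩ := hcritK
  set V : Y.Opens := Y.basicOpen b' with hV_def
  have hVk : V ≤ gl K k := Y.basicOpen_le b'
  have hVU : V ≤ g ⁻¹ᵁ U := hVk.trans (gl_le K k)
  obtain ⟨_, ⟨e₀, rfl⟩, hT⟩ := (critAt_iff_critT f L V _ x).1 (hcritL V haffV x hyb')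
  have hxm : x ∈ gl L (sec f u V e₀) := by
    obtain ⟨b, -, D, hDG, -, -, hxD, -, -⟩ := hT
    exact hDG hxD
  obtain ⟨_, ⟨w₁, hw₁, rfl⟩, hxw₁⟩ :=
    exists_gl_of_mem_span f u hL V _ e₀ (hspan V hVU haffV e₀) x hxm
  set m₁ := sec f u V (res E hVU w₁) with hm₁_def
  have hT₁ : CritT (gl L m₁) (TS f L V m₁ (Set.range (sec f u V))) ⊤ x :=
    CritT.change_gen f L V _ x _ m₁ ⟨e₀, rfl⟩ hxw₁ hT
  -- the section of `M`
  set mw₁ := sec f u (g ⁻¹ᵁ U) w₁ with hmw₁_def
  have hm₁res : m₁ = res L (f.preimage_mono hVU) mw₁ := (sec_res f u hVU w₁).symm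
  have hglm₁ : gl L m₁ = gl L mw₁ ⊓ f ⁻¹ᵁ V := by rw [hm₁res, gl_res]
  set μ₀ := μ f g u U w₁ k with hμ₀_def
  have hμ₀ : μ₀ ∈ SgM := hSgM w₁ hw₁ k hk
  have hglμ : gl MM μ₀ = gl L mw₁ ⊓ f ⁻¹ᵁ (gl K k) := gl_μ f g u hL hK U w₁ k
  have hΦle : gl MM μ₀ ≤ f ⁻¹ᵁ (gl K k) := by rw [hglμ]; exact inf_le_right
  set Φ : Γ(Y, gl K k) →+* Γ(X, gl MM μ₀) := (resR hΦle).comp (f.app (gl K k)).hom with hΦ_def
  set TM := TS (f ≫ g) MM U μ₀ SgM with hTM_def
  have hΦ : TS g K U k SgK ≤ TM.comap Φ := by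
    apply Subring.closure_le.2
    rintro _ (⟨r, rfl⟩ | ⟨k', hk', rfl⟩)
    · rw [SetLike.mem_coe, Subring.mem_comap]
      have : Φ (((resR (gl_le K k)).comp (g.app U).hom) r) =
          ((resR (gl_le MM μ₀)).comp ((f ≫ g).app U).hom) r := by
        change resR hΦle ((f.app (gl K k)).hom (resR (gl_le K k) ((g.app U).hom r))) = _
        rw [app_resR, resR_resR]
        rfl
      rw [this]
      exact Subring.subset_closure (Or.inl ⟨r, rfl⟩)
    · rw [SetLike.mem_coe, Subring.mem_comap]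
      have : Φ (ratio K k k') = ratio MM μ₀ (μ f g u U w₁ k') := by
        symm
        apply ratio_eq
        have h2 : ∀ k₁ : Γ(K, g ⁻¹ᵁ U), res NN (gl_le MM μ₀) (PullSec.σ f K (g ⁻¹ᵁ U) k₁) =
            res NN hΦle (PullSec.σ f K (gl K k) (res K (gl_le K k) k₁)) := by
          intro k₁
          rw [← PullSec.σ_res f K (gl_le K k) k₁, res_res]
          rfl
        rw [res_μ f g u U w₁ k, res_μ f g u U w₁ k', h2 k, h2 k', ← ratio_spec K k k',
          PullSec.σ_smul, res_smul, tm_smul_right]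
        rfl
      rw [this]
      exact Subring.subset_closure (Or.inr ⟨_, hSgM w₁ hw₁ k' hk', rfl⟩)
  set d := Φ b' with hd_def
  have hd : d ∈ TM := hΦ hb'
  set Gs : X.Opens := gl MM μ₀ ⊓ f ⁻¹ᵁ V with hGs_def
  have hGs : X.basicOpen d = Gs := by
    rw [hd_def, hΦ_def]
    change X.basicOpen (resR hΦle ((f.app (gl K k)).hom b')) = _
    rw [basicOpen_resR, ← Scheme.preimage_basicOpen]
  have h₁ : Gs ≤ gl MM μ₀ := inf_le_left
  have h₀ : Gs ≤ gl L m₁ := by
    rw [hglm₁, hGs_def, hglμ]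
    exact le_inf (inf_le_left.trans inf_le_left) inf_le_right
  have hxGs : x ∈ Gs := by
    rw [hGs_def, hglμ]
    rw [hglm₁] at hxw₁
    exact ⟨⟨hxw₁.1, hVk hyb'⟩, hyb'⟩
  have hGsV : Gs ≤ f ⁻¹ᵁ V := inf_le_right
  -- functions from `V`
  have hg1 : ∀ r : Γ(Y, V), resR hGsV ((f.app V).hom r) ∈ fracRing TM d hd Gs h₁ := by
    intro r
    obtain ⟨n, t, ht, hrt⟩ := hfK r
    refine ⟨n, Φ t, hΦ ht, ?_⟩
    have := congrArg (fun z => resR hGsV ((f.app V).hom z)) hrt
    simp only [map_mul, map_pow] at this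
    rw [app_resR, app_resR, resR_resR, resR_resR] at this
    rw [hd_def, hΦ_def]
    change _ * resR h₁ (resR hΦle _) ^ n = resR h₁ (resR hΦle _)
    rw [resR_resR, resR_resR]
    exact this
  have htr : TS f L V m₁ (Set.range (sec f u V)) ≤
      (fracRing TM d hd Gs h₁).comap (resR h₀) := by
    apply Subring.closure_le.2
    rintro _ (⟨r, rfl⟩ | ⟨_, ⟨e, rfl⟩, rfl⟩)
    · rw [SetLike.mem_coe, Subring.mem_comap]
      change resR h₀ (resR _ _) ∈ _
      rw [resR_resR]
      exact hg1 r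
    · rw [SetLike.mem_coe, Subring.mem_comap]
      have he := hspan V hVU haffV e
      induction he using Submodule.span_induction with
      | mem s hs =>
        obtain ⟨w, hw, rfl⟩ := hs
        refine ⟨0, ratio MM μ₀ (μ f g u U w k),
          Subring.subset_closure (Or.inr ⟨_, hSgM w hw k hk, rfl⟩), ?_⟩
        rw [pow_zero, mul_one]
        symm
        apply ratio_eq_le MM μ₀ (μ f g u U w k) h₁
        have h1 : ∀ w' : Γ(E, g ⁻¹ᵁ U), res MM (h₁.trans (gl_le MM μ₀)) (μ f g u U w' k) =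
            tm L NN Gs (res L (h₀.trans (gl_le L m₁)) (sec f u V (res E hVU w')))
              (res NN (h₁.trans (gl_le MM μ₀)) (PullSec.σ f K (g ⁻¹ᵁ U) k)) := by
          intro w'
          refine (res_μ f g u U w' k _).trans ?_
          rw [← sec_res f u hVU w', res_res]
          rfl
        rw [h1 w₁, h1 w, ← tm_smul_left]
        congr 1
        exact ratio_spec_le L m₁ _ h₀
      | zero =>
        rw [sec_zero, ratio_zero, map_zero]
        exact Subring.zero_mem _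
      | add e₁ e₂ _ _ ih₁ ih₂ =>
        rw [sec_add, ratio_add, map_add]
        exact Subring.add_mem _ ih₁ ih₂
      | smul r e₁ _ ih =>
        rw [sec_smul, ratio_smul, map_mul, resR_resR]
        exact Subring.mul_mem _ (hg1 r) ih
  have hfin := CritT.transfer d hd Gs hGs h₀ h₁ htr (hT₁.shrink Gs hxGs)
  exact (critAt_iff_critT (f ≫ g) MM U SgM x).2 ⟨μ₀, hμ₀, hfin.shrink ⊤ trivial⟩

end Comp

end Groth.Agent.Helper1.VT
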