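import Mathlib
import Groth.Agent.Lib.Helper1.VT29
import Groth.Agent.Lib.Helper1.VT23
import Groth.Agent.Lib.Helper1.CompAmple
import Groth.Agent.Lib.Helper1.HProj2
import Groth.Agent.Lib.Helper1.VeryAmple3
import Groth.Agent.Lib.Helper1.AmpleLib3
import Groth.Agent.Lib.Helper1.GlobGenLoc

/-!
# Very ample modules and composition (helper1 library, very ample theory 30)
-/

set_option autoImplicit false
universe u
open CategoryTheory CategoryTheory.Limits AlgebraicGeometry TopologicalSpace Opposite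

namespace Groth.Agent.Helper1.VT

open Groth.Agent.Helper1.QcCech Groth.Agent.Helper1.LGen Groth.Agent.Helper1.CocycleIso
open Groth.Agent.Helper1 Groth.Agent.Helper1.TmulLib
open Groth.Agent.Helper1.GP1 Groth.Agent.Helper1.GP2 Groth.Agent.Helper1.GP3

/-- **the criterion from explicit immersion data** -/
theorem exists_crit_of_data {X Y P : Scheme.{u}} (q : X ⟶ Y) (L : X.Modules)
    (E : Y.Modules) [E.IsQuasicoherent] (𝒮 : RelProj.QCGrAlg Y) (j : E ⟶ 𝒮.toModule)
    (hj : RelProj.IsGrSymAlg E 𝒮 j) (p : P ⟶ Y)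
    (chart : ∀ (U : Y.Opens) (hU : IsAffineOpen U),
      (((p ⁻¹ᵁ U : P.Opens) : Scheme.{u}) ≅ Proj (𝒮.deg U hU)))
    (hP : RelProj.IsRelProj 𝒮 p chart) (O1 : P.Modules)
    (lam : ∀ (U : Y.Opens) (hU : IsAffineOpen U),
      O1 ⟶ (Scheme.Modules.pushforward (RelProj.emb p chart U hU)).obj
        (GrTwist.twist (𝒮.deg U hU) 1))
    (hO1 : RelProj.IsRelTwist 𝒮 p chart 1 O1 lam) (i : X ⟶ P) (hi : IsImmersion i)
    (hip : i ≫ p = q) (eL : L ≅ (Scheme.Modules.pullback i).obj O1) :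
    ∃ (u : E ⟶ (Scheme.Modules.pushforward q).obj L),
      (∀ (U : Y.AffineZariskiSite) (x : X), q x ∈ U.1 → ∃ ε : Γ(E, U.1), x ∈ W q u U.1 ε) ∧
      (∀ (U : Y.AffineZariskiSite) (x : X), q x ∈ U.1 →
        CritAt q L U.1 (Set.range (sec q u U.1)) x) := by
  subst hip
  set can := PhiMap.phi j hP hO1 hj.2 with hcandef
  have hcan := PhiMap.phi_spec j hP hO1 hj.2
  let τ : (Scheme.Modules.pullback i).obj O1 ≅ L := eL.symm
  let u : E ⟶ (Scheme.Modules.pushforward (i ≫ p)).obj L :=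
    can ≫ (Scheme.Modules.pushforward p).map
      ((Scheme.Modules.pullbackPushforwardAdjunction i).unit.app O1 ≫
        (Scheme.Modules.pushforward i).map τ.hom) ≫
      (Scheme.Modules.pushforwardComp i p).hom.app L
  have hτ : ∀ (U : Y.AffineZariskiSite) (_ : True) (ε : Γ(E, U.1)),
      τ.hom.app (i ⁻¹ᵁ p ⁻¹ᵁ U.1) (mSec can i U.1 ε) = sec (i ≫ p) u U.1 ε := by
    intro U _ ε
    rfl
  have hBcov : ∀ y : Y, ∃ U : Y.AffineZariskiSite, True ∧ y ∈ U.1 := by
    intro y
    obtain ⟨U, hU, hyU⟩ := RP6.exists_affine_mem y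
    exact ⟨⟨U, hU⟩, trivial, hyU⟩
  have hgen : ∀ U : Y.AffineZariskiSite, True → ∀ x : X, (i ≫ p) x ∈ U.1 →
      ∃ ε : Γ(E, U.1), x ∈ W (i ≫ p) u U.1 ε := by
    intro U _ x hx
    have hx' : i x ∈ p ⁻¹ᵁ U.1 := hx
    obtain ⟨ε, hε⟩ := exists_mem_Dκ hj U (i x) hx'
    refine ⟨ε, ?_⟩
    have h1 : gl L (τ.hom.app (i ⁻¹ᵁ p ⁻¹ᵁ U.1) (mSec can i U.1 ε)) =
        i ⁻¹ᵁ Dκ hj p chart U ε := (gl_iso τ _).trans (gl_mSec hj hO1 can hcan i U ε)
    unfold W
    rw [← hτ U trivial ε]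
    have h2 : x ∈ gl L (τ.hom.app (i ⁻¹ᵁ p ⁻¹ᵁ U.1) (mSec can i U.1 ε)) := by
      rw [h1]; exact hε
    exact h2
  have hr := isGlued_of_iso hj hP hO1 can hcan i u τ (fun _ => True) hτ
  have : IsImmersion i := hi
  refine ⟨u, fun U x hx => hgen U trivial x hx, fun U x hx => ?_⟩
  exact hr.critAt (i ≫ p) u hj hP (fun _ => True) hBcov hgen U trivial x hx

/-- for a morphism of finite type over a quasi-compact quasi-separated base, the criterion holds
for a quasi-coherent module of finite type -/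
theorem exists_crit_finiteType {X Y : Scheme.{u}}
    (hY : (CompactSpace Y ∧ QuasiSeparatedSpace Y) ∨ NoetherianSpace Y) (q : X ⟶ Y)
    [QuasiCompact q] [LocallyOfFiniteType q] (L : X.Modules)
    (h : RelProj.IsRelVeryAmple q L) :
    ∃ (E : Y.Modules) (_ : E.IsQuasicoherent) (_ : CohB1.IsFT E)
      (u : E ⟶ (Scheme.Modules.pushforward q).obj L),
      (∀ (U : Y.AffineZariskiSite) (x : X), q x ∈ U.1 → ∃ ε : Γ(E, U.1), x ∈ W q u U.1 ε) ∧
      (∀ (U : Y.AffineZariskiSite) (x : X), q x ∈ U.1 →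
        CritAt q L U.1 (Set.range (sec q u U.1)) x) := by
  obtain ⟨E, hE, hFT, P, p, chart, hP, O1, lam, hO1, r, hr, hrp, ⟨eL⟩⟩ :=
    exists_finiteType_immersion' hY q L h
  obtain ⟨u, hgen, hcrit⟩ := exists_crit_of_data q L E (SymAlg.symGr E) (SymAlg.jGr E)
    (SymAlg.isGrSymAlg E) p chart hP O1 lam hO1 r hr hrp eL
  exact ⟨E, hE, hFT, u, hgen, hcrit⟩

section Span

open Groth.Agent.Helper1.SubSh

variable {X : Scheme.{u}} {F : X.Modules}

/-- on an affine open, a section of a quasi-coherent module which is locally in the span of a set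
of sections is in the span -/
theorem mem_span_of_mem_genOn [F.IsQuasicoherent] {V : X.Opens} (hV : IsAffineOpen V)
    (P : Set Γ(F, V)) (e : Γ(F, V)) (he : e ∈ (LocalSub.genOn V P).carrier V) :
    e ∈ Submodule.span Γ(X, V) P := by
  have hB : X.basicOpen (1 : Γ(X, V)) = V := X.basicOpen_of_isUnit isUnit_one
  have hle : X.basicOpen (1 : Γ(X, V)) ≤ V := X.basicOpen_le _
  have hy : res F hle e ∈ (LocalSub.genOn V P).carrier (X.basicOpen (1 : Γ(X, V))) :=
    (LocalSub.genOn V P).res_mem hle he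
  obtain ⟨n, t, ht, et⟩ := LocalSub.psi_of_mem_genOn P le_rfl (1 : Γ(X, V)) hV hy
  rw [map_one, one_pow, one_smul] at et
  have hte : t = e := PullSec.res_injective_of_eq F hB et
  rw [← hte]
  have : (LocalSub.genPre V P).carrier V = Submodule.span Γ(X, V) P := by
    change Submodule.span Γ(X, V) _ = _
    congr 1
    ext z
    constructor
    · rintro ⟨h, p, hp, rfl⟩
      rwa [res_self]
    · intro hz
      exact ⟨le_rfl, z, hz, (res_self F _ z).symm⟩
  rw [← this]
  exact ht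

/-- a quasi-coherent module generated by a family of global sections is spanned by them over
every affine open -/
theorem mem_span_of_epi_ofSections [F.IsQuasicoherent] {ι : Type u} (s : ι → Γ(F, ⊤))
    [Epi (GlobGen.ofSections s)] {V : X.Opens} (hV : IsAffineOpen V) (e : Γ(F, V)) :
    e ∈ Submodule.span Γ(X, V) (Set.range fun i => res F (le_top : V ≤ ⊤) (s i)) := by
  apply mem_span_of_mem_genOn hV
  have h := GlobGen.mem_loc_of_epi s e
  intro x hx
  obtain ⟨W, hW, hxW, hm⟩ := h x hx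
  refine ⟨W, hW, hxW, ?_⟩
  have hle : (GlobGen.spanPre s).carrier W ≤
      (LocalSub.genPre V (Set.range fun i => res F (le_top : V ≤ ⊤) (s i))).carrier W := by
    apply Submodule.span_le.2
    rintro _ ⟨i, rfl⟩
    apply Submodule.subset_span
    exact ⟨hW, _, ⟨i, rfl⟩, by rw [res_res]⟩
  exact hle hm

end Span

/-- the criterion over an affine base, for all sections over the whole base -/
theorem isRelVeryAmple_of_critAt_top {X Z : Scheme.{u}} [IsAffine Z] (h : X ⟶ Z) [QuasiCompact h]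
    [QuasiSeparated h] (M : X.Modules) (hM : PicF.IsInvertible M)
    (hcrit : ∀ x : X, CritAt h M ⊤ Set.univ x) : RelProj.IsRelVeryAmple h M := by
  have : M.IsQuasicoherent := InvQc.isQuasicoherent_of_isInvertible M hM
  have hE : ((Scheme.Modules.pushforward h).obj M).IsQuasicoherent :=
    PushQc.isQuasicoherent_pushforward h M
  apply isRelVeryAmple_of_crit h M ((Scheme.Modules.pushforward h).obj M) (𝟙 _) (fun _ => True)
  · intro _ _ _ _; trivial
  · intro y
    exact ⟨⟨⊤, isAffineOpen_top Z⟩, trivial, trivial⟩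
  · intro Ua _ x hx
    obtain ⟨m, -, b, -, hxb, -, -⟩ := hcrit x
    have hxm : x ∈ gl M m := X.basicOpen_le b hxb
    refine ⟨res M (h.preimage_mono (le_top : Ua.1 ≤ ⊤)) m, ?_⟩
    unfold W
    rw [sec_id, gl_res]
    exact ⟨hxm, hx⟩
  · intro x
    refine ⟨⟨⊤, isAffineOpen_top Z⟩, trivial, trivial, ?_⟩
    refine CritAt.mono h M ?_ (hcrit x)
    intro m _
    exact ⟨m, rfl⟩

section Assoc

open Groth.Agent.Helper1.TwForm Groth.Agent.Helper1.PullPow

variable {X Y : Scheme.{u}} (f : X ⟶ Y)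

/-- `(L ⊗ f^*K^n) ⊗ f^*K ≅ L ⊗ f^*K^(n+1)` -/
theorem nonempty_tensor_pullback_succ_iso {L : X.Modules} (hL : PicF.IsInvertible L)
    {K : Y.Modules} (hK : PicF.IsInvertible K) (n : ℕ) :
    Nonempty (CohB1.tensorMod
        (CohB1.tensorMod L ((Scheme.Modules.pullback f).obj (CohB1.tensorPow K n)))
        ((Scheme.Modules.pullback f).obj K) ≅
      CohB1.tensorMod L ((Scheme.Modules.pullback f).obj (CohB1.tensorPow K (n + 1)))) := by
  set M' := (Scheme.Modules.pullback f).obj K with hM'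
  have hM'inv : PicF.IsInvertible M' := PullGen.isInvertible_pullback f hK
  have hloc := locFrame_of_isInvertible hL hM'inv
  let S₂ := ((Tw.snd L M').pow n).ofIso (powIso f hK n).symm
  let T₁ := ((Tw.fst L M').tensorR S₂).tensorR (Tw.snd L M')
  let S₃ := ((Tw.snd L M').pow (n + 1)).ofIso (powIso f hK (n + 1)).symm
  let T₂ := (Tw.fst L M').tensorR S₃
  exact ⟨Tw.iso T₁ (T₂.cast (by push_cast; ring) (by push_cast; ring)) hloc⟩

end Assoc

section AffineBase

variable {X Y Z : Scheme.{u}}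

set_option maxHeartbeats 800000 in
/-- **the composition theorem over an affine base** -/
theorem eventually_isRelVeryAmple_comp_of_isAffine [IsAffine Z] (f : X ⟶ Y) [QuasiCompact f]
    [LocallyOfFiniteType f] (g : Y ⟶ Z) [QuasiCompact g]
    (L : X.Modules) (hL : PicF.IsInvertible L) (hLva : RelProj.IsRelVeryAmple f L)
    (K : Y.Modules) (hK : PicF.IsInvertible K) (hKva : RelProj.IsRelVeryAmple g K) :
    ∃ n₀ : ℕ, 0 < n₀ ∧ ∀ n : ℕ, n₀ ≤ n →
      RelProj.IsRelVeryAmple (f ≫ g)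
        (CohB1.tensorMod L ((Scheme.Modules.pullback f).obj (CohB1.tensorPow K n))) := by
  have hsepg : IsSeparated g := isSeparated_of_isRelVeryAmple g K hKva
  have hsepf : IsSeparated f := isSeparated_of_isRelVeryAmple f L hLva
  have hcY : CompactSpace Y := QuasiCompact.compactSpace_of_compactSpace g
  have hqsY : QuasiSeparatedSpace Y := quasiSeparatedSpace_of_quasiSeparated g
  obtain ⟨E', hE', hFT, u', -, hcrit'⟩ :=
    exists_crit_finiteType (Or.inl ⟨hcY, hqsY⟩) f L hLva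
  have hKamp : CohB1.IsAmple K :=
    HProj.isAmple_of_isRelAmple_of_isAffine g (VeryAmple.main5721 g K hKva)
  obtain ⟨n₁, hn₁⟩ := AmpleLib.eventually_globallyGenerated hKamp E' ⟨hE', hFT⟩
  obtain ⟨F, hF, v, -, hcritK⟩ := exists_crit_of_isRelVeryAmple g K hKva
  refine ⟨n₁ + 1, Nat.succ_pos _, fun n hn => ?_⟩
  obtain ⟨n', rfl⟩ : ∃ n', n = n' + 1 := ⟨n - 1, by omega⟩
  have hn' : n₁ ≤ n' := by omega
  set A := CohB1.tensorPow K n' with hA_def
  have hA : PicF.IsInvertible A := TwForm.isInvertible_tensorPow hK n'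
  have hAq : A.IsQuasicoherent := InvQc.isQuasicoherent_of_isInvertible A hA
  set NA := (Scheme.Modules.pullback f).obj A with hNA_def
  have hNA : PicF.IsInvertible NA := PullGen.isInvertible_pullback f hA
  set L2 := CohB1.tensorMod L NA with hL2_def
  have hL2 : PicF.IsInvertible L2 := TwForm.isInvertible_tensorMod hL hNA
  set E2 := CohB1.tensorMod E' A with hE2_def
  have hE2q : E2.IsQuasicoherent := Groth.Agent.Lead.TilT.isQuasicoherent_tensorMod E' A
  set u2 : E2 ⟶ (Scheme.Modules.pushforward f).obj L2 := uTens f u' (adjU f (𝟙 NA)) with hu2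
  have hcrit2 : ∀ (V : Y.Opens), IsAffineOpen V → ∀ x : X, f x ∈ V →
      CritAt f L2 V (Set.range (sec f u2 V)) x := by
    intro V hV x hx
    obtain ⟨ε', hε'⟩ := exists_gl_of_epi f (𝟙 NA) hNA hV x hx
    exact critAt_tensor f u' (adjU f (𝟙 NA)) hL hNA V x (hcrit' ⟨V, hV⟩ x hx) ε' hε'
  -- global generation
  obtain ⟨ι, pι, hpι⟩ := hn₁ n' hn'
  set s : ι → Γ(E2, ⊤) := fun i => (E2.freeHomEquiv pι i).1 (op ⊤) with hs
  have hps : pι = GlobGen.ofSections s := GlobGen.eq_ofSections pι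
  have hepi : Epi (GlobGen.ofSections s) := hps ▸ hpι
  set SgE : Set Γ(E2, g ⁻¹ᵁ (⊤ : Z.Opens)) := Set.range (fun i => (s i : Γ(E2, g ⁻¹ᵁ ⊤)))
    with hSgE
  have hspan : ∀ (V : Y.Opens) (hV : V ≤ g ⁻¹ᵁ (⊤ : Z.Opens)), IsAffineOpen V → ∀ e : Γ(E2, V),
      e ∈ Submodule.span Γ(Y, V) ((fun w => res E2 hV w) '' SgE) := by
    intro V hV haff e
    have := mem_span_of_epi_ofSections s haff e
    refine Submodule.span_mono ?_ this
    rintro _ ⟨i, rfl⟩
    exact ⟨_, ⟨i, rfl⟩, rfl⟩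
  -- the criterion for the composite
  have hM2 : PicF.IsInvertible (CohB1.tensorMod L2 ((Scheme.Modules.pullback f).obj K)) :=
    TwForm.isInvertible_tensorMod hL2 (PullGen.isInvertible_pullback f hK)
  have hqc : QuasiCompact (f ≫ g) := inferInstance
  have hqs : QuasiSeparated (f ≫ g) := inferInstance
  have hva : RelProj.IsRelVeryAmple (f ≫ g)
      (CohB1.tensorMod L2 ((Scheme.Modules.pullback f).obj K)) := by
    apply isRelVeryAmple_of_critAt_top (f ≫ g) _ hM2
    intro x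
    exact critAt_comp f g u2 hL2 hK ⊤ (Set.range (sec g v ⊤)) SgE hspan hcrit2 x
      (hcritK ⟨⊤, isAffineOpen_top Z⟩ (f x) trivial) Set.univ (fun _ _ _ _ => trivial)
  obtain ⟨e⟩ := nonempty_tensor_pullback_succ_iso f hL hK n'
  exact isRelVeryAmple_of_iso (f ≫ g) e hva

end AffineBase

section General

open Groth.Agent.Helper1.TwForm Groth.Agent.Helper1.AmpleLib Groth.Agent.Helper1.RelAmpleLib
  Groth.Agent.Helper1.PullAmple

variable {X Y Z : Scheme.{u}}

/-- the case of one affine open of the base -/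
theorem eventually_isRelVeryAmple_restrict_comp (f : X ⟶ Y) [QuasiCompact f]
    [LocallyOfFiniteType f] (g : Y ⟶ Z) [QuasiCompact g]
    (L : X.Modules) (hL : PicF.IsInvertible L) (hLva : RelProj.IsRelVeryAmple f L)
    (K : Y.Modules) (hK : PicF.IsInvertible K) (hKva : RelProj.IsRelVeryAmple g K)
    (W : Z.affineOpens) :
    ∃ n₀ : ℕ, 0 < n₀ ∧ ∀ n, n₀ ≤ n →
      RelProj.IsRelVeryAmple ((f ≫ g) ∣_ W.1) ((CohB1.tensorMod L
        ((Scheme.Modules.pullback f).obj (CohB1.tensorPow K n))).restrict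
          ((f ≫ g) ⁻¹ᵁ W.1).ι) := by
  set YW : Y.Opens := g ⁻¹ᵁ W.1 with hYW
  have : IsAffine (↑W.1 : Scheme.{u}) := W.2
  have hLW := isRelVeryAmple_restrict f L hLva YW
  have hKW := isRelVeryAmple_restrict g K hKva W.1
  have hLWi : PicF.IsInvertible (L.restrict (f ⁻¹ᵁ YW).ι) := isInvertible_restrict _ hL
  have hKWi : PicF.IsInvertible (K.restrict YW.ι) := isInvertible_restrict _ hK
  obtain ⟨n₀, hn₀, h⟩ := eventually_isRelVeryAmple_comp_of_isAffine (f ∣_ YW) (g ∣_ W.1)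
    (L.restrict (f ⁻¹ᵁ YW).ι) hLWi hLW (K.restrict YW.ι) hKWi hKW
  refine ⟨n₀, hn₀, fun n hn => ?_⟩
  have hA := h n hn
  have hPinv : PicF.IsInvertible ((Scheme.Modules.pullback f).obj (CohB1.tensorPow K n)) :=
    PullGen.isInvertible_pullback f (isInvertible_tensorPow hK n)
  let e₁ := restrictTensorModIso (f ⁻¹ᵁ YW).ι (L := L)
    (L' := (Scheme.Modules.pullback f).obj (CohB1.tensorPow K n))
    (locFrame_of_isInvertible (isInvertible_restrict _ hL) (isInvertible_restrict _ hPinv))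
  let e₂ := restrictPullbackIso f YW (CohB1.tensorPow K n)
  let e₃ := (Scheme.Modules.pullback (f ∣_ YW)).mapIso (restrictTensorPowIso YW.ι hK n)
  have hcomp : (f ≫ g) ∣_ W.1 = f ∣_ YW ≫ g ∣_ W.1 := morphismRestrict_comp f g W.1
  rw [hcomp]
  exact isRelVeryAmple_of_iso _
    (e₁ ≪≫ TwistTens.tensorModCongrRight _ (e₂ ≪≫ e₃)).symm hA

/-- **EGA II 4.4.10 (ii)**: very ample modules and composition -/
theorem eventually_isRelVeryAmple_comp [CompactSpace Z] (f : X ⟶ Y) [QuasiCompact f]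
    [LocallyOfFiniteType f] (g : Y ⟶ Z) [QuasiCompact g]
    (L : X.Modules) (hL : PicF.IsInvertible L) (hLva : RelProj.IsRelVeryAmple f L)
    (K : Y.Modules) (hK : PicF.IsInvertible K) (hKva : RelProj.IsRelVeryAmple g K) :
    ∃ n₀ : ℕ, 0 < n₀ ∧ ∀ n : ℕ, n₀ ≤ n →
      RelProj.IsRelVeryAmple (f ≫ g)
        (CohB1.tensorMod L ((Scheme.Modules.pullback f).obj (CohB1.tensorPow K n))) := by
  have h1 : ∀ z : Z, ∃ W : Z.affineOpens, z ∈ W.1 := by
    intro z
    obtain ⟨_, ⟨W, hW, rfl⟩, hzW, -⟩ :=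
      Z.isBasis_affineOpens.exists_subset_of_mem_open (Set.mem_univ z) isOpen_univ
    exact ⟨⟨W, hW⟩, hzW⟩
  choose W hzW using h1
  obtain ⟨S, hS⟩ := isCompact_univ.elim_finite_subcover (fun z => (((W z).1 : Z.Opens) : Set Z))
    (fun z => (W z).1.isOpen) (fun z _ => Set.mem_iUnion.2 ⟨z, hzW z⟩)
  choose n₀ hn₀ h using fun z =>
    eventually_isRelVeryAmple_restrict_comp f g L hL hLva K hK hKva (W z)
  refine ⟨S.sup n₀ + 1, Nat.succ_pos _, fun n hn => ?_⟩
  have hMinv : PicF.IsInvertible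
      (CohB1.tensorMod L ((Scheme.Modules.pullback f).obj (CohB1.tensorPow K n))) :=
    isInvertible_tensorMod hL (PullGen.isInvertible_pullback f (isInvertible_tensorPow hK n))
  apply isRelVeryAmple_of_openCover (f ≫ g) _ hMinv (fun z : S => (W z.1).1)
  · rw [eq_top_iff]
    intro z _
    obtain ⟨x, hxS, hzx⟩ : ∃ x ∈ S, z ∈ (W x).1 := by
      have := hS (Set.mem_univ z)
      simpa using this
    exact Opens.mem_iSup.2 ⟨⟨x, hxS⟩, hzx⟩
  · intro z
    have : n₀ z.1 ≤ S.sup n₀ := Finset.le_sup (f := n₀) z.2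
    exact h z.1 n (by omega)

end General

end Groth.Agent.Helper1.VT
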