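import Mathlib
import Groth.Agent.Lib.Helper1.VT30
import Groth.Agent.Lib.Helper1.VT27
import Groth.Agent.Lib.Helper1.VT22
import Groth.Agent.Lib.Helper1.VABC

/-!
# Very ample modules with a prescribed quasi-coherent module; fibre products
(helper1 library, very ample theory 31)
-/

set_option autoImplicit false
universe u
open CategoryTheory CategoryTheory.Limits AlgebraicGeometry TopologicalSpace Opposite

namespace Groth.Agent.Helper1.VT

open Groth.Agent.Helper1.QcCech Groth.Agent.Helper1.LGen Groth.Agent.Helper1.CocycleIso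
open Groth.Agent.Helper1 Groth.Agent.Helper1.TmulLib
open Groth.Agent.Helper1.GP1 Groth.Agent.Helper1.GP2 Groth.Agent.Helper1.GP3

section Def

variable {X S : Scheme.{u}}

/-- `L` is very ample relative to `f` through an immersion into the projective bundle of the
given module `E` -/
def IsVAWith (f : X ⟶ S) (L : X.Modules) (E : S.Modules) : Prop :=
  ∃ (𝒮 : RelProj.QCGrAlg S) (j : E ⟶ 𝒮.toModule) (_ : RelProj.IsGrSymAlg E 𝒮 j)
    (P : Scheme.{u}) (p : P ⟶ S)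
    (chart : ∀ (U : S.Opens) (hU : IsAffineOpen U),
      (((p ⁻¹ᵁ U : P.Opens) : Scheme.{u}) ≅ Proj (𝒮.deg U hU)))
    (_ : RelProj.IsRelProj 𝒮 p chart) (O1 : P.Modules)
    (lam : ∀ (U : S.Opens) (hU : IsAffineOpen U),
      O1 ⟶ (Scheme.Modules.pushforward (RelProj.emb p chart U hU)).obj
        (GrTwist.twist (𝒮.deg U hU) 1))
    (_ : RelProj.IsRelTwist 𝒮 p chart 1 O1 lam) (i : X ⟶ P),
    IsImmersion i ∧ i ≫ p = f ∧ Nonempty (L ≅ (Scheme.Modules.pullback i).obj O1)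

theorem isRelVeryAmple_iff_exists_isVAWith (f : X ⟶ S) (L : X.Modules) :
    RelProj.IsRelVeryAmple f L ↔ ∃ E : S.Modules, E.IsQuasicoherent ∧ IsVAWith f L E := by
  constructor
  · rintro ⟨E, hE, 𝒮, j, hj, P, p, chart, hP, O1, lam, hO1, i, hi, hip, he⟩
    exact ⟨E, hE, 𝒮, j, hj, P, p, chart, hP, O1, lam, hO1, i, hi, hip, he⟩
  · rintro ⟨E, hE, 𝒮, j, hj, P, p, chart, hP, O1, lam, hO1, i, hi, hip, he⟩
    exact ⟨E, hE, 𝒮, j, hj, P, p, chart, hP, O1, lam, hO1, i, hi, hip, he⟩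

theorem IsVAWith.isRelVeryAmple {f : X ⟶ S} {L : X.Modules} {E : S.Modules}
    [hE : E.IsQuasicoherent] (h : IsVAWith f L E) : RelProj.IsRelVeryAmple f L :=
  (isRelVeryAmple_iff_exists_isVAWith f L).2 ⟨E, hE, h⟩

theorem IsVAWith.exists_crit {f : X ⟶ S} {L : X.Modules} {E : S.Modules} [E.IsQuasicoherent]
    (h : IsVAWith f L E) :
    ∃ (u : E ⟶ (Scheme.Modules.pushforward f).obj L),
      (∀ (U : S.AffineZariskiSite) (x : X), f x ∈ U.1 → ∃ ε : Γ(E, U.1), x ∈ W f u U.1 ε) ∧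
      (∀ (U : S.AffineZariskiSite) (x : X), f x ∈ U.1 →
        CritAt f L U.1 (Set.range (sec f u U.1)) x) := by
  obtain ⟨𝒮, j, hj, P, p, chart, hP, O1, lam, hO1, i, hi, hip, ⟨eL⟩⟩ := h
  exact exists_crit_of_data f L E 𝒮 j hj p chart hP O1 lam hO1 i hi hip eL

theorem isVAWith_of_crit (f : X ⟶ S) (L : X.Modules) (E : S.Modules) [E.IsQuasicoherent]
    (u : E ⟶ (Scheme.Modules.pushforward f).obj L)
    (hgen : ∀ (U : S.AffineZariskiSite) (x : X), f x ∈ U.1 → ∃ ε : Γ(E, U.1), x ∈ W f u U.1 ε)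
    (hcrit : ∀ (U : S.AffineZariskiSite) (x : X), f x ∈ U.1 →
      CritAt f L U.1 (Set.range (sec f u U.1)) x) : IsVAWith f L E := by
  obtain ⟨P, p, chart, hP, O1, lam, hO1, r, hr, hrp, he⟩ :=
    exists_immersion_of_crit f L E u (fun _ => True) (fun _ _ _ _ => trivial)
      (fun y => by
        obtain ⟨U, hU, hyU⟩ := RP6.exists_affine_mem y
        exact ⟨⟨U, hU⟩, trivial, hyU⟩)
      (fun U _ x hx => hgen U x hx)
      (fun x => by
        obtain ⟨U, hU, hyU⟩ := RP6.exists_affine_mem (f x)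
        exact ⟨⟨U, hU⟩, trivial, hyU, hcrit ⟨U, hU⟩ x hyU⟩)
  exact ⟨SymAlg.symGr E, SymAlg.jGr E, SymAlg.isGrSymAlg E, P, p, chart, hP, O1, lam, hO1, r, hr,
    hrp, he⟩

theorem IsVAWith.of_iso {f : X ⟶ S} {L L' : X.Modules} {E : S.Modules} (e : L ≅ L')
    (h : IsVAWith f L E) : IsVAWith f L' E := by
  obtain ⟨𝒮, j, hj, P, p, chart, hP, O1, lam, hO1, i, hi, hip, ⟨eL⟩⟩ := h
  exact ⟨𝒮, j, hj, P, p, chart, hP, O1, lam, hO1, i, hi, hip, ⟨e.symm ≪≫ eL⟩⟩

theorem IsVAWith.of_module_iso {f : X ⟶ S} {L : X.Modules} {E E' : S.Modules}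
    [E.IsQuasicoherent] [E'.IsQuasicoherent] (e : E ≅ E') (h : IsVAWith f L E) :
    IsVAWith f L E' := by
  obtain ⟨u, hgen, hcrit⟩ := h.exists_crit
  have hsec : ∀ (U : S.Opens) (ε : Γ(E, U)), sec f (e.inv ≫ u) U (e.hom.app U ε) = sec f u U ε := by
    intro U ε
    change u.app U (e.inv.app U (e.hom.app U ε)) = u.app U ε
    rw [PullGen.iso_inv_hom_app]
  apply isVAWith_of_crit f L E' (e.inv ≫ u)
  · intro U x hx
    obtain ⟨ε, hε⟩ := hgen U x hx
    refine ⟨e.hom.app U.1 ε, ?_⟩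
    unfold W at hε ⊢
    rw [hsec]
    exact hε
  · intro U x hx
    refine CritAt.mono f L ?_ (hcrit U x hx)
    rintro _ ⟨ε, rfl⟩
    exact ⟨e.hom.app U.1 ε, hsec U.1 ε⟩

end Def

section BaseChange

/-- **base change** of very ampleness, keeping track of the module -/
theorem IsVAWith.baseChange {X Y X' Y' : Scheme.{u}} {f : X ⟶ Y} {ψ : Y' ⟶ Y} {g' : X' ⟶ X}
    {f' : X' ⟶ Y'} (hsq : IsPullback g' f' f ψ) {L : X.Modules} {E : Y.Modules}
    [E.IsQuasicoherent] (h : IsVAWith f L E) :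
    IsVAWith f' ((Scheme.Modules.pullback g').obj L) ((Scheme.Modules.pullback ψ).obj E) := by
  obtain ⟨𝒮, j, hj, P, p, chart, hP, O1, lam, hO1, i, hi, hip, ⟨eL⟩⟩ := h
  obtain ⟨𝒮', j', hj', P', p', chart', hP', O1', lam', hO1', hh, hpb, ⟨eO⟩⟩ :=
    VABC.exists_bundle_baseChange ψ E 𝒮 j hj p chart hP O1 lam hO1
  have hcomm : (g' ≫ i) ≫ p = f' ≫ ψ := by rw [Category.assoc, hip, hsq.w]
  let i' : X' ⟶ P' := hpb.lift (g' ≫ i) f' hcomm
  have hi'h : i' ≫ hh = g' ≫ i := hpb.lift_fst _ _ _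
  have hi'p : i' ≫ p' = f' := hpb.lift_snd _ _ _
  have himm' : IsImmersion i' := by
    have hbig : IsPullback g' (i' ≫ p') (i ≫ p) ψ := by
      rw [hi'p, hip]
      exact hsq
    have hleft : IsPullback i' g' hh i := IsPullback.of_right hbig.flip hi'h hpb.flip
    exact MorphismProperty.of_isPullback hleft.flip hi
  refine ⟨𝒮', j', hj', P', p', chart', hP', O1', lam', hO1', i', himm', hi'p, ⟨?_⟩⟩
  exact (Scheme.Modules.pullback g').mapIso eL ≪≫
    (Scheme.Modules.pullbackComp g' i).app O1 ≪≫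
    (Scheme.Modules.pullbackCongr hi'h.symm).app O1 ≪≫
    ((Scheme.Modules.pullbackComp i' hh).app O1).symm ≪≫
    (Scheme.Modules.pullback i').mapIso eO

end BaseChange

section Span

open Groth.Agent.Helper1.SubSh

variable {X : Scheme.{u}} {F : X.Modules}

/-- on an affine open `B` inside `V`, a section of a quasi-coherent module which is locally in the
span of the restrictions of a set of sections over `V` is in their span -/
theorem mem_span_of_mem_genOn' [F.IsQuasicoherent] {V B : X.Opens} (hB : IsAffineOpen B)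
    (hBV : B ≤ V) (P : Set Γ(F, V)) (e : Γ(F, B)) (he : e ∈ (LocalSub.genOn V P).carrier B) :
    e ∈ Submodule.span Γ(X, B) ((fun p => res F hBV p) '' P) := by
  have hB1 : X.basicOpen (1 : Γ(X, B)) = B := X.basicOpen_of_isUnit isUnit_one
  have hle : X.basicOpen (1 : Γ(X, B)) ≤ B := X.basicOpen_le _
  have hy : res F hle e ∈ (LocalSub.genOn V P).carrier (X.basicOpen (1 : Γ(X, B))) :=
    (LocalSub.genOn V P).res_mem hle he
  obtain ⟨n, t, ht, et⟩ := LocalSub.psi_of_mem_genOn P hBV (1 : Γ(X, B)) hB hy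
  rw [map_one, one_pow, one_smul] at et
  have hte : t = e := PullSec.res_injective_of_eq F hB1 et
  rw [← hte]
  refine Submodule.span_mono ?_ ht
  rintro _ ⟨h, p, hp, rfl⟩
  exact ⟨p, hp, rfl⟩

end Span

section PullSpan

variable {Y Z : Scheme.{u}} (g : Y ⟶ Z) (G : Z.Modules)

/-- over the preimage of an affine open `U`, the pullback of a quasi-coherent module is spanned,
over affine opens, by the pullbacks of the sections over `U` -/
theorem mem_span_σ [G.IsQuasicoherent] {U : Z.Opens} (hU : IsAffineOpen U) (V : Y.Opens)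
    (hV : V ≤ g ⁻¹ᵁ U) (haff : IsAffineOpen V)
    (e : Γ((Scheme.Modules.pullback g).obj G, V)) :
    e ∈ Submodule.span Γ(Y, V)
      ((fun w => res ((Scheme.Modules.pullback g).obj G) hV w) ''
        (Set.range (PullSec.σ g G U))) := by
  have hq : ((Scheme.Modules.pullback g).obj G).IsQuasicoherent :=
    QcPullGen.isQuasicoherent_pullback g G
  have h1 := mem_genOn_of_epi g (𝟙 ((Scheme.Modules.pullback g).obj G)) hU V hV e
  have h2 : Set.range (sec g (adjU g (𝟙 ((Scheme.Modules.pullback g).obj G))) U) =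
      Set.range (PullSec.σ g G U) := by
    congr 1
  rw [h2] at h1
  exact mem_span_of_mem_genOn' haff hV _ e h1

end PullSpan

section CompThm

variable {X Y Z : Scheme.{u}} (f : X ⟶ Y) (g : Y ⟶ Z)

/-- **composition**: if `L` is very ample relative to `f` through the pullback of a module `G`
on `Z`, and `K` is very ample relative to `g` through `F`, then `L ⊗ f^*K` is very ample relative
to `f ≫ g` through `G ⊗ F` -/
theorem IsVAWith.comp {L : X.Modules} (hL : PicF.IsInvertible L) {K : Y.Modules}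
    (hK : PicF.IsInvertible K) {G F : Z.Modules} [G.IsQuasicoherent] [F.IsQuasicoherent]
    (h1 : IsVAWith f L ((Scheme.Modules.pullback g).obj G)) (h2 : IsVAWith g K F) :
    IsVAWith (f ≫ g) (CohB1.tensorMod L ((Scheme.Modules.pullback f).obj K))
      (CohB1.tensorMod G F) := by
  have hq : ((Scheme.Modules.pullback g).obj G).IsQuasicoherent :=
    QcPullGen.isQuasicoherent_pullback g G
  obtain ⟨u, -, hcritL⟩ := h1.exists_crit
  obtain ⟨v, -, hcritK⟩ := h2.exists_crit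
  let u₁ : G ⟶ (Scheme.Modules.pushforward (f ≫ g)).obj L :=
    (Scheme.Modules.pullbackPushforwardAdjunction g).unit.app G ≫
      (Scheme.Modules.pushforward g).map u ≫ (Scheme.Modules.pushforwardComp f g).hom.app L
  let u₂ : F ⟶ (Scheme.Modules.pushforward (f ≫ g)).obj ((Scheme.Modules.pullback f).obj K) :=
    v ≫ (Scheme.Modules.pushforward g).map
        ((Scheme.Modules.pullbackPushforwardAdjunction f).unit.app K) ≫
      (Scheme.Modules.pushforwardComp f g).hom.app _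
  have hsec₁ : ∀ (U : Z.Opens) (γ : Γ(G, U)),
      sec (f ≫ g) u₁ U γ = sec f u (g ⁻¹ᵁ U) (PullSec.σ g G U γ) := fun U γ => rfl
  have hsec₂ : ∀ (U : Z.Opens) (φ : Γ(F, U)),
      sec (f ≫ g) u₂ U φ = PullSec.σ f K (g ⁻¹ᵁ U) (sec g v U φ) := fun U φ => rfl
  have hGF : (CohB1.tensorMod G F).IsQuasicoherent :=
    Groth.Agent.Lead.TilT.isQuasicoherent_tensorMod G F
  have hcrit : ∀ (U : Z.AffineZariskiSite) (x : X), (f ≫ g) x ∈ U.1 →
      CritAt (f ≫ g) (CohB1.tensorMod L ((Scheme.Modules.pullback f).obj K)) U.1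
        (Set.range (sec (f ≫ g) (uTens (f ≫ g) u₁ u₂) U.1)) x := by
    intro U x hx
    refine critAt_comp f g u hL hK U.1 (Set.range (sec g v U.1)) (Set.range (PullSec.σ g G U.1))
      (fun V hV haff e => mem_span_σ g G U.2 V hV haff e)
      (fun V hV x hx => hcritL ⟨V, hV⟩ x hx) x (hcritK U (f x) hx) _ ?_
    rintro _ ⟨γ, rfl⟩ _ ⟨φ, rfl⟩
    refine ⟨tm G F U.1 γ φ, ?_⟩
    rw [sec_uTens, hsec₁, hsec₂]
    rfl
  apply isVAWith_of_crit (f ≫ g) _ (CohB1.tensorMod G F) (uTens (f ≫ g) u₁ u₂) ?_ hcrit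
  intro U x hx
  obtain ⟨_, ⟨ε, rfl⟩, b, -, hxb, -, -⟩ := hcrit U x hx
  exact ⟨ε, X.basicOpen_le b hxb⟩

end CompThm

section FibreProd

/-- **fibre products**: the external tensor product of very ample modules is very ample relative
to the product morphism, through the external tensor product of the modules -/
theorem isVAWith_fibreProd {S X₁ X₂ Y₁ Y₂ P Q : Scheme.{u}} (y₁ : Y₁ ⟶ S) (y₂ : Y₂ ⟶ S)
    (f₁ : X₁ ⟶ Y₁) (f₂ : X₂ ⟶ Y₂) (p₁ : P ⟶ X₁) (p₂ : P ⟶ X₂)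
    (hP : IsPullback p₁ p₂ (f₁ ≫ y₁) (f₂ ≫ y₂))
    (q₁ : Q ⟶ Y₁) (q₂ : Q ⟶ Y₂) (hQ : IsPullback q₁ q₂ y₁ y₂) (h : P ⟶ Q)
    (hh₁ : h ≫ q₁ = p₁ ≫ f₁) (hh₂ : h ≫ q₂ = p₂ ≫ f₂)
    (L₁ : X₁.Modules) (hL₁ : PicF.IsInvertible L₁) (E₁ : Y₁.Modules) [E₁.IsQuasicoherent]
    (hva₁ : IsVAWith f₁ L₁ E₁)
    (L₂ : X₂.Modules) (hL₂ : PicF.IsInvertible L₂) (E₂ : Y₂.Modules) [E₂.IsQuasicoherent]
    (hva₂ : IsVAWith f₂ L₂ E₂) :
    IsVAWith h
      (CohB1.tensorMod ((Scheme.Modules.pullback p₁).obj L₁) ((Scheme.Modules.pullback p₂).obj L₂))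
      (CohB1.tensorMod ((Scheme.Modules.pullback q₁).obj E₁)
        ((Scheme.Modules.pullback q₂).obj E₂)) := by
  -- the intermediate product `T = Y₁ ×_S X₂`
  let T := pullback y₁ (f₂ ≫ y₂)
  let t₁ : T ⟶ Y₁ := pullback.fst y₁ (f₂ ≫ y₂)
  let t₂ : T ⟶ X₂ := pullback.snd y₁ (f₂ ≫ y₂)
  have hT : IsPullback t₁ t₂ y₁ (f₂ ≫ y₂) := IsPullback.of_hasPullback _ _
  let b : T ⟶ Q := hQ.lift t₁ (t₂ ≫ f₂) (by rw [Category.assoc]; exact hT.w)
  have hb₁ : b ≫ q₁ = t₁ := hQ.lift_fst _ _ _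
  have hb₂ : b ≫ q₂ = t₂ ≫ f₂ := hQ.lift_snd _ _ _
  let a : P ⟶ T := hT.lift (p₁ ≫ f₁) p₂ (by rw [Category.assoc]; exact hP.w)
  have ha₁ : a ≫ t₁ = p₁ ≫ f₁ := hT.lift_fst _ _ _
  have ha₂ : a ≫ t₂ = p₂ := hT.lift_snd _ _ _
  have hab : a ≫ b = h := by
    apply hQ.hom_ext
    · rw [Category.assoc, hb₁, ha₁, hh₁]
    · rw [Category.assoc, hb₂, ← Category.assoc, ha₂, hh₂]
  -- the two cartesian squares
  have sq2 : IsPullback t₂ b f₂ q₂ := by
    have houter : IsPullback (b ≫ q₁) t₂ y₁ (f₂ ≫ y₂) := by rw [hb₁]; exact hT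
    exact (IsPullback.of_right houter hb₂ hQ).flip
  have sq1 : IsPullback p₁ a f₁ t₁ := by
    have houter : IsPullback (a ≫ t₂) p₁ (f₂ ≫ y₂) (f₁ ≫ y₁) := by rw [ha₂]; exact hP.flip
    exact (IsPullback.of_right houter ha₁ hT.flip).flip
  have hA : IsVAWith a ((Scheme.Modules.pullback p₁).obj L₁)
      ((Scheme.Modules.pullback t₁).obj E₁) := hva₁.baseChange sq1
  have hB : IsVAWith b ((Scheme.Modules.pullback t₂).obj L₂)
      ((Scheme.Modules.pullback q₂).obj E₂) := hva₂.baseChange sq2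
  have hq1 : ((Scheme.Modules.pullback q₁).obj E₁).IsQuasicoherent :=
    QcPullGen.isQuasicoherent_pullback q₁ E₁
  have hq2 : ((Scheme.Modules.pullback q₂).obj E₂).IsQuasicoherent :=
    QcPullGen.isQuasicoherent_pullback q₂ E₂
  have hq3 : ((Scheme.Modules.pullback t₁).obj E₁).IsQuasicoherent :=
    QcPullGen.isQuasicoherent_pullback t₁ E₁
  have hq4 : ((Scheme.Modules.pullback b).obj ((Scheme.Modules.pullback q₁).obj E₁)).IsQuasicoherent :=
    QcPullGen.isQuasicoherent_pullback b _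
  let eE : (Scheme.Modules.pullback t₁).obj E₁ ≅
      (Scheme.Modules.pullback b).obj ((Scheme.Modules.pullback q₁).obj E₁) :=
    (Scheme.Modules.pullbackCongr hb₁.symm).app E₁ ≪≫
      ((Scheme.Modules.pullbackComp b q₁).app E₁).symm
  have hA' := hA.of_module_iso eE
  have hC := IsVAWith.comp a b (PullGen.isInvertible_pullback p₁ hL₁)
    (PullGen.isInvertible_pullback t₂ hL₂) hA' hB
  let eL : (Scheme.Modules.pullback a).obj ((Scheme.Modules.pullback t₂).obj L₂) ≅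
      (Scheme.Modules.pullback p₂).obj L₂ :=
    (Scheme.Modules.pullbackComp a t₂).app L₂ ≪≫ (Scheme.Modules.pullbackCongr ha₂).app L₂
  rw [← hab]
  exact hC.of_iso (TwistTens.tensorModCongrRight _ eL)

/-- **EGA II 4.4.10 (iv)** -/
theorem isRelVeryAmple_fibreProd {S X₁ X₂ Y₁ Y₂ P Q : Scheme.{u}} (y₁ : Y₁ ⟶ S) (y₂ : Y₂ ⟶ S)
    (f₁ : X₁ ⟶ Y₁) (f₂ : X₂ ⟶ Y₂) (p₁ : P ⟶ X₁) (p₂ : P ⟶ X₂)
    (hP : IsPullback p₁ p₂ (f₁ ≫ y₁) (f₂ ≫ y₂))
    (q₁ : Q ⟶ Y₁) (q₂ : Q ⟶ Y₂) (hQ : IsPullback q₁ q₂ y₁ y₂) (h : P ⟶ Q)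
    (hh₁ : h ≫ q₁ = p₁ ≫ f₁) (hh₂ : h ≫ q₂ = p₂ ≫ f₂)
    (L₁ : X₁.Modules) (hL₁ : PicF.IsInvertible L₁) (hva₁ : RelProj.IsRelVeryAmple f₁ L₁)
    (L₂ : X₂.Modules) (hL₂ : PicF.IsInvertible L₂) (hva₂ : RelProj.IsRelVeryAmple f₂ L₂) :
    RelProj.IsRelVeryAmple h
      (CohB1.tensorMod ((Scheme.Modules.pullback p₁).obj L₁)
        ((Scheme.Modules.pullback p₂).obj L₂)) := by
  obtain ⟨E₁, hE₁, h1⟩ := (isRelVeryAmple_iff_exists_isVAWith f₁ L₁).1 hva₁
  obtain ⟨E₂, hE₂, h2⟩ := (isRelVeryAmple_iff_exists_isVAWith f₂ L₂).1 hva₂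
  have hq1 : ((Scheme.Modules.pullback q₁).obj E₁).IsQuasicoherent :=
    QcPullGen.isQuasicoherent_pullback q₁ E₁
  have hq2 : ((Scheme.Modules.pullback q₂).obj E₂).IsQuasicoherent :=
    QcPullGen.isQuasicoherent_pullback q₂ E₂
  have hq : (CohB1.tensorMod ((Scheme.Modules.pullback q₁).obj E₁)
      ((Scheme.Modules.pullback q₂).obj E₂)).IsQuasicoherent :=
    Groth.Agent.Lead.TilT.isQuasicoherent_tensorMod _ _
  exact (isVAWith_fibreProd y₁ y₂ f₁ f₂ p₁ p₂ hP q₁ q₂ hQ h hh₁ hh₂ L₁ hL₁ E₁ h1 L₂ hL₂ E₂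
    h2).isRelVeryAmple

end FibreProd

end Groth.Agent.Helper1.VT
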