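import Mathlib
import Groth.Agent.Lib.Helper1.SymV2
import Groth.Agent.Lib.Helper1.VT31

set_option autoImplicit false
universe u
open CategoryTheory CategoryTheory.Limits AlgebraicGeometry TopologicalSpace Opposite

namespace Groth.Agent.Helper1.SymV

open Groth.Agent.Helper1.QcCech Groth.Agent.Helper1.LGen
open Groth.Agent.Helper1 Groth.Agent.Helper1.VT Groth.Agent.Helper1.SymBr
open Groth.Agent.Helper1.SymInvLocU

section Main
variable {Y X P PL : Scheme.{u}} (q : X ⟶ Y) (L : X.Modules) [L.IsQuasicoherent]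
  {𝒜 : RelProj.QCGrAlg Y} {𝒮L : RelProj.QCGrAlg X} {j : L ⟶ 𝒮L.toModule}
  (hj : RelProj.IsGrSymAlg L 𝒮L j) (u : RelProj.QGrHom q 𝒜 𝒮L)
  {p : P ⟶ Y}
  {chart : ∀ (U : Y.Opens) (hU : IsAffineOpen U),
    (((p ⁻¹ᵁ U : P.Opens) : Scheme.{u}) ≅ Proj (𝒜.deg U hU))}
  {pL : PL ⟶ X}
  {chartL : ∀ (U : X.Opens) (hU : IsAffineOpen U),
    (((pL ⁻¹ᵁ U : PL.Opens) : Scheme.{u}) ≅ Proj (𝒮L.deg U hU))}

include hj in
/-- if the ratio criterion holds for a module `E` mapping to `q_* L` whose sections have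
degree-one lifts in `𝒜` compatible with `u`, then `r_{L,ψ}` is everywhere defined and an
immersion -/
theorem isImmersion_of_crit (hL : PicF.IsInvertible L) (hP : RelProj.IsRelProj 𝒜 p chart)
    (hPL : RelProj.IsRelProj 𝒮L pL chartL)
    (r : ((RelProj.domQ u pL chartL : PL.Opens) : Scheme.{u}) ⟶ P)
    (hr : RelProj.IsProjQMapOn u p chart pL chartL (RelProj.domQ u pL chartL) r)
    {E : Y.Modules} (ι : E ⟶ (Scheme.Modules.pushforward q).obj L)
    (hlift : ∀ (U : Y.Opens) (hU : IsAffineOpen U) (ε : Γ(E, U)), ∃ a ∈ 𝒜.deg U hU 1,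
      (u.app U).hom a = val (A := 𝒮L.toQCAlg) j (q ⁻¹ᵁ U) (sec q ι U ε))
    (hcrit : ∀ (U : Y.AffineZariskiSite) (x : X), q x ∈ U.1 →
      CritAt q L U.1 (Set.range (sec q ι U.1)) x) :
    RelProj.domQ u pL chartL = ⊤ ∧ IsImmersion r := by
  apply isImmersion_of_immCrit q L hj u hL hP hPL r hr
  intro x
  obtain ⟨U, hU, hxU⟩ := RP6.exists_affine_mem (q x)
  obtain ⟨n, hn, s, hs, hx, hc⟩ := immCritFor_of_critAt q hj u hL U hU (Set.range (sec q ι U))
    (by rintro _ ⟨ε, rfl⟩; exact hlift U hU ε) x (hcrit ⟨U, hU⟩ x hxU)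
  exact ⟨U, hU, n, hn, s, hs, hx, hc⟩

include hj in
/-- **S12686** -/
theorem main12686 (hL : PicF.IsInvertible L) (hP : RelProj.IsRelProj 𝒜 p chart)
    (hPL : RelProj.IsRelProj 𝒮L pL chartL)
    (r : ((RelProj.domQ u pL chartL : PL.Opens) : Scheme.{u}) ⟶ P)
    (hr : RelProj.IsProjQMapOn u p chart pL chartL (RelProj.domQ u pL chartL) r)
    (jE : (Scheme.Modules.pushforward q).obj L ⟶ 𝒜.toModule)
    (hdeg : ∀ (U : Y.Opens) (hU : IsAffineOpen U) (x : Γ((Scheme.Modules.pushforward q).obj L, U)),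
      (jE.app U) x ∈ 𝒜.deg U hU 1)
    (hu : ∀ (U : Y.Opens) (x : Γ((Scheme.Modules.pushforward q).obj L, U)),
      (u.app U).hom ((jE.app U) x) = (j.app (q ⁻¹ᵁ U)) x)
    (h : RelProj.IsRelVeryAmple q L) :
    RelProj.domQ u pL chartL = ⊤ ∧ IsImmersion r := by
  obtain ⟨E', hE', hVA⟩ := (isRelVeryAmple_iff_exists_isVAWith q L).1 h
  obtain ⟨u', hgen, hcrit⟩ := hVA.exists_crit
  apply isImmersion_of_crit q L hj u hL hP hPL r hr u'
  · intro U hU ε
    exact ⟨(jE.app U) (sec q u' U ε), hdeg U hU _, hu U _⟩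
  · exact hcrit

end Main

end Groth.Agent.Helper1.SymV
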