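import Mathlib
import Groth.Agent.Lib.Helper1.SymV3
import Groth.Agent.Lib.Helper1.SymBCGr

set_option autoImplicit false
universe u
open CategoryTheory CategoryTheory.Limits AlgebraicGeometry TopologicalSpace Opposite

namespace Groth.Agent.Helper1.SymV

open Groth.Agent.Helper1.QcCech Groth.Agent.Helper1.LGen
open Groth.Agent.Helper1 Groth.Agent.Helper1.VT Groth.Agent.Helper1.SymBr
open Groth.Agent.Helper1.SymInvLocU Groth.Agent.Helper1.SymAlg

section QG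
variable {Y X : Scheme.{u}} (q : X ⟶ Y) (E : Y.Modules)
  {𝒯 : RelProj.QCGrAlg Y} {jE : E ⟶ 𝒯.toModule}
  {L : X.Modules} {𝒮L : RelProj.QCGrAlg X} (jL : L ⟶ 𝒮L.toModule)
  (ι : E ⟶ (Scheme.Modules.pushforward q).obj L)

/-- `jL ∘ ι` on sections -/
noncomputable def ell (U : Y.Opens) : Γ(E, U) →+ 𝒮L.presheaf.obj (op (q ⁻¹ᵁ U)) :=
  { toFun := fun e => val (A := 𝒮L.toQCAlg) jL (q ⁻¹ᵁ U) (sec q ι U e)
    map_zero' := by rw [sec_zero, val_zero]
    map_add' := fun x y => by rw [sec_add, val_add] }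

theorem ell_apply (U : Y.Opens) (e : Γ(E, U)) :
    ell q E jL ι U e = val (A := 𝒮L.toQCAlg) jL (q ⁻¹ᵁ U) (sec q ι U e) := rfl

theorem ell_smul (U : Y.Opens) (r : Γ(Y, U)) (e : Γ(E, U)) :
    ell q E jL ι U (r • e) =
      (q.app U ≫ 𝒮L.str.app (op (q ⁻¹ᵁ U))).hom r * ell q E jL ι U e := by
  rw [ell_apply, ell_apply, sec_smul, val_smul]
  rfl

theorem ell_res {U V : Y.Opens} (h : V ≤ U) (e : Γ(E, U)) :
    (𝒮L.presheaf.map (homOfLE (q.preimage_mono h)).op).hom (ell q E jL ι U e) =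
      ell q E jL ι V (res E h e) := by
  rw [ell_apply, ell_apply, ← sec_res, val_res]

variable [E.IsQuasicoherent] (h𝒯 : RelSpec.IsSymAlg E 𝒯.toQCAlg jE)

/-- the homomorphism on affine opens -/
noncomputable def tauU (U : Y.Opens) (hU : IsAffineOpen U) :
    𝒯.presheaf.obj (op U) →+* 𝒮L.presheaf.obj (op (q ⁻¹ᵁ U)) :=
  (exists_secHom E h𝒯 U hU (q.app U ≫ 𝒮L.str.app (op (q ⁻¹ᵁ U))).hom (ell q E jL ι U)
    (ell_smul q E jL ι U)).choose

theorem tauU_str (U : Y.Opens) (hU : IsAffineOpen U) (r : Γ(Y, U)) :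
    tauU q E jL ι h𝒯 U hU ((𝒯.str.app (op U)).hom r) =
      (q.app U ≫ 𝒮L.str.app (op (q ⁻¹ᵁ U))).hom r :=
  (exists_secHom E h𝒯 U hU (q.app U ≫ 𝒮L.str.app (op (q ⁻¹ᵁ U))).hom (ell q E jL ι U)
    (ell_smul q E jL ι U)).choose_spec.1 r

theorem tauU_j (U : Y.Opens) (hU : IsAffineOpen U) (e : Γ(E, U)) :
    tauU q E jL ι h𝒯 U hU (show 𝒯.presheaf.obj (op U) from jE.app U e) = ell q E jL ι U e :=
  (exists_secHom E h𝒯 U hU (q.app U ≫ 𝒮L.str.app (op (q ⁻¹ᵁ U))).hom (ell q E jL ι U)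
    (ell_smul q E jL ι U)).choose_spec.2 e

theorem tauU_res {U V : Y.Opens} (hU : IsAffineOpen U) (hV : IsAffineOpen V) (h : V ≤ U) :
    (tauU q E jL ι h𝒯 V hV).comp (𝒯.presheaf.map (homOfLE h).op).hom =
      (𝒮L.presheaf.map (homOfLE (q.preimage_mono h)).op).hom.comp (tauU q E jL ι h𝒯 U hU) := by
  apply secHom_ext E h𝒯 U hU
  · intro r
    simp only [RingHom.comp_apply]
    have e1 : (𝒯.presheaf.map (homOfLE h).op).hom ((𝒯.str.app (op U)).hom r) =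
        (𝒯.str.app (op V)).hom ((Y.presheaf.map (homOfLE h).op).hom r) :=
      (ConcreteCategory.congr_hom (𝒯.str.naturality (homOfLE h).op) r).symm
    rw [e1, tauU_str, tauU_str]
    have e2 : (𝒮L.presheaf.map (homOfLE (q.preimage_mono h)).op).hom
        ((𝒮L.str.app (op (q ⁻¹ᵁ U))).hom ((q.app U).hom r)) =
        (𝒮L.str.app (op (q ⁻¹ᵁ V))).hom ((X.presheaf.map (homOfLE (q.preimage_mono h)).op).hom
          ((q.app U).hom r)) :=
      (ConcreteCategory.congr_hom (𝒮L.str.naturality (homOfLE (q.preimage_mono h)).op) _).symm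
    have e3 : (X.presheaf.map (homOfLE (q.preimage_mono h)).op).hom ((q.app U).hom r) =
        (q.app V).hom ((Y.presheaf.map (homOfLE h).op).hom r) :=
      (ConcreteCategory.congr_hom (q.naturality (homOfLE h).op) r).symm
    change (𝒮L.str.app (op (q ⁻¹ᵁ V))).hom ((q.app V).hom _) =
      (𝒮L.presheaf.map (homOfLE (q.preimage_mono h)).op).hom
        ((𝒮L.str.app (op (q ⁻¹ᵁ U))).hom ((q.app U).hom r))
    rw [e2, e3]
  · intro e
    simp only [RingHom.comp_apply]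
    have e1 : (𝒯.presheaf.map (homOfLE h).op).hom (show 𝒯.presheaf.obj (op U) from jE.app U e) =
        (show 𝒯.presheaf.obj (op V) from jE.app V (E.presheaf.map (homOfLE h).op e)) :=
      (congrArg (fun k => k.hom e) (jE.mapPresheaf.naturality (homOfLE h).op)).symm
    rw [e1, tauU_j, tauU_j, ell_res]
    rfl

/-- the family as a natural transformation on affine opens -/
noncomputable def tauNat :
    (Scheme.AffineZariskiSite.toOpensFunctor Y).op ⋙ 𝒯.presheaf ⟶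
      (Scheme.AffineZariskiSite.toOpensFunctor Y).op ⋙ QHomAff.pushB q 𝒮L.toQCAlg where
  app U := CommRingCat.ofHom (tauU q E jL ι h𝒯 U.unop.1 U.unop.2)
  naturality U V i := by
    apply CommRingCat.hom_ext
    exact tauU_res q E jL ι h𝒯 U.unop.2 V.unop.2
      (Scheme.AffineZariskiSite.toOpens_mono i.unop.le)

/-- the `q`-morphism `Sym E ⟶ q_* Sym L` extending `ι` -/
noncomputable def uHom : RelSpec.QHom q 𝒯.toQCAlg 𝒮L.toQCAlg :=
  QHomAff.qhom q 𝒯.toQCAlg 𝒮L.toQCAlg (tauNat q E jL ι h𝒯) (by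
    intro U
    apply CommRingCat.hom_ext
    apply RingHom.ext
    intro r
    exact tauU_str q E jL ι h𝒯 U.1 U.2 r)

theorem uHom_app (U : Y.Opens) (hU : IsAffineOpen U) (x : 𝒯.presheaf.obj (op U)) :
    ((uHom q E jL ι h𝒯).app U).hom x = tauU q E jL ι h𝒯 U hU x :=
  ConcreteCategory.congr_hom
    (QHomAff.qhom_app q 𝒯.toQCAlg 𝒮L.toQCAlg (tauNat q E jL ι h𝒯) _ ⟨U, hU⟩) x

theorem uHom_j_aff (U : Y.Opens) (hU : IsAffineOpen U) (x : Γ(E, U)) :
    ((uHom q E jL ι h𝒯).app U).hom ((jE.app U) x) = (jL.app (q ⁻¹ᵁ U)) ((ι.app U) x) := by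
  rw [uHom_app q E jL ι h𝒯 U hU]
  exact tauU_j q E jL ι h𝒯 U hU x

/-- the compatibility with `ι` over every open -/
theorem uHom_j (U : Y.Opens) (x : Γ(E, U)) :
    ((uHom q E jL ι h𝒯).app U).hom ((jE.app U) x) = (jL.app (q ⁻¹ᵁ U)) ((ι.app U) x) := by
  refine eq_of_locally' (𝒮 := 𝒮L) (W := q ⁻¹ᵁ U) _ _ ?_
  intro z hz
  obtain ⟨_, ⟨V, hV, rfl⟩, hzV, hVU⟩ :=
    Y.isBasis_affineOpens.exists_subset_of_mem_open (show q z ∈ (U : Set Y) from hz) U.2
  have hVU' : V ≤ U := hVU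
  refine ⟨q ⁻¹ᵁ V, q.preimage_mono hVU', hzV, ?_⟩
  have h1 : rs 𝒮L (q.preimage_mono hVU') (((uHom q E jL ι h𝒯).app U).hom ((jE.app U) x)) =
      ((uHom q E jL ι h𝒯).app V).hom ((𝒯.presheaf.map (homOfLE hVU').op).hom ((jE.app U) x)) :=
    ConcreteCategory.congr_hom ((uHom q E jL ι h𝒯).naturality hVU') ((jE.app U) x)
  have h2 : (𝒯.presheaf.map (homOfLE hVU').op).hom (show 𝒯.presheaf.obj (op U) from jE.app U x) =
      (show 𝒯.presheaf.obj (op V) from jE.app V (E.presheaf.map (homOfLE hVU').op x)) :=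
    (congrArg (fun k => k.hom x) (jE.mapPresheaf.naturality (homOfLE hVU').op)).symm
  rw [h1]
  erw [h2]
  rw [uHom_j_aff q E jL ι h𝒯 V hV]
  have h3 := ell_res q E jL ι hVU' x
  exact h3.symm

end QG

section Gr
variable {Y X : Scheme.{u}} (q : X ⟶ Y) (E : Y.Modules) [E.IsQuasicoherent]
  {𝒯 : RelProj.QCGrAlg Y} {jE : E ⟶ 𝒯.toModule} (h𝒯 : RelProj.IsGrSymAlg E 𝒯 jE)
  {L : X.Modules} {𝒮L : RelProj.QCGrAlg X} (jL : L ⟶ 𝒮L.toModule)
  (hjL : ∀ (V : X.Opens) (hV : IsAffineOpen V) (m : Γ(L, V)), (jL.app V) m ∈ 𝒮L.deg V hV 1)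
  (ι : E ⟶ (Scheme.Modules.pushforward q).obj L)

include hjL in
theorem map_mem_uHom (U : Y.Opens) (hU : IsAffineOpen U) (U' : X.Opens) (hU' : IsAffineOpen U')
    (hle : U' ≤ q ⁻¹ᵁ U) {d : ℕ} {x : 𝒯.presheaf.obj (op U)} (hx : x ∈ 𝒯.deg U hU d) :
    (𝒮L.presheaf.map (homOfLE hle).op).hom (((uHom q E jL ι h𝒯.1).app U).hom x) ∈
      𝒮L.deg U' hU' d := by
  change ((uHom q E jL ι h𝒯.1).appLE U U' hle).hom x ∈ 𝒮L.deg U' hU' d
  obtain ⟨c, hc1, hc2, -, hge⟩ := exists_gradedEquiv E h𝒯 U hU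
  obtain ⟨x₀, hx₀, rfl⟩ := hge d x hx
  clear hx
  induction hx₀ using Submodule.pow_induction_on_left' with
  | algebraMap r =>
    rw [hc1]
    have e1 : ((uHom q E jL ι h𝒯.1).appLE U U' hle).hom ((𝒯.str.app (op U)).hom r) =
        (𝒮L.str.app (op U')).hom ((q.appLE U U' hle).hom r) :=
      ConcreteCategory.congr_hom ((uHom q E jL ι h𝒯.1).str_appLE U U' hle) r
    rw [e1]
    exact 𝒮L.str_mem U' hU' _
  | add x y i hx hy ihx ihy => rw [map_add, map_add]; exact add_mem ihx ihy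
  | mem_mul m hm i x hx ih =>
    obtain ⟨m, rfl⟩ := hm
    rw [map_mul, map_mul, hc2]
    have e2 : ((uHom q E jL ι h𝒯.1).appLE U U' hle).hom
        (show 𝒯.presheaf.obj (op U) from jE.app U m) ∈ 𝒮L.deg U' hU' 1 := by
      change (𝒮L.presheaf.map (homOfLE hle).op).hom
        (((uHom q E jL ι h𝒯.1).app U).hom ((jE.app U) m)) ∈ _
      rw [uHom_j_aff q E jL ι h𝒯.1 U hU]
      have := val_res (A := 𝒮L.toQCAlg) jL hle (sec q ι U m)
      change (𝒮L.presheaf.map (homOfLE hle).op).hom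
        (val (A := 𝒮L.toQCAlg) jL (q ⁻¹ᵁ U) (sec q ι U m)) ∈ _
      rw [← this]
      exact hjL U' hU' _
    have := SetLike.mul_mem_graded (A := 𝒮L.deg U' hU') e2 ih
    rw [add_comm] at this
    exact this

/-- the graded `q`-morphism `Sym E ⟶ q_* Sym L` extending `ι : E ⟶ q_* L` -/
noncomputable def uGr : RelProj.QGrHom q 𝒯 𝒮L where
  toQHom := uHom q E jL ι h𝒯.1
  map_mem U hU U' hU' hle _ _ hx := map_mem_uHom q E h𝒯 jL hjL ι U hU U' hU' hle hx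

theorem uGr_j (U : Y.Opens) (x : Γ(E, U)) :
    ((uGr q E h𝒯 jL hjL ι).app U).hom ((jE.app U) x) = (jL.app (q ⁻¹ᵁ U)) ((ι.app U) x) :=
  uHom_j q E jL ι h𝒯.1 U x

end Gr

end Groth.Agent.Helper1.SymV
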