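import Mathlib
import Groth.Agent.Lib.Helper1.SymV4
import Groth.Agent.Lib.Helper1.PushQc
import Groth.Agent.Lib.Helper1.AffPushEpi
import Groth.Agent.Lib.Helper1.FtLocal
import Groth.Agent.Lib.Helper1.RP1
import Groth.Agent.Lib.Lead.FLF7

set_option autoImplicit false
universe u
open CategoryTheory CategoryTheory.Limits AlgebraicGeometry TopologicalSpace Opposite

namespace Groth.Agent.Helper1.SymV

open Groth.Agent.Helper1.QcCech Groth.Agent.Helper1.LGen
open Groth.Agent.Helper1 Groth.Agent.Helper1.VT Groth.Agent.Helper1.SymBr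
open Groth.Agent.Helper1.SymInvLocU Groth.Agent.Helper1.SymAlg

section Sep
variable {X Y : Scheme.{u}}

/-- a morphism admitting a relatively very ample module is separated -/
theorem isSeparated_of_isRelVeryAmple (q : X ⟶ Y) (L : X.Modules)
    (h : RelProj.IsRelVeryAmple q L) : IsSeparated q := by
  obtain ⟨E, hE, 𝒮, j, hj, P, p, chart, hP, O1, lam, hO1, i, hi, hip, -⟩ := h
  have : IsSeparated p := RP1.isSeparated hP
  have : IsImmersion i := hi
  rw [← hip]
  infer_instance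

end Sep

section Img
variable {Y : Scheme.{u}} {E0 F : Y.Modules} [E0.IsQuasicoherent] [F.IsQuasicoherent] (u0 : E0 ⟶ F)

/-- the image of a finite type quasi-coherent module in a quasi-coherent module is of finite
type -/
theorem isFT_image (hFT : CohB1.IsFT E0) : CohB1.IsFT (Abelian.image u0) := by
  have : (Abelian.image u0).IsQuasicoherent := QcAbel.isQuasicoherent_image u0
  apply Groth.Agent.Lead.FLF.isFT_of_ft_sections
  intro U hU
  have := Groth.Agent.Lead.FLF.ft_sections E0 hFT hU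
  have hs := AffPushEpi.app_surjective_of_epi (Abelian.factorThruImage u0) U hU
  let f : Γ(E0, U) →ₗ[Γ(Y, U)] Γ(Abelian.image u0, U) :=
    { toFun := fun x => (Abelian.factorThruImage u0).app U x
      map_add' := fun x y => map_add _ x y
      map_smul' := fun r x => by rw [Scheme.Modules.Hom.app_smul]; rfl }
  exact Module.Finite.of_surjective f hs

end Img

section Main
variable {Y X PL : Scheme.{u}} (q : X ⟶ Y) (L : X.Modules) [L.IsQuasicoherent]
  {𝒮L : RelProj.QCGrAlg X} {j : L ⟶ 𝒮L.toModule}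
  (hj : RelProj.IsGrSymAlg L 𝒮L j)
  {pL : PL ⟶ X}
  {chartL : ∀ (U : X.Opens) (hU : IsAffineOpen U),
    (((pL ⁻¹ᵁ U : PL.Opens) : Scheme.{u}) ≅ Proj (𝒮L.deg U hU))}

include hj in
/-- from the ratio criterion for a module `E0` mapping to `q_* L` (with `q` quasi-compact and
quasi-separated): the image of `E0`, its symmetric algebra and the induced graded `q`-morphism
satisfy all the conclusions of **S12688** -/
theorem exists_data_of_crit [QuasiCompact q] [QuasiSeparated q] (hL : PicF.IsInvertible L)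
    (hPL : RelProj.IsRelProj 𝒮L pL chartL)
    (E0 : Y.Modules) [E0.IsQuasicoherent] (hFT : CohB1.IsFT E0)
    (u0 : E0 ⟶ (Scheme.Modules.pushforward q).obj L)
    (hgen : ∀ (U : Y.AffineZariskiSite) (x : X), q x ∈ U.1 → ∃ ε : Γ(E0, U.1), x ∈ W q u0 U.1 ε)
    (hcrit : ∀ (U : Y.AffineZariskiSite) (x : X), q x ∈ U.1 →
      CritAt q L U.1 (Set.range (sec q u0 U.1)) x) :
    ∃ (E : Y.Modules) (_ : Coh.IsQCoh E) (_ : CohB1.IsFT E)
      (ι : E ⟶ (Scheme.Modules.pushforward q).obj L)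
      (_ : ∀ U : Y.Opens, Function.Injective (ι.app U))
      (𝒯 : RelProj.QCGrAlg Y) (jE : E ⟶ 𝒯.toModule) (_ : RelProj.IsGrSymAlg E 𝒯 jE)
      (u : RelProj.QGrHom q 𝒯 𝒮L)
      (_ : ∀ (U : Y.Opens) (x : Γ(E, U)),
        (u.app U).hom ((jE.app U) x) = (j.app (q ⁻¹ᵁ U)) ((ι.app U) x)),
      (∃ π : E0 ⟶ E, π ≫ ι = u0) ∧
      (∀ x : X, ∃ (U : Y.Opens) (hU : IsAffineOpen U) (e : Γ(E, U)) (V : X.Opens)
          (hV : IsAffineOpen V) (hVU : V ≤ q ⁻¹ᵁ U), x ∈ V ∧
            ((𝒮L.deg V hV 1 : AddSubgroup (𝒮L.presheaf.obj (op V))) :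
              Set (𝒮L.presheaf.obj (op V))) ⊆
              (Ideal.span {(u.appLE U V hVU).hom ((jE.app U) e)} :
                Set (𝒮L.presheaf.obj (op V)))) ∧
      ∀ (P : Scheme.{u}) (p : P ⟶ Y)
          (chart : ∀ (U : Y.Opens) (hU : IsAffineOpen U),
            (((p ⁻¹ᵁ U : P.Opens) : Scheme.{u}) ≅ Proj (𝒯.deg U hU)))
          (_ : RelProj.IsRelProj 𝒯 p chart)
          (r : ((RelProj.domQ u pL chartL : PL.Opens) : Scheme.{u}) ⟶ P)
          (_ : RelProj.IsProjQMapOn u p chart pL chartL (RelProj.domQ u pL chartL) r),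
        RelProj.domQ u pL chartL = ⊤ ∧ IsImmersion r := by
  have hqc : ((Scheme.Modules.pushforward q).obj L).IsQuasicoherent :=
    PushQc.isQuasicoherent_pushforward q L
  set E := Abelian.image u0 with hE
  set ι : E ⟶ (Scheme.Modules.pushforward q).obj L := Abelian.image.ι u0 with hι
  set π : E0 ⟶ E := Abelian.factorThruImage u0 with hπ
  have hπι : π ≫ ι = u0 := Abelian.image.fac u0
  have hEq : E.IsQuasicoherent := QcAbel.isQuasicoherent_image u0
  have hmono : Mono ι := inferInstanceAs (Mono (Abelian.image.ι u0))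
  have hsec : ∀ (U : Y.Opens) (ε : Γ(E0, U)), sec q ι U (π.app U ε) = sec q u0 U ε := by
    intro U ε
    have := congrArg (fun k => Scheme.Modules.Hom.app k U ε) hπι
    exact this
  have h𝒯 := isGrSymAlg E
  set u := uGr q E h𝒯 j hj.2 ι with hu
  have huj : ∀ (U : Y.Opens) (x : Γ(E, U)),
      (u.app U).hom (((jGr E).app U) x) = (j.app (q ⁻¹ᵁ U)) ((ι.app U) x) :=
    fun U x => uGr_j q E h𝒯 j hj.2 ι U x
  refine ⟨E, hEq, isFT_image u0 hFT, ι, fun U => FtLocal.app_injective_of_mono ι U, symGr E, jGr E,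
    h𝒯, u, huj, ⟨π, hπι⟩, ?_, ?_⟩
  · intro x
    obtain ⟨U, hU, hxU⟩ := RP6.exists_affine_mem (q x)
    obtain ⟨ε0, hε0⟩ := hgen ⟨U, hU⟩ x hxU
    have hx1 : x ∈ nz 𝒮L (q ⁻¹ᵁ U) 1 (val (A := 𝒮L.toQCAlg) j (q ⁻¹ᵁ U) (sec q u0 U ε0)) := by
      rw [nz_val hj hL]; exact hε0
    obtain ⟨V, hV, hVU, hxV, hspan⟩ := mem_nz_iff.1 hx1
    refine ⟨U, hU, π.app U ε0, V, hV, hVU, hxV, ?_⟩
    have e1 : (u.appLE U V hVU).hom (((jGr E).app U) (π.app U ε0)) =
        rs 𝒮L hVU (val (A := 𝒮L.toQCAlg) j (q ⁻¹ᵁ U) (sec q u0 U ε0)) := by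
      change rs 𝒮L hVU ((u.app U).hom (((jGr E).app U) (π.app U ε0))) = _
      rw [huj, ← hsec U ε0]
      rfl
    rw [e1]
    exact hspan
  · intro P p chart hP r hr
    apply isImmersion_of_crit q L hj u hL hP hPL r hr ι
    · intro U hU ε
      exact ⟨(jGr E).app U ε, h𝒯.2 U hU ε, huj U ε⟩
    · intro U x hx
      refine CritAt.mono q L ?_ (hcrit U x hx)
      rintro _ ⟨ε, rfl⟩
      exact ⟨π.app U.1 ε, hsec U.1 ε⟩

include hj in
/-- **S12688** -/
theorem main12688 (hYs : (CompactSpace Y ∧ Y.IsSeparated) ∨ NoetherianSpace Y)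
    [QuasiCompact q] [LocallyOfFiniteType q] (hL : PicF.IsInvertible L)
    (hPL : RelProj.IsRelProj 𝒮L pL chartL) (h : RelProj.IsRelVeryAmple q L) :
    ∃ (E : Y.Modules) (_ : Coh.IsQCoh E) (_ : CohB1.IsFT E)
      (ι : E ⟶ (Scheme.Modules.pushforward q).obj L)
      (_ : ∀ U : Y.Opens, Function.Injective (ι.app U))
      (𝒯 : RelProj.QCGrAlg Y) (jE : E ⟶ 𝒯.toModule) (_ : RelProj.IsGrSymAlg E 𝒯 jE)
      (u : RelProj.QGrHom q 𝒯 𝒮L)
      (_ : ∀ (U : Y.Opens) (x : Γ(E, U)),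
        (u.app U).hom ((jE.app U) x) = (j.app (q ⁻¹ᵁ U)) ((ι.app U) x)),
      (∀ x : X, ∃ (U : Y.Opens) (hU : IsAffineOpen U) (e : Γ(E, U)) (V : X.Opens)
          (hV : IsAffineOpen V) (hVU : V ≤ q ⁻¹ᵁ U), x ∈ V ∧
            ((𝒮L.deg V hV 1 : AddSubgroup (𝒮L.presheaf.obj (op V))) :
              Set (𝒮L.presheaf.obj (op V))) ⊆
              (Ideal.span {(u.appLE U V hVU).hom ((jE.app U) e)} :
                Set (𝒮L.presheaf.obj (op V)))) ∧
      ∀ (P : Scheme.{u}) (p : P ⟶ Y)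
          (chart : ∀ (U : Y.Opens) (hU : IsAffineOpen U),
            (((p ⁻¹ᵁ U : P.Opens) : Scheme.{u}) ≅ Proj (𝒯.deg U hU)))
          (_ : RelProj.IsRelProj 𝒯 p chart)
          (r : ((RelProj.domQ u pL chartL : PL.Opens) : Scheme.{u}) ⟶ P)
          (_ : RelProj.IsProjQMapOn u p chart pL chartL (RelProj.domQ u pL chartL) r),
        RelProj.domQ u pL chartL = ⊤ ∧ IsImmersion r := by
  have hsep : IsSeparated q := isSeparated_of_isRelVeryAmple q L h
  have hY' : (CompactSpace Y ∧ QuasiSeparatedSpace Y) ∨ NoetherianSpace Y := by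
    rcases hYs with ⟨h1, h2⟩ | h3
    · exact Or.inl ⟨h1, inferInstance⟩
    · exact Or.inr h3
  obtain ⟨E0, hE0, hFT0, u0, hgen, hcrit⟩ := exists_crit_finiteType hY' q L h
  obtain ⟨E, hEq, hFT, ι, hinj, 𝒯, jE, h𝒯, u, hu, -, hsurj, himm⟩ :=
    exists_data_of_crit q L hj hL hPL E0 hFT0 u0 hgen hcrit
  exact ⟨E, hEq, hFT, ι, hinj, 𝒯, jE, h𝒯, u, hu, hsurj, himm⟩

end Main

end Groth.Agent.Helper1.SymV
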