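import Mathlib
import Groth.Agent.Lib.Helper1.SymV5
import Groth.Agent.Lib.Helper1.RelProjCI
import Groth.Agent.Lib.Helper1.SymFacts

set_option autoImplicit false
universe u
open CategoryTheory CategoryTheory.Limits AlgebraicGeometry TopologicalSpace Opposite
open scoped HomogeneousIdeal

namespace Groth.Agent.Helper1.SymV

open Groth.Agent.Helper1.QcCech Groth.Agent.Helper1.LGen
open Groth.Agent.Helper1 Groth.Agent.Helper1.VT Groth.Agent.Helper1.SymBr
open Groth.Agent.Helper1.SymInvLocU Groth.Agent.Helper1.SymAlg Groth.Agent.Helper1.SubSh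
open Groth.Agent.Helper1.ProjQ Groth.Agent.Helper1.SymInvLoc

section GenOne
variable {Y X P PL : Scheme.{u}} (q : X ⟶ Y) (L : X.Modules) [L.IsQuasicoherent]
  {𝒜 : RelProj.QCGrAlg Y} {𝒮L : RelProj.QCGrAlg X} {j : L ⟶ 𝒮L.toModule}
  (hj : RelProj.IsGrSymAlg L 𝒮L j) (u : RelProj.QGrHom q 𝒜 𝒮L)
  {p : P ⟶ Y}
  {chart : ∀ (U : Y.Opens) (hU : IsAffineOpen U),
    (((p ⁻¹ᵁ U : P.Opens) : Scheme.{u}) ≅ Proj (𝒜.deg U hU))}
  {pL : PL ⟶ X}
  {chartL : ∀ (U : X.Opens) (hU : IsAffineOpen U),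
    (((pL ⁻¹ᵁ U : PL.Opens) : Scheme.{u}) ≅ Proj (𝒮L.deg U hU))}

include hj in
/-- if `r` is everywhere defined and `𝒜` is generated in degree one, every point has, over every
affine open of the base, a degree-one section of `𝒜` whose image does not vanish there -/
theorem exists_deg_one_nz (hL : PicF.IsInvertible L) (hP : RelProj.IsRelProj 𝒜 p chart)
    (hPL : RelProj.IsRelProj 𝒮L pL chartL)
    (r : ((RelProj.domQ u pL chartL : PL.Opens) : Scheme.{u}) ⟶ P)
    (hr : RelProj.IsProjQMapOn u p chart pL chartL (RelProj.domQ u pL chartL) r)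
    (hdom : RelProj.domQ u pL chartL = ⊤) (hgen : 𝒜.IsGenDegOne)
    (U : Y.Opens) (hU : IsAffineOpen U) (x : X) (hx : x ∈ q ⁻¹ᵁ U) :
    ∃ e ∈ 𝒜.deg U hU 1, x ∈ nz 𝒮L (q ⁻¹ᵁ U) 1 ((u.app U).hom e) := by
  have hiso : IsIso pL := main12143 L hj hL hPL
  obtain ⟨x', hx'⟩ := pL.homeomorph.surjective x
  have hx'd : x' ∈ RelProj.domQ u pL chartL := by rw [hdom]; trivial
  let x'' : ((RelProj.domQ u pL chartL : PL.Opens) : Scheme.{u}) := ⟨x', hx'd⟩
  have hxx : pL ((RelProj.domQ u pL chartL).ι x'') = x := hx'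
  have hcomp := comp_eq u p chart pL chartL hP hPL _ rfl r hr
  have hrU : r x'' ∈ Set.range (RelProj.emb p chart U hU) := by
    rw [RelCone3.range_emb]
    have h1 : (r ≫ p) x'' ∈ U := by
      rw [hcomp]
      show q (pL ((RelProj.domQ u pL chartL).ι x'')) ∈ U
      rw [hxx]; exact hx
    exact h1
  obtain ⟨z, hz⟩ := hrU
  obtain ⟨e, he, hez⟩ := RP3.exists_deg_one_notMem (𝒜.deg U hU) (hgen U hU) z
  refine ⟨e, he, ?_⟩
  have := (mem_preimage_iffU q L hj u hL hP hPL r hr hU one_pos e he x'').1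
    ⟨z, (Proj.mem_basicOpen _ _ _).2 hez, hz⟩
  rwa [hxx] at this

include hj in
/-- under the same hypotheses, the irrelevant ideal condition holds for every affine pair -/
theorem hirr_of_genDegOne (hL : PicF.IsInvertible L) (hP : RelProj.IsRelProj 𝒜 p chart)
    (hPL : RelProj.IsRelProj 𝒮L pL chartL)
    (r : ((RelProj.domQ u pL chartL : PL.Opens) : Scheme.{u}) ⟶ P)
    (hr : RelProj.IsProjQMapOn u p chart pL chartL (RelProj.domQ u pL chartL) r)
    (hdom : RelProj.domQ u pL chartL = ⊤) (hgen : 𝒜.IsGenDegOne)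
    (U : Y.Opens) (hU : IsAffineOpen U) (U' : X.Opens) (hU' : IsAffineOpen U')
    (hle : U' ≤ q ⁻¹ᵁ U) :
    (𝒮L.deg U' hU')₊ ≤ ((𝒜.deg U hU)₊).map (u.gradedAt U hU U' hU' hle) := by
  rw [← toIdeal_le_toIdeal_iff]
  apply RelProjCI.irrelevant_le_of_genDegOne (𝒮L.deg U' hU')
    (isGenDegOne_of_isGrSymAlg hj U' hU') _ (HomogeneousIdeal.isHomogeneous _)
  intro a ha
  rw [HomogeneousIdeal.toIdeal_map]
  set I := Ideal.map (u.gradedAt U hU U' hU' hle) ((𝒜.deg U hU)₊).toIdeal with hI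
  -- the sections of `L` coming from degree one of `𝒜`
  let Pset : Set Γ(L, U') := {m | ∃ e ∈ 𝒜.deg U hU 1,
    val (A := 𝒮L.toQCAlg) j U' m = rs 𝒮L hle ((u.app U).hom e)}
  have hPI : ∀ m ∈ Pset, val (A := 𝒮L.toQCAlg) j U' m ∈ I := by
    rintro m ⟨e, he, hme⟩
    rw [hme]
    exact Ideal.mem_map_of_mem _ (HomogeneousIdeal.mem_irrelevant_of_mem _ one_pos he)
  obtain ⟨m₀, hm₀⟩ := exists_eq_j_of_mem_deg_one hj U' hU' a ha
  have hspan : m₀ ∈ Submodule.span Γ(X, U') Pset := by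
    apply mem_span_of_mem_genOn hU'
    intro x hxU'
    obtain ⟨e, he, hxe⟩ := exists_deg_one_nz q L hj u hL hP hPL r hr hdom hgen U hU x (hle hxU')
    obtain ⟨me, hme⟩ := exists_eq_j_of_mem_deg_one hj U' hU' (rs 𝒮L hle ((u.app U).hom e))
      (isHomog_app u U hU he U' hU' hle)
    have hmeP : me ∈ Pset := ⟨e, he, hme⟩
    have hxgl : x ∈ gl L me := by
      rw [← nz_val hj hL]
      change x ∈ nz 𝒮L U' 1 (show 𝒮L.presheaf.obj (op U') from j.app U' me)
      rw [hme, nz_res hle]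
      exact ⟨hxe, hxU'⟩
    obtain ⟨W, hW, hxW, hgenW⟩ := (mem_gl_iff L me x).1 hxgl
    refine ⟨W, hW, hxW, ?_⟩
    obtain ⟨c, hc⟩ := hgenW.exists_coeff (res L hW m₀)
    rw [← hc]
    exact Submodule.smul_mem _ _ (Submodule.subset_span ⟨hW, me, hmeP, rfl⟩)
  have key : ∀ m ∈ Submodule.span Γ(X, U') Pset, val (A := 𝒮L.toQCAlg) j U' m ∈ I := by
    intro m hm
    induction hm using Submodule.span_induction with
    | mem m hm => exact hPI m hm
    | zero => rw [val_zero]; exact Ideal.zero_mem _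
    | add m m' _ _ h h' => rw [val_add]; exact Ideal.add_mem _ h h'
    | smul c m _ h => rw [val_smul]; exact Ideal.mul_mem_left _ _ h
  rw [← hm₀]
  exact key m₀ hspan

end GenOne

end Groth.Agent.Helper1.SymV
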