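import Mathlib
import Groth.Agent.Lib.Helper1.SymLift
import Groth.Agent.Lib.Helper1.RP13
import Groth.Agent.S8258
import Groth.Agent.S8284
import Groth.Agent.S8262

set_option autoImplicit false
universe u

open CategoryTheory CategoryTheory.Limits AlgebraicGeometry TopologicalSpace Opposite
open scoped HomogeneousIdeal

namespace Groth.Agent.Helper1.VeryAmpleGen

open Groth.Agent.Helper1.SymAlg

set_option synthInstance.maxHeartbeats 400000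
set_option maxHeartbeats 1600000

/-- **S12485** -/
theorem main12485 {X Y P : Scheme.{u}} (q : X ⟶ Y) (L : X.Modules)
    (𝒮 : RelProj.QCGrAlg Y) (h𝒮 : 𝒮.IsGenDegOne) (p : P ⟶ Y)
    (chart : ∀ (U : Y.Opens) (hU : IsAffineOpen U), ((p ⁻¹ᵁ U : P.Opens) : Scheme.{u}) ≅ Proj (𝒮.deg U hU))
    (hP : RelProj.IsRelProj 𝒮 p chart) (O1 : P.Modules)
    (lam : ∀ (U : Y.Opens) (hU : IsAffineOpen U),
      O1 ⟶ (Scheme.Modules.pushforward (RelProj.emb p chart U hU)).obj (GrTwist.twist (𝒮.deg U hU) 1))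
    (hO1 : RelProj.IsRelTwist 𝒮 p chart 1 O1 lam) (i : X ⟶ P) [IsImmersion i] (hi : i ≫ p = q)
    (e : L ≅ (Scheme.Modules.pullback i).obj O1) : RelProj.IsRelVeryAmple q L := by
  have hq : 𝒮.toModule.IsQuasicoherent := QCAlgQc.isQuasicoherent_toModule 𝒮.toQCAlg
  have hu1 := pr_mem 𝒮 1
  have husurj := pr_surj 𝒮 1
  have hubar := isGradedHom_lift 𝒮.toModule 𝒮 (pr 𝒮 1) hu1
  have hirr := hirr_lift 𝒮.toModule 𝒮 (pr 𝒮 1) hu1 h𝒮 husurj
  obtain ⟨PT, pT, chartT, hPT⟩ := Groth.Agent.S8258.result (symGr 𝒮.toModule)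
  obtain ⟨OT, lamT, hOT⟩ := Groth.Agent.S8284.result (symGr 𝒮.toModule) pT chartT hPT 1
  obtain ⟨⟨h, hh, -⟩, hcomp⟩ := Groth.Agent.S8262.result (𝒜 := symGr 𝒮.toModule) (ℬ := 𝒮)
    (lift 𝒮.toModule 𝒮.toQCAlg (pr 𝒮 1)) hubar hirr pT p chartT chart hPT hP
  have hci : IsClosedImmersion h :=
    RelProjCI.isClosedImmersion_into_projBundle 𝒮 (symGr 𝒮.toModule) h𝒮 𝒮.toModule (pr 𝒮 1)
      husurj (jGr 𝒮.toModule) (lift 𝒮.toModule 𝒮.toQCAlg (pr 𝒮 1)) hubar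
      (j_lift 𝒮.toModule 𝒮.toQCAlg (pr 𝒮 1)) hirr pT p chartT chart hPT hP h hh
  obtain ⟨eT⟩ := RP13.nonempty_pullback_iso (isGenDegOne 𝒮.toModule) hPT hP hh hOT hO1
  refine ⟨𝒮.toModule, hq, symGr 𝒮.toModule, jGr 𝒮.toModule, isGrSymAlg 𝒮.toModule, PT, pT, chartT,
    hPT, OT, lamT, hOT, i ≫ h, inferInstance, ?_, ⟨?_⟩⟩
  · rw [Category.assoc, hcomp h hh, hi]
  · exact e ≪≫ (Scheme.Modules.pullback i).mapIso eT.symm ≪≫
      (Scheme.Modules.pullbackComp i h).app OT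

end Groth.Agent.Helper1.VeryAmpleGen
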