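import Mathlib
import Groth.Agent.Lib.Helper1.PhiMap2
import Groth.Agent.Lib.Helper1.SymInv
import Groth.Agent.Lib.Helper1.InvQc
import Groth.Agent.S8258
import Groth.Agent.S8284

set_option autoImplicit false
universe u

open CategoryTheory CategoryTheory.Limits AlgebraicGeometry TopologicalSpace Opposite
open scoped HomogeneousIdeal

namespace Groth.Agent.Helper1.VeryAmpleId

open Groth.Agent.Helper1.RP6 Groth.Agent.Helper1.QcCech Groth.Agent.Helper1.LGen
  Groth.Agent.Helper1.SymAlg Groth.Agent.Helper1.RP13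

set_option synthInstance.maxHeartbeats 400000
set_option maxHeartbeats 1600000

/-- for an invertible module, the adjoint of the canonical map is an isomorphism `p^* L ≅ O(1)` -/
theorem isIso_adjoint {Y P : Scheme.{u}} (L : Y.Modules) [L.IsQuasicoherent]
    (hL : PicF.IsInvertible L)
    {𝒮 : RelProj.QCGrAlg Y} {j : L ⟶ 𝒮.toModule} (hj : RelProj.IsGrSymAlg L 𝒮 j) {p : P ⟶ Y}
    {chart : ∀ (U : Y.Opens) (hU : IsAffineOpen U), ((p ⁻¹ᵁ U : P.Opens) : Scheme.{u}) ≅ Proj (𝒮.deg U hU)}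
    {O1 : P.Modules}
    {lam : ∀ (U : Y.Opens) (hU : IsAffineOpen U),
      O1 ⟶ (Scheme.Modules.pushforward (RelProj.emb p chart U hU)).obj (GrTwist.twist (𝒮.deg U hU) 1)}
    (hO1 : RelProj.IsRelTwist 𝒮 p chart 1 O1 lam)
    (φ : L ⟶ (Scheme.Modules.pushforward p).obj O1)
    (hφ : ∀ (U : Y.Opens) (hU : IsAffineOpen U) (e : Γ(L, U))
      (y : ↥(RelProj.emb p chart U hU ⁻¹ᵁ (p ⁻¹ᵁ U))),
      GrTwist.val (V := RelProj.emb p chart U hU ⁻¹ᵁ (p ⁻¹ᵁ U))
          ((lam U hU).app (p ⁻¹ᵁ U) ((φ.app U) e)) y =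
        algebraMap (𝒮.presheaf.obj (op U)) (GrTwist.Loc (𝒮.deg U hU) y.1)
          ((j.app U) e : 𝒮.presheaf.obj (op U))) :
    IsIso (((Scheme.Modules.pullbackPushforwardAdjunction p).homEquiv L O1).symm φ) := by
  apply isIso_of_isGen
  intro x
  obtain ⟨W, a0, hxW, ha0⟩ := exists_isGen hL (p.base x)
  obtain ⟨_, ⟨U, hU, rfl⟩, hxU, hUW⟩ := Y.isBasis_affineOpens.exists_subset_of_mem_open hxW W.2
  have ha : IsGen L U (res L hUW a0) := ha0.res hUW
  set a := res L hUW a0 with ha_def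
  refine ⟨p ⁻¹ᵁ U, PullSec.σ p L U a, hxU, PullGen.isGen_σ p ha, ?_⟩
  rw [adjunct_σ]
  have hbij : Function.Bijective (fun r : Γ(Y, U) => r • a) := by
    have := ha U le_rfl
    simpa only [res_self] using this
  obtain ⟨c, hc1, hc2, hle, hge⟩ := exists_gradedEquiv L hj U hU
  have hT : ∀ z : ProjectiveSpectrum (𝒮.deg U hU),
      (show 𝒮.presheaf.obj (op U) from j.app U a) ∉ z.asHomogeneousIdeal := by
    intro z
    rw [← hc2]
    exact SymRk1.T_notMem a hbij (𝒮.deg U hU) c hge z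
  have hb : (1 : 𝒮.presheaf.obj (op U)) ∈ 𝒮.deg U hU 0 := SetLike.GradedOne.one_mem
  have hm : ((1 : ℕ) : ℤ) = ((0 : ℕ) : ℤ) + 1 := by simp
  have hnv : ∀ z : ProjectiveSpectrum (𝒮.deg U hU), (RelProj.emb p chart U hU).base z ∈ p ⁻¹ᵁ U →
      (show 𝒮.presheaf.obj (op U) from j.app U a) ∉ z.asHomogeneousIdeal ∧
        (1 : 𝒮.presheaf.obj (op U)) ∉ z.asHomogeneousIdeal :=
    fun z _ => ⟨hT z, GrTwTens.one_not_mem _ z⟩
  refine isGen_of_lam_eq_frac hO1 U hU le_rfl _ (hj.2 U hU a) hb hm hnv ?_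
  apply val_ext
  rintro ⟨z, hz⟩
  refine (hφ U hU a ⟨z, hz⟩).trans ?_
  exact (Localization.mk_one_eq_algebraMap _).symm


/-- **S12472** -/
theorem main12472 (Y : Scheme.{u}) (L : Y.Modules) (hL : PicF.IsInvertible L) :
    RelProj.IsRelVeryAmple (𝟙 Y) L := by
  have hq : L.IsQuasicoherent := InvQc.isQuasicoherent_of_isInvertible L hL
  obtain ⟨P, p, chart, hP⟩ := Groth.Agent.S8258.result (symGr L)
  obtain ⟨O1, lam, hO1⟩ := Groth.Agent.S8284.result (symGr L) p chart hP 1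
  have hj := isGrSymAlg L
  have hiso : IsIso p := main12143 L hj hL hP
  have hψ := isIso_adjoint L hL hj hO1 (PhiMap.phi (jGr L) hP hO1 hj.2)
    (PhiMap.phi_spec (jGr L) hP hO1 hj.2)
  have hip : inv p ≫ p = 𝟙 Y := IsIso.inv_hom_id p
  refine ⟨L, hq, symGr L, jGr L, hj, P, p, chart, hP, O1, lam, hO1, inv p, inferInstance, hip, ⟨?_⟩⟩
  exact (Scheme.Modules.pullbackId Y).symm.app L ≪≫
    (Scheme.Modules.pullbackCongr hip).symm.app L ≪≫
    (Scheme.Modules.pullbackComp (inv p) p).symm.app L ≪≫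
    (Scheme.Modules.pullback (inv p)).mapIso (@asIso _ _ _ _ _ hψ)

end Groth.Agent.Helper1.VeryAmpleId
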