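import Mathlib
import Groth.Agent.Lib.Helper1.SymV6
import Groth.Agent.Lib.Helper1.RPQ1
import Groth.Agent.Lib.Helper1.VeryAmpleId
import Groth.Agent.Lib.Helper1.VeryAmpleGen

set_option autoImplicit false
universe u
open CategoryTheory CategoryTheory.Limits AlgebraicGeometry TopologicalSpace Opposite
open scoped HomogeneousIdeal

namespace Groth.Agent.Helper1.SymV

open Groth.Agent.Helper1.QcCech Groth.Agent.Helper1.LGen
open Groth.Agent.Helper1 Groth.Agent.Helper1.VT Groth.Agent.Helper1.SymBr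
open Groth.Agent.Helper1.SymInvLocU Groth.Agent.Helper1.SymAlg Groth.Agent.Helper1.SubSh
open Groth.Agent.Helper1.ProjQ Groth.Agent.Helper1.SymInvLoc

section ChartGen
variable {Y Y' P P' : Scheme.{u}} {ψ : Y' ⟶ Y} {𝒮 : RelProj.QCGrAlg Y} {𝒮' : RelProj.QCGrAlg Y'}
  (u : RelProj.QGrHom ψ 𝒮 𝒮')
  (hirr : ∀ (U : Y.Opens) (hU : IsAffineOpen U) (U' : Y'.Opens) (hU' : IsAffineOpen U')
    (hle : U' ≤ ψ ⁻¹ᵁ U), (𝒮'.deg U' hU')₊ ≤ ((𝒮.deg U hU)₊).map (u.gradedAt U hU U' hU' hle))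
  (p : P ⟶ Y)
  (chart : ∀ (U : Y.Opens) (hU : IsAffineOpen U),
    (((p ⁻¹ᵁ U : P.Opens) : Scheme.{u}) ≅ Proj (𝒮.deg U hU)))
  (p' : P' ⟶ Y')
  (chart' : ∀ (U : Y'.Opens) (hU : IsAffineOpen U),
    (((p' ⁻¹ᵁ U : P'.Opens) : Scheme.{u}) ≅ Proj (𝒮'.deg U hU)))

theorem isChartMap_of_isProjQMap (h : P' ⟶ P) (hh : RelProj.IsProjQMap u p chart p' chart' h) :
    RPQ.IsChartMap u hirr p chart p' chart' h := by
  intro U hU U' hU' hle
  refine (Proj.mapAffineOpenCover (u.gradedAt U hU U' hU' hle)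
    (hirr U hU U' hU' hle)).openCover.hom_ext _ _ ?_
  rintro (s : Σ i : PNat, 𝒮.deg U hU i)
  show Proj.awayι (𝒮'.deg U' hU') (u.gradedAt U hU U' hU' hle (s.2 : 𝒮.presheaf.obj (op U)))
      ((u.gradedAt U hU U' hU' hle).map_mem s.2.2) s.1.2 ≫ RelProj.emb p' chart' U' hU' ≫ h =
    Proj.awayι (𝒮'.deg U' hU') (u.gradedAt U hU U' hU' hle (s.2 : 𝒮.presheaf.obj (op U)))
      ((u.gradedAt U hU U' hU' hle).map_mem s.2.2) s.1.2 ≫
      Proj.map (u.gradedAt U hU U' hU' hle) (hirr U hU U' hU' hle) ≫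
        RelProj.emb p chart U hU
  have key := Proj.awayι_comp_map (u.gradedAt U hU U' hU' hle) (hirr U hU U' hU' hle)
    s.1.2 (s.2 : 𝒮.presheaf.obj (op U)) s.2.2
  have := hh.2 U hU U' hU' hle s.1 s.1.2 (s.2 : 𝒮.presheaf.obj (op U)) s.2.2
  rw [RelProj.awayEmb, Category.assoc] at this
  rw [this]
  exact ((Category.assoc _ _ _).symm.trans
    (congrArg (· ≫ RelProj.emb p chart U hU) key.symm)).trans (Category.assoc _ _ _)

/-- when the open of definition is everything, `r` precomposed with the inverse of the inclusion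
is the everywhere-defined `Proj(u)` -/
theorem isProjQMap_of_on
    (r : ((RelProj.domQ u p' chart' : P'.Opens) : Scheme.{u}) ⟶ P)
    (hr : RelProj.IsProjQMapOn u p chart p' chart' (RelProj.domQ u p' chart') r)
    (hdom : RelProj.domQ u p' chart' = ⊤) [IsIso (RelProj.domQ u p' chart').ι] :
    RelProj.IsProjQMap u p chart p' chart' (inv (RelProj.domQ u p' chart').ι ≫ r) := by
  refine ⟨hdom, ?_⟩
  intro U hU U' hU' hle d hd f hf
  have hW := RelProj.range_awayEmb_subset_domQ u p' chart' U hU U' hU' hle hd f hf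
  have := hr U hU U' hU' hle d hd f hf hW
  rw [← this, ← Category.assoc]
  congr 1
  rw [IsIso.comp_inv_eq, IsOpenImmersion.lift_fac]

end ChartGen

end Groth.Agent.Helper1.SymV
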