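import Mathlib
import Groth.Agent.Lib.Helper1.SymV7

set_option autoImplicit false
universe u
open CategoryTheory CategoryTheory.Limits AlgebraicGeometry TopologicalSpace Opposite
open scoped HomogeneousIdeal

namespace Groth.Agent.Helper1.SymV

open Groth.Agent.Helper1.QcCech Groth.Agent.Helper1.LGen
open Groth.Agent.Helper1 Groth.Agent.Helper1.VT Groth.Agent.Helper1.SymBr
open Groth.Agent.Helper1.SymInvLocU Groth.Agent.Helper1.SymAlg Groth.Agent.Helper1.SubSh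
open Groth.Agent.Helper1.ProjQ Groth.Agent.Helper1.SymInvLoc

theorem main12691 {X Y P PL : Scheme.{u}} (f : X ⟶ Y)
    (L : X.Modules) (hL : PicF.IsInvertible L) (hLq : Coh.IsQCoh L)
    (𝒮L : RelProj.QCGrAlg X) (jL : L ⟶ 𝒮L.toModule) (hjL : RelProj.IsGrSymAlg L 𝒮L jL)
    (pL : PL ⟶ X) (chartL : ∀ (U : X.Opens) (hU : IsAffineOpen U), (((pL ⁻¹ᵁ U : PL.Opens) : Scheme.{u}) ≅ Proj (𝒮L.deg U hU)))
    (hPL : RelProj.IsRelProj 𝒮L pL chartL)
    (𝒜 : RelProj.QCGrAlg Y) (h1 : 𝒜.IsGenDegOne)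
    (u : RelProj.QGrHom f 𝒜 𝒮L)
    (hsurj : ∀ x : X, ∃ (U : Y.Opens) (hU : IsAffineOpen U) (e : 𝒜.presheaf.obj (op U)) (_ : e ∈ 𝒜.deg U hU 1)
        (V : X.Opens) (hV : IsAffineOpen V) (hVU : V ≤ f ⁻¹ᵁ U), x ∈ V ∧
          ((𝒮L.deg V hV 1 : AddSubgroup (𝒮L.presheaf.obj (op V))) : Set (𝒮L.presheaf.obj (op V))) ⊆
            (Ideal.span {(u.appLE U V hVU).hom e} : Set (𝒮L.presheaf.obj (op V))))
    (p : P ⟶ Y) (chart : ∀ (U : Y.Opens) (hU : IsAffineOpen U), (((p ⁻¹ᵁ U : P.Opens) : Scheme.{u}) ≅ Proj (𝒜.deg U hU)))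
    (hP : RelProj.IsRelProj 𝒜 p chart)
    (r : ((RelProj.domQ u pL chartL : PL.Opens) : Scheme.{u}) ⟶ P)
    (hr : RelProj.IsProjQMapOn u p chart pL chartL (RelProj.domQ u pL chartL) r)
    (himm : IsImmersion r) :
    RelProj.IsRelVeryAmple f L := by
  have : L.IsQuasicoherent := hLq
  have hdom : RelProj.domQ u pL chartL = ⊤ := by
    apply domQ_eq_top_of_cover f L hjL u hPL
    intro x
    obtain ⟨U, hU, e, he, V, hV, hVU, hxV, hspan⟩ := hsurj x
    exact ⟨U, hU, 1, one_pos, e, he, mem_nz_iff.2 ⟨V, hV, hVU, hxV, hspan⟩⟩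
  have hirr := hirr_of_genDegOne f L hjL u hL hP hPL r hr hdom h1
  have hisoι : IsIso (RelProj.domQ u pL chartL).ι := isIso_ι_of_eq_top _ hdom
  set h : PL ⟶ P := inv (RelProj.domQ u pL chartL).ι ≫ r with hh_def
  have hh : RelProj.IsProjQMap u p chart pL chartL h :=
    isProjQMap_of_on u p chart pL chartL r hr hdom
  have hcm := isChartMap_of_isProjQMap u hirr p chart pL chartL h hh
  obtain ⟨O1, lam, hO1⟩ := RP9.exists_isRelTwist hP 1
  obtain ⟨O1L, lamL, hO1L⟩ := RP9.exists_isRelTwist hPL 1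
  obtain ⟨eO⟩ := RPQ.nonempty_pullback_iso h1 hP hPL hcm hO1 hO1L
  have hisoP : IsIso pL := main12143 L hjL hL hPL
  have hψ := VeryAmpleId.isIso_adjoint L hL hjL hO1L (PhiMap.phi jL hPL hO1L hjL.2)
    (PhiMap.phi_spec jL hPL hO1L hjL.2)
  have hcomp := comp_eq u p chart pL chartL hP hPL _ rfl r hr
  have hhp : h ≫ p = pL ≫ f := by
    rw [hh_def, Category.assoc, hcomp, ← Category.assoc, IsIso.inv_hom_id, Category.id_comp]
  have hip : inv pL ≫ pL = 𝟙 X := IsIso.inv_hom_id pL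
  have himmh : IsImmersion h := by rw [hh_def]; infer_instance
  have himmi : IsImmersion (inv pL ≫ h) := inferInstance
  have hi : (inv pL ≫ h) ≫ p = f := by
    rw [Category.assoc, hhp, ← Category.assoc, hip, Category.id_comp]
  refine VeryAmpleGen.main12485 f L 𝒜 h1 p chart hP O1 lam hO1 (inv pL ≫ h) hi ?_
  exact (Scheme.Modules.pullbackId X).symm.app L ≪≫
    (Scheme.Modules.pullbackCongr hip).symm.app L ≪≫
    (Scheme.Modules.pullbackComp (inv pL) pL).symm.app L ≪≫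
    (Scheme.Modules.pullback (inv pL)).mapIso (@asIso _ _ _ _ _ hψ) ≪≫
    (Scheme.Modules.pullback (inv pL)).mapIso eO.symm ≪≫
    (Scheme.Modules.pullbackComp (inv pL) h).app O1

end Groth.Agent.Helper1.SymV
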