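import Mathlib
import Groth.Agent.Lib.Helper1.SymV8
import Groth.Agent.Lib.Helper1.SymForced
import Groth.Agent.Lib.Helper1.SymCmp2

set_option autoImplicit false
universe u

open CategoryTheory CategoryTheory.Limits AlgebraicGeometry TopologicalSpace Opposite

namespace Groth.Agent.Helper1.SymW

open Groth.Agent.Helper1.SymAlg Groth.Agent.Helper1.LGen Groth.Agent.Helper1.QcCech
open Groth.Agent.Helper1.ProjQ Groth.Agent.Helper1.SymInvLoc Groth.Agent.Helper1.SymBr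
open Groth.Agent.Helper1.SymInvLocU Groth.Agent.Helper1.SymGrading

section Sec
variable {S : Scheme.{u}} (E : S.Modules) [E.IsQuasicoherent]
  {A : RelSpec.QCAlg S} {jA : E ⟶ A.toModule} (hA : RelSpec.IsSymAlg E A jA)
  (U : S.Opens) (hU : IsAffineOpen U)

include hA hU in
/-- induction principle for sections of a symmetric algebra over an affine open -/
theorem sec_induction {motive : A.presheaf.obj (op U) → Prop}
    (hstr : ∀ r : Γ(S, U), motive ((A.str.app (op U)).hom r))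
    (hj : ∀ e : Γ(E, U), motive (show A.presheaf.obj (op U) from jA.app U e))
    (hmul : ∀ a b, motive a → motive b → motive (a * b))
    (hadd : ∀ a b, motive a → motive b → motive (a + b)) (x : A.presheaf.obj (op U)) :
    motive x := by
  obtain ⟨c, hc1, hc2⟩ := exists_ringEquiv E hA U hU
  obtain ⟨y, rfl⟩ := c.surjective x
  induction y using SymmetricAlgebra.induction with
  | algebraMap r => rw [hc1]; exact hstr r
  | ι m => rw [hc2]; exact hj m
  | mul a b ha hb => rw [map_mul]; exact hmul _ _ ha hb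
  | add a b ha hb => rw [map_add]; exact hadd _ _ ha hb

/-- the subring generated by the scalars and the images of finitely many sections of `E` -/
def adj (jA : E ⟶ A.toModule) (U : S.Opens) (Φ : Set Γ(E, U)) : Subring (A.presheaf.obj (op U)) :=
  Subring.closure (Set.range (A.str.app (op U)).hom ∪
    (fun e : Γ(E, U) => (show A.presheaf.obj (op U) from jA.app U e)) '' Φ)

omit [E.IsQuasicoherent] in
theorem adj_mono {Φ Φ' : Set Γ(E, U)} (h : Φ ⊆ Φ') : adj E jA U Φ ≤ adj E jA U Φ' :=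
  Subring.closure_mono (Set.union_subset_union_right _ (Set.image_mono h))

include hA hU in
/-- every section lies in the subring generated by finitely many sections of `E` -/
theorem exists_finset_adj (x : A.presheaf.obj (op U)) :
    ∃ Φ : Finset Γ(E, U), x ∈ adj E jA U (Φ : Set Γ(E, U)) := by
  classical
  induction x using sec_induction E hA U hU with
  | hstr r => exact ⟨∅, Subring.subset_closure (Or.inl ⟨r, rfl⟩)⟩
  | hj e =>
    refine ⟨{e}, Subring.subset_closure (Or.inr ⟨e, ?_, rfl⟩)⟩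
    simp
  | hmul a b ha hb =>
    obtain ⟨Φ₁, h₁⟩ := ha
    obtain ⟨Φ₂, h₂⟩ := hb
    refine ⟨Φ₁ ∪ Φ₂, Subring.mul_mem _ (adj_mono E U ?_ h₁) (adj_mono E U ?_ h₂)⟩
    · intro e he; exact Finset.mem_coe.2 (Finset.mem_union_left _ (Finset.mem_coe.1 he))
    · intro e he; exact Finset.mem_coe.2 (Finset.mem_union_right _ (Finset.mem_coe.1 he))
  | hadd a b ha hb =>
    obtain ⟨Φ₁, h₁⟩ := ha
    obtain ⟨Φ₂, h₂⟩ := hb
    refine ⟨Φ₁ ∪ Φ₂, Subring.add_mem _ (adj_mono E U ?_ h₁) (adj_mono E U ?_ h₂)⟩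
    · intro e he; exact Finset.mem_coe.2 (Finset.mem_union_left _ (Finset.mem_coe.1 he))
    · intro e he; exact Finset.mem_coe.2 (Finset.mem_union_right _ (Finset.mem_coe.1 he))

include hA hU in
/-- finitely many sections lie in the subring generated by finitely many sections of `E` -/
theorem exists_finset_adj_finset (T : Finset (A.presheaf.obj (op U))) :
    ∃ Φ : Finset Γ(E, U), ∀ x ∈ T, x ∈ adj E jA U (Φ : Set Γ(E, U)) := by
  classical
  induction T using Finset.induction_on with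
  | empty => exact ⟨∅, fun x hx => absurd hx (Finset.notMem_empty x)⟩
  | insert a T _ ih =>
    obtain ⟨Φ₁, h₁⟩ := ih
    obtain ⟨Φ₂, h₂⟩ := exists_finset_adj E hA U hU a
    refine ⟨Φ₁ ∪ Φ₂, fun x hx => ?_⟩
    rcases Finset.mem_insert.1 hx with rfl | hx
    · refine adj_mono E U ?_ h₂
      intro e he; exact Finset.mem_coe.2 (Finset.mem_union_right _ (Finset.mem_coe.1 he))
    · refine adj_mono E U ?_ (h₁ x hx)
      intro e he; exact Finset.mem_coe.2 (Finset.mem_union_left _ (Finset.mem_coe.1 he))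

end Sec

section Graded
variable {S : Scheme.{u}} (E : S.Modules) [E.IsQuasicoherent]
  {𝒯' : RelProj.QCGrAlg S} {jE : E ⟶ 𝒯'.toModule} (hj : RelProj.IsGrSymAlg E 𝒯' jE)

include hj in
/-- a homomorphism out of a graded symmetric algebra sending the generators to degree one is
graded -/
theorem isGradedHom_of_deg_one {𝒜 : RelProj.QCGrAlg S} (θ : 𝒯'.toQCAlg ⟶ 𝒜.toQCAlg)
    (h1 : ∀ (U : S.Opens) (hU : IsAffineOpen U) (e : Γ(E, U)),
      (θ.hom.app (op U)).hom (show 𝒯'.presheaf.obj (op U) from jE.app U e) ∈ 𝒜.deg U hU 1) :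
    RelProj.IsGradedHom θ := by
  intro U hU d x hx
  obtain ⟨c, hc1, hc2, -, hc4⟩ := exists_gradedEquiv E hj U hU
  obtain ⟨x', hx', rfl⟩ := hc4 d x hx
  clear hx
  induction hx' using Submodule.pow_induction_on_left' with
  | algebraMap r =>
    rw [hc1]
    have h2 : (θ.hom.app (op U)).hom ((𝒯'.str.app (op U)).hom r) = (𝒜.str.app (op U)).hom r := by
      have := congrArg (fun ψ => (ψ.app (op U)).hom r) θ.comm
      exact this
    rw [h2]
    exact 𝒜.str_mem U hU r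
  | add x y i hx hy ihx ihy => rw [map_add, map_add]; exact add_mem ihx ihy
  | mem_mul m hm i x hx ih =>
    obtain ⟨m, rfl⟩ := hm
    rw [map_mul, map_mul, hc2]
    have := SetLike.mul_mem_graded (A := 𝒜.deg U hU) (h1 U hU m) ih
    rw [add_comm] at this
    exact this

end Graded

section Transfer
variable {Y X : Scheme.{u}} (q : X ⟶ Y) {𝒮L : RelProj.QCGrAlg X}

/-- transfer of the criterion along a graded homomorphism of the algebras on the base, with the
compatibility only over the open in question -/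
theorem ImmCritFor.map' {𝒜 ℬ : RelProj.QCGrAlg Y} (θ : 𝒜.toQCAlg ⟶ ℬ.toQCAlg)
    (hθ : RelProj.IsGradedHom θ) (uA : RelProj.QGrHom q 𝒜 𝒮L) (uB : RelProj.QGrHom q ℬ 𝒮L)
    {U : Y.Opens} {hU : IsAffineOpen U}
    (h : uA.app U = θ.hom.app (op U) ≫ uB.app U)
    {n : ℕ} {s : 𝒜.presheaf.obj (op U)}
    (hc : ImmCritFor q uA U hU n s) :
    ImmCritFor q uB U hU n ((θ.hom.app (op U)).hom s) := by
  rw [immCritFor_iff] at hc ⊢
  have e : ∀ a, (uB.app U).hom ((θ.hom.app (op U)).hom a) = (uA.app U).hom a := by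
    intro a; rw [h]; rfl
  rw [e]
  apply hc.mono
  rintro k _ ⟨a, ha, rfl⟩
  exact ⟨(θ.hom.app (op U)).hom a, hθ U hU k a ha, e a⟩

/-- the criterion from a finite set of algebra generators -/
theorem immCritFor_of_gens [LocallyOfFiniteType q] {𝒜 : RelProj.QCGrAlg Y}
    (v : RelProj.QGrHom q 𝒜 𝒮L) (U : Y.Opens) (hU : IsAffineOpen U) {n : ℕ}
    (si : 𝒜.presheaf.obj (op U)) (hsi_mem : si ∈ 𝒜.deg U hU n)
    (hW : IsAffineOpen (nz 𝒮L (q ⁻¹ᵁ U) n ((v.app U).hom si)))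
    (G : Set Γ(X, nz 𝒮L (q ⁻¹ᵁ U) n ((v.app U).hom si)))
    (hG : letI : Algebra Γ(Y, U) Γ(X, nz 𝒮L (q ⁻¹ᵁ U) n ((v.app U).hom si)) :=
      (q.appLE U _ nz_le).hom.toAlgebra
      Algebra.adjoin Γ(Y, U) G = ⊤)
    (hgood : ∀ g ∈ G, ∃ (m : ℕ) (_ : 0 < m), ∃ a ∈ 𝒜.deg U hU (m * n),
      (𝒮L.str.app (op (nz 𝒮L (q ⁻¹ᵁ U) n ((v.app U).hom si)))).hom g *
        (rs 𝒮L nz_le ((v.app U).hom si)) ^ m = rs 𝒮L nz_le ((v.app U).hom a)) :
    ImmCritFor q v U hU n si := by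
  classical
  letI alg : Algebra Γ(Y, U) Γ(X, nz 𝒮L (q ⁻¹ᵁ U) n ((v.app U).hom si)) := (q.appLE U (nz 𝒮L (q ⁻¹ᵁ U) n ((v.app U).hom si)) nz_le).hom.toAlgebra
  refine ⟨hW, ?_⟩
  let good : Γ(X, nz 𝒮L (q ⁻¹ᵁ U) n ((v.app U).hom si)) → Prop := fun t' => ∃ (m : ℕ) (_ : 0 < m),
    ∃ a ∈ 𝒜.deg U hU (m * n),
      (𝒮L.str.app (op (nz 𝒮L (q ⁻¹ᵁ U) n ((v.app U).hom si)))).hom t' * (rs 𝒮L nz_le ((v.app U).hom si)) ^ m = rs 𝒮L nz_le ((v.app U).hom a)
  have hAlg : ∀ a : Γ(Y, U), good (algebraMap Γ(Y, U) Γ(X, nz 𝒮L (q ⁻¹ᵁ U) n ((v.app U).hom si)) a) := by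
    intro a
    refine ⟨1, one_pos, (𝒜.str.app (op U)).hom a * si, ?_, ?_⟩
    · rw [one_mul]
      have := SetLike.mul_mem_graded (𝒜.str_mem U hU a) hsi_mem
      rwa [zero_add] at this
    · rw [pow_one, map_mul, map_mul, rs_app_str q v U nz_le a]
      rfl
  have hmul : ∀ t₁ t₂, good t₁ → good t₂ → good (t₁ * t₂) := by
    rintro t₁ t₂ ⟨m₁, hm₁, a₁, ha₁, e₁⟩ ⟨m₂, hm₂, a₂, ha₂, e₂⟩
    refine ⟨m₁ + m₂, by omega, a₁ * a₂, ?_, ?_⟩
    · have := SetLike.mul_mem_graded ha₁ ha₂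
      rwa [← add_mul] at this
    · rw [map_mul, map_mul, map_mul, ← e₁, ← e₂, pow_add]
      ring
  have hadd : ∀ t₁ t₂, good t₁ → good t₂ → good (t₁ + t₂) := by
    rintro t₁ t₂ ⟨m₁, hm₁, a₁, ha₁, e₁⟩ ⟨m₂, hm₂, a₂, ha₂, e₂⟩
    refine ⟨m₁ + m₂, by omega, a₁ * si ^ m₂ + a₂ * si ^ m₁, ?_, ?_⟩
    · apply AddSubgroup.add_mem
      · have := SetLike.mul_mem_graded ha₁ (SetLike.pow_mem_graded m₂ hsi_mem)
        rwa [smul_eq_mul, ← add_mul] at this
      · have := SetLike.mul_mem_graded ha₂ (SetLike.pow_mem_graded m₁ hsi_mem)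
        rwa [smul_eq_mul, ← add_mul, add_comm m₂ m₁] at this
    · simp only [map_add, map_mul, map_pow]
      rw [← e₁, ← e₂, pow_add]
      ring
  let Tsub : Subalgebra Γ(Y, U) Γ(X, nz 𝒮L (q ⁻¹ᵁ U) n ((v.app U).hom si)) :=
    { carrier := {t' | good t'}
      mul_mem' := fun {a b} ha hb => hmul a b ha hb
      add_mem' := fun {a b} ha hb => hadd a b ha hb
      algebraMap_mem' := hAlg }
  have hGsub : G ⊆ Tsub := fun g hg => hgood g hg
  have htop : (⊤ : Subalgebra Γ(Y, U) Γ(X, nz 𝒮L (q ⁻¹ᵁ U) n ((v.app U).hom si))) ≤ Tsub := by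
    rw [← hG]
    exact Algebra.adjoin_le hGsub
  intro t'
  obtain ⟨m, hm, a, ha, e⟩ := htop (Algebra.mem_top : t' ∈ (⊤ : Subalgebra Γ(Y, U) Γ(X, nz 𝒮L (q ⁻¹ᵁ U) n ((v.app U).hom si))))
  exact ⟨m, hm, a, ha, e⟩

end Transfer

end Groth.Agent.Helper1.SymW
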