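import Mathlib
import Groth.Agent.Lib.Helper1.SymW1
import Groth.Agent.Lib.Helper1.VT23

set_option autoImplicit false
universe u

open CategoryTheory CategoryTheory.Limits AlgebraicGeometry TopologicalSpace Opposite

namespace Groth.Agent.Helper1.SymW

open Groth.Agent.Helper1.SymAlg Groth.Agent.Helper1.LGen Groth.Agent.Helper1.QcCech
open Groth.Agent.Helper1.ProjQ Groth.Agent.Helper1.SymInvLoc Groth.Agent.Helper1.SymBr
open Groth.Agent.Helper1.SymInvLocU Groth.Agent.Helper1.SymGrading Groth.Agent.Helper1.VT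
open Groth.Agent.Helper1 Groth.Agent.Helper1.SymV

section Sub

/-- finitely many finite sets of sections over affine opens of a quasi-coherent module lie in a
quasi-coherent submodule of finite type -/
theorem exists_qcft_mono_sub {Y : Scheme.{u}}
    (hY : (CompactSpace Y ∧ QuasiSeparatedSpace Y) ∨ NoetherianSpace Y)
    (F : Y.Modules) [F.IsQuasicoherent] {N : ℕ} (V : Fin N → Y.Opens)
    (hV : ∀ a, IsAffineOpen (V a)) (T : ∀ a, Finset Γ(F, V a)) :
    ∃ (E : Y.Modules) (ι : E ⟶ F), E.IsQuasicoherent ∧ CohB1.IsFT E ∧ Mono ι ∧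
      ∀ a, ∀ t ∈ T a, ∃ e : Γ(E, V a), ι.app (V a) e = t := by
  have h := fun a => exists_qcft_sub' hY F (V a) (hV a) (T a)
  choose G ιa hGq hGft hGT using h
  have hEq : (∐ G).IsQuasicoherent := FinSigma.isQuasicoherent_sigma G
  have hEft : CohB1.IsFT (∐ G) := isFT_sigma G hGft
  let u0 : (∐ G) ⟶ F := Sigma.desc ιa
  have hq : (Abelian.image u0).IsQuasicoherent := QcAbel.isQuasicoherent_image u0
  refine ⟨Abelian.image u0, Abelian.image.ι u0, hq, isFT_image u0 hEft,
    inferInstanceAs (Mono (Abelian.image.ι u0)), ?_⟩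
  intro a t ht
  obtain ⟨e, he⟩ := hGT a t ht
  refine ⟨(Abelian.factorThruImage u0).app (V a) ((Sigma.ι G a).app (V a) e), ?_⟩
  have h1 : Sigma.ι G a ≫ Abelian.factorThruImage u0 ≫ Abelian.image.ι u0 = ιa a := by
    rw [Abelian.image.fac]; exact Sigma.ι_desc _ _
  have := congrArg (fun φ : G a ⟶ F => φ.app (V a) e) h1
  exact this.trans he

end Sub

section Homog
variable {S : Scheme.{u}} {𝒜 ℬ : RelProj.QCGrAlg S} (θ : 𝒜.toQCAlg ⟶ ℬ.toQCAlg)
  (hθ : RelProj.IsGradedHom θ)

include hθ in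
/-- homogeneous elements in the range of a graded homomorphism have homogeneous preimages -/
theorem exists_homog_preimage (U : S.Opens) (hU : IsAffineOpen U) {k : ℕ}
    {x : ℬ.presheaf.obj (op U)} (hx : x ∈ ℬ.deg U hU k)
    (hr : x ∈ (θ.hom.app (op U)).hom.range) :
    ∃ y : 𝒜.presheaf.obj (op U), y ∈ 𝒜.deg U hU k ∧ (θ.hom.app (op U)).hom y = x := by
  classical
  obtain ⟨y0, hy0⟩ := hr
  refine ⟨(DirectSum.decompose (𝒜.deg U hU) y0 k : 𝒜.presheaf.obj (op U)),
    SetLike.coe_mem _, ?_⟩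
  have h1 := GradedRingHom.map_directSumDecompose (𝒜.deg U hU) (ℬ.deg U hU)
    (RelProj.gradedHomAt θ hθ U hU) (x := y0) (i := k)
  have h2 : (RelProj.gradedHomAt θ hθ U hU) y0 = x := hy0
  rw [h2, DirectSum.decompose_of_mem_same _ hx] at h1
  exact h1

end Homog

end Groth.Agent.Helper1.SymW
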