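import Mathlib
import Groth.Agent.Lib.Helper1.SymW2
import Groth.Agent.Lib.Helper1.SymLift
import Groth.Agent.Lib.Helper1.ProjQ11

set_option autoImplicit false
universe u

open CategoryTheory CategoryTheory.Limits AlgebraicGeometry TopologicalSpace Opposite

namespace Groth.Agent.Helper1.SymW

open Groth.Agent.Helper1.SymAlg Groth.Agent.Helper1.LGen Groth.Agent.Helper1.QcCech
open Groth.Agent.Helper1.ProjQ Groth.Agent.Helper1.SymInvLoc Groth.Agent.Helper1.SymBr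
open Groth.Agent.Helper1.SymInvLocU Groth.Agent.Helper1.SymGrading Groth.Agent.Helper1.VT
open Groth.Agent.Helper1 Groth.Agent.Helper1.SymV

section Theta
variable {Y X : Scheme.{u}} (q : X ⟶ Y) {𝒮L : RelProj.QCGrAlg X}
  {F : Y.Modules} {𝒯 : RelProj.QCGrAlg Y} {jF : F ⟶ 𝒯.toModule}
  (h𝒯 : RelProj.IsGrSymAlg F 𝒯 jF) (u : RelProj.QGrHom q 𝒯 𝒮L)
  (E : Y.Modules) [E.IsQuasicoherent] (ι : E ⟶ F)

/-- `Sym(ι) : Sym(E) → 𝒯` -/
noncomputable def thetaOf (jF : F ⟶ 𝒯.toModule) : (symGr E).toQCAlg ⟶ 𝒯.toQCAlg :=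
  lift E 𝒯.toQCAlg (ι ≫ jF)

include h𝒯 in
theorem thetaOf_graded : RelProj.IsGradedHom (𝒜 := symGr E) (ℬ := 𝒯) (thetaOf E ι jF) :=
  isGradedHom_lift E 𝒯 (ι ≫ jF) (fun U hU x => h𝒯.2 U hU (ι.app U x))

theorem thetaOf_j (U : Y.Opens) (x : Γ(E, U)) :
    ((thetaOf E ι jF).hom.app (op U)).hom
      (show (symGr E).presheaf.obj (op U) from (jGr E).app U x) =
      (show 𝒯.presheaf.obj (op U) from jF.app U (ι.app U x)) := by
  have := congrArg (fun ψ => Scheme.Modules.Hom.app ψ U x) (j_lift E 𝒯.toQCAlg (ι ≫ jF))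
  exact this

theorem thetaOf_str (U : Y.Opens) (r : Γ(Y, U)) :
    ((thetaOf E ι jF).hom.app (op U)).hom (((symGr E).str.app (op U)).hom r) =
      (𝒯.str.app (op U)).hom r := by
  have := congrArg (fun ψ => (ψ.app (op U)).hom r) (thetaOf E ι jF).comm
  exact this

/-- the graded `q`-morphism `u ∘ Sym(ι)` -/
noncomputable def uOf : RelProj.QGrHom q (symGr E) 𝒮L :=
  compHom (thetaOf E ι jF) (thetaOf_graded h𝒯 E ι) u

theorem uOf_app (U : Y.Opens) (a : (symGr E).presheaf.obj (op U)) :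
    ((uOf q h𝒯 u E ι).app U).hom a = (u.app U).hom (((thetaOf E ι jF).hom.app (op U)).hom a) :=
  rfl

theorem uOf_j (U : Y.Opens) (x : Γ(E, U)) :
    ((uOf q h𝒯 u E ι).app U).hom
      (show (symGr E).presheaf.obj (op U) from (jGr E).app U x) =
      (u.app U).hom (show 𝒯.presheaf.obj (op U) from jF.app U (ι.app U x)) := by
  rw [uOf_app, thetaOf_j]

end Theta

section Local
variable {Y X : Scheme.{u}} (q : X ⟶ Y) [LocallyOfFiniteType q] {𝒮L : RelProj.QCGrAlg X}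

/-- the criterion from a finite set of algebra generators, with the section of `𝒮L` named -/
theorem immCritFor_of_gens' {𝒜 : RelProj.QCGrAlg Y}
    (v : RelProj.QGrHom q 𝒜 𝒮L) (U : Y.Opens) (hU : IsAffineOpen U) {n : ℕ}
    (si : 𝒜.presheaf.obj (op U)) (hsi_mem : si ∈ 𝒜.deg U hU n)
    (σ : 𝒮L.presheaf.obj (op (q ⁻¹ᵁ U))) (hσ : (v.app U).hom si = σ)
    (hW : IsAffineOpen (nz 𝒮L (q ⁻¹ᵁ U) n σ))
    (G : Set Γ(X, nz 𝒮L (q ⁻¹ᵁ U) n σ))
    (hG : letI : Algebra Γ(Y, U) Γ(X, nz 𝒮L (q ⁻¹ᵁ U) n σ) :=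
      (q.appLE U _ nz_le).hom.toAlgebra
      Algebra.adjoin Γ(Y, U) G = ⊤)
    (hgood : ∀ g ∈ G, ∃ (m : ℕ) (_ : 0 < m), ∃ a ∈ 𝒜.deg U hU (m * n),
      (𝒮L.str.app (op (nz 𝒮L (q ⁻¹ᵁ U) n σ))).hom g *
        (rs 𝒮L nz_le σ) ^ m = rs 𝒮L nz_le ((v.app U).hom a)) :
    ImmCritFor q v U hU n si := by
  subst hσ
  exact immCritFor_of_gens q v U hU si hsi_mem hW G hG hgood

variable {F : Y.Modules} [F.IsQuasicoherent] {𝒯 : RelProj.QCGrAlg Y} {jF : F ⟶ 𝒯.toModule}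
  (h𝒯 : RelProj.IsGrSymAlg F 𝒯 jF) (u : RelProj.QGrHom q 𝒯 𝒮L)

/-- the local criterion for `𝒯 = Sym(F)` descends to `Sym(E)` for every submodule `E`
containing a suitable finite set of sections -/
theorem exists_local_finset (U : Y.Opens) (hU : IsAffineOpen U) {n : ℕ}
    (s : 𝒯.presheaf.obj (op U)) (hs : s ∈ 𝒯.deg U hU n) (hc : ImmCritFor q u U hU n s) :
    ∃ Φ : Finset Γ(F, U), ∀ (E : Y.Modules) [E.IsQuasicoherent] (ι : E ⟶ F),
      (∀ t ∈ Φ, ∃ e : Γ(E, U), ι.app U e = t) →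
      ∃ s' : (symGr E).presheaf.obj (op U), s' ∈ (symGr E).deg U hU n ∧
        ((uOf q h𝒯 u E ι).app U).hom s' = (u.app U).hom s ∧
        ImmCritFor q (uOf q h𝒯 u E ι) U hU n s' := by
  classical
  obtain ⟨hW, h5⟩ := hc
  have hft := LocallyOfFiniteType.finiteType_appLE q hU hW nz_le
  letI alg : Algebra Γ(Y, U) Γ(X, nz 𝒮L (q ⁻¹ᵁ U) n ((u.app U).hom s)) :=
    (q.appLE U _ nz_le).hom.toAlgebra
  obtain ⟨G, hG⟩ := (show Algebra.FiniteType Γ(Y, U)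
    Γ(X, nz 𝒮L (q ⁻¹ᵁ U) n ((u.app U).hom s)) from hft).out
  choose m hm s1 hs1 he using h5
  obtain ⟨Φ, hΦ⟩ := exists_finset_adj_finset F h𝒯.1 U hU (insert s (G.image s1))
  refine ⟨Φ, fun E _ ι hι => ?_⟩
  have hθ := thetaOf_graded h𝒯 E ι
  have hle : adj F jF U (Φ : Set Γ(F, U)) ≤ ((thetaOf E ι jF).hom.app (op U)).hom.range := by
    apply Subring.closure_le.2
    rintro x (⟨r, rfl⟩ | ⟨t, ht, rfl⟩)
    · exact ⟨_, thetaOf_str E ι U r⟩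
    · obtain ⟨e, rfl⟩ := hι t ht
      exact ⟨_, thetaOf_j E ι U e⟩
  obtain ⟨s', hs', hθs⟩ := exists_homog_preimage (thetaOf E ι jF) hθ U hU hs
    (hle (hΦ s (Finset.mem_insert_self _ _)))
  have hu : ((uOf q h𝒯 u E ι).app U).hom s' = (u.app U).hom s := by rw [uOf_app, hθs]
  refine ⟨s', hs', hu, ?_⟩
  apply immCritFor_of_gens' q (uOf q h𝒯 u E ι) U hU s' hs' ((u.app U).hom s) hu hW
    (G : Set Γ(X, nz 𝒮L (q ⁻¹ᵁ U) n ((u.app U).hom s))) hG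
  intro g hg
  obtain ⟨a, ha, e⟩ := exists_homog_preimage (thetaOf E ι jF) hθ U hU (hs1 g)
    (hle (hΦ _ (Finset.mem_insert_of_mem (Finset.mem_image_of_mem _ (Finset.mem_coe.1 hg)))))
  refine ⟨m g, hm g, a, ha, ?_⟩
  rw [uOf_app, e]
  exact he g

end Local

end Groth.Agent.Helper1.SymW
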