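import Mathlib
import Groth.Agent.Lib.Helper1.SymW3

set_option autoImplicit false
universe u

open CategoryTheory CategoryTheory.Limits AlgebraicGeometry TopologicalSpace Opposite

namespace Groth.Agent.Helper1.SymW

open Groth.Agent.Helper1.SymAlg Groth.Agent.Helper1.LGen Groth.Agent.Helper1.QcCech
open Groth.Agent.Helper1.ProjQ Groth.Agent.Helper1.SymInvLoc Groth.Agent.Helper1.SymBr
open Groth.Agent.Helper1.SymInvLocU Groth.Agent.Helper1.SymGrading Groth.Agent.Helper1.VT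
open Groth.Agent.Helper1 Groth.Agent.Helper1.SymV

section Sub

/-- the version of `exists_qcft_mono_sub` for an arbitrary finite index type -/
theorem exists_qcft_mono_sub' {Y : Scheme.{u}}
    (hY : (CompactSpace Y ∧ QuasiSeparatedSpace Y) ∨ NoetherianSpace Y)
    (F : Y.Modules) [F.IsQuasicoherent] {κ : Type*} [Finite κ] (V : κ → Y.Opens)
    (hV : ∀ a, IsAffineOpen (V a)) (T : ∀ a, Finset Γ(F, V a)) :
    ∃ (E : Y.Modules) (ι : E ⟶ F), E.IsQuasicoherent ∧ CohB1.IsFT E ∧ Mono ι ∧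
      ∀ a, ∀ t ∈ T a, ∃ e : Γ(E, V a), ι.app (V a) e = t := by
  obtain ⟨N, ⟨ε⟩⟩ := Finite.exists_equiv_fin κ
  obtain ⟨E, ι, hq, hft, hmono, h⟩ := exists_qcft_mono_sub hY F (fun a => V (ε.symm a))
    (fun a => hV _) (fun a => T (ε.symm a))
  refine ⟨E, ι, hq, hft, hmono, fun k => ?_⟩
  have := h (ε k)
  exact (ε.symm_apply_apply k) ▸ this

end Sub

section Main
variable {Y X P PL : Scheme.{u}} (q : X ⟶ Y) (L : X.Modules) [L.IsQuasicoherent]
  {𝒮L : RelProj.QCGrAlg X} {jL : L ⟶ 𝒮L.toModule}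
  (hjL : RelProj.IsGrSymAlg L 𝒮L jL)
  {pL : PL ⟶ X}
  {chartL : ∀ (U : X.Opens) (hU : IsAffineOpen U),
    (((pL ⁻¹ᵁ U : PL.Opens) : Scheme.{u}) ≅ Proj (𝒮L.deg U hU))}
  {F : Y.Modules} [F.IsQuasicoherent] {𝒯 : RelProj.QCGrAlg Y} {jF : F ⟶ 𝒯.toModule}
  (h𝒯 : RelProj.IsGrSymAlg F 𝒯 jF) (u : RelProj.QGrHom q 𝒯 𝒮L)
  {p : P ⟶ Y}
  {chart : ∀ (U : Y.Opens) (hU : IsAffineOpen U),
    (((p ⁻¹ᵁ U : P.Opens) : Scheme.{u}) ≅ Proj (𝒯.deg U hU))}

include hjL h𝒯 in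
theorem forward (hYs : (CompactSpace Y ∧ Y.IsSeparated) ∨ NoetherianSpace Y)
    [QuasiCompact q] [LocallyOfFiniteType q] (hL : PicF.IsInvertible L)
    (hPL : RelProj.IsRelProj 𝒮L pL chartL)
    (hsurj : ∀ x : X, ∃ (U : Y.Opens) (hU : IsAffineOpen U) (e : Γ(F, U)) (V : X.Opens)
        (hV : IsAffineOpen V) (hVU : V ≤ q ⁻¹ᵁ U), x ∈ V ∧
          ((𝒮L.deg V hV 1 : AddSubgroup (𝒮L.presheaf.obj (op V))) :
            Set (𝒮L.presheaf.obj (op V))) ⊆
              (Ideal.span {(u.appLE U V hVU).hom ((jF.app U) e)} :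
                Set (𝒮L.presheaf.obj (op V))))
    (hP : RelProj.IsRelProj 𝒯 p chart)
    (r : ((RelProj.domQ u pL chartL : PL.Opens) : Scheme.{u}) ⟶ P)
    (hr : RelProj.IsProjQMapOn u p chart pL chartL (RelProj.domQ u pL chartL) r)
    (himm : IsImmersion r) :
    ∃ (E : Y.Modules) (_ : Coh.IsQCoh E) (_ : CohB1.IsFT E) (ι : E ⟶ F)
        (_ : ∀ U : Y.Opens, Function.Injective (ι.app U))
        (𝒯' : RelProj.QCGrAlg Y) (jE : E ⟶ 𝒯'.toModule) (_ : RelProj.IsGrSymAlg E 𝒯' jE)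
        (u' : RelProj.QGrHom q 𝒯' 𝒮L)
        (_ : ∀ (U : Y.Opens) (x : Γ(E, U)),
          (u'.app U).hom ((jE.app U) x) = (u.app U).hom ((jF.app U) ((ι.app U) x))),
        (∀ x : X, ∃ (U : Y.Opens) (hU : IsAffineOpen U) (e : Γ(E, U)) (V : X.Opens)
            (hV : IsAffineOpen V) (hVU : V ≤ q ⁻¹ᵁ U), x ∈ V ∧
              ((𝒮L.deg V hV 1 : AddSubgroup (𝒮L.presheaf.obj (op V))) :
                Set (𝒮L.presheaf.obj (op V))) ⊆
              (Ideal.span {(u'.appLE U V hVU).hom ((jE.app U) e)} :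
                Set (𝒮L.presheaf.obj (op V)))) ∧
        ∀ (P' : Scheme.{u}) (p' : P' ⟶ Y)
            (chart' : ∀ (U : Y.Opens) (hU : IsAffineOpen U),
              (((p' ⁻¹ᵁ U : P'.Opens) : Scheme.{u}) ≅ Proj (𝒯'.deg U hU)))
            (_ : RelProj.IsRelProj 𝒯' p' chart')
            (r' : ((RelProj.domQ u' pL chartL : PL.Opens) : Scheme.{u}) ⟶ P')
            (_ : RelProj.IsProjQMapOn u' p' chart' pL chartL (RelProj.domQ u' pL chartL) r'),
          RelProj.domQ u' pL chartL = ⊤ ∧ IsImmersion r' := by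
  classical
  have hY' := VT.qcqs_or_noeth_of_sep hYs
  have hYc : CompactSpace Y := by
    rcases hYs with ⟨hc, -⟩ | hN
    · exact hc
    · infer_instance
  have hXc : CompactSpace X := QuasiCompact.compactSpace_of_compactSpace q
  have hdom : RelProj.domQ u pL chartL = ⊤ := by
    apply domQ_eq_top_of_cover q L hjL u hPL
    intro x
    obtain ⟨U, hU, e, V, hV, hVU, hxV, hspan⟩ := hsurj x
    exact ⟨U, hU, 1, one_pos, jF.app U e, h𝒯.2 U hU e, mem_nz_iff.2 ⟨V, hV, hVU, hxV, hspan⟩⟩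
  have hloc : ∀ x : X, ∃ (U : Y.Opens) (hU : IsAffineOpen U) (n : ℕ) (_ : 0 < n)
      (s : 𝒯.presheaf.obj (op U)) (_ : s ∈ 𝒯.deg U hU n),
      x ∈ nz 𝒮L (q ⁻¹ᵁ U) n ((u.app U).hom s) ∧ ImmCritFor q u U hU n s := by
    intro x
    obtain ⟨U, hU, hxU⟩ := RP6.exists_affine_mem (q x)
    obtain ⟨n, hn, s, hs, hx, hc⟩ :=
      immCrit_of_isImmersion q L hjL u hL hP hPL r hr hdom U hU x hxU
    exact ⟨U, hU, n, hn, s, hs, hx, hc⟩
  choose U hU n hn s hs hx hc using hloc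
  have hΦ := fun x => exists_local_finset q h𝒯 u (U x) (hU x) (s x) (hs x) (hc x)
  choose Φ hΦ using hΦ
  choose U' hU' e' V' hV' hVU' hxV' hspan' using hsurj
  obtain ⟨F1, hF1⟩ := isCompact_univ.elim_finite_subcover
    (fun x : X => ((nz 𝒮L (q ⁻¹ᵁ U x) (n x) ((u.app (U x)).hom (s x)) : X.Opens) : Set X))
    (fun x => (nz 𝒮L (q ⁻¹ᵁ U x) (n x) ((u.app (U x)).hom (s x))).2)
    (fun x _ => Set.mem_iUnion.2 ⟨x, hx x⟩)
  obtain ⟨F2, hF2⟩ := isCompact_univ.elim_finite_subcover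
    (fun x : X => ((V' x : X.Opens) : Set X)) (fun x => (V' x).2)
    (fun x _ => Set.mem_iUnion.2 ⟨x, hxV' x⟩)
  let Vκ : (↥F1 ⊕ ↥F2) → Y.Opens := Sum.elim (fun x => U x.1) (fun x => U' x.1)
  have hVκ : ∀ a, IsAffineOpen (Vκ a) := by
    rintro (x | x)
    · exact hU x.1
    · exact hU' x.1
  let Tκ : ∀ a, Finset Γ(F, Vκ a) := fun a =>
    match a with
    | Sum.inl x => Φ x.1
    | Sum.inr x => {e' x.1}
  obtain ⟨E, ι, hEq, hEft, hmono, hT⟩ := exists_qcft_mono_sub' hY' F Vκ hVκ Tκ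
  refine ⟨E, hEq, hEft, ι, fun O => FtLocal.app_injective_of_mono ι O, symGr E, jGr E,
    isGrSymAlg E, uOf q h𝒯 u E ι, fun O x => uOf_j q h𝒯 u E ι O x, ?_, ?_⟩
  · intro x
    obtain ⟨x0, hx0F, hxV⟩ : ∃ x0 ∈ F2, x ∈ V' x0 := by
      have := hF2 (Set.mem_univ x)
      simp only [Set.mem_iUnion] at this
      obtain ⟨x0, hx0, hx'⟩ := this
      exact ⟨x0, hx0, hx'⟩
    obtain ⟨e, he⟩ := hT (Sum.inr ⟨x0, hx0F⟩) (e' x0) (Finset.mem_singleton_self _)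
    refine ⟨U' x0, hU' x0, e, V' x0, hV' x0, hVU' x0, hxV, ?_⟩
    have e1 : ((uOf q h𝒯 u E ι).appLE (U' x0) (V' x0) (hVU' x0)).hom ((jGr E).app (U' x0) e) =
        (u.appLE (U' x0) (V' x0) (hVU' x0)).hom ((jF.app (U' x0)) (e' x0)) := by
      change (𝒮L.presheaf.map (homOfLE (hVU' x0)).op).hom
          (((uOf q h𝒯 u E ι).app (U' x0)).hom ((jGr E).app (U' x0) e)) =
        (𝒮L.presheaf.map (homOfLE (hVU' x0)).op).hom
          ((u.app (U' x0)).hom ((jF.app (U' x0)) (e' x0)))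
      rw [← he]
      exact congrArg _ (uOf_j q h𝒯 u E ι (U' x0) e)
    rw [e1]
    exact hspan' x0
  · intro P' p' chart' hP' r' hr'
    apply isImmersion_of_immCrit q L hjL (uOf q h𝒯 u E ι) hL hP' hPL r' hr'
    intro x'
    obtain ⟨x0, hx0F, hx'⟩ : ∃ x0 ∈ F1,
        x' ∈ nz 𝒮L (q ⁻¹ᵁ U x0) (n x0) ((u.app (U x0)).hom (s x0)) := by
      have := hF1 (Set.mem_univ x')
      simp only [Set.mem_iUnion] at this
      obtain ⟨x0, hx0, hx'⟩ := this
      exact ⟨x0, hx0, hx'⟩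
    have : E.IsQuasicoherent := hEq
    obtain ⟨s', hs', hus, hcrit⟩ := hΦ x0 E ι (fun t ht => hT (Sum.inl ⟨x0, hx0F⟩) t ht)
    refine ⟨U x0, hU x0, n x0, hn x0, s', hs', ?_, hcrit⟩
    rw [hus]
    exact hx'

include hjL h𝒯 in
theorem backward (hL : PicF.IsInvertible L)
    (hPL : RelProj.IsRelProj 𝒮L pL chartL)
    (hP : RelProj.IsRelProj 𝒯 p chart)
    (r : ((RelProj.domQ u pL chartL : PL.Opens) : Scheme.{u}) ⟶ P)
    (hr : RelProj.IsProjQMapOn u p chart pL chartL (RelProj.domQ u pL chartL) r)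
    (E : Y.Modules) [E.IsQuasicoherent] (ι : E ⟶ F)
    (𝒯' : RelProj.QCGrAlg Y) (jE : E ⟶ 𝒯'.toModule) (h𝒯' : RelProj.IsGrSymAlg E 𝒯' jE)
    (u' : RelProj.QGrHom q 𝒯' 𝒮L)
    (hu' : ∀ (U : Y.Opens) (x : Γ(E, U)),
      (u'.app U).hom ((jE.app U) x) = (u.app U).hom ((jF.app U) ((ι.app U) x)))
    (hall : ∀ (P' : Scheme.{u}) (p' : P' ⟶ Y)
        (chart' : ∀ (U : Y.Opens) (hU : IsAffineOpen U),
          (((p' ⁻¹ᵁ U : P'.Opens) : Scheme.{u}) ≅ Proj (𝒯'.deg U hU)))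
        (_ : RelProj.IsRelProj 𝒯' p' chart')
        (r' : ((RelProj.domQ u' pL chartL : PL.Opens) : Scheme.{u}) ⟶ P')
        (_ : RelProj.IsProjQMapOn u' p' chart' pL chartL (RelProj.domQ u' pL chartL) r'),
      RelProj.domQ u' pL chartL = ⊤ ∧ IsImmersion r') :
    IsImmersion r := by
  obtain ⟨P', p', chart', hP'⟩ := RP2.exists_isRelProj 𝒯'
  obtain ⟨r', hr', -⟩ := existsUnique_isProjQMapOn u' p' chart' pL chartL hP' hPL _ rfl
  obtain ⟨hdom', himm'⟩ := hall P' p' chart' hP' r' hr'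
  obtain ⟨θ, hθ, -⟩ := h𝒯'.1 𝒯.toQCAlg (ι ≫ jF)
  have hθj : ∀ (U : Y.Opens) (x : Γ(E, U)),
      (θ.hom.app (op U)).hom (show 𝒯'.presheaf.obj (op U) from jE.app U x) =
        (show 𝒯.presheaf.obj (op U) from jF.app U (ι.app U x)) :=
    fun U x => congrArg (fun ψ => Scheme.Modules.Hom.app ψ U x) hθ
  have hθg : RelProj.IsGradedHom θ := isGradedHom_of_deg_one E h𝒯' θ (fun U hU e => by
    rw [hθj]; exact h𝒯.2 U hU _)
  have hcompat : ∀ (U : Y.Opens) (hU : IsAffineOpen U),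
      u'.app U = θ.hom.app (op U) ≫ u.app U := by
    intro U hU
    apply CommRingCat.hom_ext
    apply secHom_ext E h𝒯'.1 U hU
    · intro a
      have h1 := congrArg (fun ψ => ψ.hom a) (u'.str_app U)
      have h2 := congrArg (fun ψ => ψ.hom a) (u.str_app U)
      have h3 : (θ.hom.app (op U)).hom ((𝒯'.str.app (op U)).hom a) = (𝒯.str.app (op U)).hom a :=
        congrArg (fun ψ => (ψ.app (op U)).hom a) θ.comm
      show (u'.app U).hom _ = (u.app U).hom ((θ.hom.app (op U)).hom _)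
      rw [h3]
      exact h1.trans h2.symm
    · intro e
      show (u'.app U).hom _ = (u.app U).hom ((θ.hom.app (op U)).hom _)
      rw [hθj]
      exact hu' U e
  refine (isImmersion_of_immCrit q L hjL u hL hP hPL r hr ?_).2
  intro x
  obtain ⟨U, hU, hxU⟩ := RP6.exists_affine_mem (q x)
  obtain ⟨n, hn, s, hs, hx, hc⟩ :=
    immCrit_of_isImmersion q L hjL u' hL hP' hPL r' hr' hdom' U hU x hxU
  have hmap := ImmCritFor.map' q θ hθg u' u (hcompat U hU) hc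
  refine ⟨U, hU, n, hn, (θ.hom.app (op U)).hom s, hθg U hU n s hs, ?_, hmap⟩
  have e : (u.app U).hom ((θ.hom.app (op U)).hom s) = (u'.app U).hom s := by
    rw [hcompat U hU]; rfl
  rw [e]
  exact hx

include hjL h𝒯 in
/-- **S12689** -/
theorem main12689 (hYs : (CompactSpace Y ∧ Y.IsSeparated) ∨ NoetherianSpace Y)
    [QuasiCompact q] [LocallyOfFiniteType q] (hL : PicF.IsInvertible L)
    (hPL : RelProj.IsRelProj 𝒮L pL chartL)
    (hsurj : ∀ x : X, ∃ (U : Y.Opens) (hU : IsAffineOpen U) (e : Γ(F, U)) (V : X.Opens)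
        (hV : IsAffineOpen V) (hVU : V ≤ q ⁻¹ᵁ U), x ∈ V ∧
          ((𝒮L.deg V hV 1 : AddSubgroup (𝒮L.presheaf.obj (op V))) :
            Set (𝒮L.presheaf.obj (op V))) ⊆
              (Ideal.span {(u.appLE U V hVU).hom ((jF.app U) e)} :
                Set (𝒮L.presheaf.obj (op V))))
    (hP : RelProj.IsRelProj 𝒯 p chart)
    (r : ((RelProj.domQ u pL chartL : PL.Opens) : Scheme.{u}) ⟶ P)
    (hr : RelProj.IsProjQMapOn u p chart pL chartL (RelProj.domQ u pL chartL) r) :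
    IsImmersion r ↔
      ∃ (E : Y.Modules) (_ : Coh.IsQCoh E) (_ : CohB1.IsFT E) (ι : E ⟶ F)
        (_ : ∀ U : Y.Opens, Function.Injective (ι.app U))
        (𝒯' : RelProj.QCGrAlg Y) (jE : E ⟶ 𝒯'.toModule) (_ : RelProj.IsGrSymAlg E 𝒯' jE)
        (u' : RelProj.QGrHom q 𝒯' 𝒮L)
        (_ : ∀ (U : Y.Opens) (x : Γ(E, U)),
          (u'.app U).hom ((jE.app U) x) = (u.app U).hom ((jF.app U) ((ι.app U) x))),
        (∀ x : X, ∃ (U : Y.Opens) (hU : IsAffineOpen U) (e : Γ(E, U)) (V : X.Opens)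
            (hV : IsAffineOpen V) (hVU : V ≤ q ⁻¹ᵁ U), x ∈ V ∧
              ((𝒮L.deg V hV 1 : AddSubgroup (𝒮L.presheaf.obj (op V))) :
                Set (𝒮L.presheaf.obj (op V))) ⊆
              (Ideal.span {(u'.appLE U V hVU).hom ((jE.app U) e)} :
                Set (𝒮L.presheaf.obj (op V)))) ∧
        ∀ (P' : Scheme.{u}) (p' : P' ⟶ Y)
            (chart' : ∀ (U : Y.Opens) (hU : IsAffineOpen U),
              (((p' ⁻¹ᵁ U : P'.Opens) : Scheme.{u}) ≅ Proj (𝒯'.deg U hU)))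
            (_ : RelProj.IsRelProj 𝒯' p' chart')
            (r' : ((RelProj.domQ u' pL chartL : PL.Opens) : Scheme.{u}) ⟶ P')
            (_ : RelProj.IsProjQMapOn u' p' chart' pL chartL (RelProj.domQ u' pL chartL) r'),
          RelProj.domQ u' pL chartL = ⊤ ∧ IsImmersion r' := by
  constructor
  · intro himm
    exact forward q L hjL h𝒯 u hYs hL hPL hsurj hP r hr himm
  · rintro ⟨E, hEq, -, ι, -, 𝒯', jE, h𝒯', u', hu', -, hall⟩
    have : E.IsQuasicoherent := hEq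
    exact backward q L hjL h𝒯 u hL hPL hP r hr E ι 𝒯' jE h𝒯' u' hu' hall

end Main

end Groth.Agent.Helper1.SymW
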