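import Mathlib
import Groth.Agent.Lib.Helper1.QuasiReg

universe u
open MvPolynomial

namespace Groth.Agent.Helper1.T1CI

variable {k : Type u} [Field k] {d n : ℕ} (f : Fin n → MvPolynomial (Fin d) k)

local notation "PP" => MvPolynomial (Fin d) k
local notation "JJ" => Ideal.span (Set.range f)
local notation "BB" => MvPolynomial (Fin d) k ⧸ Ideal.span (Set.range f)

/-- the generators as elements of the ideal -/
noncomputable def gen (i : Fin n) : ↥JJ := ⟨f i, Ideal.subset_span (Set.mem_range_self i)⟩

/-- evaluation at the generators -/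
noncomputable def Φ : (↥JJ →ₗ[PP] BB) →ₗ[PP] (Fin n → BB) where
  toFun φ := fun i => φ (gen f i)
  map_add' _ _ := rfl
  map_smul' _ _ := rfl

lemma Φ_apply (φ : ↥JJ →ₗ[PP] BB) (i : Fin n) : Φ f φ i = φ (gen f i) := rfl

lemma span_gen : Submodule.span PP (Set.range (gen f)) = ⊤ := by
  have key : ∀ a (ha : a ∈ JJ), (⟨a, ha⟩ : ↥JJ) ∈ Submodule.span PP (Set.range (gen f)) := by
    intro a ha
    induction ha using Submodule.span_induction with
    | mem x hx =>
      obtain ⟨i, rfl⟩ := hx
      exact Submodule.subset_span ⟨i, rfl⟩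
    | zero => exact Submodule.zero_mem _
    | add x y hx hy ihx ihy =>
      have : (⟨x + y, Submodule.add_mem _ hx hy⟩ : ↥JJ) = ⟨x, hx⟩ + ⟨y, hy⟩ := rfl
      rw [this]; exact Submodule.add_mem _ ihx ihy
    | smul c x hx ihx =>
      have : (⟨c • x, Submodule.smul_mem _ c hx⟩ : ↥JJ) = c • ⟨x, hx⟩ := rfl
      rw [this]; exact Submodule.smul_mem _ c ihx
  rw [eq_top_iff]
  rintro ⟨a, ha⟩ _
  exact key a ha

lemma Φ_injective : Function.Injective (Φ f) := by
  rw [injective_iff_map_eq_zero]
  intro φ hφ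
  apply LinearMap.ext_on_range (span_gen f)
  intro i
  rw [LinearMap.zero_apply]
  exact congrFun hφ i

lemma Φ_surjective (hreg : RingTheory.Sequence.IsWeaklyRegular (MvPolynomial (Fin d) k) (List.ofFn f)) :
    Function.Surjective (Φ f) := by
  classical
  intro b
  have hq := Groth.Agent.Helper1.QuasiReg.isQuasiRegular_of_isWeaklyRegular n f hreg
  set L : (Fin n → PP) →ₗ[PP] ↥JJ := Fintype.linearCombination PP (gen f) with hL
  set M : (Fin n → PP) →ₗ[PP] BB := Fintype.linearCombination PP b with hM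
  have hLs : Function.Surjective L := by
    rw [← LinearMap.range_eq_top, hL, Fintype.range_linearCombination, span_gen]
  have hker : LinearMap.ker L ≤ LinearMap.ker M := by
    intro c hc
    have h0 : L c = 0 := hc
    have h1 : ∑ i, c i * f i = 0 := by
      have := congrArg (Subtype.val) h0
      rw [hL, Fintype.linearCombination_apply] at this
      simpa [gen] using this
    have h2 : ∀ i, c i ∈ JJ := fun i =>
      Groth.Agent.Helper1.QuasiReg.coeff_mem_of_sum_mem_sq f hq c (by rw [h1]; exact Submodule.zero_mem _) i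
    rw [LinearMap.mem_ker, hM, Fintype.linearCombination_apply]
    refine Finset.sum_eq_zero fun i _ => ?_
    have h3 : (c i) • (b i) = Ideal.Quotient.mk JJ (c i) * b i := by
      obtain ⟨b', hb'⟩ := Ideal.Quotient.mk_surjective (b i)
      rw [← hb', ← map_mul]; rfl
    rw [h3, Ideal.Quotient.eq_zero_iff_mem.mpr (h2 i), zero_mul]
  set φ : ↥JJ →ₗ[PP] BB :=
    ((LinearMap.ker L).liftQ M hker) ∘ₗ (L.quotKerEquivOfSurjective hLs).symm.toLinearMap with hφ
  refine ⟨φ, ?_⟩
  ext i
  rw [Φ_apply]
  have h1 : gen f i = L (Pi.single i 1) := by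
    rw [hL, Fintype.linearCombination_apply_single, one_smul]
  have h2 : (L.quotKerEquivOfSurjective hLs).symm (L (Pi.single i 1)) =
      Submodule.Quotient.mk (Pi.single i 1) := by
    rw [LinearEquiv.symm_apply_eq]
    rfl
  rw [hφ, LinearMap.comp_apply, h1]
  show ((LinearMap.ker L).liftQ M hker) ((L.quotKerEquivOfSurjective hLs).symm (L (Pi.single i 1))) = b i
  rw [h2, Submodule.liftQ_apply, hM, Fintype.linearCombination_apply_single, one_smul]

/-- the linear equivalence -/
noncomputable def Φe (hreg : RingTheory.Sequence.IsWeaklyRegular (MvPolynomial (Fin d) k) (List.ofFn f)) :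
    (↥JJ →ₗ[PP] BB) ≃ₗ[PP] (Fin n → BB) :=
  LinearEquiv.ofBijective (Φ f) ⟨Φ_injective f, Φ_surjective f hreg⟩

/-- derivations are determined by the partial derivatives -/
lemma der_eq (D : Derivation k PP BB) (p : PP) : D p = ∑ j : Fin d, (pderiv j p : PP) • D (X j : PP) := by
  classical
  induction p using MvPolynomial.induction_on with
  | C a => simp [MvPolynomial.derivation_C]
  | add p q hp hq =>
    rw [map_add, hp, hq, ← Finset.sum_add_distrib]
    refine Finset.sum_congr rfl fun j _ => ?_
    rw [map_add, add_smul]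
  | mul_X p i hp =>
    rw [Derivation.leibniz, hp]
    have h1 : ∀ j : Fin d, (pderiv j (p * X i) : PP) • D (X j : PP) =
        (if j = i then p • D (X i : PP) else 0) + (X i : PP) • ((pderiv j p : PP) • D (X j : PP)) := by
      intro j
      rw [Derivation.leibniz, pderiv_X, smul_eq_mul, smul_eq_mul, add_smul, mul_smul, mul_smul]
      congr 1
      by_cases h : j = i
      · subst h; simp
      · simp [Pi.single_apply, h, Ne.symm h]
    simp_rw [h1]
    rw [Finset.sum_add_distrib, Finset.sum_ite_eq', ← Finset.smul_sum]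
    simp


/-- restriction of a derivation to the ideal, as a `P`-linear map -/
noncomputable def resD (D : Derivation k PP BB) : ↥JJ →ₗ[PP] BB where
  toFun a := D (a : PP)
  map_add' a b := by simp
  map_smul' p a := by
    have h1 : ((p • a : ↥JJ) : PP) = p * (a : PP) := rfl
    rw [h1, Derivation.leibniz, RingHom.id_apply]
    have h2 : (a : PP) • D p = 0 := by
      obtain ⟨b', hb'⟩ := Ideal.Quotient.mk_surjective (D p)
      rw [← hb']
      show Ideal.Quotient.mk JJ ((a : PP) * b') = 0
      rw [Ideal.Quotient.eq_zero_iff_mem]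
      exact Ideal.mul_mem_right _ _ a.2
    rw [h2, add_zero]

lemma resD_apply (D : Derivation k PP BB) (a : ↥JJ) : resD f D a = D (a : PP) := rfl

/-- the columns of the Jacobian matrix -/
noncomputable def col (j : Fin d) : Fin n → BB :=
  fun i => Ideal.Quotient.mk JJ (pderiv j (f i))

lemma Φ_resD (D : Derivation k PP BB) : Φ f (resD f D) = ∑ j, D (X j : PP) • col f j := by
  ext i
  rw [Φ_apply, resD_apply, Finset.sum_apply]
  show D (f i) = _
  rw [der_eq f D (f i)]
  refine Finset.sum_congr rfl fun j _ => ?_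
  rw [Pi.smul_apply, smul_eq_mul, mul_comm]
  obtain ⟨b', hb'⟩ := Ideal.Quotient.mk_surjective (D (X j : PP))
  rw [← hb']
  rfl

lemma map_span_eq (hreg : RingTheory.Sequence.IsWeaklyRegular (MvPolynomial (Fin d) k) (List.ofFn f)) :
    (Submodule.span PP {ψ : ↥JJ →ₗ[PP] BB |
        ∃ D : Derivation k PP BB, ∀ a : ↥JJ, ψ a = D (a : PP)}).map (Φe f hreg).toLinearMap =
      (Submodule.span BB (Set.range fun j : Fin d => fun i : Fin n =>
        Ideal.Quotient.mk JJ (pderiv j (f i)))).restrictScalars PP := by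
  apply le_antisymm
  · rw [Submodule.map_span, Submodule.span_le]
    rintro _ ⟨ψ, ⟨D, hD⟩, rfl⟩
    have h1 : ψ = resD f D := LinearMap.ext hD
    show Φ f ψ ∈ Submodule.span BB _
    rw [h1, Φ_resD]
    refine Submodule.sum_mem _ fun j _ => ?_
    exact Submodule.smul_mem _ _ (Submodule.subset_span ⟨j, rfl⟩)
  · intro y hy
    have hy' : y ∈ Submodule.span BB (Set.range (col f)) := hy
    obtain ⟨c, rfl⟩ := (Submodule.mem_span_range_iff_exists_fun BB).mp hy'
    refine ⟨resD f (mkDerivation k c), Submodule.subset_span ⟨mkDerivation k c, fun a => rfl⟩, ?_⟩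
    show Φ f (resD f (mkDerivation k c)) = _
    rw [Φ_resD]
    refine Finset.sum_congr rfl fun j _ => ?_
    rw [mkDerivation_X]

theorem main (hreg : RingTheory.Sequence.IsWeaklyRegular (MvPolynomial (Fin d) k) (List.ofFn f)) :
    ∃ e : ((↥JJ →ₗ[PP] BB) ⧸ Submodule.span PP {ψ : ↥JJ →ₗ[PP] BB |
            ∃ D : Derivation k PP BB, ∀ a : ↥JJ, ψ a = D (a : PP)}) ≃ₗ[PP]
          ((Fin n → BB) ⧸ Submodule.span BB (Set.range fun j : Fin d => fun i : Fin n =>
            Ideal.Quotient.mk JJ (pderiv j (f i)))),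
      ∀ φ : ↥JJ →ₗ[PP] BB, e (Submodule.Quotient.mk φ) =
        Submodule.Quotient.mk (fun i : Fin n => φ ⟨f i, Ideal.subset_span (Set.mem_range_self i)⟩) :=
  ⟨(Submodule.Quotient.equiv _ _ (Φe f hreg) (map_span_eq f hreg)).trans
      (Submodule.Quotient.restrictScalarsEquiv PP _), fun φ => rfl⟩

end Groth.Agent.Helper1.T1CI
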