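import Mathlib

universe u v w

namespace Groth.Agent.Helper1.T2Pres

variable {P : Type u} [CommRing P] (J : Ideal P)

section defs
variable {F : Type v} [AddCommGroup F] [Module P F] (j : F →ₗ[P] P)

/-- trivial relations -/
def tr : Submodule P F := Submodule.span P {y : F | ∃ u v : F, y = j u • v - j v • u}

/-- restrictions of maps `F → P/J` -/
def res : Submodule P (↥(LinearMap.ker j) →ₗ[P] (P ⧸ J)) :=
  LinearMap.range (LinearMap.lcomp P (P ⧸ J) (LinearMap.ker j).subtype)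

/-- maps vanishing on trivial relations -/
def K : Submodule P (↥(LinearMap.ker j) →ₗ[P] (P ⧸ J)) :=
  LinearMap.ker (LinearMap.lcomp P (P ⧸ J)
    (Submodule.comap (LinearMap.ker j).subtype (tr j)).subtype)

/-- the second cotangent module of the presentation -/
def T2 : Submodule P ((↥(LinearMap.ker j) →ₗ[P] (P ⧸ J)) ⧸ res J j) :=
  Submodule.map (res J j).mkQ (K J j)

lemma mem_K (h : ↥(LinearMap.ker j) →ₗ[P] (P ⧸ J)) :
    h ∈ K J j ↔ ∀ x : ↥(LinearMap.ker j), (x : F) ∈ tr j → h x = 0 := by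
  constructor
  · intro hh x hx
    have := LinearMap.congr_fun (LinearMap.mem_ker.mp hh) ⟨x, hx⟩
    exact this
  · intro hh
    rw [K, LinearMap.mem_ker]
    ext ⟨x, hx⟩
    exact hh x hx

lemma mem_res (h : ↥(LinearMap.ker j) →ₗ[P] (P ⧸ J)) :
    h ∈ res J j ↔ ∃ g : F →ₗ[P] (P ⧸ J), ∀ x : ↥(LinearMap.ker j), h x = g x := by
  constructor
  · rintro ⟨g, rfl⟩
    exact ⟨g, fun x => rfl⟩
  · rintro ⟨g, hg⟩
    exact ⟨g, LinearMap.ext fun x => (hg x).symm⟩

end defs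

section pull
variable {F : Type v} [AddCommGroup F] [Module P F] (j : F →ₗ[P] P)
  {F' : Type w} [AddCommGroup F'] [Module P F'] (j' : F' →ₗ[P] P)
  (α : F →ₗ[P] F') (hα : ∀ x, j' (α x) = j x)

include hα in
lemma map_ker (x : F) (hx : x ∈ LinearMap.ker j) : α x ∈ LinearMap.ker j' := by
  rw [LinearMap.mem_ker, hα]; exact hx

include hα in
lemma map_tr (x : F) (hx : x ∈ tr j) : α x ∈ tr j' := by
  have : (tr j).map α ≤ tr j' := by
    rw [tr, Submodule.map_span, Submodule.span_le]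
    rintro _ ⟨y, ⟨u, v, rfl⟩, rfl⟩
    refine Submodule.subset_span ⟨α u, α v, ?_⟩
    rw [map_sub, map_smul, map_smul, hα, hα]
  exact this ⟨x, hx, rfl⟩

/-- the restriction of `α` to relations -/
def αR : ↥(LinearMap.ker j) →ₗ[P] ↥(LinearMap.ker j') :=
  α.restrict (map_ker j j' α hα)

lemma αR_coe (x : ↥(LinearMap.ker j)) : ((αR j j' α hα x : ↥(LinearMap.ker j')) : F') = α x := rfl

/-- pull back of maps on relations -/
def A : (↥(LinearMap.ker j') →ₗ[P] (P ⧸ J)) →ₗ[P] (↥(LinearMap.ker j) →ₗ[P] (P ⧸ J)) :=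
  LinearMap.lcomp P (P ⧸ J) (αR j j' α hα)

lemma A_apply (h' : ↥(LinearMap.ker j') →ₗ[P] (P ⧸ J)) (x : ↥(LinearMap.ker j)) :
    A J j j' α hα h' x = h' (αR j j' α hα x) := rfl

lemma A_res : res J j' ≤ (res J j).comap (A J j j' α hα) := by
  intro h' hh'
  obtain ⟨g', hg'⟩ := (mem_res J j' h').mp hh'
  rw [Submodule.mem_comap, mem_res]
  refine ⟨g' ∘ₗ α, fun x => ?_⟩
  rw [A_apply, hg']
  rfl

lemma A_K : K J j' ≤ (K J j).comap (A J j j' α hα) := by
  intro h' hh'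
  rw [Submodule.mem_comap, mem_K]
  intro x hx
  rw [A_apply]
  exact (mem_K J j' h').mp hh' _ (map_tr j j' α hα x hx)

/-- the induced map on quotients -/
def Abar : ((↥(LinearMap.ker j') →ₗ[P] (P ⧸ J)) ⧸ res J j') →ₗ[P]
    ((↥(LinearMap.ker j) →ₗ[P] (P ⧸ J)) ⧸ res J j) :=
  (res J j').mapQ (res J j) (A J j j' α hα) (A_res J j j' α hα)

lemma Abar_mk (h' : ↥(LinearMap.ker j') →ₗ[P] (P ⧸ J)) :
    Abar J j j' α hα (Submodule.Quotient.mk h') = Submodule.Quotient.mk (A J j j' α hα h') := rfl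

lemma Abar_T2 (t : (↥(LinearMap.ker j') →ₗ[P] (P ⧸ J)) ⧸ res J j') (ht : t ∈ T2 J j') :
    Abar J j j' α hα t ∈ T2 J j := by
  obtain ⟨h', hh', rfl⟩ := ht
  exact ⟨A J j j' α hα h', A_K J j j' α hα hh', rfl⟩

/-- the comparison map -/
def pull : ↥(T2 J j') →ₗ[P] ↥(T2 J j) :=
  (Abar J j j' α hα).restrict (Abar_T2 J j j' α hα)

lemma pull_coe (t : ↥(T2 J j')) : ((pull J j j' α hα t : ↥(T2 J j)) :
    (↥(LinearMap.ker j) →ₗ[P] (P ⧸ J)) ⧸ res J j) = Abar J j j' α hα t := rfl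

end pull

section comp
variable {F : Type v} [AddCommGroup F] [Module P F] (j : F →ₗ[P] P)
  {F' : Type w} [AddCommGroup F'] [Module P F'] (j' : F' →ₗ[P] P)
  (α : F →ₗ[P] F') (hα : ∀ x, j' (α x) = j x)
  (β : F' →ₗ[P] F) (hβ : ∀ x, j (β x) = j' x)

lemma pull_pull (t : ↥(T2 J j)) : pull J j j' α hα (pull J j' j β hβ t) = t := by
  obtain ⟨t, ht⟩ := t
  obtain ⟨h, hh, rfl⟩ := ht
  apply Subtype.ext
  rw [pull_coe, pull_coe]
  show Abar J j j' α hα (Abar J j' j β hβ (Submodule.Quotient.mk h)) = Submodule.Quotient.mk h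
  rw [Abar_mk, Abar_mk, Submodule.Quotient.eq, mem_res]
  -- γ = β α - id maps F into relations
  have hγ : ∀ x, β (α x) - x ∈ LinearMap.ker j := by
    intro x
    rw [LinearMap.mem_ker, map_sub, hβ, hα, sub_self]
  set γ : F →ₗ[P] ↥(LinearMap.ker j) :=
    (β ∘ₗ α - LinearMap.id).codRestrict (LinearMap.ker j) hγ with hγdef
  refine ⟨h ∘ₗ γ, fun x => ?_⟩
  rw [LinearMap.sub_apply, A_apply, A_apply, ← map_sub]
  congr 1

end comp

theorem main (F : Type u) [AddCommGroup F] [Module P F] [Module.Free P F]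
    (F' : Type u) [AddCommGroup F'] [Module P F'] [Module.Free P F']
    (j : F →ₗ[P] P) (j' : F' →ₗ[P] P) (hj : LinearMap.range j = J) (hj' : LinearMap.range j' = J) :
    Nonempty (↥(T2 J j) ≃ₗ[P] ↥(T2 J j')) := by
  have hex : ∀ (G : Type u) [AddCommGroup G] [Module P G] [Module.Free P G] (i : G →ₗ[P] P)
      (G' : Type u) [AddCommGroup G'] [Module P G'] (i' : G' →ₗ[P] P),
      LinearMap.range i ≤ LinearMap.range i' → ∃ α : G →ₗ[P] G', ∀ x, i' (α x) = i x := by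
    intro G _ _ _ i G' _ _ i' hle
    let i₀ : G →ₗ[P] ↥(LinearMap.range i') :=
      i.codRestrict (LinearMap.range i') (fun x => hle ⟨x, rfl⟩)
    obtain ⟨α, hα⟩ := Module.projective_lifting_property i'.rangeRestrict i₀
      i'.surjective_rangeRestrict
    refine ⟨α, fun x => ?_⟩
    have := congrArg Subtype.val (LinearMap.congr_fun hα x)
    exact this
  obtain ⟨α, hα⟩ := hex F j F' j' (by rw [hj, hj'])
  obtain ⟨β, hβ⟩ := hex F' j' F j (by rw [hj, hj'])
  exact ⟨LinearEquiv.ofLinear (pull J j' j β hβ) (pull J j j' α hα)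
    (LinearMap.ext fun t => pull_pull J j' j β hβ α hα t)
    (LinearMap.ext fun t => pull_pull J j j' α hα β hβ t)⟩

end Groth.Agent.Helper1.T2Pres
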