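import Mathlib
import Groth.Agent.Lib.Helper1.TFQ1
import Groth.Agent.Lib.Helper1.Simple2
import Groth.Agent.Lib.Helper4.IPow1

/-!
# Simplicity of a rank one sheaf from simplicity of its torsion-free quotients (helper1)
-/

set_option autoImplicit false
set_option backward.isDefEq.respectTransparency.types false
set_option synthInstance.maxHeartbeats 400000
set_option linter.style.haveILetI false
set_option linter.unusedSectionVars false
set_option linter.unusedVariables false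
universe u
open CategoryTheory CategoryTheory.Limits AlgebraicGeometry TopologicalSpace Opposite

namespace Groth.Agent.Helper1.TFQ

open Groth.Agent.Lead Groth.Agent.Helper1.Dv Groth.Agent.Helper1.QcCech Groth.Agent.Helper1
open Groth.Agent.Lib.Helper5.StalkAdj Groth.Agent.Helper1.FinLen Groth.Agent.Lib.Helper4

variable (k : Type u) [Field k] {X : Scheme.{u}} [X.Over (Spec (CommRingCat.of k))]

/-- an endomorphism of `M` inducing multiplication by `a` on a quotient acts as `a` at the generic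
points of the support of the quotient -/
theorem stalkL_endo_eq [IsReduced X] {M G : X.Modules} (hM1 : TFOne.IsRkOne X M) (π : M ⟶ G)
    [Epi π] (h : M ⟶ M) (a : k) (hh : π ≫ Formal.smulMod k G a = h ≫ π) (η : X)
    (hη : η ∈ genericPoints X) (hηG : η ∈ CohB1.support G) (t : M.presheaf.stalk η) :
    stalkL h η t = Simple.coeff k (X ↘ Spec (CommRingCat.of k)) η a • t := by
  apply stalkL_injective_of_generic hM1 π η hη hηG
  rw [← LinearMap.comp_apply, ← stalkL_comp, ← hh, stalkL_comp, LinearMap.comp_apply, map_smul]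
  exact Simple.stalkL_smulModΓ G _ η _

/-- an endomorphism descends to a torsion-free quotient -/
theorem kernel_comp_endo [IsReduced X] [IsNoetherian X] {M G : X.Modules}
    (hM1 : TFOne.IsRkOne X M) (π : M ⟶ G) [Epi π] [G.IsQuasicoherent]
    (hG : TorSh.IsTorsionFree G) (h : M ⟶ M) : kernel.ι π ≫ h ≫ π = 0 := by
  rw [← Category.assoc]
  apply comp_eq_zero_of_generic π hG
  intro η hη hηG t
  rw [stalkL_comp, LinearMap.comp_apply,
    stalkL_eq_zero_of_comp hM1 (kernel.ι π) π (kernel.condition π) η hη hηG t, map_zero]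

variable (X) [IsProper (X ↘ Spec (CommRingCat.of k))] [IsReduced X]

theorem simple_of_cover (M : X.Modules) (hM : TFOne.IsTF1 X M) (Y Z : Set X)
    (hcov : Y ∪ Z = Set.univ)
    (hmeet : ∃ C ∈ irreducibleComponents (X : Type u), C ⊆ Y ∩ Z) (GY GZ : X.Modules)
    (πY : M ⟶ GY) (πZ : M ⟶ GZ) (hGY : TFOne.IsQuotOn X M Y GY πY)
    (hGZ : TFOne.IsQuotOn X M Z GZ πZ)
    (hsY : TFOne.IsSimple X k (X ↘ Spec (CommRingCat.of k)) GY)
    (hsZ : TFOne.IsSimple X k (X ↘ Spec (CommRingCat.of k)) GZ) :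
    TFOne.IsSimple X k (X ↘ Spec (CommRingCat.of k)) M := by
  haveI : IsNoetherian X := Euler.isNoetherian_of_proper k X
  obtain ⟨hMc, hMt, hM1⟩ := hM
  obtain ⟨hYe, hYc, hYt, hYs⟩ := hGY
  obtain ⟨hZe, hZc, hZt, hZs⟩ := hGZ
  haveI := hYe
  haveI := hZe
  haveI : M.IsQuasicoherent := hMc.1
  haveI : GY.IsQuasicoherent := hYc.1
  haveI : GZ.IsQuasicoherent := hZc.1
  refine ⟨fun h0 => hsY.1 (IsZero.of_epi πY h0), ?_⟩
  intro h
  obtain ⟨hY', hhY⟩ : ∃ hY' : GY ⟶ GY, πY ≫ hY' = h ≫ πY :=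
    ⟨_, Abelian.comp_epiDesc πY (h ≫ πY) (kernel_comp_endo hM1 πY hYt h)⟩
  obtain ⟨hZ', hhZ⟩ : ∃ hZ' : GZ ⟶ GZ, πZ ≫ hZ' = h ≫ πZ :=
    ⟨_, Abelian.comp_epiDesc πZ (h ≫ πZ) (kernel_comp_endo hM1 πZ hZt h)⟩
  obtain ⟨aY, haY⟩ := hsY.2 hY'
  obtain ⟨aZ, haZ⟩ := hsZ.2 hZ'
  have haY' : hY' = Formal.smulMod k GY aY := haY
  have haZ' : hZ' = Formal.smulMod k GZ aZ := haZ
  rw [haY'] at hhY
  rw [haZ'] at hhZ
  -- the two scalars agree
  have hYZ : aY = aZ := by
    obtain ⟨C, hC, hCsub⟩ := hmeet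
    obtain ⟨η, hη⟩ := QuasiSober.sober hC.1 (isClosed_of_mem_irreducibleComponents C hC)
    have hηg : η ∈ genericPoints X := by
      change closure {η} ∈ irreducibleComponents X
      rw [hη.def]
      exact hC
    have hηC : η ∈ C := hη.mem
    have hηY : η ∈ CohB1.support GY := by rw [hYs]; exact (hCsub hηC).1
    have hηZ : η ∈ CohB1.support GZ := by rw [hZs]; exact (hCsub hηC).2
    obtain ⟨e⟩ := hM1 η hηg
    obtain ⟨t₀, ht₀⟩ : ∃ t₀, e t₀ = 1 := ⟨e.symm 1, e.apply_symm_apply 1⟩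
    have h1 := stalkL_endo_eq k hM1 πY h aY hhY η hηg hηY t₀
    have h2 := stalkL_endo_eq k hM1 πZ h aZ hhZ η hηg hηZ t₀
    have h3 := congrArg e (h1.symm.trans h2)
    rw [map_smul, map_smul, ht₀, smul_eq_mul, smul_eq_mul, mul_one, mul_one] at h3
    exact (Simple.coeff k (X ↘ Spec (CommRingCat.of k)) η).injective h3
  subst hYZ
  refine ⟨aY, ?_⟩
  change h = Formal.smulMod k M aY
  rw [← sub_eq_zero]
  apply hom_eq_zero hMt
  intro η hη t
  have hφY : (h - Formal.smulMod k M aY) ≫ πY = 0 := by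
    rw [Preadditive.sub_comp, IPow1.smulMod_nat k πY aY, hhY, sub_self]
  have hφZ : (h - Formal.smulMod k M aY) ≫ πZ = 0 := by
    rw [Preadditive.sub_comp, IPow1.smulMod_nat k πZ aY, hhZ, sub_self]
  have hηYZ : η ∈ Y ∪ Z := by rw [hcov]; exact Set.mem_univ η
  rcases hηYZ with hηY | hηZ
  · exact stalkL_eq_zero_of_comp hM1 _ πY hφY η hη (by rw [hYs]; exact hηY) t
  · exact stalkL_eq_zero_of_comp hM1 _ πZ hφZ η hη (by rw [hZs]; exact hηZ) t

end Groth.Agent.Helper1.TFQ
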