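import Mathlib
import Groth.Agent.Lib.Helper1.GrAlg

set_option autoImplicit false
universe u
open DirectSum

namespace Groth.Agent.Helper1.TFfin

variable {R A : Type u} [CommRing R] [CommRing A] [Algebra R A]
  (𝒜 : ℕ → Submodule R A) [GradedAlgebra 𝒜]

/-- the `d`-th Veronese subalgebra, over the degree zero part -/
noncomputable def ver (d : ℕ) : Subalgebra (𝒜 0) A where
  carrier := {a | ∀ i, ¬ d ∣ i → (decompose 𝒜 a i : A) = 0}
  mul_mem' := by
    classical
    intro a b ha hb i hi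
    rw [decompose_mul, DirectSum.coe_mul_apply]
    refine Finset.sum_eq_zero fun jk hjk => ?_
    rw [Finset.mem_filter] at hjk
    by_cases hj : d ∣ jk.1
    · have hk : ¬ d ∣ jk.2 := fun hk => hi (hjk.2 ▸ dvd_add hj hk)
      rw [hb _ hk, mul_zero]
    · rw [ha _ hj, zero_mul]
  add_mem' := by
    intro a b ha hb i hi
    rw [decompose_add, DirectSum.add_apply, Submodule.coe_add, ha i hi, hb i hi, add_zero]
  algebraMap_mem' := by
    intro r i hi
    have hi0 : 0 ≠ i := fun h => hi (h ▸ dvd_zero d)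
    exact decompose_of_mem_ne 𝒜 r.2 hi0

theorem mem_ver {d : ℕ} {a : A} : a ∈ ver 𝒜 d ↔ ∀ i, ¬ d ∣ i → (decompose 𝒜 a i : A) = 0 :=
  Iff.rfl

theorem mem_ver_of_mem {d p : ℕ} {a : A} (ha : a ∈ 𝒜 (p * d)) : a ∈ ver 𝒜 d := by
  intro i hi
  refine decompose_of_mem_ne 𝒜 ha ?_
  rintro rfl
  exact hi (dvd_mul_left d p)

theorem isIntegral_ver {d : ℕ} (hd : 0 < d) (a : A) : IsIntegral (ver 𝒜 d) a := by
  classical
  rw [← DirectSum.sum_support_decompose 𝒜 a]
  refine IsIntegral.sum _ fun i _ => ?_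
  refine IsIntegral.of_pow hd ?_
  have hmem : ((decompose 𝒜 a i : A)) ^ d ∈ ver 𝒜 d := by
    refine mem_ver_of_mem 𝒜 (p := i) ?_
    have := SetLike.pow_mem_graded d (decompose 𝒜 a i).2
    rwa [smul_eq_mul, mul_comm] at this
  exact (isIntegral_algebraMap (R := ver 𝒜 d) (A := A) (x := ⟨_, hmem⟩))

theorem finite_ver [Algebra.FiniteType (𝒜 0) A] {d : ℕ} (hd : 0 < d) :
    Module.Finite (ver 𝒜 d) A := by
  haveI : Algebra.IsIntegral (ver 𝒜 d) A := ⟨isIntegral_ver 𝒜 hd⟩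
  haveI : Algebra.FiniteType (ver 𝒜 d) A :=
    Algebra.FiniteType.of_restrictScalars_finiteType (𝒜 0) (ver 𝒜 d) A
  exact Algebra.IsIntegral.finite (R := ver 𝒜 d) (A := A)


/-- finitely many homogeneous elements generate `A` over its `d`-th Veronese subring, in the
homogeneous sense -/
theorem exists_homogeneous_gens [Algebra.FiniteType (𝒜 0) A] {d : ℕ} (hd : 0 < d) :
    ∃ (C : Finset A) (e : A → ℕ), (∀ c ∈ C, c ∈ 𝒜 (e c)) ∧
      ∀ (D : ℕ) (a : A), a ∈ 𝒜 D → ∃ b : A → A,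
        (∀ c ∈ C, (e c ≤ D ∧ d ∣ D - e c ∧ b c ∈ 𝒜 (D - e c)) ∨ b c = 0) ∧
          a = ∑ c ∈ C, b c * c := by
  classical
  haveI := finite_ver 𝒜 hd
  obtain ⟨G, hG⟩ := (Module.Finite.fg_top : (⊤ : Submodule (ver 𝒜 d) A).FG)
  let C : Finset A := G.biUnion fun g =>
    (decompose 𝒜 g).support.image fun i => (decompose 𝒜 g i : A)
  have hChom : ∀ c ∈ C, ∃ i, c ∈ 𝒜 i := by
    intro c hc
    simp only [C, Finset.mem_biUnion, Finset.mem_image] at hc
    obtain ⟨g, -, i, -, rfl⟩ := hc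
    exact ⟨i, (decompose 𝒜 g i).2⟩
  choose! e he using hChom
  have hCspan : Submodule.span (ver 𝒜 d) (C : Set A) = ⊤ := by
    rw [eq_top_iff, ← hG, Submodule.span_le]
    intro g hg
    rw [SetLike.mem_coe, ← DirectSum.sum_support_decompose 𝒜 g]
    refine Submodule.sum_mem _ fun i hi => Submodule.subset_span ?_
    simp only [C, Finset.coe_biUnion, Finset.coe_image, Set.mem_iUnion, Set.mem_image,
      Finset.mem_coe, exists_prop]
    exact ⟨g, hg, i, hi, rfl⟩
  refine ⟨C, e, he, fun D a ha => ?_⟩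
  have hmem : a ∈ Submodule.span (ver 𝒜 d) (C : Set A) := hCspan ▸ Submodule.mem_top
  obtain ⟨v, -, hv⟩ := Submodule.mem_span_finset.1 hmem
  refine ⟨fun c => if e c ≤ D ∧ d ∣ D - e c then (decompose 𝒜 (v c : A) (D - e c) : A) else 0,
    fun c hc => ?_, ?_⟩
  · by_cases h : e c ≤ D ∧ d ∣ D - e c
    · left
      refine ⟨h.1, h.2, ?_⟩
      simp only [if_pos h]
      exact (decompose 𝒜 (v c : A) (D - e c)).2
    · right
      simp only [if_neg h]
  · have h1 : GrAlg.pr 𝒜 D a = a := GrAlg.pr_of_mem_same 𝒜 ha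
    rw [← h1, ← hv, map_sum]
    refine Finset.sum_congr rfl fun c hc => ?_
    have h2 : (v c • c : A) = (v c : A) • c := rfl
    rw [h2, GrAlg.pr_smul 𝒜 𝒜 (v c : A) (he c hc) D]
    beta_reduce
    by_cases h : e c ≤ D
    · rw [if_pos h]
      by_cases h' : d ∣ D - e c
      · rw [if_pos ⟨h, h'⟩, smul_eq_mul]
      · rw [if_neg (fun hh => h' hh.2), (v c).2 _ h', zero_smul, zero_mul]
    · rw [if_neg h, if_neg (fun hh => h hh.1), zero_mul]

end Groth.Agent.Helper1.TFfin
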