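import Mathlib
import Groth.Agent.Lib.Helper1.TildeQC
import Groth.Agent.Lib.Helper1.TFfin1

set_option autoImplicit false
universe u
open AlgebraicGeometry CategoryTheory Limits TopologicalSpace HomogeneousLocalization Opposite

namespace Groth.Agent.Helper1.TFfin
open Groth.Agent.Helper1.TildeQC

section Gen

/-- membership in the span of a set of global sections, over a bundled ring -/
def InSpan {R' : CommRingCat.{u}} (N : (Spec R').Modules) (S : Set Γ(N, ⊤)) (x : Γ(N, ⊤)) : Prop :=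
  x ∈ Submodule.span R' S

theorem InSpan.zero {R' : CommRingCat.{u}} (N : (Spec R').Modules) (S : Set Γ(N, ⊤)) :
    InSpan N S 0 := Submodule.zero_mem _

theorem InSpan.add {R' : CommRingCat.{u}} {N : (Spec R').Modules} {S : Set Γ(N, ⊤)}
    {x y : Γ(N, ⊤)} (hx : InSpan N S x) (hy : InSpan N S y) : InSpan N S (x + y) :=
  Submodule.add_mem _ hx hy

theorem InSpan.act {R' : CommRingCat.{u}} {N : (Spec R').Modules} {S : Set Γ(N, ⊤)}
    {x : Γ(N, ⊤)} (hx : InSpan N S x) (r : R') : InSpan N S (act N ⊤ r x) :=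
  Submodule.smul_mem _ r hx

theorem InSpan.of_mem {R' : CommRingCat.{u}} {N : (Spec R').Modules} {S : Set Γ(N, ⊤)}
    {x : Γ(N, ⊤)} (hx : x ∈ S) : InSpan N S x := Submodule.subset_span hx

theorem finite_of_inSpan {R' : CommRingCat.{u}} (N : (Spec R').Modules) (S : Finset Γ(N, ⊤))
    (h : ∀ x : Γ(N, ⊤), InSpan N (S : Set Γ(N, ⊤)) x) : Module.Finite R' Γ(N, ⊤) :=
  ⟨⟨S, eq_top_iff.2 fun x _ => h x⟩⟩

end Gen

section Mod
set_option synthInstance.maxHeartbeats 400000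
variable {R A : Type u} [CommRing R] [CommRing A] [Algebra R A] (𝒜 : ℕ → Submodule R A)
  [GradedAlgebra 𝒜]
variable {M : Type u} [AddCommGroup M] [Module R M] [Module A M] [IsScalarTower R A M]
  (ℳ : ℕ → Submodule R M) [DirectSum.Decomposition ℳ] [SetLike.GradedSMul 𝒜 ℳ]
variable (f : A) {d : ℕ} (hf : f ∈ 𝒜 d) (hd : 0 < d)

/-- value of a section of the restricted module at a point, in the localized module -/
noncomputable def val (x : Γ((GrTilde.tilde 𝒜 ℳ 0).restrict (Proj.awayι 𝒜 f hf hd), ⊤))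
    (p : ProjectiveSpectrum 𝒜) (hp : p ∈ (Proj.awayι 𝒜 f hf hd) ''ᵁ ⊤) :
    GrTilde.LocMod 𝒜 (M := M) p :=
  ((((show GrTilde.sect 𝒜 ℳ 0 (op ((Proj.awayι 𝒜 f hf hd) ''ᵁ ⊤)) from x)).1
    ⟨p, hp⟩ : GrTilde.tildeAt 𝒜 ℳ 0 p) : GrTilde.LocMod 𝒜 (M := M) p)

omit [IsScalarTower R A M] [DirectSum.Decomposition ℳ] in
theorem val_ext (x y : Γ((GrTilde.tilde 𝒜 ℳ 0).restrict (Proj.awayι 𝒜 f hf hd), ⊤))
    (h : ∀ p hp, val 𝒜 ℳ f hf hd x p hp = val 𝒜 ℳ f hf hd y p hp) : x = y := by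
  apply Subtype.ext
  funext p
  apply Subtype.ext
  exact h p.1 p.2

omit [IsScalarTower R A M] [DirectSum.Decomposition ℳ] in
theorem val_add (x y : Γ((GrTilde.tilde 𝒜 ℳ 0).restrict (Proj.awayι 𝒜 f hf hd), ⊤))
    (p : ProjectiveSpectrum 𝒜) (hp : p ∈ (Proj.awayι 𝒜 f hf hd) ''ᵁ ⊤) :
    val 𝒜 ℳ f hf hd (x + y) p hp = val 𝒜 ℳ f hf hd x p hp + val 𝒜 ℳ f hf hd y p hp := rfl

omit [IsScalarTower R A M] [DirectSum.Decomposition ℳ] in
theorem val_zero (p : ProjectiveSpectrum 𝒜) (hp : p ∈ (Proj.awayι 𝒜 f hf hd) ''ᵁ ⊤) :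
    val 𝒜 ℳ f hf hd 0 p hp = 0 := rfl

/-- evaluation at a point as an additive map -/
noncomputable def valHom (p : ProjectiveSpectrum 𝒜) (hp : p ∈ (Proj.awayι 𝒜 f hf hd) ''ᵁ ⊤) :
    Γ((GrTilde.tilde 𝒜 ℳ 0).restrict (Proj.awayι 𝒜 f hf hd), ⊤) →+ GrTilde.LocMod 𝒜 (M := M) p :=
  AddMonoidHom.mk' (fun x => val 𝒜 ℳ f hf hd x p hp) (fun x y => val_add 𝒜 ℳ f hf hd x y p hp)

omit [IsScalarTower R A M] [DirectSum.Decomposition ℳ] in
theorem not_mem_of_mem {p : ProjectiveSpectrum 𝒜} (hp : p ∈ (Proj.awayι 𝒜 f hf hd) ''ᵁ ⊤) :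
    f ∉ p.asHomogeneousIdeal := image_le 𝒜 f hf hd ⊤ hp

omit [IsScalarTower R A M] [DirectSum.Decomposition ℳ] in
theorem pow_not_mem {p : ProjectiveSpectrum 𝒜} (hp : p ∈ (Proj.awayι 𝒜 f hf hd) ''ᵁ ⊤) (K : ℕ) :
    f ^ K ∉ p.asHomogeneousIdeal := fun h =>
  not_mem_of_mem 𝒜 f hf hd hp (p.isPrime.mem_of_pow_mem _ h)

/-- the section `m / f ^ K` for `m` of degree `K d` -/
noncomputable def frac (K : ℕ) (m : M) (hm : m ∈ ℳ (K • d)) :
    Γ((GrTilde.tilde 𝒜 ℳ 0).restrict (Proj.awayι 𝒜 f hf hd), ⊤) :=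
  fracS 𝒜 ℳ 0 ((Proj.awayι 𝒜 f hf hd) ''ᵁ ⊤) (⟨m, hm⟩ : ℳ (K • d))
    (⟨f ^ K, SetLike.pow_mem_graded K hf⟩ : 𝒜 (K • d)) (by simp)
    (fun x => pow_not_mem 𝒜 f hf hd x.2 K)

omit [IsScalarTower R A M] [DirectSum.Decomposition ℳ] in
theorem val_frac (K : ℕ) (m : M) (hm : m ∈ ℳ (K • d))
    (p : ProjectiveSpectrum 𝒜) (hp : p ∈ (Proj.awayι 𝒜 f hf hd) ''ᵁ ⊤) :
    val 𝒜 ℳ f hf hd (frac 𝒜 ℳ f hf hd K m hm) p hp =
      LocalizedModule.mk m ⟨f ^ K, pow_not_mem 𝒜 f hf hd hp K⟩ := rfl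

omit [IsScalarTower R A M] [DirectSum.Decomposition ℳ] in
theorem val_smul (r : Away 𝒜 f)
    (x : Γ((GrTilde.tilde 𝒜 ℳ 0).restrict (Proj.awayι 𝒜 f hf hd), ⊤))
    (p : ProjectiveSpectrum 𝒜) (hp : p ∈ (Proj.awayι 𝒜 f hf hd) ''ᵁ ⊤) :
    val 𝒜 ℳ f hf hd (act (R' := .of (Away 𝒜 f))
      ((GrTilde.tilde 𝒜 ℳ 0).restrict (Proj.awayι 𝒜 f hf hd)) ⊤ r x) p hp =
      (HomogeneousLocalization.mapId 𝒜 (show Submonoid.powers f ≤
        p.asHomogeneousIdeal.toIdeal.primeCompl from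
          Submonoid.powers_le.mpr (not_mem_of_mem 𝒜 f hf hd hp)) r).val •
        val 𝒜 ℳ f hf hd x p hp :=
  act_val 𝒜 ℳ 0 f hf hd ⊤ r x p hp (not_mem_of_mem 𝒜 f hf hd hp)

omit [IsScalarTower R A M] [DirectSum.Decomposition ℳ] in
theorem frac_congr {K K' : ℕ} (hK : K = K') {m m' : M} (hm' : m = m') (h : m ∈ ℳ (K • d))
    (h' : m' ∈ ℳ (K' • d)) : frac 𝒜 ℳ f hf hd K m h = frac 𝒜 ℳ f hf hd K' m' h' := by
  subst hK; subst hm'; rfl

omit [IsScalarTower R A M] [DirectSum.Decomposition ℳ] in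
theorem frac_zero (K : ℕ) : frac 𝒜 ℳ f hf hd K 0 (zero_mem _) = 0 := by
  apply val_ext
  intro p hp
  rw [val_frac, val_zero, LocalizedModule.zero_mk]

omit [IsScalarTower R A M] [DirectSum.Decomposition ℳ] in
theorem frac_add (K : ℕ) (m m' : M) (hm : m ∈ ℳ (K • d)) (hm' : m' ∈ ℳ (K • d)) :
    frac 𝒜 ℳ f hf hd K (m + m') (add_mem hm hm') =
      frac 𝒜 ℳ f hf hd K m hm + frac 𝒜 ℳ f hf hd K m' hm' := by
  apply val_ext
  intro p hp
  rw [val_add, val_frac, val_frac, val_frac, LocalizedModule.mk_add_mk, ← smul_add,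
    LocalizedModule.mk_cancel_common_left]

omit [IsScalarTower R A M] [DirectSum.Decomposition ℳ] in
theorem act_frac (P Q : ℕ) (b : A) (hb : b ∈ 𝒜 (P • d)) (m : M) (hm : m ∈ ℳ (Q • d))
    (hbm : b • m ∈ ℳ ((P + Q) • d)) :
    act (R' := .of (Away 𝒜 f)) ((GrTilde.tilde 𝒜 ℳ 0).restrict (Proj.awayι 𝒜 f hf hd)) ⊤
      (Away.mk 𝒜 hf P b hb) (frac 𝒜 ℳ f hf hd Q m hm) =
    frac 𝒜 ℳ f hf hd (P + Q) (b • m) hbm := by
  apply val_ext
  intro p hp
  rw [val_smul, val_frac, val_frac]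
  have hfp := not_mem_of_mem 𝒜 f hf hd hp
  have h1 : (HomogeneousLocalization.mapId 𝒜 (show Submonoid.powers f ≤
      p.asHomogeneousIdeal.toIdeal.primeCompl from Submonoid.powers_le.mpr hfp)
        (Away.mk 𝒜 hf P b hb)).val =
      Localization.mk b (⟨f ^ P, pow_not_mem 𝒜 f hf hd hp P⟩ :
        p.asHomogeneousIdeal.toIdeal.primeCompl) := rfl
  rw [h1, mk_smul_mk']
  congr 1
  apply Subtype.ext
  simp only [Submonoid.coe_mul, pow_add]

set_option maxHeartbeats 1600000 in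
/-- finite generation of the sections of `M~` over `D₊(f)` under (TF) -/
theorem finite_sections [Algebra.FiniteType (𝒜 0) A] (T : Finset M) (eT : M → ℕ)
    (hT : ∀ y ∈ T, y ∈ ℳ (eT y)) (n₀ : ℕ)
    (hspan : ∀ D : ℕ, n₀ ≤ D → ∀ m ∈ ℳ D, m ∈ Submodule.span A (T : Set M)) :
    ∃ S : Finset Γ((GrTilde.tilde 𝒜 ℳ 0).restrict (Proj.awayι 𝒜 f hf hd), ⊤),
      ∀ x, InSpan (R' := .of (Away 𝒜 f))
        ((GrTilde.tilde 𝒜 ℳ 0).restrict (Proj.awayι 𝒜 f hf hd)) (S : Set _) x := by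
  classical
  obtain ⟨C, e, hC, hV⟩ := exists_homogeneous_gens 𝒜 hd
  have hdeg : ∀ cy : A × M, cy.1 ∈ C → cy.2 ∈ T → d ∣ e cy.1 + eT cy.2 →
      cy.1 • cy.2 ∈ ℳ (((e cy.1 + eT cy.2) / d) • d) := by
    intro cy h1 h2 h3
    rw [smul_eq_mul, Nat.div_mul_cancel h3]
    exact SetLike.GradedSMul.smul_mem (hC _ h1) (hT _ h2)
  let σ : A × M → Γ((GrTilde.tilde 𝒜 ℳ 0).restrict (Proj.awayι 𝒜 f hf hd), ⊤) := fun cy =>
    if h : cy.1 ∈ C ∧ cy.2 ∈ T ∧ d ∣ e cy.1 + eT cy.2 then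
      frac 𝒜 ℳ f hf hd ((e cy.1 + eT cy.2) / d) (cy.1 • cy.2) (hdeg cy h.1 h.2.1 h.2.2)
    else 0
  let S : Set Γ((GrTilde.tilde 𝒜 ℳ 0).restrict (Proj.awayι 𝒜 f hf hd), ⊤) :=
    ((C ×ˢ T).image σ : Finset _)
  refine ⟨(C ×ˢ T).image σ, ?_⟩
  intro x
  change InSpan (R' := .of (Away 𝒜 f))
    ((GrTilde.tilde 𝒜 ℳ 0).restrict (Proj.awayι 𝒜 f hf hd)) S x
  have hTop : (Proj.awayι 𝒜 f hf hd) ''ᵁ ⊤ = Proj.basicOpen 𝒜 f :=
    (Scheme.Hom.image_top_eq_opensRange _).trans (Proj.opensRange_awayι 𝒜 f hf hd)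
  obtain ⟨k, i, m, hi, hval⟩ := main' 𝒜 ℳ 0 ((Proj.awayι 𝒜 f hf hd) ''ᵁ ⊤) hd hf hTop
    (show GrTilde.sect 𝒜 ℳ 0 (op ((Proj.awayι 𝒜 f hf hd) ''ᵁ ⊤)) from x)
  have hi' : i = k * d := by
    have : (i : ℤ) = ((k * d : ℕ) : ℤ) := by rw [hi]; push_cast; ring
    exact_mod_cast this
  set K := n₀ + k with hK
  have hm' : f ^ n₀ • m.1 ∈ ℳ (K • d) := by
    have h1 : f ^ n₀ • m.1 ∈ ℳ (n₀ • d + i) :=
      SetLike.GradedSMul.smul_mem (SetLike.pow_mem_graded n₀ hf) m.2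
    have h2 : n₀ • d + i = K • d := by
      rw [hi', hK]; simp only [smul_eq_mul]; ring
    rwa [h2] at h1
  have hx : x = frac 𝒜 ℳ f hf hd K (f ^ n₀ • m.1) hm' := by
    apply val_ext
    intro p hp
    have hfp := not_mem_of_mem 𝒜 f hf hd hp
    rw [val_frac]
    refine (hval p hp hfp).trans ?_
    have h3 : (⟨f ^ K, pow_not_mem 𝒜 f hf hd hp K⟩ : p.asHomogeneousIdeal.toIdeal.primeCompl) =
        ⟨f ^ n₀, pow_not_mem 𝒜 f hf hd hp n₀⟩ * ⟨f ^ k, pow_not_mem 𝒜 f hf hd hp k⟩ := by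
      apply Subtype.ext
      simp only [Submonoid.coe_mul, hK, pow_add]
    rw [h3]
    exact (LocalizedModule.mk_cancel_common_left
      (⟨f ^ n₀, pow_not_mem 𝒜 f hf hd hp n₀⟩ : p.asHomogeneousIdeal.toIdeal.primeCompl)
      ⟨f ^ k, pow_not_mem 𝒜 f hf hd hp k⟩ m.1).symm
  -- the predicate
  let P : M → Prop := fun z => ∃ hz : z ∈ ℳ (K • d),
    InSpan (R' := .of (Away 𝒜 f))
      ((GrTilde.tilde 𝒜 ℳ 0).restrict (Proj.awayι 𝒜 f hf hd)) S (frac 𝒜 ℳ f hf hd K z hz)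
  have hP0 : P 0 := ⟨zero_mem _, by rw [frac_zero]; exact InSpan.zero _ _⟩
  have hPadd : ∀ a b, P a → P b → P (a + b) := by
    rintro a b ⟨ha, ha'⟩ ⟨hb, hb'⟩
    exact ⟨add_mem ha hb, by rw [frac_add 𝒜 ℳ f hf hd K a b ha hb]; exact ha'.add hb'⟩
  have hKd : n₀ ≤ K • d := by
    rw [smul_eq_mul, hK]
    calc n₀ ≤ n₀ + k := Nat.le_add_right _ _
      _ = (n₀ + k) * 1 := (mul_one _).symm
      _ ≤ (n₀ + k) * d := Nat.mul_le_mul_left _ hd
  have hmem := hspan (K • d) hKd _ hm'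
  obtain ⟨t, c, y, hcy, hsum⟩ := GrAlg.exists_sum_of_mem_span 𝒜 ℳ (T : Set M) eT
    (fun y hy => hT y hy) hm' hmem
  have hPm : P (f ^ n₀ • m.1) := by
    rw [hsum]
    refine Finset.sum_induction _ P hPadd hP0 fun i _ => ?_
    obtain ⟨hyT, hci, hle⟩ := hcy i
    rcases hle with hle | hc0
    · obtain ⟨b, hb, hbsum⟩ := hV (K • d - eT (y i)) (c i) hci
      rw [hbsum, Finset.sum_smul]
      refine Finset.sum_induction _ P hPadd hP0 fun c' hc' => ?_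
      rcases hb c' hc' with ⟨h1, ⟨p', hp'⟩, h3⟩ | h0
      · -- degrees
        have hdeg1 : e c' + eT (y i) + d * p' = K • d := by omega
        have hpK : p' ≤ K := by
          have : d * p' ≤ K * d := by rw [smul_eq_mul] at hdeg1; omega
          rw [mul_comm] at this
          exact Nat.le_of_mul_le_mul_right this hd
        have hq : e c' + eT (y i) = (K - p') * d := by
          rw [smul_eq_mul] at hdeg1
          rw [Nat.sub_mul]
          have : d * p' = p' * d := mul_comm _ _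
          omega
        have hdvd : d ∣ e c' + eT (y i) := ⟨K - p', by rw [hq, mul_comm]⟩
        have hqdiv : (e c' + eT (y i)) / d = K - p' := by
          rw [hq]; exact Nat.mul_div_cancel _ hd
        have hb' : b c' ∈ 𝒜 (p' • d) := by
          rw [smul_eq_mul, mul_comm, ← hp']; exact h3
        have hcy' : c' • y i ∈ ℳ ((K - p') • d) := by
          rw [smul_eq_mul, ← hq]
          exact SetLike.GradedSMul.smul_mem (hC _ hc') (hT _ hyT)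
        have hσ : σ (c', y i) = frac 𝒜 ℳ f hf hd (K - p') (c' • y i) hcy' := by
          have hcond : (c', y i).1 ∈ C ∧ (c', y i).2 ∈ T ∧ d ∣ e (c', y i).1 + eT (c', y i).2 :=
            ⟨hc', hyT, hdvd⟩
          simp only [σ, dif_pos hcond]
          exact frac_congr 𝒜 ℳ f hf hd hqdiv rfl _ _
        have hσS : σ (c', y i) ∈ S := by
          simp only [S, Finset.coe_image, Set.mem_image, Finset.mem_coe, Finset.mem_product]
          exact ⟨(c', y i), ⟨hc', hyT⟩, rfl⟩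
        have hbm : b c' • (c' • y i) ∈ ℳ ((p' + (K - p')) • d) := by
          rw [add_smul]
          exact SetLike.GradedSMul.smul_mem hb' hcy'
        have hKp : p' + (K - p') = K := by omega
        have hz : (b c' * c') • y i ∈ ℳ (K • d) := by
          rw [mul_smul]
          have := hbm
          rwa [hKp] at this
        refine ⟨hz, ?_⟩
        have h5 := act_frac 𝒜 ℳ f hf hd p' (K - p') (b c') hb' (c' • y i) hcy' hbm
        have h6 : frac 𝒜 ℳ f hf hd K ((b c' * c') • y i) hz =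
            frac 𝒜 ℳ f hf hd (p' + (K - p')) (b c' • (c' • y i)) hbm :=
          frac_congr 𝒜 ℳ f hf hd hKp.symm (mul_smul _ _ _) _ _
        rw [h6, ← h5, ← hσ]
        exact (InSpan.of_mem hσS).act _
      · rw [h0, zero_mul, zero_smul]; exact hP0
    · rw [hc0, zero_smul]; exact hP0
  obtain ⟨hz, hz'⟩ := hPm
  rw [hx]
  exact hz'

end Mod
end Groth.Agent.Helper1.TFfin
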