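import Mathlib
import Groth.Agent.Lib.Helper1.TFfin2
import Groth.Agent.Lib.Helper1.FtLocal
import Groth.Prelude.Def_CohB1

set_option autoImplicit false
universe u
open AlgebraicGeometry CategoryTheory Limits TopologicalSpace HomogeneousLocalization Opposite

namespace Groth.Agent.Helper1.TFfin
open Groth.Agent.Helper1.TildeQC

set_option synthInstance.maxHeartbeats 400000
variable {R A : Type u} [CommRing R] [CommRing A] [Algebra R A] (𝒜 : ℕ → Submodule R A)
  [GradedAlgebra 𝒜]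
variable {M : Type u} [AddCommGroup M] [Module R M] [Module A M] [IsScalarTower R A M]
  (ℳ : ℕ → Submodule R M) [DirectSum.Decomposition ℳ] [SetLike.GradedSMul 𝒜 ℳ]

/-- **S3561**: `M~` is of finite type when `S₊` is finitely generated and `M` satisfies (TF) -/
theorem tilde_isFiniteType (hfg : (HomogeneousIdeal.irrelevant 𝒜).toIdeal.FG)
    (hTF : ∃ n : ℕ, (Submodule.span A (⋃ k ∈ Set.Ici n, (ℳ k : Set M))).FG) :
    CohB1.IsFT (GrTilde.tilde 𝒜 ℳ 0) := by
  classical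
  haveI : Algebra.FiniteType (𝒜 0) A := (GrAlg.S4390 𝒜).1 hfg
  obtain ⟨n, hn⟩ := hTF
  obtain ⟨T, hTsub, hTspan⟩ := (Submodule.fg_span_iff_fg_span_finset_subset _).mp hn
  have hTdeg : ∀ y ∈ (T : Set M), ∃ e : ℕ, y ∈ ℳ e := by
    intro y hy
    have := hTsub hy
    simp only [Set.mem_iUnion, exists_prop] at this
    obtain ⟨k, -, hk⟩ := this
    exact ⟨k, hk⟩
  choose! eT heT using hTdeg
  have hspan : ∀ D : ℕ, n ≤ D → ∀ m ∈ ℳ D, m ∈ Submodule.span A (T : Set M) := by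
    intro D hD m hm
    rw [← hTspan]
    apply Submodule.subset_span
    simp only [Set.mem_iUnion, exists_prop]
    exact ⟨D, hD, hm⟩
  haveI := tilde_isQuasicoherent 𝒜 ℳ 0
  let I : Type u := (d : ℕ) × {f : A // 0 < d ∧ f ∈ 𝒜 d}
  refine FtLocal.isFiniteType_of_affine_charts (GrTilde.tilde 𝒜 ℳ 0)
    (I := I) (fun i => CommRingCat.of (Away 𝒜 i.2.1))
    (fun i => Proj.awayι 𝒜 i.2.1 i.2.2.2 i.2.2.1) ?_ ?_
  · rw [eq_top_iff]
    intro x _
    obtain ⟨i, hi, g, hg, hgx⟩ := Groth.Agent.Helper1.ProjTop.exists_homogeneous_notMem 𝒜 x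
    rw [Opens.mem_iSup]
    refine ⟨⟨i, g, hi, hg⟩, ?_⟩
    rw [Proj.opensRange_awayι]
    exact (Proj.mem_basicOpen 𝒜 g x).mpr hgx
  · intro i
    obtain ⟨S, hS⟩ := finite_sections 𝒜 ℳ i.2.1 i.2.2.2 i.2.2.1 T eT (fun y hy => heT y hy) n hspan
    exact finite_of_inSpan _ S hS

end Groth.Agent.Helper1.TFfin
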