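import Mathlib
import Groth.Agent.Lib.Helper1.TauChi1

/-!
# Consequences of the invariance of Euler characteristics under τ-equivalence (helper1)
-/

set_option autoImplicit false
set_option linter.style.haveILetI false
set_option linter.unusedSectionVars false
universe u
open CategoryTheory CategoryTheory.Limits AlgebraicGeometry TopologicalSpace Opposite

namespace Groth.Agent.Helper1.TauChi

open Groth.Agent.Helper1 Groth.Agent.Helper1.Euler Groth.Agent.Helper1.Dv
open Groth.Agent.Helper1.FinLen Groth.Agent.Helper1.TwForm Groth.Agent.Helper1.Curve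
open Groth.Agent.Helper1.Snap Groth.Agent.Helper1.SnapPos Groth.Agent.Helper1.FGAInt

section Main

variable (k : Type u) [Field k] (X : Scheme.{u}) [X.Over (Spec (CommRingCat.of k))]
  [IsProper (X ↘ (Spec (CommRingCat.of k)))] [IsNoetherian X]

/-- a twist whose powers preserve Euler characteristics on `K₀` preserves the truncated Euler
characteristics of coherent modules -/
theorem euler_pow_tensor_gen (A : X.Modules) (hA : PicF.IsInvertible A)
    (hinv : ∀ (D : ℕ) (x : KZero.K0sub (PC X)), x ∈ FilLT X D → ∀ m : ℕ,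
      eulerHom k X (((T A hA) ^ m) x) = eulerHom k X x)
    (d : ℕ) (hd : topologicalKrullDim X ≤ d) (F : X.Modules) (hF : Coh.IsCoh F) (m : ℕ) :
    FGA.eulerCharLE k X (CohB1.tensorMod (CohB1.tensorPow A m) F) d =
      FGA.eulerCharLE k X F d := by
  have hAm : PicF.IsInvertible (CohB1.tensorPow A m) := isInvertible_tensorPow hA m
  have hAmc : Coh.IsCoh (CohB1.tensorPow A m) := InvQc.isCoh_of_isInvertible _ hAm
  have hsupp : topologicalKrullDim ↥(CohB1.support F) ≤ ((d : ℕ) : WithBot ℕ∞) :=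
    le_trans (Topology.IsEmbedding.subtypeVal.isInducing.topologicalKrullDim_le) hd
  rw [eulerCharLE_eq_euler k X d hd, eulerCharLE_eq_euler k X d hd,
    euler_iso k X (TildeTens.tensorModComm (CohB1.tensorPow A m) F),
    ← eulerHom_clSub k X _ hF, ← eulerHom_clSub k X _ (Euler.isCoh_tensor _ _ hF hAmc),
    ← T_clSub' _ hAm F hF, T_tensorPow hA m hAm]
  exact hinv (d + 1) _ (clSub_mem_FilLT d F hF hsupp) m

/-- a twist whose powers preserve Euler characteristics on `K₀` preserves ampleness -/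
theorem ample_pow_tensor_gen (A : X.Modules) (hA : PicF.IsInvertible A)
    (hinv : ∀ (D : ℕ) (x : KZero.K0sub (PC X)), x ∈ FilLT X D → ∀ m : ℕ,
      eulerHom k X (((T A hA) ^ m) x) = eulerHom k X x)
    (H : X.Modules) (hH : CohB1.IsAmple H) (m : ℕ) :
    CohB1.IsAmple (CohB1.tensorMod (CohB1.tensorPow A m) H) := by
  have hAm : PicF.IsInvertible (CohB1.tensorPow A m) := isInvertible_tensorPow hA m
  have hAH : PicF.IsInvertible (CohB1.tensorMod (CohB1.tensorPow A m) H) :=
    isInvertible_tensorMod hAm hH.1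
  have hAHc : Coh.IsCoh (CohB1.tensorMod (CohB1.tensorPow A m) H) :=
    InvQc.isCoh_of_isInvertible _ hAH
  have hHc : Coh.IsCoh H := InvQc.isCoh_of_isInvertible _ hH.1
  refine NumEq.isAmple_of_numEquiv k X H _ hAH hH ?_
  intro C hint hdimC
  have hQ : Coh.IsCoh (ClSub.quotMod C) := CurveDual.isCoh_quotMod C
  obtain ⟨q, hq⟩ : ∃ q, q = KZero.clSub (PC X) (ClSub.quotMod C) := ⟨_, rfl⟩
  have hqmem : q ∈ FilLT X 2 := by
    rw [hq]
    apply clSub_mem_FilLT 1 _ hQ
    rw [NM.support_quotMod, hdimC]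
    exact le_of_eq Nat.cast_one.symm
  rw [← eulerHom_clSub k X _ (Euler.isCoh_tensor _ _ hQ hHc),
    ← eulerHom_clSub k X _ (Euler.isCoh_tensor _ _ hQ hAHc),
    ← T_clSub' H hH.1 _ hQ, ← T_clSub' _ hAH _ hQ, T_tensor hAm hH.1 hAH, T_tensorPow hA m hAm,
    ← hq]
  change _ = eulerHom k X (((T A hA) ^ m) (T H hH.1 q))
  exact (hinv 2 _ (T_mem_FilLT H hH.1 2 q hqmem) m).symm

end Main

end Groth.Agent.Helper1.TauChi
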