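import Groth.Agent.Lib.Helper1.OpenMapL
import Groth.Agent.Lib.Helper1.LinTop
import Groth.Prelude.Def_W4stk3formalspacesTaut
open Filter Topology UniformSpace
namespace Groth.Agent.Helper1.TautL
universe u v

section Gen

variable {B : Type v} [CommRing B] [TopologicalSpace B] [IsTopologicalRing B]

/-- closure of a set is contained in `X + V` for an open ideal `V`. -/
theorem closure_le_sup_of_isOpen (P V : Ideal B) (hV : IsOpen (V : Set B)) :
    P.closure ≤ P ⊔ V := by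
  intro y hy
  have hy' : y ∈ closure (P : Set B) := hy
  have hnb : {z : B | z - y ∈ V} ∈ 𝓝 y := by
    have hc : Continuous fun z : B => z - y := continuous_id.sub continuous_const
    exact hc.continuousAt.preimage_mem_nhds (by simpa using hV.mem_nhds V.zero_mem)
  obtain ⟨z, hz1, hz2⟩ := mem_closure_iff_nhds.mp hy' _ hnb
  have : y = z + -(z - y) := by ring
  rw [this]
  exact Submodule.add_mem_sup hz2 (V.neg_mem hz1)

theorem sup_pow_le (P Q : Ideal B) (m : ℕ) : (P ⊔ Q) ^ m ≤ P ^ m ⊔ Q := by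
  induction m with
  | zero => simp
  | succ m ih =>
    rw [pow_succ, pow_succ]
    calc (P ⊔ Q) ^ m * (P ⊔ Q) ≤ (P ^ m ⊔ Q) * (P ⊔ Q) := Ideal.mul_mono_left ih
      _ ≤ P ^ m * P ⊔ Q := by
        rw [Ideal.sup_mul, Ideal.mul_sup, Ideal.mul_sup]
        refine sup_le (sup_le le_sup_left (le_sup_of_le_right Ideal.mul_le_right))
          (sup_le (le_sup_of_le_right Ideal.mul_le_left) (le_sup_of_le_right Ideal.mul_le_left))

theorem pow_le_sup_pow_add (J P : Ideal B) (n : ℕ) (h : J ^ n ≤ P ⊔ J ^ (n + 1)) (k : ℕ) :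
    J ^ n ≤ P ⊔ J ^ (n + k) := by
  induction k with
  | zero => exact le_sup_right
  | succ k ih =>
    have h1 : J ^ (n + k) ≤ P ⊔ J ^ (n + (k + 1)) := by
      have : J ^ (n + k) = J ^ k * J ^ n := by rw [← pow_add, add_comm]
      rw [this]
      calc J ^ k * J ^ n ≤ J ^ k * (P ⊔ J ^ (n + 1)) := Ideal.mul_mono_right h
        _ = J ^ k * P ⊔ J ^ k * J ^ (n + 1) := Ideal.mul_sup _ _ _
        _ ≤ P ⊔ J ^ (n + (k + 1)) := by
          refine sup_le_sup Ideal.mul_le_right ?_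
          rw [← pow_add]
          exact le_of_eq (by congr 1; omega)
    exact ih.trans (sup_le le_sup_left h1)

/-- If `J^n ⊆ P + J^(n+1)` and the powers of `J` tend to zero then `J^(nm)` lies in the closure
of `P^m`. -/
theorem pow_mul_le_closure_pow (J P : Ideal B)
    (hJ : ∀ U ∈ 𝓝 (0 : B), ∃ k : ℕ, ((J ^ k : Ideal B) : Set B) ⊆ U)
    (n : ℕ) (h : J ^ n ≤ P ⊔ J ^ (n + 1)) (m : ℕ) :
    J ^ (n * m) ≤ (P ^ m).closure := by
  intro x hx
  change x ∈ closure ((P ^ m : Ideal B) : Set B)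
  rw [mem_closure_iff_nhds]
  intro W hW
  have hW0 : {y : B | x + y ∈ W} ∈ 𝓝 (0 : B) := by
    have hc : Continuous fun y : B => x + y := continuous_const.add continuous_id
    exact hc.continuousAt.preimage_mem_nhds (by simpa using hW)
  obtain ⟨k, hk⟩ := hJ _ hW0
  have h1 : J ^ (n * m) ≤ P ^ m ⊔ J ^ (n + k) := by
    rw [pow_mul]
    exact (Ideal.pow_right_mono (pow_le_sup_pow_add J P n h k) m).trans (sup_pow_le _ _ m)
  obtain ⟨p, hp, j, hj, rfl⟩ := Submodule.mem_sup.mp (h1 hx)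
  refine ⟨p, ?_, hp⟩
  have hj' : -j ∈ J ^ k := (J ^ k).neg_mem (Ideal.pow_le_pow_right (Nat.le_add_left k n) hj)
  have := hk hj'
  simpa using this

end Gen

section FG

variable {A : Type u} [CommRing A] {B : Type v} [CommRing B]

/-- finitely generated ideals inside `I₁.map φ ⊔ Q` come from finitely generated subideals. -/
theorem exists_fg_le_of_le_map_sup (φ : A →+* B) (I₁ : Ideal A) (Q N : Ideal B) (hN : N.FG)
    (h : N ≤ I₁.map φ ⊔ Q) : ∃ 𝔞 : Ideal A, 𝔞 ≤ I₁ ∧ 𝔞.FG ∧ N ≤ 𝔞.map φ ⊔ Q := by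
  have hc := (Submodule.fg_iff_compact N).mp hN
  rw [CompleteLattice.isCompactElement_iff_le_of_directed_sSup_le] at hc
  let s : Set (Ideal B) := {𝔠 | ∃ 𝔞 : Ideal A, 𝔞 ≤ I₁ ∧ 𝔞.FG ∧ 𝔠 = 𝔞.map φ ⊔ Q}
  have hs1 : s.Nonempty := ⟨(⊥ : Ideal A).map φ ⊔ Q, ⊥, bot_le, Submodule.fg_bot, rfl⟩
  have hs2 : DirectedOn (· ≤ ·) s := by
    rintro _ ⟨𝔞₁, h₁, f₁, rfl⟩ _ ⟨𝔞₂, h₂, f₂, rfl⟩
    refine ⟨(𝔞₁ ⊔ 𝔞₂).map φ ⊔ Q, ⟨𝔞₁ ⊔ 𝔞₂, sup_le h₁ h₂, Submodule.FG.sup f₁ f₂, rfl⟩, ?_, ?_⟩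
    · exact sup_le_sup_right (Ideal.map_mono le_sup_left) _
    · exact sup_le_sup_right (Ideal.map_mono le_sup_right) _
  have hs3 : N ≤ sSup s := by
    refine h.trans (sup_le ?_ ?_)
    · rw [Ideal.map_le_iff_le_comap]
      intro x hx
      have hmem : (Ideal.span {x}).map φ ⊔ Q ∈ s :=
        ⟨Ideal.span {x}, (Ideal.span_singleton_le_iff_mem _).mpr hx, ⟨{x}, by simp⟩, rfl⟩
      exact le_sSup hmem (Ideal.mem_sup_left (Ideal.mem_map_of_mem φ (Ideal.mem_span_singleton_self x)))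
    · exact le_sup_right.trans (le_sSup (a := (⊥ : Ideal A).map φ ⊔ Q)
        ⟨⊥, bot_le, Submodule.fg_bot, rfl⟩)
  obtain ⟨_, ⟨𝔞, h1, h2, rfl⟩, h3⟩ := hc s hs1 hs2 hs3
  exact ⟨𝔞, h1, h2, h3⟩

end FG

section TautFF

variable {A : Type u} [CommRing A] [TopologicalSpace A] [IsTopologicalRing A]
  {B : Type v} [CommRing B] [TopologicalSpace B] [IsTopologicalRing B]

theorem descentMap_mk (φ : A →+* B) (I : Ideal A) (x : A) :
    LinTop.descentMap φ I (Ideal.Quotient.mk I x) =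
      Ideal.Quotient.mk (I.map φ).closure (φ x) := rfl

/-- Lemma A: an open ideal is the contraction of the closure of its extension. -/
theorem comap_closure_map (φ : A →+* B) (hφ : LinTop.IsTautFFlat φ) (I : Ideal A)
    (hI : IsOpen (I : Set A)) : (I.map φ).closure.comap φ = I := by
  refine le_antisymm ?_ ?_
  · intro x hx
    have hinj := RingHom.FaithfullyFlat.injective (hφ.2 I hI)
    have h1 : LinTop.descentMap φ I (Ideal.Quotient.mk I x) = 0 := by
      rw [descentMap_mk]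
      exact Ideal.Quotient.eq_zero_iff_mem.mpr hx
    have h2 := hinj (h1.trans (map_zero _).symm)
    exact Ideal.Quotient.eq_zero_iff_mem.mp h2
  · intro x hx
    exact subset_closure (Ideal.mem_map_of_mem φ hx)

/-- Lemma B: ideal containment can be tested after extension, modulo open ideals. -/
theorem le_sup_of_map_le (φ : A →+* B) (hφ : LinTop.IsTautFFlat φ) (I : Ideal A)
    (hI : IsOpen (I : Set A)) (𝔠 𝔡 : Ideal A)
    (h : 𝔠.map φ ≤ 𝔡.map φ ⊔ (I.map φ).closure) : 𝔠 ≤ 𝔡 ⊔ I := by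
  have hff := hφ.2 I hI
  set d := LinTop.descentMap φ I with hd
  set qA := Ideal.Quotient.mk I with hqA
  set qB := Ideal.Quotient.mk (I.map φ).closure with hqB
  have hcomm : d.comp qA = qB.comp φ := rfl
  have hmap : ∀ 𝔢 : Ideal A, (𝔢.map qA).map d = (𝔢.map φ).map qB := by
    intro 𝔢
    rw [Ideal.map_map, Ideal.map_map, hcomm]
  have h1 : (𝔠.map qA).map d ≤ (𝔡.map qA).map d := by
    rw [hmap, hmap]
    refine (Ideal.map_mono h).trans ?_
    rw [Ideal.map_sup]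
    refine sup_le le_rfl ?_
    rw [hqB, Ideal.map_quotient_self]
    exact bot_le
  have hcm : ∀ 𝔢 : Ideal (A ⧸ I), (𝔢.map d).comap d = 𝔢 := by
    intro 𝔢
    let _ : Algebra (A ⧸ I) (B ⧸ (I.map φ).closure) := d.toAlgebra
    have : Module.FaithfullyFlat (A ⧸ I) (B ⧸ (I.map φ).closure) := hff
    exact Ideal.comap_map_eq_self_of_faithfullyFlat (B := B ⧸ (I.map φ).closure) 𝔢
  have h2 : 𝔠.map qA ≤ 𝔡.map qA := by
    rw [← hcm (𝔠.map qA), ← hcm (𝔡.map qA)]
    exact Ideal.comap_mono h1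
  have h3 : 𝔠 ≤ (𝔡.map qA).comap qA := Ideal.le_comap_map.trans (Ideal.comap_mono h2)
  rw [Ideal.comap_map_of_surjective qA Ideal.Quotient.mk_surjective] at h3
  refine h3.trans (sup_le le_sup_left ?_)
  rw [← RingHom.ker_eq_comap_bot, hqA, Ideal.mk_ker]
  exact le_sup_right

variable [IsLinearTopology A A]

/-- Lemma C: if the closure of `𝔠 B` is open then the closure of `𝔠` is open. -/
theorem isOpen_closure_of_isOpen_closure_map (φ : A →+* B) (hφ : LinTop.IsTautFFlat φ)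
    (𝔠 : Ideal A) (h : IsOpen (closure ((𝔠.map φ : Ideal B) : Set B))) :
    IsOpen (closure (𝔠 : Set A)) := by
  obtain ⟨I', hI'o, hI'⟩ := hφ.1.2.2 (closure ((𝔠.map φ : Ideal B) : Set B))
    (h.mem_nhds (subset_closure (𝔠.map φ).zero_mem))
  have hle : I' ≤ 𝔠.closure := by
    intro x hx
    change x ∈ closure (𝔠 : Set A)
    rw [mem_closure_iff_nhds]
    intro W hW
    have hW0 : {y : A | x + y ∈ W} ∈ 𝓝 (0 : A) := by
      have hc : Continuous fun y : A => x + y := continuous_const.add continuous_id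
      exact hc.continuousAt.preimage_mem_nhds (by simpa using hW)
    obtain ⟨I'', hI''o, hI''⟩ := (IsLinearTopology.hasBasis_open_ideal (R := A)).mem_iff.mp hW0
    have hB : I'.map φ ≤ 𝔠.map φ ⊔ (I''.map φ).closure := by
      have h1 : I'.map φ ≤ (𝔠.map φ).closure := fun y hy => hI' (subset_closure hy)
      exact h1.trans (closure_le_sup_of_isOpen _ _ (hφ.1.2.1 I'' hI''o))
    have := le_sup_of_map_le φ hφ I'' hI''o I' 𝔠 hB hx
    obtain ⟨c, hc, i, hi, rfl⟩ := Submodule.mem_sup.mp this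
    refine ⟨c, ?_, hc⟩
    have := hI'' (I''.neg_mem hi)
    simpa [add_assoc] using this
  exact LinTop.isOpen_of_le hI'o hle

end TautFF

section Main

theorem isAdicRing_of_isTautFFlat_of_fg
    (A : Type u) [CommRing A] [UniformSpace A] [IsUniformAddGroup A] [IsTopologicalRing A]
    [IsLinearTopology A A] [T2Space A] [CompleteSpace A]
    (B : Type v) [CommRing B] [UniformSpace B] [IsUniformAddGroup B] [IsTopologicalRing B]
    (hB : LinTop.IsAdicRing B)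
    (hJ : ∃ J : Ideal B, LinTop.IsIdealOfDefinition B J ∧ J.FG)
    (φ : A →+* B) (hφ : LinTop.IsTautFFlat φ) :
    LinTop.IsAdicRing A ∧ ∃ I : Ideal A, LinTop.IsIdealOfDefinition A I ∧ I.FG := by
  obtain ⟨J, hJd, hJfg⟩ := hJ
  obtain ⟨⟨𝔟, h𝔟⟩, -, -⟩ := hB
  obtain ⟨h𝔟o, h𝔟b⟩ := isAdic_iff.mp h𝔟
  -- powers of `J` are open and cofinal
  have hJo : ∀ k, IsOpen ((J ^ k : Ideal B) : Set B) := by
    intro k
    obtain ⟨m, hm⟩ := h𝔟b (J : Set B) (hJd.1.mem_nhds J.zero_mem)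
    have h1 : 𝔟 ^ (m * k) ≤ J ^ k := by
      rw [pow_mul]; exact Ideal.pow_right_mono (fun x hx => hm hx) k
    exact LinTop.isOpen_of_le (h𝔟o (m * k)) h1
  have hJb : ∀ U ∈ 𝓝 (0 : B), ∃ k : ℕ, ((J ^ k : Ideal B) : Set B) ⊆ U := by
    intro U hU
    obtain ⟨k, -, hk⟩ := hJd.2 U hU
    exact ⟨k, hk⟩
  -- choose `I₁`
  obtain ⟨I₁, hI₁o, hI₁⟩ := hφ.1.2.2 (J : Set B) (hJd.1.mem_nhds J.zero_mem)
  have hK₁o : IsOpen (closure ((I₁.map φ : Ideal B) : Set B)) := hφ.1.2.1 I₁ hI₁o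
  obtain ⟨n, hn⟩ := hJb _ (hK₁o.mem_nhds (subset_closure (I₁.map φ).zero_mem))
  -- finitely generated `𝔞 ≤ I₁`
  have hN : J ^ n ≤ I₁.map φ ⊔ J ^ (n + 1) := by
    have h1 : J ^ n ≤ (I₁.map φ).closure := fun x hx => hn hx
    exact h1.trans (closure_le_sup_of_isOpen _ _ (hJo (n + 1)))
  obtain ⟨𝔞, h𝔞le, h𝔞fg, h𝔞⟩ :=
    exists_fg_le_of_le_map_sup φ I₁ (J ^ (n + 1)) (J ^ n) (hJfg.pow (n := n)) hN
  -- closures of `𝔞^m B` are open
  have hPo : ∀ m, IsOpen (closure (((𝔞 ^ m).map φ : Ideal B) : Set B)) := by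
    intro m
    have h1 := pow_mul_le_closure_pow J (𝔞.map φ) hJb n h𝔞 m
    rw [← Ideal.map_pow] at h1
    exact LinTop.isOpen_of_le (hJo (n * m)) h1
  have hao : ∀ m, IsOpen (closure ((𝔞 ^ m : Ideal A) : Set A)) :=
    fun m => isOpen_closure_of_isOpen_closure_map φ hφ (𝔞 ^ m) (hPo m)
  -- `𝔞 B ⊆ J`
  have h𝔞J : 𝔞.map φ ≤ J := by
    refine (Ideal.map_mono h𝔞le).trans ?_
    intro x hx
    exact hI₁ (subset_closure hx)
  -- cofinality of closures of powers of `𝔞`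
  have hab : ∀ W ∈ 𝓝 (0 : A), ∃ k, closure ((𝔞 ^ k : Ideal A) : Set A) ⊆ W := by
    intro W hW
    obtain ⟨I'', hI''o, hI''⟩ := (IsLinearTopology.hasBasis_open_ideal (R := A)).mem_iff.mp hW
    have hJI'' : IsOpen (closure ((I''.map φ : Ideal B) : Set B)) := hφ.1.2.1 I'' hI''o
    obtain ⟨k, hk⟩ := hJb _ (hJI''.mem_nhds (subset_closure (I''.map φ).zero_mem))
    refine ⟨k, subset_trans ?_ hI''⟩
    have hcl : IsClosed (I'' : Set A) := AddSubgroup.isClosed_of_isOpen I''.toAddSubgroup hI''o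
    refine closure_minimal ?_ hcl
    intro x hx
    have h1 : φ x ∈ (𝔞 ^ k).map φ := Ideal.mem_map_of_mem φ hx
    rw [Ideal.map_pow] at h1
    have h2 : φ x ∈ J ^ k := Ideal.pow_right_mono h𝔞J k h1
    have h3 : x ∈ (I''.map φ).closure.comap φ := hk h2
    rw [comap_closure_map φ hφ I'' hI''o] at h3
    exact h3
  -- `𝔞^m` is closed: successive approximation
  have hcl : ∀ m, ((𝔞 ^ m : Ideal A) : Submodule A A).topologicalClosure = 𝔞 ^ m := by
    intro m
    have := OpenMapL.topologicalClosure_eq_pow_smul (R := A) (T := A) 𝔞 h𝔞fg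
      (fun k => (𝔞 ^ k : Ideal A))
      (fun n k => by rw [smul_eq_mul, ← pow_add]) (fun k => hao k) (fun W hW => hab W hW) m
    rw [this]
    have h0 : ((𝔞 ^ 0 : Ideal A) : Submodule A A).topologicalClosure = ⊤ := by
      rw [pow_zero, Ideal.one_eq_top]
      exact top_unique (Submodule.le_topologicalClosure _)
    rw [h0, smul_eq_mul, Ideal.mul_top]
  have hopen : ∀ m, IsOpen ((𝔞 ^ m : Ideal A) : Set A) := by
    intro m
    have h1 := hao m
    have h2 : closure ((𝔞 ^ m : Ideal A) : Set A) = ((𝔞 ^ m : Ideal A) : Set A) := by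
      have := congrArg (fun S : Submodule A A => (S : Set A)) (hcl m)
      simpa [Submodule.topologicalClosure_coe] using this
    rwa [h2] at h1
  have hbasis : ∀ W ∈ 𝓝 (0 : A), ∃ k, ((𝔞 ^ k : Ideal A) : Set A) ⊆ W := by
    intro W hW
    obtain ⟨k, hk⟩ := hab W hW
    exact ⟨k, subset_trans subset_closure hk⟩
  have hadic : IsAdic 𝔞 := isAdic_iff.mpr ⟨hopen, hbasis⟩
  refine ⟨⟨⟨𝔞, hadic⟩, inferInstance, inferInstance⟩, 𝔞, ⟨?_, ?_⟩, h𝔞fg⟩
  · simpa using hopen 1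
  · intro W hW
    obtain ⟨k, hk⟩ := hbasis W hW
    refine ⟨k + 1, Nat.succ_pos k, subset_trans ?_ hk⟩
    exact fun x hx => Ideal.pow_le_pow_right (Nat.le_succ k) hx

end Main

end Groth.Agent.Helper1.TautL
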