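import Mathlib
import Groth.Agent.Lib.Helper1.ThmB12
import Groth.Agent.Lib.Helper4.PullTens1

/-!
# Asymptotic cohomological functions of pullbacks along maps lowering the dimension (helper1)
-/

set_option autoImplicit false
universe u
open CategoryTheory CategoryTheory.Limits AlgebraicGeometry TopologicalSpace Opposite

namespace Groth.Agent.Helper1.ThmB

open Groth.Agent.Helper1 Groth.Agent.Helper1.Euler Groth.Agent.Helper1.Dv
open Groth.Agent.Helper1.FinLen Groth.Agent.Helper1.TwForm Groth.Agent.Helper1.Curve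
open Groth.Agent.Helper1.Snap Groth.Agent.Helper1.SnapPos Groth.Agent.Helper1.FGAInt
open Groth.Agent.Helper1.FGAPos Groth.Agent.Helper1.CurveAmp
open Groth.Agent.Lib.Helper4 Groth.Agent.Helper1.QcCech

section Real

open Filter Topology

theorem limsup_eq_zero_of_lt (n e : ℕ) (hne : n < e) (x : ℕ → ℕ) (C : ℕ)
    (hx : ∀ m, x m ≤ C * (2 * m + 1) ^ n) :
    limsup (fun m : ℕ => (x m : ℝ) * (e.factorial : ℝ) / (m : ℝ) ^ e) atTop = 0 := by
  have hf0 : (0 : ℝ) ≤ (e.factorial : ℝ) := Nat.cast_nonneg _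
  have hpow : ∀ m : ℕ, 1 ≤ m → ((2 * m + 1 : ℕ) : ℝ) ^ n ≤ (3 : ℝ) ^ n * (m : ℝ) ^ n := by
    intro m hm
    rw [← mul_pow]
    apply pow_le_pow_left₀ (Nat.cast_nonneg _)
    have : (1 : ℝ) ≤ (m : ℝ) := by exact_mod_cast hm
    push_cast
    linarith
  have hg : Tendsto (fun m : ℕ => ((C : ℝ) * 3 ^ n * (e.factorial : ℝ)) / (m : ℝ)) atTop (𝓝 0) :=
    tendsto_const_div_atTop_nhds_zero_nat _
  have ht : Tendsto (fun m : ℕ => (x m : ℝ) * (e.factorial : ℝ) / (m : ℝ) ^ e) atTop (𝓝 0) := by
    refine squeeze_zero' (Eventually.of_forall (fun m => by positivity)) ?_ hg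
    filter_upwards [eventually_ge_atTop 1] with m hm
    have hm1 : (1 : ℝ) ≤ (m : ℝ) := by exact_mod_cast hm
    have hm0 : (0 : ℝ) < (m : ℝ) := by linarith
    rw [div_le_div_iff₀ (pow_pos hm0 e) hm0]
    have hx' : (x m : ℝ) ≤ (C : ℝ) * ((2 * m + 1 : ℕ) : ℝ) ^ n := by exact_mod_cast hx m
    have hC0 : (0 : ℝ) ≤ (C : ℝ) := Nat.cast_nonneg _
    have hme : (m : ℝ) ^ (n + 1) ≤ (m : ℝ) ^ e := pow_le_pow_right₀ hm1 hne
    calc (x m : ℝ) * (e.factorial : ℝ) * (m : ℝ)
        ≤ ((C : ℝ) * ((3 : ℝ) ^ n * (m : ℝ) ^ n)) * (e.factorial : ℝ) * (m : ℝ) := by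
          apply mul_le_mul_of_nonneg_right _ hm0.le
          apply mul_le_mul_of_nonneg_right _ hf0
          exact hx'.trans (mul_le_mul_of_nonneg_left (hpow m hm) hC0)
      _ = (C : ℝ) * 3 ^ n * (e.factorial : ℝ) * (m : ℝ) ^ (n + 1) := by ring
      _ ≤ (C : ℝ) * 3 ^ n * (e.factorial : ℝ) * (m : ℝ) ^ e :=
          mul_le_mul_of_nonneg_left hme (by positivity)
  exact ht.limsup_eq

end Real

section Pull

variable {Y X : Scheme.{u}} (f : Y ⟶ X)

/-- the pullback of a reachable module is reachable from the pullbacks of the generators -/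
theorem Reach.pullback {s : ℕ} {N : Fin s → X.Modules} (hN : ∀ j, PicF.IsInvertible (N j))
    {n : ℕ} {E : X.Modules} (h : Reach N n E) :
    Reach (fun j => (Scheme.Modules.pullback f).obj (N j)) n
      ((Scheme.Modules.pullback f).obj E) := by
  induction h with
  | zero E e =>
    obtain ⟨e⟩ := e
    exact Reach.zero _ ⟨(Scheme.Modules.pullback f).mapIso e ≪≫ PullSec.unitIso f⟩
  | up n E E' j h e ih =>
    obtain ⟨e⟩ := e
    have hEi := h.isInvertible hN
    exact Reach.up n _ _ j ih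
      ⟨(Scheme.Modules.pullback f).mapIso e ≪≫ PullTens1.pullTensIso f hEi (hN j)⟩
  | down n E E' j h e ih =>
    obtain ⟨e⟩ := e
    have hE'i := isInvertible_of_tensor_iso (hN j) (h.isInvertible hN) e
    exact Reach.down n _ _ j ih
      ⟨(PullTens1.pullTensIso f hE'i (hN j)).symm ≪≫ (Scheme.Modules.pullback f).mapIso e⟩

/-- the pullback of a module generated at every point by a global section is generated
relatively to the map -/
theorem relPtGen_pullback {N : X.Modules} (hg : PtGen N) :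
    RelPtGen (fun y : Y => f y) ((Scheme.Modules.pullback f).obj N) := by
  intro y
  obtain ⟨σ', V, hxV, hV⟩ := hg (f y)
  refine ⟨PullSec.σ f N ⊤ σ', (V : Set X), V.2, hxV, fun z hz => ⟨f ⁻¹ᵁ V, hz, ?_⟩⟩
  have h1 := PullGen.isGen_σ f hV
  rw [← PullSec.σ_res f N (le_top : V ≤ ⊤) σ'] at h1
  exact h1

end Pull

section Main

variable (k : Type u) [Field k] (X Y : Scheme.{u}) [X.Over (Spec (CommRingCat.of k))]
  [Y.Over (Spec (CommRingCat.of k))] [IsProper (Y ↘ (Spec (CommRingCat.of k)))]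

/-- **the asymptotic cohomological functions of a pullback along a map to a scheme of smaller
dimension vanish** -/
theorem hhat_pullback_eq_zero [AlgebraicGeometry.IsNoetherian X] (H : X.Modules)
    (hH : CohB1.IsAmple H) (n e : ℕ)
    (hn : topologicalKrullDim X ≤ ((n : ℕ) : WithBot ℕ∞)) (hne : n < e)
    (f : Y ⟶ X) (L : X.Modules) (hL : PicF.IsInvertible L) (i : ℕ) :
    W4c5asymptcohfn.hhat k Y e i ((Scheme.Modules.pullback f).obj L) = 0 := by
  haveI : AlgebraicGeometry.IsNoetherian Y := isNoetherian_of_proper k Y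
  obtain ⟨B, hB, hNi, hNg⟩ := exists_gens H hH (fun _ : Fin 1 => L) (fun _ => hL)
  have hNi' : ∀ j, PicF.IsInvertible
      ((Scheme.Modules.pullback f).obj (gens (fun _ : Fin 1 => L) B j)) := fun j =>
    PullGen.isInvertible_pullback f (hNi j)
  have hNg' : ∀ j, RelPtGen (fun y : Y => f y)
      ((Scheme.Modules.pullback f).obj (gens (fun _ : Fin 1 => L) B j)) := fun j =>
    relPtGen_pullback f (hNg j)
  have hOc := isCoh_structureModule Y
  have hdY : topologicalKrullDim
      ↥(closure ((fun y : Y => f y) '' CohB1.support (Coh.structureModule Y))) ≤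
      ((n : ℕ) : WithBot ℕ∞) :=
    (Topology.IsInducing.subtypeVal.topologicalKrullDim_le).trans hn
  obtain ⟨C, hC⟩ := main_rel k Y (fun y : Y => f y) f.continuous
    (fun j => (Scheme.Modules.pullback f).obj (gens (fun _ : Fin 1 => L) B j)) hNi' hNg' n
    (Coh.structureModule Y) hOc hdY i
  have hbound : ∀ m, Module.finrank k
      (Coh.HH Y (CohB1.tensorPow ((Scheme.Modules.pullback f).obj L) m) i) ≤
      C * (2 * m + 1) ^ n := by
    intro m
    have hR := (reach_pow L hL B hB m).pullback f hNi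
    have hR' := hR.of_iso (PullPow.powIso f hL m).symm
    have h1 := hC (2 * m) _ hR'
    exact le_of_eq_of_le (HHFin1.HHequiv k
      (unitR (CohB1.tensorPow ((Scheme.Modules.pullback f).obj L) m)) i).finrank_eq.symm h1
  unfold W4c5asymptcohfn.hhat
  exact limsup_eq_zero_of_lt n e hne _ C hbound

end Main

end Groth.Agent.Helper1.ThmB
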