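import Mathlib
import Groth.Agent.Lib.Helper1.ThmB14

/-!
# The Lipschitz-type estimate on the lattice spanned by finitely many invertible modules
(helper1)
-/

set_option autoImplicit false
universe u
open CategoryTheory CategoryTheory.Limits AlgebraicGeometry TopologicalSpace Opposite

namespace Groth.Agent.Helper1.ThmB

open Groth.Agent.Helper1 Groth.Agent.Helper1.Euler Groth.Agent.Helper1.Dv
open Groth.Agent.Helper1.FinLen Groth.Agent.Helper1.TwForm Groth.Agent.Helper1.Curve
open Groth.Agent.Helper1.Snap Groth.Agent.Helper1.SnapPos Groth.Agent.Helper1.FGAInt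
open Groth.Agent.Helper1.FGAPos Groth.Agent.Helper1.CurveAmp
open Groth.Agent.Lib.Helper4

section Lists

variable {X : Scheme.{u}}

/-- multiplying one factor of an iterated tensor product by `Lj` -/
theorem tensorList_step {ι : Type*} (A A' : ι → X.Modules)
    (hA : ∀ i, PicF.IsInvertible (A i)) (j : ι) (Lj : X.Modules) (hLj : PicF.IsInvertible Lj)
    (hne : ∀ i, i ≠ j → A' i = A i) (e : A' j ≅ CohB1.tensorMod (A j) Lj) :
    ∀ l : List ι, l.Nodup → j ∈ l →
      Nonempty (FGA.tensorList (l.map A') ≅ CohB1.tensorMod (FGA.tensorList (l.map A)) Lj)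
  | [], _, hj => absurd hj List.not_mem_nil
  | i :: l, hnd, hj => by
    have hT := isInvertible_tensorList A hA l
    rw [List.nodup_cons] at hnd
    by_cases hij : i = j
    · have hjl : j ∉ l := hij ▸ hnd.1
      have hl : l.map A' = l.map A :=
        List.map_congr_left (fun x hx => hne x (fun h => hjl (h ▸ hx)))
      simp only [List.map_cons, FGA.tensorList]
      rw [hl, hij]
      exact ⟨Groth.Agent.Lead.TilT.tensorModCongr e (Iso.refl _) ≪≫
        GenusOne.assocIso (A j) hLj hT ≪≫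
        Groth.Agent.Lead.TilT.tensorModCongr (Iso.refl (A j)) (TildeTens.tensorModComm Lj _) ≪≫
        (GenusOne.assocIso (A j) hT hLj).symm⟩
    · have hj' : j ∈ l := by
        rcases List.mem_cons.1 hj with h | h
        · exact absurd h.symm hij
        · exact h
      obtain ⟨e'⟩ := tensorList_step A A' hA j Lj hLj hne e l hnd.2 hj'
      simp only [List.map_cons, FGA.tensorList]
      rw [hne i hij]
      exact ⟨Groth.Agent.Lead.TilT.tensorModCongr (Iso.refl (A i)) e' ≪≫
        (GenusOne.assocIso (A i) hT hLj).symm⟩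

theorem multiTwist_step {r : ℕ} (L : Fin r → X.Modules) (hL : ∀ j, PicF.IsInvertible (L j))
    (p p' : Fin r → ℕ) (j : Fin r) (hj : p' j = p j + 1) (hne : ∀ i, i ≠ j → p' i = p i) :
    Nonempty (FGA.multiTwist L p' ≅ CohB1.tensorMod (FGA.multiTwist L p) (L j)) := by
  unfold FGA.multiTwist
  exact tensorList_step (fun i => CohB1.tensorPow (L i) (p i))
    (fun i => CohB1.tensorPow (L i) (p' i))
    (fun i => isInvertible_tensorPow (hL i) (p i)) j (L j) (hL j)
    (fun i hi => by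
      show CohB1.tensorPow (L i) (p' i) = CohB1.tensorPow (L i) (p i)
      rw [hne i hi])
    (eqToIso (by
      show CohB1.tensorPow (L j) (p' j) = CohB1.tensorMod (CohB1.tensorPow (L j) (p j)) (L j)
      rw [hj]
      rfl))
    (List.finRange r) (List.nodup_finRange r) (List.mem_finRange j)

/-- `L^{a + e_j} ≅ L^a ⊗ L_j` -/
theorem ztwist_succ {r : ℕ} (L M : Fin r → X.Modules) (hL : ∀ j, PicF.IsInvertible (L j))
    (hM : ∀ j, ClSub.IsInverseOf (L j) (M j)) (a : Fin r → ℤ) (j : Fin r) :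
    Nonempty (W4c5asymptcohfn.ztwist X L M (a + Pi.single j 1) ≅
      CohB1.tensorMod (W4c5asymptcohfn.ztwist X L M a) (L j)) := by
  have hMi : ∀ j, PicF.IsInvertible (M j) := fun j => by
    obtain ⟨eM⟩ := hM j
    exact isInvertible_of_tensor_iso (hL j) GenLoc.isInvertible_O
      (TildeTens.tensorModComm (M j) (L j) ≪≫ eM)
  obtain ⟨a', ha'⟩ : ∃ a' : Fin r → ℤ, a' = a + Pi.single j 1 := ⟨_, rfl⟩
  have hj : a' j = a j + 1 := by rw [ha']; simp
  have hne : ∀ i, i ≠ j → a' i = a i := by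
    intro i hi
    rw [ha']
    simp [Pi.single_eq_of_ne hi]
  rw [← ha']
  have hQ : ∀ b : Fin r → ℤ, PicF.IsInvertible (FGA.multiTwist M (fun i => (-(b i)).toNat)) :=
    fun b => isInvertible_tensorList _ (fun i => isInvertible_tensorPow (hMi i) _) _
  unfold W4c5asymptcohfn.ztwist
  by_cases h0 : 0 ≤ a j
  · obtain ⟨e1⟩ := multiTwist_step L hL (fun i => (a i).toNat) (fun i => (a' i).toNat) j
      (by show (a' j).toNat = (a j).toNat + 1; rw [hj]; omega)
      (fun i hi => by show (a' i).toNat = (a i).toNat; rw [hne i hi])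
    have e2 : (fun i => (-(a' i)).toNat) = (fun i => (-(a i)).toNat) := by
      funext i
      by_cases hi : i = j
      · rw [hi, hj]; omega
      · rw [hne i hi]
    rw [e2]
    exact ⟨Groth.Agent.Lead.TilT.tensorModCongr e1 (Iso.refl _) ≪≫
      GenusOne.assocIso _ (hL j) (hQ a) ≪≫
      Groth.Agent.Lead.TilT.tensorModCongr (Iso.refl _) (TildeTens.tensorModComm (L j) _) ≪≫
      (GenusOne.assocIso _ (hQ a) (hL j)).symm⟩
  · obtain ⟨e1⟩ := multiTwist_step M hMi (fun i => (-(a' i)).toNat) (fun i => (-(a i)).toNat) j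
      (by show (-(a j)).toNat = (-(a' j)).toNat + 1; rw [hj]; omega)
      (fun i hi => by show (-(a i)).toNat = (-(a' i)).toNat; rw [hne i hi])
    have e2 : (fun i => (a' i).toNat) = (fun i => (a i).toNat) := by
      funext i
      by_cases hi : i = j
      · rw [hi, hj]; omega
      · rw [hne i hi]
    rw [e2]
    obtain ⟨eM⟩ := hM j
    have i1 : CohB1.tensorMod
        (CohB1.tensorMod (FGA.multiTwist M fun i => (-(a' i)).toNat) (M j)) (L j) ≅
        FGA.multiTwist M fun i => (-(a' i)).toNat :=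
      GenusOne.assocIso _ (hMi j) (hL j) ≪≫
        Groth.Agent.Lead.TilT.tensorModCongr (Iso.refl _)
          (TildeTens.tensorModComm (M j) (L j) ≪≫ eM) ≪≫
        unitR _
    exact ⟨(Groth.Agent.Lead.TilT.tensorModCongr (Iso.refl _)
        (Groth.Agent.Lead.TilT.tensorModCongr e1 (Iso.refl (L j)) ≪≫ i1)).symm ≪≫
      (GenusOne.assocIso _ (hQ a) (hL j)).symm⟩

end Lists

section Arith

theorem final_arith (n r R t A F : ℕ) (Rm δ : ℝ) (hRm : (R : ℝ) ≤ Rm) (hδ0 : 0 ≤ δ)
    (ht : (t : ℝ) ≤ (r : ℝ) * δ) (ht2 : t ≤ 2 * (r * R)) :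
    (t : ℝ) * ((A : ℝ) * (n : ℝ) * (F : ℝ) * ((2 * (r * R) + 2 : ℕ) : ℝ) ^ (n - 1)) ≤
      ((r : ℝ) * (A : ℝ) * (n : ℝ) * (F : ℝ) * (2 * (r : ℝ) + 2) ^ (n - 1)) *
        ∑ q ∈ Finset.Icc 1 n, Rm ^ (n - q) * δ ^ q := by
  have hRm0 : 0 ≤ Rm := le_trans (Nat.cast_nonneg R) hRm
  rcases n with _ | n'
  · simp
  · rw [Nat.add_sub_cancel]
    have hsum : Rm ^ n' * δ ≤ ∑ q ∈ Finset.Icc 1 (n' + 1), Rm ^ (n' + 1 - q) * δ ^ q := by
      have := Finset.single_le_sum (f := fun q => Rm ^ (n' + 1 - q) * δ ^ q)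
        (fun q _ => mul_nonneg (pow_nonneg hRm0 _) (pow_nonneg hδ0 _))
        (Finset.mem_Icc.2 ⟨le_refl 1, Nat.succ_le_succ (Nat.zero_le n')⟩)
      simpa using this
    by_cases hR0 : R = 0
    · have ht0 : t = 0 := by
        rw [hR0] at ht2
        omega
      rw [ht0, Nat.cast_zero, zero_mul]
      refine mul_nonneg (by positivity) (Finset.sum_nonneg fun q _ =>
        mul_nonneg (pow_nonneg hRm0 _) (pow_nonneg hδ0 _))
    · have h1 : (1 : ℝ) ≤ (R : ℝ) := by exact_mod_cast Nat.one_le_iff_ne_zero.2 hR0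
      have hr0 : (0 : ℝ) ≤ (r : ℝ) := Nat.cast_nonneg r
      have hX : ((2 * (r * R) + 2 : ℕ) : ℝ) ≤ (2 * (r : ℝ) + 2) * Rm := by
        push_cast
        calc 2 * ((r : ℝ) * (R : ℝ)) + 2 ≤ 2 * ((r : ℝ) * (R : ℝ)) + 2 * (R : ℝ) := by linarith
          _ = (2 * (r : ℝ) + 2) * (R : ℝ) := by ring
          _ ≤ (2 * (r : ℝ) + 2) * Rm := mul_le_mul_of_nonneg_left hRm (by linarith)
      have hXp : ((2 * (r * R) + 2 : ℕ) : ℝ) ^ n' ≤ (2 * (r : ℝ) + 2) ^ n' * Rm ^ n' := by
        rw [← mul_pow]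
        exact pow_le_pow_left₀ (Nat.cast_nonneg _) hX n'
      calc (t : ℝ) * ((A : ℝ) * ((n' + 1 : ℕ) : ℝ) * (F : ℝ) *
            ((2 * (r * R) + 2 : ℕ) : ℝ) ^ n')
          ≤ ((r : ℝ) * δ) * ((A : ℝ) * ((n' + 1 : ℕ) : ℝ) * (F : ℝ) *
              ((2 * (r : ℝ) + 2) ^ n' * Rm ^ n')) :=
            mul_le_mul ht (mul_le_mul_of_nonneg_left hXp (by positivity)) (by positivity)
              (mul_nonneg hr0 hδ0)
        _ = ((r : ℝ) * (A : ℝ) * ((n' + 1 : ℕ) : ℝ) * (F : ℝ) * (2 * (r : ℝ) + 2) ^ n') *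
              (Rm ^ n' * δ) := by ring
        _ ≤ _ := mul_le_mul_of_nonneg_left hsum (by positivity)

end Arith

section Chain

variable (k : Type u) [Field k] (X : Scheme.{u}) [X.Over (Spec (CommRingCat.of k))]

theorem chain_bound (n i : ℕ) {r : ℕ} (L M : Fin r → X.Modules) (W : ℝ) (R : ℕ)
    (hstep : ∀ (v : Fin r → ℤ) (j : Fin r), (∀ l, (v l).natAbs ≤ R) →
      |W4c5asymptcohfn.hhat k X n i (W4c5asymptcohfn.ztwist X L M (v + Pi.single j 1)) -
        W4c5asymptcohfn.hhat k X n i (W4c5asymptcohfn.ztwist X L M v)| ≤ W) :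
    ∀ (t : ℕ) (a c : Fin r → ℤ), (∀ l, (a l).natAbs ≤ R) → (∀ l, (a l + c l).natAbs ≤ R) →
      ∑ l, (c l).natAbs = t →
      |W4c5asymptcohfn.hhat k X n i (W4c5asymptcohfn.ztwist X L M a) -
        W4c5asymptcohfn.hhat k X n i (W4c5asymptcohfn.ztwist X L M (a + c))| ≤ (t : ℝ) * W := by
  intro t
  induction t with
  | zero =>
    intro a c _ _ ht
    have hc : c = 0 := funext fun l =>
      Int.natAbs_eq_zero.1 ((Finset.sum_eq_zero_iff.1 ht) l (Finset.mem_univ l))
    rw [hc, add_zero, sub_self, abs_zero]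
    simp
  | succ t ih =>
    intro a c ha hac ht
    have hex : ∃ j, c j ≠ 0 := by
      by_contra hcon
      push Not at hcon
      have h0 : ∑ l, (c l).natAbs = 0 := Finset.sum_eq_zero (fun l _ => by rw [hcon l]; rfl)
      omega
    obtain ⟨j, hj⟩ := hex
    have hcast : ((t + 1 : ℕ) : ℝ) * W = (t : ℝ) * W + W := by push_cast; ring
    rw [hcast]
    rcases lt_or_gt_of_ne hj with hneg | hpos
    · obtain ⟨a', ha'⟩ : ∃ a' : Fin r → ℤ, a' = a - Pi.single j 1 := ⟨_, rfl⟩
      have haa : a' + Pi.single j 1 = a := by rw [ha']; exact sub_add_cancel _ _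
      have hsum := sum_natAbs_add c j hneg
      have hac' : a' + (c + Pi.single j 1) = a + c := by rw [ha']; abel
      have hbox : ∀ l, (a' l).natAbs ≤ R := by
        intro l
        by_cases hl : l = j
        · rw [hl, ha']
          have h1 := ha j
          have h2 := hac j
          simp only [Pi.sub_apply, Pi.single_eq_same]
          omega
        · rw [ha']
          simp only [Pi.sub_apply, Pi.single_eq_of_ne hl, sub_zero]
          exact ha l
      have h3 := ih a' (c + Pi.single j 1) hbox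
        (by
          intro l
          show ((a' + (c + Pi.single j 1) : Fin r → ℤ) l).natAbs ≤ R
          rw [hac']
          exact hac l)
        (by omega)
      have h4 := hstep a' j hbox
      rw [haa] at h4
      rw [hac'] at h3
      have h5 := abs_sub_le
        (W4c5asymptcohfn.hhat k X n i (W4c5asymptcohfn.ztwist X L M a))
        (W4c5asymptcohfn.hhat k X n i (W4c5asymptcohfn.ztwist X L M a'))
        (W4c5asymptcohfn.hhat k X n i (W4c5asymptcohfn.ztwist X L M (a + c)))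
      linarith
    · obtain ⟨a', ha'⟩ : ∃ a' : Fin r → ℤ, a' = a + Pi.single j 1 := ⟨_, rfl⟩
      have hsum := sum_natAbs_sub c j hpos
      have hac' : a' + (c - Pi.single j 1) = a + c := by rw [ha']; abel
      have hbox : ∀ l, (a' l).natAbs ≤ R := by
        intro l
        by_cases hl : l = j
        · rw [hl, ha']
          have h1 := ha j
          have h2 := hac j
          simp only [Pi.add_apply, Pi.single_eq_same]
          omega
        · rw [ha']
          simp only [Pi.add_apply, Pi.single_eq_of_ne hl, add_zero]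
          exact ha l
      have h3 := ih a' (c - Pi.single j 1) hbox
        (by
          intro l
          show ((a' + (c - Pi.single j 1) : Fin r → ℤ) l).natAbs ≤ R
          rw [hac']
          exact hac l)
        (by omega)
      have h4 := hstep a j ha
      rw [← ha'] at h4
      rw [hac'] at h3
      have h5 := abs_sub_le
        (W4c5asymptcohfn.hhat k X n i (W4c5asymptcohfn.ztwist X L M a))
        (W4c5asymptcohfn.hhat k X n i (W4c5asymptcohfn.ztwist X L M a'))
        (W4c5asymptcohfn.hhat k X n i (W4c5asymptcohfn.ztwist X L M (a + c)))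
      rw [abs_sub_comm] at h4
      linarith

end Chain

section Main

variable (k : Type u) [Field k] (X : Scheme.{u}) [X.Over (Spec (CommRingCat.of k))]
  [IsProper (X ↘ (Spec (CommRingCat.of k)))] [AlgebraicGeometry.IsIntegral X]

/-- **the Lipschitz-type estimate** for `ĥ^i` on the lattice spanned by `L_1, …, L_r` -/
theorem hhat_lipschitz (H : X.Modules) (hH : CohB1.IsAmple H) (n : ℕ)
    (hn : topologicalKrullDim X = n)
    (r : ℕ) (L M : Fin r → X.Modules) (hL : ∀ j, PicF.IsInvertible (L j))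
    (hM : ∀ j, ClSub.IsInverseOf (L j) (M j)) (i : ℕ) :
    ∃ C : ℝ, ∀ a b : Fin r → ℤ,
      |W4c5asymptcohfn.hhat k X n i (W4c5asymptcohfn.ztwist X L M a) -
          W4c5asymptcohfn.hhat k X n i (W4c5asymptcohfn.ztwist X L M b)| ≤
        C * (Finset.Icc 1 n).sum (fun q =>
          (max ‖(fun j => ((a j : ℤ) : ℝ))‖ ‖(fun j => ((b j : ℤ) : ℝ))‖) ^ (n - q) *
            ‖(fun j => ((a j - b j : ℤ) : ℝ))‖ ^ q) := by
  haveI : AlgebraicGeometry.IsNoetherian X := isNoetherian_of_proper k X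
  obtain ⟨B, hB, hNi, hNg⟩ := exists_gens H hH L hL
  obtain ⟨C, hC⟩ := hhat_sub_le k X n hn (gens L B) hNi hNg
  refine ⟨(r : ℝ) * ((2 * C : ℕ) : ℝ) * (n : ℝ) * ((n.factorial : ℕ) : ℝ) *
    (2 * (r : ℝ) + 2) ^ (n - 1), fun a b => ?_⟩
  obtain ⟨R, hR⟩ : ∃ R : ℕ,
      R = ⌊max ‖(fun j => ((a j : ℤ) : ℝ))‖ ‖(fun j => ((b j : ℤ) : ℝ))‖⌋₊ := ⟨_, rfl⟩
  have hmax0 : (0 : ℝ) ≤ max ‖(fun j => ((a j : ℤ) : ℝ))‖ ‖(fun j => ((b j : ℤ) : ℝ))‖ :=
    le_max_of_le_left (norm_nonneg _)
  have hRm : (R : ℝ) ≤ max ‖(fun j => ((a j : ℤ) : ℝ))‖ ‖(fun j => ((b j : ℤ) : ℝ))‖ := by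
    rw [hR]
    exact Nat.floor_le hmax0
  have hbox : ∀ (v : Fin r → ℤ), ‖(fun j => ((v j : ℤ) : ℝ))‖ ≤
      max ‖(fun j => ((a j : ℤ) : ℝ))‖ ‖(fun j => ((b j : ℤ) : ℝ))‖ →
      ∀ l, (v l).natAbs ≤ R := by
    intro v hv l
    rw [hR]
    apply Nat.le_floor
    rw [Nat.cast_natAbs, Int.cast_abs]
    have h1 := norm_le_pi_norm (fun j => ((v j : ℤ) : ℝ)) l
    rw [Real.norm_eq_abs] at h1
    exact h1.trans hv
  have hRa := hbox a (le_max_left _ _)
  have hRb := hbox b (le_max_right _ _)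
  have hstep : ∀ (v : Fin r → ℤ) (j : Fin r), (∀ l, (v l).natAbs ≤ R) →
      |W4c5asymptcohfn.hhat k X n i (W4c5asymptcohfn.ztwist X L M (v + Pi.single j 1)) -
        W4c5asymptcohfn.hhat k X n i (W4c5asymptcohfn.ztwist X L M v)| ≤
      ((2 * C : ℕ) : ℝ) * (n : ℝ) * ((n.factorial : ℕ) : ℝ) *
        ((2 * (r * R) + 2 : ℕ) : ℝ) ^ (n - 1) := by
    intro v j hv
    obtain ⟨e⟩ := ztwist_succ L M hL hM v j
    have h1 := reach_ztwist L M hL hM B hB hNi v
    have h2 := reach_gen L B j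
    have h3 := hC i _ 2 _ _ _ h1 h2 ⟨e⟩
    refine h3.trans ?_
    have hs : ∑ l, (v l).natAbs ≤ r * R := by
      calc ∑ l, (v l).natAbs ≤ ∑ _l : Fin r, R := Finset.sum_le_sum (fun l _ => hv l)
        _ = r * R := by rw [Finset.sum_const, Finset.card_univ, Fintype.card_fin, smul_eq_mul]
    have hcast : ((2 * ∑ l, (v l).natAbs + 2 : ℕ) : ℝ) ≤ ((2 * (r * R) + 2 : ℕ) : ℝ) := by
      exact_mod_cast (by omega : 2 * ∑ l, (v l).natAbs + 2 ≤ 2 * (r * R) + 2)
    exact mul_le_mul_of_nonneg_left (pow_le_pow_left₀ (Nat.cast_nonneg _) hcast _)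
      (by positivity)
  have hba : b + (a - b) = a := by abel
  have hchain := chain_bound k X n i L M _ R hstep (∑ l, ((a - b) l).natAbs) b (a - b) hRb
    (by
      intro l
      show ((b + (a - b) : Fin r → ℤ) l).natAbs ≤ R
      rw [hba]
      exact hRa l)
    rfl
  rw [hba] at hchain
  have ht : ((∑ l, ((a - b) l).natAbs : ℕ) : ℝ) ≤
      (r : ℝ) * ‖(fun j => ((a j - b j : ℤ) : ℝ))‖ := by
    rw [Nat.cast_sum]
    calc ∑ l : Fin r, (((a - b) l).natAbs : ℝ)
        ≤ ∑ _l : Fin r, ‖(fun j => ((a j - b j : ℤ) : ℝ))‖ := by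
          apply Finset.sum_le_sum
          intro l _
          have h1 := norm_le_pi_norm (fun j => ((a j - b j : ℤ) : ℝ)) l
          rw [Real.norm_eq_abs] at h1
          rw [Nat.cast_natAbs, Int.cast_abs]
          exact h1
      _ = (r : ℝ) * ‖(fun j => ((a j - b j : ℤ) : ℝ))‖ := by
          rw [Finset.sum_const, Finset.card_univ, Fintype.card_fin, nsmul_eq_mul]
  have ht2 : ∑ l, ((a - b) l).natAbs ≤ 2 * (r * R) := by
    calc ∑ l, ((a - b) l).natAbs ≤ ∑ _l : Fin r, 2 * R := by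
          apply Finset.sum_le_sum
          intro l _
          have h1 := hRa l
          have h2 := hRb l
          simp only [Pi.sub_apply]
          omega
      _ = 2 * (r * R) := by
          rw [Finset.sum_const, Finset.card_univ, Fintype.card_fin, smul_eq_mul]
          ring
  have hfin := final_arith n r R (∑ l, ((a - b) l).natAbs) (2 * C) n.factorial
    (max ‖(fun j => ((a j : ℤ) : ℝ))‖ ‖(fun j => ((b j : ℤ) : ℝ))‖)
    ‖(fun j => ((a j - b j : ℤ) : ℝ))‖ hRm (norm_nonneg _) ht ht2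
  rw [abs_sub_comm]
  exact hchain.trans hfin

end Main

end Groth.Agent.Helper1.ThmB
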