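import Groth.Agent.Lib.Helper1.TorBC
universe u
open CategoryTheory MonoidalCategory Limits TensorProduct

namespace Groth.Agent.Helper1.TorBC2
open Groth.Agent.Helper1.TorL Groth.Agent.Helper1.TorBC

section Base0
variable (A A' : Type u) [CommRing A] [CommRing A'] [Algebra A A']
variable (Q : Type u) [AddCommGroup Q] [Module A Q]
variable (P' : Type u) [AddCommGroup P'] [Module A' P'] [Module A P'] [IsScalarTower A A' P']

/-- `P' ⊗_A Q ≃ P' ⊗_{A'} (A' ⊗_A Q)` as `A`-modules. -/
noncomputable def base0Equiv : P' ⊗[A] Q ≃ₗ[A] P' ⊗[A'] (A' ⊗[A] Q) :=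
  (TensorProduct.AlgebraTensorModule.cancelBaseChange A A' A' P' Q).symm.restrictScalars A

theorem base0Equiv_tmul (p : P') (q : Q) :
    base0Equiv A A' Q P' (p ⊗ₜ q) = p ⊗ₜ[A'] ((1 : A') ⊗ₜ[A] q) := rfl

/-- semilinear version -/
noncomputable def base0 : P' ⊗[A] Q →ₛₗ[algebraMap A A'] P' ⊗[A'] (A' ⊗[A] Q) where
  toFun := base0Equiv A A' Q P'
  map_add' := map_add _
  map_smul' a x := by
    rw [map_smul, algebraMap_smul]

theorem base0_bijective : Function.Bijective (base0 A A' Q P') :=
  (base0Equiv A A' Q P').bijective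

theorem base0_tmul (p : P') (q : Q) :
    base0 A A' Q P' (p ⊗ₜ q) = p ⊗ₜ[A'] ((1 : A') ⊗ₜ[A] q) := rfl

variable {P'} {P₂ : Type u} [AddCommGroup P₂] [Module A' P₂] [Module A P₂] [IsScalarTower A A' P₂]

theorem base0_natural (f : P' →ₗ[A'] P₂) (x : P' ⊗[A] Q) :
    base0 A A' Q P₂ ((f.restrictScalars A).rTensor Q x) =
      f.rTensor (A' ⊗[A] Q) (base0 A A' Q P' x) := by
  induction x using TensorProduct.induction_on with
  | zero => simp
  | tmul p q => simp [base0_tmul]
  | add x y hx hy => simp only [map_add, hx, hy]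

end Base0

section Main
variable (A A' : Type u) [CommRing A] [CommRing A'] [Algebra A A']
variable (Q : Type u) [AddCommGroup Q] [Module A Q]

/-- the degree-0 comparison -/
noncomputable def psi0 (P' : Type u) [AddCommGroup P'] [Module A' P'] [Module A P']
    [IsScalarTower A A' P'] :
    T 0 (ModuleCat.of A P') (ModuleCat.of A Q) →ₛₗ[algebraMap A A']
      T 0 (ModuleCat.of A' P') (ModuleCat.of A' (A' ⊗[A] Q)) :=
  ((tor0Iso (ModuleCat.of A' P') (ModuleCat.of A' (A' ⊗[A] Q))).inv.hom).comp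
    ((base0 A A' Q P').comp (tor0Iso (ModuleCat.of A P') (ModuleCat.of A Q)).hom.hom)

theorem psi0_bijective (P' : Type u) [AddCommGroup P'] [Module A' P'] [Module A P']
    [IsScalarTower A A' P'] :
    Function.Bijective (psi0 A A' Q P') := by
  have h1 : Function.Bijective (tor0Iso (ModuleCat.of A P') (ModuleCat.of A Q)).hom.hom :=
    (tor0Iso (ModuleCat.of A P') (ModuleCat.of A Q)).toLinearEquiv.bijective
  have h2 : Function.Bijective
      (tor0Iso (ModuleCat.of A' P') (ModuleCat.of A' (A' ⊗[A] Q))).inv.hom :=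
    (tor0Iso (ModuleCat.of A' P') (ModuleCat.of A' (A' ⊗[A] Q))).symm.toLinearEquiv.bijective
  exact h2.comp ((base0_bijective A A' Q P').comp h1)

theorem psi0_natural {P' P₂ : Type u} [AddCommGroup P'] [Module A' P'] [Module A P']
    [IsScalarTower A A' P'] [AddCommGroup P₂] [Module A' P₂] [Module A P₂]
    [IsScalarTower A A' P₂]
    (f : P' →ₗ[A'] P₂) (x : T 0 (ModuleCat.of A P') (ModuleCat.of A Q)) :
    psi0 A A' Q P₂ ((((Tor (ModuleCat.{u} A) 0).map (ModuleCat.ofHom (f.restrictScalars A))).app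
        (ModuleCat.of A Q)).hom x) =
      (((Tor (ModuleCat.{u} A') 0).map (ModuleCat.ofHom f)).app
        (ModuleCat.of A' (A' ⊗[A] Q))).hom (psi0 A A' Q P' x) := by
  have n1 := tor0Iso_naturality (ModuleCat.ofHom (f.restrictScalars A)) (ModuleCat.of A Q)
  have n2 := tor0Iso_naturality (ModuleCat.ofHom f) (ModuleCat.of A' (A' ⊗[A] Q))
  have n1' : (tor0Iso (ModuleCat.of A P₂) (ModuleCat.of A Q)).hom.hom
      ((((Tor (ModuleCat.{u} A) 0).map (ModuleCat.ofHom (f.restrictScalars A))).app
        (ModuleCat.of A Q)).hom x) =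
      (f.restrictScalars A).rTensor Q ((tor0Iso (ModuleCat.of A P') (ModuleCat.of A Q)).hom.hom x) :=
    congrArg (fun g => g.hom x) n1
  have n2'' : (tor0Iso (ModuleCat.of A' P') (ModuleCat.of A' (A' ⊗[A] Q))).inv ≫
      ((Tor (ModuleCat.{u} A') 0).map (ModuleCat.ofHom f)).app
        (ModuleCat.of A' (A' ⊗[A] Q)) =
      (ModuleCat.ofHom f ▷ (ModuleCat.of A' (A' ⊗[A] Q))) ≫
        (tor0Iso (ModuleCat.of A' P₂) (ModuleCat.of A' (A' ⊗[A] Q))).inv := by
    rw [Iso.inv_comp_eq, ← Category.assoc, Iso.eq_comp_inv]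
    exact n2
  have n2' : ∀ z, (((Tor (ModuleCat.{u} A') 0).map (ModuleCat.ofHom f)).app
        (ModuleCat.of A' (A' ⊗[A] Q))).hom
        ((tor0Iso (ModuleCat.of A' P') (ModuleCat.of A' (A' ⊗[A] Q))).inv.hom z) =
      (tor0Iso (ModuleCat.of A' P₂) (ModuleCat.of A' (A' ⊗[A] Q))).inv.hom
        (f.rTensor (A' ⊗[A] Q) z) := fun z => congrArg (fun g => g.hom z) n2''
  show (tor0Iso (ModuleCat.of A' P₂) (ModuleCat.of A' (A' ⊗[A] Q))).inv.hom
    (base0 A A' Q P₂ ((tor0Iso (ModuleCat.of A P₂) (ModuleCat.of A Q)).hom.hom _)) = _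
  rw [n1', base0_natural]
  exact (n2' _).symm

/-- restriction to `A` of the free presentation over `A'` -/
noncomputable abbrev resPres (P' : Type u) [AddCommGroup P'] [Module A' P'] [Module A P']
    [IsScalarTower A A' P'] :
    ShortComplex (ModuleCat.{u} A) :=
  ModuleCat.shortComplexOfCompEqZero
    (M := ↥(LinearMap.ker (Finsupp.linearCombination A' (id : P' → P')))) (N := (P' →₀ A'))
    (L := P')
    (((LinearMap.ker (Finsupp.linearCombination A' (id : P' → P'))).subtype).restrictScalars A)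
    ((Finsupp.linearCombination A' (id : P' → P')).restrictScalars A) (by
      ext x
      exact x.2)

theorem resPres_shortExact (P' : Type u) [AddCommGroup P'] [Module A' P'] [Module A P']
    [IsScalarTower A A' P'] :
    (resPres A A' P').ShortExact := by
  have hS := freePres_shortExact (R := A') P'
  have hex : Function.Exact (freePres (R := A') P').f.hom (freePres (R := A') P').g.hom :=
    (ShortComplex.ShortExact.moduleCat_exact_iff_function_exact _).mp hS.exact
  have hsurj : Function.Surjective (freePres (R := A') P').g.hom :=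
    (ModuleCat.epi_iff_surjective _).mp hS.epi_g
  have hinj : Function.Injective (freePres (R := A') P').f.hom :=
    (ModuleCat.mono_iff_injective _).mp hS.mono_f
  exact ModuleCat.shortComplex_shortExact _ hex hinj hsurj

variable [Module.Flat A A']

instance (P' : Type u) [AddCommGroup P'] [Module A' P'] [Module A P']
    [IsScalarTower A A' P'] : Module.Flat A (resPres A A' P').X₂ :=
  show Module.Flat A (P' →₀ A') from Module.Flat.trans A A' (P' →₀ A')

theorem step_one (P' : Type u) [AddCommGroup P'] [Module A' P'] [Module A P']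
    [IsScalarTower A A' P'] :
    ∃ φ : T 1 (ModuleCat.of A P') (ModuleCat.of A Q) →ₛₗ[algebraMap A A']
      T 1 (ModuleCat.of A' P') (ModuleCat.of A' (A' ⊗[A] Q)), Function.Bijective φ := by
  have hS := resPres_shortExact A A' P'
  have hS' := freePres_shortExact (R := A') P'
  have hF : IsZero (T 1 (resPres A A' P').X₂ (ModuleCat.of A Q)) :=
    isZero_tor_succ_of_flat _ _ 0
  have hF' : IsZero (T 1 (freePres (R := A') P').X₂ (ModuleCat.of A' (A' ⊗[A] Q))) :=
    isZero_tor_succ_of_flat _ _ 0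
  have hm : Mono (torδ _ hS (ModuleCat.of A Q) 0) :=
    (tor_exact₃ _ hS (ModuleCat.of A Q) 0).mono_g (hF.eq_of_src _ _)
  have hm' : Mono (torδ _ hS' (ModuleCat.of A' (A' ⊗[A] Q)) 0) :=
    (tor_exact₃ _ hS' (ModuleCat.of A' (A' ⊗[A] Q)) 0).mono_g (hF'.eq_of_src _ _)
  have hex := (ShortComplex.ShortExact.moduleCat_exact_iff_function_exact _).mp
    (tor_exact₁ _ hS (ModuleCat.of A Q) 0)
  have hex' := (ShortComplex.ShortExact.moduleCat_exact_iff_function_exact _).mp
    (tor_exact₁ _ hS' (ModuleCat.of A' (A' ⊗[A] Q)) 0)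
  exact ker_compare (algebraMap A A') (torδ _ hS (ModuleCat.of A Q) 0).hom _
    ((ModuleCat.mono_iff_injective _).mp hm) hex
    (torδ _ hS' (ModuleCat.of A' (A' ⊗[A] Q)) 0).hom _
    ((ModuleCat.mono_iff_injective _).mp hm') hex'
    (psi0 A A' Q _) (psi0_bijective A A' Q _) (psi0 A A' Q _) (psi0_bijective A A' Q _).1
    (fun x => (psi0_natural A A' Q (freePres (R := A') P').f.hom x).symm)

theorem main (n : ℕ) : ∀ (P' : Type u) [AddCommGroup P'] [Module A' P'] [Module A P']
    [IsScalarTower A A' P'],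
    ∃ φ : T (n + 1) (ModuleCat.of A P') (ModuleCat.of A Q) →ₛₗ[algebraMap A A']
      T (n + 1) (ModuleCat.of A' P') (ModuleCat.of A' (A' ⊗[A] Q)), Function.Bijective φ := by
  induction n with
  | zero =>
    intro P' _ _ _ _
    exact step_one A A' Q P'
  | succ n ih =>
    intro P' _ _ _ _
    have hS := resPres_shortExact A A' P'
    have hS' := freePres_shortExact (R := A') P'
    obtain ⟨φ, hφ⟩ := ih (LinearMap.ker (Finsupp.linearCombination A' (id : P' → P')))
    have e := torShiftIso _ hS (ModuleCat.of A Q) (n + 1)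
      (isZero_tor_succ_of_flat _ _ _) (isZero_tor_succ_of_flat _ _ _)
    have e' := torShiftIso _ hS' (ModuleCat.of A' (A' ⊗[A] Q)) (n + 1)
      (isZero_tor_succ_of_flat _ _ _) (isZero_tor_succ_of_flat _ _ _)
    refine ⟨(e'.inv.hom).comp (φ.comp e.hom.hom), ?_⟩
    exact (e'.symm.toLinearEquiv.bijective).comp (hφ.comp e.toLinearEquiv.bijective)

theorem full (n : ℕ) (P' : Type u) [AddCommGroup P'] [Module A' P'] [Module A P']
    [IsScalarTower A A' P'] :
    ∃ φ : T n (ModuleCat.of A P') (ModuleCat.of A Q) →ₛₗ[algebraMap A A']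
      T n (ModuleCat.of A' P') (ModuleCat.of A' (A' ⊗[A] Q)), Function.Bijective φ := by
  cases n with
  | zero => exact ⟨psi0 A A' Q P', psi0_bijective A A' Q P'⟩
  | succ n => exact main A A' Q n P'

end Main
end Groth.Agent.Helper1.TorBC2
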