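import Mathlib
import Groth.Agent.Lib.Helper1.TorL
import Groth.Agent.Lib.Helper1.TorBal

universe u
open CategoryTheory MonoidalCategory Limits

namespace Groth.Agent.Helper1.TorDim
open Groth.Agent.Helper1.TorL Groth.Agent.Helper1.TorBal
variable {A : Type u} [CommRing A]

/-- flat base change in the first variable -/
theorem torTensorIso (F N K : ModuleCat.{u} A) [Module.Flat A F] (j : ℕ) :
    Nonempty (F ⊗ T j N K ≅ T j (F ⊗ N) K) := by
  let Q := projectiveResolution K
  let e1 : F ⊗ T j N K ≅ F ⊗ (tensCx N Q.complex).homology j :=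
    (tensorLeft F).mapIso (torIso N Q j)
  let e2 : (((tensCx N Q.complex).sc j).map (tensorLeft F)).homology ≅
      F ⊗ (tensCx N Q.complex).homology j :=
    ((tensCx N Q.complex).sc j).mapHomologyIso (tensorLeft F)
  let γ : ((tensorLeft F).mapHomologicalComplex _).obj (tensCx N Q.complex) ≅
      tensCx (F ⊗ N) Q.complex :=
    HomologicalComplex.Hom.isoOfComponents (fun i => (α_ F N (Q.complex.X i)).symm) (by
      intro i j _
      exact (associator_inv_naturality_right F N (Q.complex.d i j)).symm)
  let e3 := (HomologicalComplex.homologyFunctor _ _ j).mapIso γ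
  exact ⟨e1 ≪≫ e2.symm ≪≫ e3 ≪≫ (torIso (F ⊗ N) Q j).symm⟩

open scoped TensorProduct

/-- if every `s ∉ p` acts injectively on `T` and `A_p ⊗ T = 0` then `T = 0`. -/
theorem subsingleton_of_localization (p : Ideal A) [p.IsPrime] (T : Type u) [AddCommGroup T]
    [Module A T] (hinj : ∀ s : A, s ∉ p → Function.Injective (fun t : T => s • t))
    (h0 : Subsingleton ((Localization.AtPrime p) ⊗[A] T)) : Subsingleton T := by
  have hloc : IsLocalizedModule p.primeCompl (TensorProduct.mk A (Localization.AtPrime p) T 1) :=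
    (isLocalizedModule_iff_isBaseChange p.primeCompl (Localization.AtPrime p) _).mpr
      (TensorProduct.isBaseChange A T (Localization.AtPrime p))
  have key : ∀ t : T, t = 0 := by
    intro t
    have h1 : (TensorProduct.mk A (Localization.AtPrime p) T 1) t = 0 := Subsingleton.elim _ _
    obtain ⟨c, hc⟩ := (IsLocalizedModule.eq_zero_iff p.primeCompl _).mp h1
    apply hinj c.1 c.2
    show c.1 • t = c.1 • 0
    rw [smul_zero]
    exact hc
  exact ⟨fun a b => (key a).trans (key b).symm⟩

theorem algebraMapSubmonoid_primeCompl (p : Ideal A) [p.IsPrime] :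
    Algebra.algebraMapSubmonoid (A ⧸ p) p.primeCompl = nonZeroDivisors (A ⧸ p) := by
  ext x
  rw [mem_nonZeroDivisors_iff_ne_zero]
  constructor
  · rintro ⟨a, ha, rfl⟩
    intro h
    exact ha (Ideal.Quotient.eq_zero_iff_mem.mp h)
  · intro hx
    obtain ⟨a, rfl⟩ := Ideal.Quotient.mk_surjective x
    exact ⟨a, fun h => hx (Ideal.Quotient.eq_zero_iff_mem.mpr h), rfl⟩

theorem nonempty_residueField_iso (p : Ideal A) [p.IsPrime] :
    Nonempty ((ModuleCat.of A (Localization.AtPrime p)) ⊗ (ModuleCat.of A (A ⧸ p)) ≅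
      ModuleCat.of A p.ResidueField) := by
  have h1 : IsLocalization (Algebra.algebraMapSubmonoid (A ⧸ p) p.primeCompl) p.ResidueField := by
    rw [algebraMapSubmonoid_primeCompl]
    infer_instance
  have h2 : IsLocalizedModule p.primeCompl
      (IsScalarTower.toAlgHom A (A ⧸ p) p.ResidueField).toLinearMap :=
    isLocalizedModule_iff_isLocalization.mpr h1
  have h3 := IsLocalizedModule.isBaseChange p.primeCompl (Localization.AtPrime p)
    (IsScalarTower.toAlgHom A (A ⧸ p) p.ResidueField).toLinearMap
  exact ⟨(h3.equiv.restrictScalars A).toModuleIso⟩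

theorem isZero_tor_of_subsingleton (N K : ModuleCat.{u} A) [Subsingleton N] (j : ℕ) :
    IsZero (T j N K) := by
  rw [IsZero.iff_id_eq_zero]
  have h0 : (𝟙 N : N ⟶ N) = (0 : A) • 𝟙 N := by
    rw [zero_smul]
    exact (ModuleCat.isZero_of_subsingleton N).eq_of_src _ _
  have h1 := tor_map_smul_id N K (0 : A) j
  rw [← h0, CategoryTheory.Functor.map_id, NatTrans.id_app, zero_smul] at h1
  exact h1

theorem isZero_tor_of_annihilator [IsNoetherianRing A] (K : ModuleCat.{u} A) (J : Ideal A)
    (h : ∀ q : Ideal A, q.IsPrime → J ≤ q →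
      ∀ j : ℕ, IsZero (T (j + 1) (ModuleCat.of A (A ⧸ q)) K)) :
    ∀ (N : Type u) [AddCommGroup N] [Module A N] [Module.Finite A N],
      J ≤ Module.annihilator A N → ∀ j : ℕ, IsZero (T (j + 1) (ModuleCat.of A N) K) := by
  intro N _ _ hfin
  induction hfin using IsNoetherianRing.induction_on_isQuotientEquivQuotientPrime A with
  | subsingleton N =>
    intro _ j
    exact isZero_tor_of_subsingleton (ModuleCat.of A N) K (j + 1)
  | quotient N q e =>
    intro hN j
    have hq : J ≤ q.1 := by
      intro a ha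
      have h1 := (Module.mem_annihilator.mp (hN ha)) (e.symm 1)
      rw [← map_smul, LinearEquiv.map_eq_zero_iff] at h1
      have h2 : (Ideal.Quotient.mk q.1 a) = 0 := by
        rw [← h1, Algebra.smul_def, mul_one]; rfl
      exact Ideal.Quotient.eq_zero_iff_mem.mp h2
    exact IsZero.of_iso (h q.1 q.2 hq j) (torCongrLeft e.toModuleIso K (j + 1))
  | exact N₁ N₂ N₃ f g hf hg hfg h₁ h₃ =>
    intro hN j
    have hN₁ : J ≤ Module.annihilator A N₁ := by
      intro a ha
      rw [Module.mem_annihilator]
      intro x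
      apply hf
      rw [map_smul, map_zero]
      exact (Module.mem_annihilator.mp (hN ha)) (f x)
    have hN₃ : J ≤ Module.annihilator A N₃ := by
      intro a ha
      rw [Module.mem_annihilator]
      intro y
      obtain ⟨x, rfl⟩ := hg y
      rw [← map_smul, (Module.mem_annihilator.mp (hN ha)) x, map_zero]
    have hS : (ModuleCat.shortComplexOfCompEqZero f g hfg.linearMap_comp_eq_zero).ShortExact :=
      ModuleCat.shortComplex_shortExact _ hfg hf hg
    exact isZero_tor_X₂ _ hS K (j + 1) (h₁ hN₁ j) (h₃ hN₃ j)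

theorem injective_smul_tor (p : Ideal A) [p.IsPrime] (f : A) (hf : f ∉ p) (K : ModuleCat.{u} A)
    (j : ℕ) (h2 : IsZero (T (j + 1) (ModuleCat.of A (A ⧸ (p ⊔ Ideal.span {f}))) K)) :
    Function.Injective (fun t : T j (ModuleCat.of A (A ⧸ p)) K => f • t) := by
  have hr : IsSMulRegular (A ⧸ p) f := by
    intro x y hxy
    have hxy' : Ideal.Quotient.mk p f * x = Ideal.Quotient.mk p f * y := by
      simpa [Algebra.smul_def] using hxy
    have hne : Ideal.Quotient.mk p f ≠ 0 := fun h => hf (Ideal.Quotient.eq_zero_iff_mem.mp h)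
    exact mul_left_cancel₀ hne hxy'
  have hS := quotSC_shortExact p (p ⊔ Ideal.span {f}) f rfl hr
  have hmono : Mono (((Tor (ModuleCat.{u} A) j).map (quotSC p (p ⊔ Ideal.span {f}) f rfl).f).app K) :=
    (tor_exact₁ (quotSC p (p ⊔ Ideal.span {f}) f rfl) hS K j).mono_g (h2.eq_of_src _ _)
  rw [quotSC_f_eq, tor_map_smul_id] at hmono
  exact (ModuleCat.mono_iff_injective _).mp hmono

/-- core Noetherian induction -/
theorem core [IsNoetherianRing A] (K : ModuleCat.{u} A)
    (h : ∀ (x : Ideal A) [x.IsPrime] (j : ℕ),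
      IsZero (T (j + 1) (ModuleCat.of A x.ResidueField) K)) :
    ∀ (p : Ideal A), p.IsPrime → ∀ (j : ℕ), IsZero (T (j + 1) (ModuleCat.of A (A ⧸ p)) K) := by
  intro p
  induction p using IsNoetherian.induction with
  | hgt p ih =>
    intro hp j
    have hinj : ∀ s : A, s ∉ p → Function.Injective
        (fun t : T (j + 1) (ModuleCat.of A (A ⧸ p)) K => s • t) := by
      intro s hs
      apply injective_smul_tor p s hs K (j + 1)
      have hlt : p < p ⊔ Ideal.span {s} := by
        refine lt_of_le_of_ne le_sup_left ?_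
        intro heq
        apply hs
        rw [heq]
        exact Ideal.mem_sup_right (Ideal.mem_span_singleton_self s)
      refine isZero_tor_of_annihilator K (p ⊔ Ideal.span {s}) ?_ (A ⧸ (p ⊔ Ideal.span {s})) ?_
        (j + 1)
      · intro q hq hle j'
        exact ih q (lt_of_lt_of_le hlt hle) hq j'
      · intro a ha
        rw [Module.mem_annihilator]
        intro y
        obtain ⟨b, rfl⟩ := Ideal.Quotient.mk_surjective y
        rw [Algebra.smul_def]
        show Ideal.Quotient.mk _ a * Ideal.Quotient.mk _ b = 0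
        rw [Ideal.Quotient.eq_zero_iff_mem.mpr ha, zero_mul]
    have h0 : Subsingleton ((Localization.AtPrime p) ⊗[A]
        (T (j + 1) (ModuleCat.of A (A ⧸ p)) K)) := by
      obtain ⟨e1⟩ := torTensorIso (ModuleCat.of A (Localization.AtPrime p))
        (ModuleCat.of A (A ⧸ p)) K (j + 1)
      obtain ⟨e2⟩ := nonempty_residueField_iso p
      have hz : IsZero ((ModuleCat.of A (Localization.AtPrime p)) ⊗
          T (j + 1) (ModuleCat.of A (A ⧸ p)) K) :=
        IsZero.of_iso (h p j) (e1 ≪≫ torCongrLeft e2 K (j + 1))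
      exact ModuleCat.subsingleton_of_isZero hz
    have := subsingleton_of_localization p _ hinj h0
    exact ModuleCat.isZero_of_subsingleton _

/-- all higher Tor against `K` vanish if they vanish for the residue fields. -/
theorem flat_of_residueField [IsNoetherianRing A] (K : ModuleCat.{u} A)
    (h : ∀ (x : Ideal A) [x.IsPrime] (j : ℕ),
      IsZero (T (j + 1) (ModuleCat.of A x.ResidueField) K)) : Module.Flat A K := by
  rw [flat_iff_tor_one_quotient_prime]
  intro p hp
  rw [isZero_tor_symm]
  exact core K h p hp 0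

theorem torDim [IsNoetherianRing A] (n : ℕ) : ∀ (M : ModuleCat.{u} A),
    (∀ (x : Ideal A) [x.IsPrime] (i : ℕ), n < i →
      IsZero (T i (ModuleCat.of A x.ResidueField) M)) →
    ∀ (N : ModuleCat.{u} A) (i : ℕ), n < i → IsZero (T i N M) := by
  induction n with
  | zero =>
    intro M h N i hi
    have hflat : Module.Flat A M := flat_of_residueField M (fun x _ j => h x (j + 1) (by omega))
    obtain ⟨i, rfl⟩ : ∃ k, i = k + 1 := ⟨i - 1, by omega⟩
    exact isZero_tor_succ_of_flat_right M i N
  | succ n ih =>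
    intro M h N i hi
    obtain ⟨i, rfl⟩ : ∃ k, i = k + 2 := ⟨i - 2, by omega⟩
    have hK : ∀ (x : Ideal A) [x.IsPrime] (i : ℕ), n < i →
        IsZero (T i (ModuleCat.of A x.ResidueField) (freePres (R := A) M).X₁) := by
      intro x _ i hi
      obtain ⟨i, rfl⟩ : ∃ k, i = k + 1 := ⟨i - 1, by omega⟩
      rw [isZero_tor_symm, ← isZero_tor_succ_succ_iff, isZero_tor_symm]
      exact h x (i + 2) (by omega)
    have := ih _ hK N (i + 1) (by omega)
    rw [isZero_tor_symm, isZero_tor_succ_succ_iff, isZero_tor_symm]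
    exact this

end Groth.Agent.Helper1.TorDim
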