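import Mathlib
import Groth.Agent.Lib.Helper1.TorNat
import Groth.Agent.Lib.Helper1.HomFilt

universe u
open CategoryTheory MonoidalCategory Limits

namespace Groth.Agent.Helper1.TorFilt
open Groth.Agent.Helper1.TorL Groth.Agent.Helper1.TorNat
variable {R : Type u} [CommRing R]

/-- The functor `M ↦ M ⊗ Q`. -/
noncomputable def tensCxFunctor (Q : ChainComplex (ModuleCat.{u} R) ℕ) :
    ModuleCat.{u} R ⥤ ChainComplex (ModuleCat.{u} R) ℕ where
  obj M := tensCx M Q
  map f := tensCxMap f Q
  map_id M := by
    ext i : 1
    exact id_whiskerRight M (Q.X i)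
  map_comp f g := tensCxMap_comp f g Q

noncomputable def torFlipIso (N : ModuleCat.{u} R) (p : ℕ) :
    (Tor (ModuleCat.{u} R) p).flip.obj N ≅
      tensCxFunctor (projectiveResolution N).complex ⋙
        HomologicalComplex.homologyFunctor (ModuleCat.{u} R) (ComplexShape.down ℕ) p :=
  NatIso.ofComponents (fun M => torIso M (projectiveResolution N) p)
    (fun f => tor_map_hom f (projectiveResolution N) p)

noncomputable def evalIso (Q : ChainComplex (ModuleCat.{u} R) ℕ) (i : ℕ) :
    tensorRight (Q.X i) ≅ tensCxFunctor Q ⋙ HomologicalComplex.eval _ _ i :=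
  NatIso.ofComponents (fun _ => Iso.refl _) (fun f => by
    simp only [Iso.refl_hom, Category.comp_id, Category.id_comp]
    rfl)

theorem preserves_tensCxFunctor (Q : ChainComplex (ModuleCat.{u} R) ℕ) (J : Type u)
    [SmallCategory J] : PreservesColimitsOfShape J (tensCxFunctor Q) := by
  apply HomologicalComplex.preservesColimitsOfShape_of_eval
  intro i
  exact preservesColimitsOfShape_of_natIso (evalIso Q i)

theorem main (N : ModuleCat.{u} R) (p : ℕ) (J : Type u) [SmallCategory J] [IsFiltered J] :
    PreservesColimitsOfShape J ((Tor (ModuleCat.{u} R) p).flip.obj N) := by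
  have h1 := preserves_tensCxFunctor (projectiveResolution N).complex J
  have h2 := HomFilt.preserves (A := R) (c := ComplexShape.down ℕ) J p
  exact preservesColimitsOfShape_of_natIso (torFlipIso N p).symm

end Groth.Agent.Helper1.TorFilt
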