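import Mathlib
import Groth.Agent.Lib.Helper1.TorNat
import Groth.Agent.Lib.Helper1.HomFilt
import Groth.Agent.Lib.Helper1.TorBalNat
import Groth.Agent.Lib.Helper1.TorDim

universe u
open CategoryTheory MonoidalCategory Limits

namespace Groth.Agent.Helper1.HomLoc
open Groth.Agent.Helper1.HomFilt
variable {A : Type u} [CommRing A] {ι : Type} {c : ComplexShape ι} (S : Submonoid A)
variable {C C' : HomologicalComplex (ModuleCat.{u} A) c} (ψ : C ⟶ C')

section
variable (C) (p : ι)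
theorem iCycles_smul (a : A) (z : C.cycles p) : C.iCycles p (a • z) = a • C.iCycles p z :=
  map_smul _ _ _
end

theorem homology_surj
    (hs : ∀ (i : ι) (y : C'.X i), ∃ s ∈ S, ∃ x : C.X i, ψ.f i x = s • y)
    (hk : ∀ (i : ι) (x : C.X i), ψ.f i x = 0 → ∃ s ∈ S, s • x = 0)
    (p : ι) (y : C'.homology p) :
    ∃ s ∈ S, ∃ x : C.homology p, HomologicalComplex.homologyMap ψ p x = s • y := by
  obtain ⟨z', rfl⟩ := exists_homologyπ C' p y
  obtain ⟨s, hsS, w, hw⟩ := hs p (C'.iCycles p z')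
  have hdw : ψ.f (c.next p) (C.d p (c.next p) w) = 0 := by
    rw [comm_apply, hw, map_smul, iCycles_d_apply, smul_zero]
  obtain ⟨t, htS, ht⟩ := hk _ _ hdw
  have hcyc : C.d p (c.next p) (t • w) = 0 := by rw [map_smul, ht]
  obtain ⟨z, hz⟩ := exists_cycle C p _ hcyc
  refine ⟨t * s, S.mul_mem htS hsS, C.homologyπ p z, ?_⟩
  rw [homologyπ_naturality_apply, ← map_smul]
  congr 1
  apply iCycles_injective C' p
  rw [cyclesMap_i_apply, hz, map_smul, hw, iCycles_smul, mul_smul]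

theorem homology_inj
    (hs : ∀ (i : ι) (y : C'.X i), ∃ s ∈ S, ∃ x : C.X i, ψ.f i x = s • y)
    (hk : ∀ (i : ι) (x : C.X i), ψ.f i x = 0 → ∃ s ∈ S, s • x = 0)
    (p : ι) (x : C.homology p) (hx : HomologicalComplex.homologyMap ψ p x = 0) :
    ∃ s ∈ S, s • x = 0 := by
  obtain ⟨z, rfl⟩ := exists_homologyπ C p x
  rw [homologyπ_naturality_apply] at hx
  obtain ⟨b', hb'⟩ := exists_boundary C' p _ hx
  obtain ⟨s, hsS, b, hb⟩ := hs _ b'
  have he : ψ.f p (s • C.iCycles p z - C.d (c.prev p) p b) = 0 := by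
    rw [map_sub, map_smul, ← cyclesMap_i_apply, ← hb', toCycles_i_apply, comm_apply, hb,
      map_smul, sub_self]
  obtain ⟨t, htS, ht⟩ := hk _ _ he
  refine ⟨t * s, S.mul_mem htS hsS, ?_⟩
  rw [← map_smul]
  have key : (t * s) • z = C.toCycles (c.prev p) p (t • b) := by
    apply iCycles_injective C p
    rw [iCycles_smul, toCycles_i_apply, map_smul, mul_smul]
    rw [smul_sub, sub_eq_zero] at ht
    exact ht
  rw [key, homologyπ_toCycles_apply]

end Groth.Agent.Helper1.HomLoc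

namespace Groth.Agent.Helper1.TorIsoDev
open Groth.Agent.Helper1.TorL Groth.Agent.Helper1.TorNat Groth.Agent.Helper1.HomLoc
variable {A : Type u} [CommRing A]

section LocTor
variable (S : Submonoid A) {X X' : ModuleCat.{u} A} (ι : X ⟶ X') [hι : IsLocalizedModule S ι.hom]

include hι in
theorem whisker_surj (Y : ModuleCat.{u} A) (y : (X' ⊗ Y : ModuleCat.{u} A)) :
    ∃ s ∈ S, ∃ x : (X ⊗ Y : ModuleCat.{u} A), (ι ▷ Y) x = s • y := by
  have : IsLocalizedModule S (ι.hom.rTensor Y) :=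
    IsLocalizedModule.rTensor (R := A) (A := A) S (N := Y) ι.hom
  obtain ⟨⟨x, s⟩, hx⟩ := IsLocalizedModule.surj S (ι.hom.rTensor Y) y
  exact ⟨s.1, s.2, x, hx.symm⟩

include hι in
theorem whisker_ker (Y : ModuleCat.{u} A) (x : (X ⊗ Y : ModuleCat.{u} A)) (hx : (ι ▷ Y) x = 0) :
    ∃ s ∈ S, s • x = 0 := by
  have : IsLocalizedModule S (ι.hom.rTensor Y) :=
    IsLocalizedModule.rTensor (R := A) (A := A) S (N := Y) ι.hom
  obtain ⟨c, hc⟩ := (IsLocalizedModule.eq_zero_iff S (ι.hom.rTensor Y)).mp hx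
  exact ⟨c.1, c.2, hc⟩

include hι in
theorem tor_surj (M : ModuleCat.{u} A) (i : ℕ) (z : T i X' M) :
    ∃ s ∈ S, ∃ x : T i X M, ((Tor (ModuleCat.{u} A) i).map ι).app M x = s • z := by
  let Q := projectiveResolution M
  obtain ⟨s, hs, x, hx⟩ := homology_surj S (tensCxMap ι Q.complex)
    (fun j y => whisker_surj S ι (Q.complex.X j) y)
    (fun j x hx => whisker_ker S ι (Q.complex.X j) x hx) i ((torIso X' Q i).hom z)
  refine ⟨s, hs, (torIso X Q i).inv x, ?_⟩
  have h := tor_map_hom ι Q i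
  apply (ModuleCat.mono_iff_injective (torIso X' Q i).hom).mp inferInstance
  rw [← ModuleCat.comp_apply, h, ModuleCat.comp_apply, ← ModuleCat.comp_apply (torIso X Q i).inv,
    Iso.inv_hom_id, ModuleCat.id_apply, hx, map_smul]

include hι in
theorem tor_ker (M : ModuleCat.{u} A) (i : ℕ) (x : T i X M)
    (hx : ((Tor (ModuleCat.{u} A) i).map ι).app M x = 0) : ∃ s ∈ S, s • x = 0 := by
  let Q := projectiveResolution M
  have h := tor_map_hom ι Q i
  have h1 : HomologicalComplex.homologyMap (tensCxMap ι Q.complex) i ((torIso X Q i).hom x) = 0 := by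
    rw [← ModuleCat.comp_apply, ← h, ModuleCat.comp_apply, hx, map_zero]
  obtain ⟨s, hs, hsx⟩ := homology_inj S (tensCxMap ι Q.complex)
    (fun j y => whisker_surj S ι (Q.complex.X j) y)
    (fun j x hx => whisker_ker S ι (Q.complex.X j) x hx) i _ h1
  refine ⟨s, hs, ?_⟩
  apply (ModuleCat.mono_iff_injective (torIso X Q i).hom).mp inferInstance
  rw [map_smul, hsx, map_zero]

end LocTor


section Four
variable {A₁ A₂ A₃ A₄ B₁ B₂ B₃ B₄ : Type*}
  [AddCommGroup A₁] [AddCommGroup A₂] [AddCommGroup A₃] [AddCommGroup A₄]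
  [AddCommGroup B₁] [AddCommGroup B₂] [AddCommGroup B₃] [AddCommGroup B₄]
  [Module A A₁] [Module A A₂] [Module A A₃] [Module A A₄]
  [Module A B₁] [Module A B₂] [Module A B₃] [Module A B₄]

theorem four_inj (f₁ : A₁ →ₗ[A] A₂) (f₂ : A₂ →ₗ[A] A₃) (f₃ : A₃ →ₗ[A] A₄)
    (g₁ : B₁ →ₗ[A] B₂) (g₂ : B₂ →ₗ[A] B₃) (g₃ : B₃ →ₗ[A] B₄)
    (a₁ : A₁ →ₗ[A] B₁) (a₂ : A₂ →ₗ[A] B₂) (a₃ : A₃ →ₗ[A] B₃) (a₄ : A₄ →ₗ[A] B₄)
    (c₁ : ∀ x, a₂ (f₁ x) = g₁ (a₁ x)) (c₂ : ∀ x, a₃ (f₂ x) = g₂ (a₂ x))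
    (c₃ : ∀ x, a₄ (f₃ x) = g₃ (a₃ x))
    (hf : ∀ x, f₂ (f₁ x) = 0) (exA : ∀ x, f₃ x = 0 → ∃ y, f₂ y = x)
    (exB : ∀ y, g₂ y = 0 → ∃ z, g₁ z = y)
    (h₁ : Function.Surjective a₁) (h₂ : Function.Injective a₂) (h₄ : Function.Injective a₄) :
    Function.Injective a₃ := by
  rw [injective_iff_map_eq_zero]
  intro x hx
  have h1 : f₃ x = 0 := by
    apply h₄
    rw [c₃, hx, map_zero, map_zero]
  obtain ⟨y, rfl⟩ := exA x h1
  have h2 : g₂ (a₂ y) = 0 := by rw [← c₂, hx]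
  obtain ⟨z, hz⟩ := exB _ h2
  obtain ⟨w, rfl⟩ := h₁ z
  have h3 : y = f₁ w := by
    apply h₂
    rw [c₁, hz]
  rw [h3, hf]

theorem four_surj (f₂ : A₂ →ₗ[A] A₃) (f₃ : A₃ →ₗ[A] A₄)
    (g₂ : B₂ →ₗ[A] B₃) (g₃ : B₃ →ₗ[A] B₄)
    (a₂ : A₂ →ₗ[A] B₂) (a₃ : A₃ →ₗ[A] B₃) (a₄ : A₄ →ₗ[A] B₄)
    (c₂ : ∀ x, a₃ (f₂ x) = g₂ (a₂ x)) (c₃ : ∀ x, a₄ (f₃ x) = g₃ (a₃ x))
    (hy : ∀ y : B₃, ∃ x₃ : A₃, g₃ y = a₄ (f₃ x₃))
    (exB : ∀ y, g₃ y = 0 → ∃ z, g₂ z = y)
    (h₂ : Function.Surjective a₂) : Function.Surjective a₃ := by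
  intro y
  obtain ⟨x₃, hx₃⟩ := hy y
  have h1 : g₃ (y - a₃ x₃) = 0 := by rw [map_sub, hx₃, c₃, sub_self]
  obtain ⟨z, hz⟩ := exB _ h1
  obtain ⟨w, rfl⟩ := h₂ z
  refine ⟨x₃ + f₂ w, ?_⟩
  rw [map_add, c₂, hz]
  abel

end Four


section Elem
variable (S : ShortComplex (ModuleCat.{u} A)) (hS : S.ShortExact) (Y : ModuleCat.{u} A) (n : ℕ)

theorem ex₁ (x : T n S.X₁ Y) (hx : ((Tor (ModuleCat.{u} A) n).map S.f).app Y x = 0) :
    ∃ w, torδ S hS Y n w = x :=
  (ShortComplex.moduleCat_exact_iff _).mp (tor_exact₁ S hS Y n) x hx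

include hS in
theorem ex₂ (x : T n S.X₂ Y) (hx : ((Tor (ModuleCat.{u} A) n).map S.g).app Y x = 0) :
    ∃ w, ((Tor (ModuleCat.{u} A) n).map S.f).app Y w = x :=
  (ShortComplex.moduleCat_exact_iff _).mp (tor_exact₂ S hS Y n) x hx

theorem ex₃ (x : T (n + 1) S.X₃ Y) (hx : torδ S hS Y n x = 0) :
    ∃ w, ((Tor (ModuleCat.{u} A) (n + 1)).map S.g).app Y w = x :=
  (ShortComplex.moduleCat_exact_iff _).mp (tor_exact₃ S hS Y n) x hx

theorem z₁ (w : T (n + 1) S.X₃ Y) :
    ((Tor (ModuleCat.{u} A) n).map S.f).app Y (torδ S hS Y n w) = 0 := by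
  rw [← ModuleCat.comp_apply, tor_δ_comp]; rfl

theorem z₂ (x : T n S.X₁ Y) :
    ((Tor (ModuleCat.{u} A) n).map S.g).app Y (((Tor (ModuleCat.{u} A) n).map S.f).app Y x) = 0 := by
  rw [← ModuleCat.comp_apply, tor_map_comp_zero]; rfl

theorem z₃ (x : T (n + 1) S.X₂ Y) :
    torδ S hS Y n (((Tor (ModuleCat.{u} A) (n + 1)).map S.g).app Y x) = 0 := by
  rw [← ModuleCat.comp_apply, tor_comp_δ]; rfl

include hS in
theorem surj₀ : Function.Surjective (((Tor (ModuleCat.{u} A) 0).map S.g).app Y) := by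
  have h := tor0Iso_naturality S.g Y
  have := hS.epi_g
  have hepi : Epi (S.g ▷ Y) := (ModuleCat.epi_iff_surjective _).mpr
    (LinearMap.rTensor_surjective Y ((ModuleCat.epi_iff_surjective S.g).mp inferInstance))
  have h2 : ((Tor (ModuleCat.{u} A) 0).map S.g).app Y =
      (tor0Iso S.X₂ Y).hom ≫ S.g ▷ Y ≫ (tor0Iso S.X₃ Y).inv := by
    rw [← Category.assoc, ← h, Category.assoc, Iso.hom_inv_id, Category.comp_id]
  have : Epi (((Tor (ModuleCat.{u} A) 0).map S.g).app Y) := by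
    rw [h2]; infer_instance
  exact (ModuleCat.epi_iff_surjective _).mp this

end Elem

section Ladder
variable {M N : ModuleCat.{u} A} (u : M ⟶ N)

/-- the map `Tor_i(X, u)`. -/
noncomputable abbrev α (X : ModuleCat.{u} A) (i : ℕ) : T i X M ⟶ T i X N :=
  ((Tor (ModuleCat.{u} A) i).obj X).map u

/-- `Tor_i(X, u)` is bijective for all `i`. -/
structure P (X : ModuleCat.{u} A) : Prop where
  bij : ∀ i, Function.Bijective (α u X i)

theorem nat1 {X X' : ModuleCat.{u} A} (f : X ⟶ X') (i : ℕ) (x : T i X M) :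
    α u X' i (((Tor (ModuleCat.{u} A) i).map f).app M x) =
      ((Tor (ModuleCat.{u} A) i).map f).app N (α u X i x) := by
  have h := ((Tor (ModuleCat.{u} A) i).map f).naturality u
  rw [← ModuleCat.comp_apply, ← ModuleCat.comp_apply]
  exact congrArg (fun φ => φ x) (congrArg ModuleCat.Hom.hom h).symm

theorem nat2 (S : ShortComplex (ModuleCat.{u} A)) (hS : S.ShortExact) (i : ℕ)
    (x : T (i + 1) S.X₃ M) :
    α u S.X₁ i (torδ S hS M i x) = torδ S hS N i (α u S.X₃ (i + 1) x) := by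
  have h := Groth.Agent.Helper1.TorBalNat.torδ_naturality₂ S hS u i
  rw [← ModuleCat.comp_apply, ← ModuleCat.comp_apply]
  exact congrArg (fun φ => φ x) (congrArg ModuleCat.Hom.hom h)

end Ladder


section Exact
variable {M N : ModuleCat.{u} A} (u : M ⟶ N)

theorem P_exact (S : ShortComplex (ModuleCat.{u} A)) (hS : S.ShortExact)
    (h₁ : P u S.X₁) (h₃ : P u S.X₃) : P u S.X₂ := by
  refine ⟨fun i => ?_⟩
  constructor
  · exact four_inj (torδ S hS M i).hom (((Tor (ModuleCat.{u} A) i).map S.f).app M).hom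
      (((Tor (ModuleCat.{u} A) i).map S.g).app M).hom
      (torδ S hS N i).hom (((Tor (ModuleCat.{u} A) i).map S.f).app N).hom
      (((Tor (ModuleCat.{u} A) i).map S.g).app N).hom
      (α u S.X₃ (i + 1)).hom (α u S.X₁ i).hom (α u S.X₂ i).hom (α u S.X₃ i).hom
      (fun x => nat2 u S hS i x) (fun x => nat1 u S.f i x) (fun x => nat1 u S.g i x)
      (z₁ S hS M i) (ex₂ S hS M i) (ex₁ S hS N i) (h₃.bij (i + 1)).2 (h₁.bij i).1 (h₃.bij i).1
  · refine four_surj (((Tor (ModuleCat.{u} A) i).map S.f).app M).hom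
      (((Tor (ModuleCat.{u} A) i).map S.g).app M).hom
      (((Tor (ModuleCat.{u} A) i).map S.f).app N).hom
      (((Tor (ModuleCat.{u} A) i).map S.g).app N).hom
      (α u S.X₁ i).hom (α u S.X₂ i).hom (α u S.X₃ i).hom
      (fun x => nat1 u S.f i x) (fun x => nat1 u S.g i x) ?_ (ex₂ S hS N i) (h₁.bij i).2
    intro y
    obtain ⟨x₄, hx₄⟩ := (h₃.bij i).2 (((Tor (ModuleCat.{u} A) i).map S.g).app N y)
    cases i with
    | zero =>
      obtain ⟨x₃, rfl⟩ := surj₀ S hS M x₄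
      exact ⟨x₃, hx₄.symm⟩
    | succ i =>
      have h1 : torδ S hS M i x₄ = 0 := by
        apply (h₁.bij i).1
        rw [nat2, hx₄, z₃, map_zero]
      obtain ⟨x₃, rfl⟩ := ex₃ S hS M i x₄ h1
      exact ⟨x₃, hx₄.symm⟩

end Exact


section Dev
open Groth.Agent.Helper1.TorDim
variable {M N : ModuleCat.{u} A} (u : M ⟶ N)

theorem P_of_iso {X X' : ModuleCat.{u} A} (e : X ≅ X') (h : P u X') : P u X := by
  refine ⟨fun i => ?_⟩
  have hbM : Function.Bijective (((Tor (ModuleCat.{u} A) i).map e.hom).app M) :=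
    ConcreteCategory.bijective_of_isIso (((Tor (ModuleCat.{u} A) i).mapIso e).app M).hom
  have hbN : Function.Bijective (((Tor (ModuleCat.{u} A) i).map e.hom).app N) :=
    ConcreteCategory.bijective_of_isIso (((Tor (ModuleCat.{u} A) i).mapIso e).app N).hom
  constructor
  · intro x x' hxx'
    apply hbM.1
    apply (h.bij i).1
    rw [nat1, nat1, hxx']
  · intro y
    obtain ⟨z, hz⟩ := (h.bij i).2 (((Tor (ModuleCat.{u} A) i).map e.hom).app N y)
    obtain ⟨x, rfl⟩ := hbM.2 z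
    refine ⟨x, ?_⟩
    apply hbN.1
    rw [← nat1, hz]

theorem P_subsingleton (X : ModuleCat.{u} A) [Subsingleton X] : P u X := by
  refine ⟨fun i => ?_⟩
  have hM : Subsingleton (T i X M) :=
    ModuleCat.subsingleton_of_isZero (isZero_tor_of_subsingleton X M i)
  have hN : Subsingleton (T i X N) :=
    ModuleCat.subsingleton_of_isZero (isZero_tor_of_subsingleton X N i)
  exact ⟨fun a b _ => Subsingleton.elim a b, fun y => ⟨0, Subsingleton.elim _ _⟩⟩

theorem P_of_annihilator [IsNoetherianRing A] (J : Ideal A)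
    (h : ∀ q : Ideal A, q.IsPrime → J ≤ q → P u (ModuleCat.of A (A ⧸ q))) :
    ∀ (N' : Type u) [AddCommGroup N'] [Module A N'] [Module.Finite A N'],
      J ≤ Module.annihilator A N' → P u (ModuleCat.of A N') := by
  intro N' _ _ hfin
  induction hfin using IsNoetherianRing.induction_on_isQuotientEquivQuotientPrime A with
  | subsingleton N' =>
    intro _
    exact P_subsingleton u (ModuleCat.of A N')
  | quotient N' q e =>
    intro hN
    have hq : J ≤ q.1 := by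
      intro a ha
      have h1 := (Module.mem_annihilator.mp (hN ha)) (e.symm 1)
      rw [← map_smul, LinearEquiv.map_eq_zero_iff] at h1
      have h2 : (Ideal.Quotient.mk q.1 a) = 0 := by
        rw [← h1, Algebra.smul_def, mul_one]; rfl
      exact Ideal.Quotient.eq_zero_iff_mem.mp h2
    exact P_of_iso u e.toModuleIso (h q.1 q.2 hq)
  | exact N₁ N₂ N₃ f g hf hg hfg h₁ h₃ =>
    intro hN
    have hN₁ : J ≤ Module.annihilator A N₁ := by
      intro a ha
      rw [Module.mem_annihilator]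
      intro x
      apply hf
      rw [map_smul, map_zero]
      exact (Module.mem_annihilator.mp (hN ha)) (f x)
    have hN₃ : J ≤ Module.annihilator A N₃ := by
      intro a ha
      rw [Module.mem_annihilator]
      intro y
      obtain ⟨x, rfl⟩ := hg y
      rw [← map_smul, (Module.mem_annihilator.mp (hN ha)) x, map_zero]
    have hS : (ModuleCat.shortComplexOfCompEqZero f g hfg.linearMap_comp_eq_zero).ShortExact :=
      ModuleCat.shortComplex_shortExact _ hfg hf hg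
    exact P_exact u _ hS (h₁ hN₁) (h₃ hN₃)

end Dev


section Prime
open Groth.Agent.Helper1.TorDim
variable {M N : ModuleCat.{u} A} (u : M ⟶ N)

section Chase
variable (p : Ideal A) [p.IsPrime] (s : A) (hs : s ∉ p)
  (hG : P u (ModuleCat.of A (A ⧸ (p ⊔ Ideal.span {s}))))

include hs in
theorem regular_of_notMem : IsSMulRegular (A ⧸ p) s := by
  intro x y hxy
  have hxy' : Ideal.Quotient.mk p s * x = Ideal.Quotient.mk p s * y := by
    simpa [Algebra.smul_def] using hxy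
  have hne : Ideal.Quotient.mk p s ≠ 0 := fun h => hs (Ideal.Quotient.eq_zero_iff_mem.mp h)
  exact mul_left_cancel₀ hne hxy'

omit [p.IsPrime] in
theorem map_f_apply (Y : ModuleCat.{u} A) (i : ℕ) (x : T i (ModuleCat.of A (A ⧸ p)) Y) :
    ((Tor (ModuleCat.{u} A) i).map (quotSC p (p ⊔ Ideal.span {s}) s rfl).f).app Y x = s • x := by
  rw [quotSC_f_eq, tor_map_smul_id]
  rfl

include hs hG in
/-- `s` acts injectively on the cokernel of `α`. -/
theorem mem_range_of_smul (i : ℕ) (y : T i (ModuleCat.of A (A ⧸ p)) N)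
    (x : T i (ModuleCat.of A (A ⧸ p)) M) (hx : α u _ i x = s • y) :
    ∃ x', α u (ModuleCat.of A (A ⧸ p)) i x' = y := by
  let S := quotSC p (p ⊔ Ideal.span {s}) s rfl
  have hS : S.ShortExact := quotSC_shortExact p _ s rfl (regular_of_notMem p s hs)
  -- π x = 0
  have h1 : ((Tor (ModuleCat.{u} A) i).map S.g).app M x = 0 := by
    apply (hG.bij i).1
    rw [map_zero]
    have := nat1 u S.g i x
    rw [this, hx, ← map_f_apply p s N i y]
    exact z₂ S N i y
  obtain ⟨x₁, hx₁⟩ := ex₂ S hS M i x h1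
  rw [map_f_apply] at hx₁
  -- s • (y - α x₁) = 0
  have h2 : ((Tor (ModuleCat.{u} A) i).map S.f).app N (y - α u _ i x₁) = 0 := by
    rw [map_f_apply, smul_sub, ← hx, ← map_smul, hx₁, sub_self]
  obtain ⟨g', hg'⟩ := ex₁ S hS N i _ h2
  obtain ⟨g, rfl⟩ := (hG.bij (i + 1)).2 g'
  refine ⟨x₁ + torδ S hS M i g, ?_⟩
  have e : α u (ModuleCat.of A (A ⧸ p)) i (torδ S hS M i g) =
      torδ S hS N i (α u _ (i + 1) g) := nat2 u S hS i g
  rw [map_add, e, hg']
  abel

include hs hG in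
/-- `s` acts injectively on the kernel of `α_j` when `α_{j+1}` is surjective. -/
theorem eq_zero_of_smul (j : ℕ) (x : T j (ModuleCat.of A (A ⧸ p)) M)
    (hx : α u _ j x = 0) (hsx : s • x = 0)
    (hsurj : Function.Surjective (α u (ModuleCat.of A (A ⧸ p)) (j + 1))) : x = 0 := by
  let S := quotSC p (p ⊔ Ideal.span {s}) s rfl
  have hS : S.ShortExact := quotSC_shortExact p _ s rfl (regular_of_notMem p s hs)
  have h1 : ((Tor (ModuleCat.{u} A) j).map S.f).app M x = 0 := by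
    rw [map_f_apply, hsx]
  obtain ⟨g, rfl⟩ := ex₁ S hS M j x h1
  have h2 : torδ S hS N j (α u _ (j + 1) g) = 0 := by
    have e : α u (ModuleCat.of A (A ⧸ p)) j (torδ S hS M j g) =
      torδ S hS N j (α u _ (j + 1) g) := nat2 u S hS j g
    rw [← e, hx]
  obtain ⟨y, hy⟩ := ex₃ S hS N j _ h2
  obtain ⟨x₂, rfl⟩ := hsurj y
  have h3 : g = ((Tor (ModuleCat.{u} A) (j + 1)).map S.g).app M x₂ := by
    apply (hG.bij (j + 1)).1
    rw [← hy, nat1]
  rw [h3, z₃]

end Chase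

end Prime


section PrimeInd
open Groth.Agent.Helper1.TorDim
variable {M N : ModuleCat.{u} A} (u : M ⟶ N)

/-- the canonical map `A/p → κ(p)`. -/
noncomputable def resMap (p : Ideal A) [p.IsPrime] :
    ModuleCat.of A (A ⧸ p) ⟶ ModuleCat.of A p.ResidueField :=
  ModuleCat.ofHom (IsScalarTower.toAlgHom A (A ⧸ p) p.ResidueField).toLinearMap

instance resMap_isLocalized (p : Ideal A) [p.IsPrime] :
    IsLocalizedModule p.primeCompl (resMap p).hom := by
  have h1 : IsLocalization (Algebra.algebraMapSubmonoid (A ⧸ p) p.primeCompl) p.ResidueField := by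
    rw [algebraMapSubmonoid_primeCompl]
    infer_instance
  exact isLocalizedModule_iff_isLocalization.mpr h1

theorem P_prime_step [IsNoetherianRing A]
    (h : ∀ (x : Ideal A) [x.IsPrime], P u (ModuleCat.of A x.ResidueField))
    (p : Ideal A) [p.IsPrime]
    (ih : ∀ q : Ideal A, p < q → q.IsPrime → P u (ModuleCat.of A (A ⧸ q))) :
    P u (ModuleCat.of A (A ⧸ p)) := by
  have hG : ∀ s : A, s ∉ p → P u (ModuleCat.of A (A ⧸ (p ⊔ Ideal.span {s}))) := by
    intro s hs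
    have hlt : p < p ⊔ Ideal.span {s} := by
      refine lt_of_le_of_ne le_sup_left ?_
      intro heq
      apply hs
      rw [heq]
      exact Ideal.mem_sup_right (Ideal.mem_span_singleton_self s)
    refine P_of_annihilator u (p ⊔ Ideal.span {s}) ?_ (A ⧸ (p ⊔ Ideal.span {s})) ?_
    · intro q hq hle
      exact ih q (lt_of_lt_of_le hlt hle) hq
    · intro a ha
      rw [Module.mem_annihilator]
      intro y
      obtain ⟨b, rfl⟩ := Ideal.Quotient.mk_surjective y
      rw [Algebra.smul_def]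
      show Ideal.Quotient.mk _ a * Ideal.Quotient.mk _ b = 0
      rw [Ideal.Quotient.eq_zero_iff_mem.mpr ha, zero_mul]
  have hβ := h p
  have hsurj : ∀ i, Function.Surjective (α u (ModuleCat.of A (A ⧸ p)) i) := by
    intro i y
    obtain ⟨z, hz⟩ := (hβ.bij i).2 (((Tor (ModuleCat.{u} A) i).map (resMap p)).app N y)
    obtain ⟨s, hs, x', hx'⟩ := tor_surj p.primeCompl (resMap p) M i z
    have h0 : ((Tor (ModuleCat.{u} A) i).map (resMap p)).app N (s • y - α u _ i x') = 0 := by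
      rw [map_sub, map_smul, ← hz, ← nat1, hx', map_smul, sub_self]
    obtain ⟨t, ht, htx⟩ := tor_ker p.primeCompl (resMap p) N i _ h0
    have h1 : α u _ i (t • x') = (t * s) • y := by
      rw [map_smul, mul_smul]
      rw [smul_sub, sub_eq_zero] at htx
      exact htx.symm
    have hts : t * s ∉ p := p.primeCompl.mul_mem ht hs
    exact mem_range_of_smul u p (t * s) hts (hG _ hts) i y _ h1
  refine ⟨fun i => ⟨?_, hsurj i⟩⟩
  rw [injective_iff_map_eq_zero]
  intro x hx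
  have h0 : ((Tor (ModuleCat.{u} A) i).map (resMap p)).app M x = 0 := by
    apply (hβ.bij i).1
    rw [nat1, hx, map_zero, map_zero]
  obtain ⟨s, hs, hsx⟩ := tor_ker p.primeCompl (resMap p) M i x h0
  exact eq_zero_of_smul u p s hs (hG s hs) i x hx hsx (hsurj (i + 1))

theorem P_prime [IsNoetherianRing A]
    (h : ∀ (x : Ideal A) [x.IsPrime], P u (ModuleCat.of A x.ResidueField)) :
    ∀ p : Ideal A, p.IsPrime → P u (ModuleCat.of A (A ⧸ p)) := by
  intro p
  induction p using IsNoetherian.induction with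
  | hgt p ih =>
    intro hp
    exact P_prime_step u h p (fun q hlt hq => ih q hlt hq)

theorem main [IsNoetherianRing A]
    (h : ∀ (x : Ideal A) [x.IsPrime] (i : ℕ),
      IsIso (((Tor (ModuleCat.{u} A) i).obj (ModuleCat.of A x.ResidueField)).map u)) :
    IsIso u := by
  have hκ : ∀ (x : Ideal A) [x.IsPrime], P u (ModuleCat.of A x.ResidueField) :=
    fun x _ => ⟨fun i => by
      have := h x i
      exact ConcreteCategory.bijective_of_isIso _⟩
  have hA : P u (𝟙_ (ModuleCat.{u} A)) :=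
    P_of_annihilator u ⊥ (fun q hq _ => P_prime u hκ q hq) A bot_le
  have h0 : IsIso (α u (𝟙_ (ModuleCat.{u} A)) 0) :=
    (ConcreteCategory.isIso_iff_bijective _).mpr (hA.bij 0)
  have e1 := Groth.Agent.Helper1.TorBalNat.tor0Iso_naturality₂ (𝟙_ (ModuleCat.{u} A)) u
  have e2 := leftUnitor_naturality u
  have e3 : 𝟙_ (ModuleCat.{u} A) ◁ u = (tor0Iso (𝟙_ (ModuleCat.{u} A)) M).inv ≫
      α u (𝟙_ (ModuleCat.{u} A)) 0 ≫ (tor0Iso (𝟙_ (ModuleCat.{u} A)) N).hom := by
    rw [e1, Iso.inv_hom_id_assoc]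
  have e : u = (λ_ M).inv ≫ (𝟙_ (ModuleCat.{u} A) ◁ u) ≫ (λ_ N).hom := by
    rw [e2, Iso.inv_hom_id_assoc]
  rw [e, e3]
  infer_instance

end PrimeInd

end Groth.Agent.Helper1.TorIsoDev
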