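import Mathlib
import Groth.Agent.Lib.Helper1.PtInv2
import Groth.Agent.Lib.Helper1.AmpleLib2

/-!
# A torsion invertible module with a nonzero section is trivial when `Γ(X, O)` is a field (helper1)
-/

set_option autoImplicit false
universe u
open CategoryTheory CategoryTheory.Limits AlgebraicGeometry TopologicalSpace Opposite

namespace Groth.Agent.Helper1.TorsSec

open Groth.Agent.Helper1.QcCech Groth.Agent.Helper1.SubSh Groth.Agent.Helper1.LGen
open Groth.Agent.Helper1.TmulLib Groth.Agent.Helper1 Groth.Agent.Helper1.TwForm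
open Groth.Agent.Helper1.TensGen Groth.Agent.Helper1.Curve Groth.Agent.Helper1.CurveLin
open Groth.Agent.Helper1.PtInv Groth.Agent.Helper1.TwistSec Groth.Agent.Helper1.AmpleLib
open Groth.Agent.Helper1.PullGen

variable {X : Scheme.{u}} [IsIntegral X]

theorem nonempty_iso_of_tensorPow_trivial (hfield : IsField (Γ(X, ⊤) : Type u)) (L : X.Modules)
    (hL : PicF.IsInvertible L) (s : Coh.structureModule X ⟶ L) (hs : s ≠ 0) (d : ℕ) (hd : 0 < d)
    (e : CohB1.tensorPow L d ≅ Coh.structureModule X) :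
    Nonempty (L ≅ Coh.structureModule X) := by
  have hσ0 : secVal s ⊤ ≠ 0 := by
    intro h0
    apply hs
    apply Scheme.Modules.hom_ext
    intro V
    ext r
    have h1 := app_eq_smul s V r
    have h2 : secVal s V = 0 := by
      rw [← res_secVal s (le_top : V ≤ ⊤), h0]
      exact map_zero _
    rw [h2, smul_zero] at h1
    exact h1
  have hgen : ∀ x : X, GenAt L (secVal s ⊤) x := by
    intro x
    obtain ⟨W, a, hxW, ha⟩ := exists_isGen hL x
    haveI : Nonempty W := ⟨⟨x, hxW⟩⟩
    obtain ⟨r, hr⟩ := ha.exists_coeff (res L (le_top : W ≤ ⊤) (secVal s ⊤))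
    have hηW : genericPoint X ∈ W := genericPoint_mem_of_nonempty W x hxW
    have hr0 : r ≠ 0 := by
      rintro rfl
      rw [zero_smul] at hr
      exact hσ0 (eq_zero_of_res_eq_zero hL (le_top : W ≤ ⊤) hηW _ hr.symm)
    have hb : IsGen (Coh.structureModule X) W (e.hom.app W (gpow a d)) :=
      isGen_of_iso_app e (isGen_gpow ha d)
    obtain ⟨t, ht⟩ := hb.exists_coeff (one' W)
    have hbu : IsUnit (show Γ(X, W) from e.hom.app W (gpow a d)) :=
      isUnit_iff_exists_inv'.2 ⟨t, ht⟩
    have hc : resR (le_top : W ≤ ⊤) (show Γ(X, ⊤) from e.hom.app ⊤ (gpow (secVal s ⊤) d)) =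
        r ^ d * (show Γ(X, W) from e.hom.app W (gpow a d)) := by
      have h1 : res (Coh.structureModule X) (le_top : W ≤ ⊤)
          (e.hom.app ⊤ (gpow (secVal s ⊤) d)) =
          e.hom.app W (res _ le_top (gpow (secVal s ⊤) d)) := (QcExt.app_res e.hom _ _).symm
      rw [res_gpow, ← hr, gpow_smul, Scheme.Modules.Hom.app_smul] at h1
      exact h1
    have hcne : (show Γ(X, ⊤) from e.hom.app ⊤ (gpow (secVal s ⊤) d)) ≠ 0 := by
      intro h0
      rw [h0, map_zero] at hc
      rcases mul_eq_zero.1 hc.symm with h | h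
      · exact hr0 ((pow_eq_zero_iff hd.ne').1 h)
      · exact hbu.ne_zero h
    have hcu : IsUnit (show Γ(X, ⊤) from e.hom.app ⊤ (gpow (secVal s ⊤) d)) :=
      isUnit_iff_exists_inv.2 (hfield.mul_inv_cancel hcne)
    have hrdu : IsUnit (r ^ d * (show Γ(X, W) from e.hom.app W (gpow a d))) := by
      rw [← hc]
      exact hcu.map (resR _)
    have hru : IsUnit r := (isUnit_pow_iff hd.ne').1 (isUnit_of_mul_isUnit_left hrdu)
    refine ⟨W, hxW, ?_⟩
    rw [← hr]
    exact TwForm.IsGen.smul_unit ha hru.unit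
  haveI := isIso_homOfSec_of_forall_genAt (secVal s ⊤) hgen
  exact ⟨(asIso (TwistAmple.homOfSec L (secVal s ⊤))).symm⟩

end Groth.Agent.Helper1.TorsSec
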