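import Mathlib

universe u

namespace Groth.Agent.Helper1.TotFrac

open scoped Classical in
theorem result {R : Type u} [CommRing R] {ι : Type} [Fintype ι] (q : ι → Ideal R)
    [∀ i, (q i).IsPrime] (hinj : Function.Injective q)
    (hmin : ∀ P : Ideal R, P ∈ minimalPrimes R ↔ P ∈ Set.range q)
    (hzd : ∀ x : R, x ∈ nonZeroDivisors R ↔ ∀ i, x ∉ q i) :
    IsLocalization (nonZeroDivisors R) (∀ i, Localization.AtPrime (q i)) := by
  have hqmin : ∀ i, q i ∈ minimalPrimes R := fun i => (hmin _).mpr ⟨i, rfl⟩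
  have hincomp : ∀ i j, i ≠ j → ¬ q j ≤ q i := by
    intro i j hij hle
    have h1 : q i ≤ q j := (hqmin i).2 ⟨inferInstance, bot_le⟩ hle
    exact hij (hinj (le_antisymm h1 hle))
  -- step 3: elements `e i`
  have he : ∀ i, ∃ e : R, e ∉ q i ∧ ∀ j, j ≠ i → e ∈ q j := by
    intro i
    have hx : ∀ j, ∃ x : R, j ≠ i → (x ∈ q j ∧ x ∉ q i) := by
      intro j
      by_cases hji : j = i
      · exact ⟨0, fun h => absurd hji h⟩
      · obtain ⟨x, hxj, hxi⟩ := SetLike.not_le_iff_exists.mp (hincomp i j (Ne.symm hji))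
        exact ⟨x, fun _ => ⟨hxj, hxi⟩⟩
    choose x hx using hx
    refine ⟨∏ j ∈ Finset.univ.erase i, x j, ?_, ?_⟩
    · intro hmem
      obtain ⟨j, hj, hxj⟩ := Ideal.IsPrime.prod_mem_iff.mp hmem
      exact (hx j (Finset.ne_of_mem_erase hj)).2 hxj
    · intro j hji
      exact Ideal.mem_of_dvd _ (Finset.dvd_prod_of_mem x (Finset.mem_erase.mpr ⟨hji, Finset.mem_univ j⟩))
        (hx j hji).1
  -- step 4: elements `E i`
  have hE : ∀ i, ∃ E : R, E ∉ q i ∧
      ∀ j, j ≠ i → algebraMap R (Localization.AtPrime (q j)) E = 0 := by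
    intro i
    obtain ⟨e, hei, hej⟩ := he i
    have hn : ∀ j, ∃ n : ℕ, j ≠ i → (algebraMap R (Localization.AtPrime (q j)) e) ^ n = 0 := by
      intro j
      by_cases hji : j = i
      · exact ⟨0, fun h => absurd hji h⟩
      · have h1 := IsLocalization.AtPrime.radical_map_of_mem_minimalPrimes
          (A := Localization.AtPrime (q j)) (q j) ⊥ (hqmin j)
        have h2 : algebraMap R (Localization.AtPrime (q j)) e ∈
            ((⊥ : Ideal R).map (algebraMap R (Localization.AtPrime (q j)))).radical := by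
          rw [h1]; exact Ideal.mem_map_of_mem _ (hej j hji)
        obtain ⟨n, hn⟩ := h2
        rw [Ideal.map_bot, Ideal.mem_bot] at hn
        exact ⟨n, fun _ => hn⟩
    choose n hn using hn
    refine ⟨e ^ (∑ j, n j), fun h => hei (Ideal.IsPrime.mem_of_pow_mem inferInstance _ h), ?_⟩
    intro j hji
    rw [map_pow]
    exact pow_eq_zero_of_le (Finset.single_le_sum (fun _ _ => Nat.zero_le _) (Finset.mem_univ j))
      (hn j hji)
  choose E hEi hEj using hE
  -- key computation
  have key : ∀ (c : ι → R) (i : ι), algebraMap R (Localization.AtPrime (q i)) (∑ j, c j * E j) =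
      algebraMap R (Localization.AtPrime (q i)) (c i) *
        algebraMap R (Localization.AtPrime (q i)) (E i) := by
    intro c i
    rw [map_sum, Finset.sum_eq_single i]
    · rw [map_mul]
    · intro j _ hji
      rw [map_mul, hEj j i (Ne.symm hji), mul_zero]
    · intro h; exact absurd (Finset.mem_univ i) h
  have hunit : ∀ i, IsUnit (algebraMap R (Localization.AtPrime (q i)) (E i)) := fun i =>
    (IsLocalization.AtPrime.isUnit_to_map_iff _ (q i) _).mpr (hEi i)
  have hmemS : ∀ c : ι → R, (∀ i, c i ∉ q i) → ∑ j, c j * E j ∈ nonZeroDivisors R := by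
    intro c hc
    rw [hzd]
    intro i
    have : IsUnit (algebraMap R (Localization.AtPrime (q i)) (∑ j, c j * E j)) := by
      rw [key]
      exact ((IsLocalization.AtPrime.isUnit_to_map_iff _ (q i) _).mpr (hc i)).mul (hunit i)
    exact (IsLocalization.AtPrime.isUnit_to_map_iff _ (q i) _).mp this
  rw [isLocalization_iff]
  refine ⟨?_, ?_, ?_⟩
  · intro s
    rw [Pi.isUnit_iff]
    intro i
    exact (IsLocalization.AtPrime.isUnit_to_map_iff _ (q i) _).mpr ((hzd _).mp s.2 i)
  · intro z
    have hz : ∀ i, ∃ x : R × (q i).primeCompl,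
        z i * algebraMap R (Localization.AtPrime (q i)) x.2 =
          algebraMap R (Localization.AtPrime (q i)) x.1 := fun i =>
      IsLocalization.surj (q i).primeCompl (z i)
    choose x hx using hz
    refine ⟨⟨∑ j, (x j).1 * E j, ⟨∑ j, ((x j).2 : R) * E j, hmemS _ (fun i => (x i).2.2)⟩⟩, ?_⟩
    funext i
    simp only [Pi.mul_apply, Pi.algebraMap_apply]
    rw [key (fun j => ((x j).2 : R)) i, key (fun j => (x j).1) i, ← mul_assoc, hx i]
  · intro x y hxy
    have hc : ∀ i, ∃ c : (q i).primeCompl, (c : R) * x = c * y := fun i =>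
      IsLocalization.exists_of_eq (S := Localization.AtPrime (q i)) (congrFun hxy i)
    choose c hc using hc
    refine ⟨⟨∑ j, (c j : R) * E j, hmemS _ (fun i => (c i).2)⟩, ?_⟩
    simp only [Finset.sum_mul]
    refine Finset.sum_congr rfl fun j _ => ?_
    rw [mul_right_comm, hc j, mul_right_comm]

end Groth.Agent.Helper1.TotFrac
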