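import Mathlib
import Groth.Agent.Lib.Helper1.VBQ3

set_option autoImplicit false
universe u
open CategoryTheory CategoryTheory.Limits AlgebraicGeometry TopologicalSpace Opposite

namespace Groth.Agent.Helper1.TrEx

open Groth.Agent.Helper1.QcCech Groth.Agent.Helper1.SubSh Groth.Agent.Helper1.LGen
open Groth.Agent.Helper1 Groth.Agent.Helper1.PFrame

section Alg

variable {R R' S S' : Type*} [CommRing R] [CommRing R'] [CommRing S] [CommRing S']
  [Algebra R S] [Algebra R' S']

/-- the trace commutes with a semilinear ring map carrying a basis to a basis -/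
theorem trace_map_of_bases {n : ℕ} (ρ : R →+* R') (ρS : S →+* S')
    (hρ : ∀ r : R, ρS (algebraMap R S r) = algebraMap R' S' (ρ r))
    (B : Module.Basis (Fin n) R S) (B' : Module.Basis (Fin n) R' S')
    (hB : ∀ i, ρS (B i) = B' i) (a : S) :
    ρ (Algebra.trace R S a) = Algebra.trace R' S' (ρS a) := by
  have hsm : ∀ (r : R) (s : S), ρS (r • s) = ρ r • ρS s := by
    intro r s
    rw [Algebra.smul_def, Algebra.smul_def, map_mul, hρ]
  have hrepr : ∀ (s : S) (i : Fin n), ρ (B.repr s i) = B'.repr (ρS s) i := by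
    intro s i
    have h1 : ρS s = ∑ k, ρ (B.repr s k) • B' k := by
      conv_lhs => rw [← B.sum_repr s]
      rw [map_sum]
      exact Finset.sum_congr rfl fun k _ => by rw [hsm, hB]
    rw [h1, map_sum]
    simp only [map_smul, Module.Basis.repr_self, Finsupp.smul_single, smul_eq_mul, mul_one]
    rw [Finsupp.finset_sum_apply]
    simp [Finsupp.single_apply]
  rw [Algebra.trace_eq_matrix_trace B, Algebra.trace_eq_matrix_trace B', Matrix.trace,
    Matrix.trace, map_sum]
  refine Finset.sum_congr rfl fun i _ => ?_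
  simp only [Matrix.diag_apply]
  rw [Algebra.leftMulMatrix_eq_repr_mul, Algebra.leftMulMatrix_eq_repr_mul, hrepr, map_mul, hB]

/-- a basis from a bijective linear combination map -/
noncomputable def basisOfBij {n : ℕ} (b : Fin n → S)
    (hbij : Function.Bijective (fun r : Fin n → R => ∑ i, r i • b i)) :
    Module.Basis (Fin n) R S :=
  Module.Basis.ofEquivFun (LinearEquiv.ofBijective (Fintype.linearCombination R b)
    (by
      have : (Fintype.linearCombination R b : (Fin n → R) → S) =
          (fun r : Fin n → R => ∑ i, r i • b i) := by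
        funext r
        exact Fintype.linearCombination_apply R b r
      rw [this]
      exact hbij)).symm

theorem basisOfBij_apply {n : ℕ} (b : Fin n → S)
    (hbij : Function.Bijective (fun r : Fin n → R => ∑ i, r i • b i)) (i : Fin n) :
    basisOfBij b hbij i = b i := by
  classical
  unfold basisOfBij
  rw [Module.Basis.coe_ofEquivFun]
  simp [Fintype.linearCombination_apply, Pi.single_apply]

end Alg

section Sheaf

variable {X : Scheme.{u}} (A : RelSpec.QCAlg X)

/-- good opens: some finite family of sections is a basis over every smaller open -/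
def Good (V : X.Opens) : Prop :=
  ∃ (n : ℕ) (b : Fin n → Γ(A.toModule, V)), IsBasisOn A.toModule V b

variable {A} in
theorem Good.le {V V' : X.Opens} (h : Good A V) (hle : V' ≤ V) : Good A V' := by
  obtain ⟨n, b, hb⟩ := h
  exact ⟨n, _, hb.res hle⟩

theorem exists_good (hA : FlatMod.IsFinLocFree A.toModule) (x : X) :
    ∃ V : X.Opens, Good A V ∧ x ∈ V := by
  obtain ⟨U, n, hxU, ⟨e⟩⟩ := hA x
  obtain ⟨b, hb⟩ := exists_isFrame_of_iso A.toModule U e
  exact ⟨U, ⟨n, b, hb.isBasisOn⟩, hxU⟩

/-- the trace of a section over an open -/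
noncomputable def trV (V : X.Opens) (a : A.presheaf.obj (op V)) : Γ(X, V) :=
  letI : Algebra Γ(X, V) (A.presheaf.obj (op V)) := (A.str.app (op V)).hom.toAlgebra
  Algebra.trace Γ(X, V) (A.presheaf.obj (op V)) a

/-- restriction of sections of the algebra -/
noncomputable def rA {U V : X.Opens} (h : V ≤ U) : A.presheaf.obj (op U) →+* A.presheaf.obj (op V) :=
  (A.presheaf.map (homOfLE h).op).hom

theorem rA_rA {U V W : X.Opens} (h : V ≤ U) (h' : W ≤ V) (a : A.presheaf.obj (op U)) :
    rA A h' (rA A h a) = rA A (h'.trans h) a := by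
  change ((A.presheaf.map (homOfLE h).op) ≫ (A.presheaf.map (homOfLE h').op)).hom a = _
  rw [← Functor.map_comp]
  rfl

theorem rA_str {U V : X.Opens} (h : V ≤ U) (s : Γ(X, U)) :
    rA A h ((A.str.app (op U)).hom s) = (A.str.app (op V)).hom (resR h s) := by
  have := congrArg (fun f => f.hom s) (A.str.naturality (homOfLE h).op)
  exact this.symm

theorem trV_res {V V' : X.Opens} (h : V' ≤ V) (hV : Good A V) (a : A.presheaf.obj (op V)) :
    resR h (trV A V a) = trV A V' (rA A h a) := by
  obtain ⟨n, b, hb⟩ := hV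
  letI i1 : Algebra Γ(X, V) (A.presheaf.obj (op V)) := (A.str.app (op V)).hom.toAlgebra
  letI i2 : Algebra Γ(X, V') (A.presheaf.obj (op V')) := (A.str.app (op V')).hom.toAlgebra
  let b1 : Fin n → A.presheaf.obj (op V) := fun i => b i
  let b2 : Fin n → A.presheaf.obj (op V') := fun i => rA A h (b i)
  have hb1 : Function.Bijective (fun r : Fin n → Γ(X, V) => ∑ i, r i • b1 i) := hb.bijective_self
  have hb2 : Function.Bijective (fun r : Fin n → Γ(X, V') => ∑ i, r i • b2 i) :=
    (hb.res h).bijective_self
  exact trace_map_of_bases (resR h) (rA A h) (fun r => rA_str A h r)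
    (basisOfBij b1 hb1) (basisOfBij b2 hb2)
    (fun i => by rw [basisOfBij_apply, basisOfBij_apply]) a

theorem trV_add (V : X.Opens) (a a' : A.presheaf.obj (op V)) :
    trV A V (a + a') = trV A V a + trV A V a' := by
  letI : Algebra Γ(X, V) (A.presheaf.obj (op V)) := (A.str.app (op V)).hom.toAlgebra
  exact map_add (Algebra.trace Γ(X, V) (A.presheaf.obj (op V))) a a'

theorem trV_smul (V : X.Opens) (r : Γ(X, V)) (a : A.presheaf.obj (op V)) :
    trV A V ((A.str.app (op V)).hom r * a) = r * trV A V a := by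
  letI : Algebra Γ(X, V) (A.presheaf.obj (op V)) := (A.str.app (op V)).hom.toAlgebra
  have h := (Algebra.trace Γ(X, V) (A.presheaf.obj (op V))).map_smul r a
  rw [Algebra.smul_def] at h
  exact h

variable (hA : FlatMod.IsFinLocFree A.toModule)

include hA in
theorem exists_glue (U : X.Opens) (a : A.presheaf.obj (op U)) :
    ∃ s : Γ(X, U), ∀ (V : X.Opens) (_ : Good A V) (h : V ≤ U),
      resR h s = trV A V (rA A h a) := by
  obtain ⟨s, hs⟩ := TwistSec.glue_of_compatible (Coh.structureModule X)
    (ι := {V : X.Opens // Good A V ∧ V ≤ U}) (fun i => i.1) U (fun i => i.2.2)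
    (by
      intro x hx
      obtain ⟨V, hV, hxV⟩ := exists_good A hA x
      exact Opens.mem_iSup.2 ⟨⟨V ⊓ U, hV.le inf_le_left, inf_le_right⟩, ⟨hxV, hx⟩⟩)
    (fun i => trV A i.1 (rA A i.2.2 a))
    (by
      intro i j
      change resR _ (trV A i.1 _) = resR _ (trV A j.1 _)
      rw [trV_res A _ i.2.1, trV_res A _ j.2.1, rA_rA, rA_rA])
  exact ⟨s, fun V hV h => hs ⟨V, hV, h⟩⟩

/-- the glued trace on sections -/
noncomputable def τU (U : X.Opens) (a : A.presheaf.obj (op U)) : Γ(X, U) :=
  (exists_glue A hA U a).choose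

theorem τU_spec (U : X.Opens) (a : A.presheaf.obj (op U)) (V : X.Opens) (hV : Good A V)
    (h : V ≤ U) : resR h (τU A hA U a) = trV A V (rA A h a) :=
  (exists_glue A hA U a).choose_spec V hV h

include hA in
theorem eq_of_good (U : X.Opens) (s t : Γ(X, U))
    (h : ∀ (V : X.Opens) (_ : Good A V) (h : V ≤ U), resR h s = resR h t) : s = t := by
  apply TwistSec.eq_of_locally (Coh.structureModule X)
  intro x hx
  obtain ⟨V, hV, hxV⟩ := exists_good A hA x
  exact ⟨V ⊓ U, inf_le_right, ⟨hxV, hx⟩, h (V ⊓ U) (hV.le inf_le_left) inf_le_right⟩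

theorem τU_unique (U : X.Opens) (a : A.presheaf.obj (op U)) (s : Γ(X, U))
    (hs : ∀ (V : X.Opens) (_ : Good A V) (h : V ≤ U), resR h s = trV A V (rA A h a)) :
    s = τU A hA U a :=
  eq_of_good A hA U _ _ fun V hV h => (hs V hV h).trans (τU_spec A hA U a V hV h).symm

theorem τU_add (U : X.Opens) (a a' : A.presheaf.obj (op U)) :
    τU A hA U (a + a') = τU A hA U a + τU A hA U a' := by
  symm
  apply τU_unique
  intro V hV h
  rw [map_add, τU_spec A hA U a V hV h, τU_spec A hA U a' V hV h, map_add, trV_add]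

theorem τU_smul (U : X.Opens) (r : Γ(X, U)) (a : A.presheaf.obj (op U)) :
    τU A hA U ((A.str.app (op U)).hom r * a) = r * τU A hA U a := by
  symm
  apply τU_unique
  intro V hV h
  rw [map_mul, τU_spec A hA U a V hV h, map_mul, rA_str, trV_smul]

theorem τU_res {U U' : X.Opens} (h : U' ≤ U) (a : A.presheaf.obj (op U)) :
    resR h (τU A hA U a) = τU A hA U' (rA A h a) := by
  apply τU_unique
  intro V hV h'
  rw [resR_resR, τU_spec A hA U a V hV (h'.trans h), rA_rA]

/-- the trace morphism -/
noncomputable def traceHom : A.toModule ⟶ Coh.structureModule X :=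
  ⟨letI := A.moduleSect
   PresheafOfModules.homMk
    { app := fun U => AddCommGrpCat.ofHom
        (AddMonoidHom.mk' (τU A hA U.unop) (τU_add A hA U.unop))
      naturality := fun U V i => by
        ext a
        exact (τU_res A hA i.unop.le a).symm }
    (fun U r s => τU_smul A hA U.unop r s)⟩

theorem traceHom_app (U : X.Opens) (a : A.presheaf.obj (op U)) :
    ((traceHom A hA).val.app (op U)).hom a = τU A hA U a := rfl

omit hA in
/-- on a free affine open the trace commutes with restriction to basic opens -/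
theorem trV_res_basicOpen {U : X.Opens} (hU : IsAffineOpen U) (f : Γ(X, U))
    (hfree : letI : Algebra Γ(X, U) (A.presheaf.obj (op U)) := (A.str.app (op U)).hom.toAlgebra
      Module.Free Γ(X, U) (A.presheaf.obj (op U)))
    (hfin : letI : Algebra Γ(X, U) (A.presheaf.obj (op U)) := (A.str.app (op U)).hom.toAlgebra
      Module.Finite Γ(X, U) (A.presheaf.obj (op U)))
    (a : A.presheaf.obj (op U)) :
    resR (X.basicOpen_le f) (trV A U a) =
      trV A (X.basicOpen f) (rA A (X.basicOpen_le f) a) := by
  letI i1 : Algebra Γ(X, U) (A.presheaf.obj (op U)) := (A.str.app (op U)).hom.toAlgebra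
  letI i2 : Algebra Γ(X, X.basicOpen f) (A.presheaf.obj (op (X.basicOpen f))) :=
    (A.str.app (op (X.basicOpen f))).hom.toAlgebra
  letI i4 : Algebra (A.presheaf.obj (op U)) (A.presheaf.obj (op (X.basicOpen f))) :=
    (A.presheaf.map (homOfLE (X.basicOpen_le f)).op).hom.toAlgebra
  letI i5 : Algebra Γ(X, U) (A.presheaf.obj (op (X.basicOpen f))) :=
    ((algebraMap (A.presheaf.obj (op U)) (A.presheaf.obj (op (X.basicOpen f)))).comp
      (algebraMap Γ(X, U) (A.presheaf.obj (op U)))).toAlgebra
  haveI t1 : IsScalarTower Γ(X, U) (A.presheaf.obj (op U))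
      (A.presheaf.obj (op (X.basicOpen f))) := IsScalarTower.of_algebraMap_eq (fun _ => rfl)
  haveI t2 : IsScalarTower Γ(X, U) Γ(X, X.basicOpen f)
      (A.presheaf.obj (op (X.basicOpen f))) :=
    IsScalarTower.of_algebraMap_eq (fun r => rA_str A (X.basicOpen_le f) r)
  haveI l1 : IsLocalization (Submonoid.powers f) Γ(X, X.basicOpen f) :=
    hU.isLocalization_basicOpen f
  haveI l2 : IsLocalization (Algebra.algebraMapSubmonoid (A.presheaf.obj (op U))
      (Submonoid.powers f)) (A.presheaf.obj (op (X.basicOpen f))) := by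
    have h := A.isQC U hU f
    have heq : Algebra.algebraMapSubmonoid (A.presheaf.obj (op U)) (Submonoid.powers f) =
        Submonoid.powers ((A.str.app (op U)).hom f) := by
      unfold Algebra.algebraMapSubmonoid
      rw [Submonoid.map_powers]
      rfl
    rw [heq]
    exact h
  haveI := hfree
  haveI := hfin
  exact (Algebra.trace_localization Γ(X, U) (Submonoid.powers f)
    (Rₘ := Γ(X, X.basicOpen f)) (Sₘ := A.presheaf.obj (op (X.basicOpen f))) a).symm

/-- the glued map is the trace -/
theorem isTrace_traceHom : FinCov.IsTrace A (traceHom A hA) := by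
  intro U hU hfree hfin a
  change τU A hA U a = trV A U a
  apply TwistSec.eq_of_locally (Coh.structureModule X)
  intro x hx
  obtain ⟨V, hV, hxV⟩ := exists_good A hA x
  obtain ⟨f, hfV, hxf⟩ := hU.exists_basicOpen_le ⟨x, hxV⟩ hx
  refine ⟨X.basicOpen f, X.basicOpen_le f, hxf, ?_⟩
  change resR (X.basicOpen_le f) (τU A hA U a) = resR (X.basicOpen_le f) (trV A U a)
  rw [τU_spec A hA U a _ (hV.le hfV), trV_res_basicOpen A hU f hfree hfin]

/-- uniqueness of the trace -/
theorem trace_unique (τ : A.toModule ⟶ Coh.structureModule X) (hτ : FinCov.IsTrace A τ) :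
    τ = traceHom A hA := by
  apply Scheme.Modules.hom_ext
  intro U
  ext a
  change (τ.val.app (op U)).hom a = τU A hA U a
  apply TwistSec.eq_of_locally (Coh.structureModule X)
  intro x hx
  obtain ⟨V, hV, hxV⟩ := exists_good A hA x
  obtain ⟨W, hWaff, hxW, hWsub⟩ := exists_isAffineOpen_mem_and_subset (X := X) (x := x)
    (U := V ⊓ U) ⟨hxV, hx⟩
  have hWV : W ≤ V := fun y hy => (hWsub hy).1
  have hWU : W ≤ U := fun y hy => (hWsub hy).2
  refine ⟨W, hWU, hxW, ?_⟩
  have hW : Good A W := hV.le hWV
  have h1 : res (Coh.structureModule X) hWU ((τ.val.app (op U)).hom a) =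
      (τ.val.app (op W)).hom (rA A hWU a) := by
    have := congrArg (fun f => f.hom a) (τ.val.naturality (homOfLE hWU).op)
    exact this.symm
  rw [h1]
  change _ = resR hWU (τU A hA U a)
  rw [τU_spec A hA U a W hW hWU]
  obtain ⟨n, b, hb⟩ := hW
  letI i1 : Algebra Γ(X, W) (A.presheaf.obj (op W)) := (A.str.app (op W)).hom.toAlgebra
  let b1 : Fin n → A.presheaf.obj (op W) := fun i => b i
  have hb1 : Function.Bijective (fun r : Fin n → Γ(X, W) => ∑ i, r i • b1 i) := hb.bijective_self
  exact hτ W hWaff (Module.Free.of_basis (basisOfBij b1 hb1))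
    (Module.Finite.of_basis (basisOfBij b1 hb1)) (rA A hWU a)

end Sheaf

end Groth.Agent.Helper1.TrEx
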