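import Mathlib

/-! Trace on a finite local algebra over a field: `Tr_{A/k}(a) = ℓ(A) · Tr_{k'/k}(ā)`
(helper1; S2219). -/

set_option autoImplicit false
universe u

namespace Groth.Agent.Helper1.TraceLen

open LinearMap

section additivity

variable {k : Type*} [Field k] {V : Type*} [AddCommGroup V] [Module k V] [FiniteDimensional k V]

/-- Additivity of the trace along an invariant subspace. -/
theorem trace_eq_restrict_add_mapQ (W : Submodule k V) (f : V →ₗ[k] V) (hW : W ≤ W.comap f) :
    trace k V f = trace k W (f.restrict hW) + trace k (V ⧸ W) (W.mapQ W f hW) := by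
  obtain ⟨s, hs⟩ := LinearMap.exists_rightInverse_of_surjective W.mkQ
    (LinearMap.range_eq_top.mpr (Submodule.mkQ_surjective W))
  have hs' : ∀ x, W.mkQ (s x) = x := fun x => congr($hs x)
  let r : V →ₗ[k] W := LinearMap.codRestrict W (LinearMap.id - s ∘ₗ W.mkQ) (by
    intro v
    have : ((LinearMap.id : V →ₗ[k] V) - s ∘ₗ W.mkQ) v ∈ LinearMap.ker W.mkQ := by
      rw [LinearMap.mem_ker, LinearMap.sub_apply, map_sub, LinearMap.id_apply,
        LinearMap.comp_apply, hs', sub_self]
    rwa [Submodule.ker_mkQ] at this)
  have hr : ∀ v, (r v : V) = v - s (W.mkQ v) := fun v => rfl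
  have hdecomp : f = (f ∘ₗ W.subtype) ∘ₗ r + (f ∘ₗ s) ∘ₗ W.mkQ := by
    ext v
    simp only [LinearMap.add_apply, LinearMap.comp_apply, Submodule.subtype_apply, hr]
    rw [← map_add]
    congr 1
    abel
  have h1 : trace k V ((f ∘ₗ W.subtype) ∘ₗ r) = trace k W (f.restrict hW) := by
    rw [trace_comp_comm']
    congr 1
    ext w
    simp only [LinearMap.comp_apply, Submodule.subtype_apply, hr, LinearMap.coe_restrict_apply]
    have : W.mkQ (f w) = 0 := by
      have : f w ∈ LinearMap.ker W.mkQ := by
        rw [Submodule.ker_mkQ]; exact hW w.2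
      exact this
    rw [this, map_zero, sub_zero]
  have h2 : trace k V ((f ∘ₗ s) ∘ₗ W.mkQ) = trace k (V ⧸ W) (W.mapQ W f hW) := by
    rw [trace_comp_comm']
    congr 1
    ext v
    simp only [LinearMap.comp_apply]
    have h3 : s (W.mkQ v) - v ∈ W := by
      have : s (W.mkQ v) - v ∈ LinearMap.ker W.mkQ := by
        rw [LinearMap.mem_ker, map_sub, hs', sub_self]
      rwa [Submodule.ker_mkQ] at this
    have h4 : W.mkQ (f (s (W.mkQ v))) = W.mkQ (f v) := by
      rw [← sub_eq_zero, ← map_sub, ← map_sub]
      have : f (s (W.mkQ v) - v) ∈ LinearMap.ker W.mkQ := by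
        rw [Submodule.ker_mkQ]; exact hW h3
      exact this
    rw [h4]
    rfl
  conv_lhs => rw [hdecomp]
  rw [map_add, h1, h2]

end additivity

end Groth.Agent.Helper1.TraceLen

namespace Groth.Agent.Helper1.TraceLen

open LinearMap

variable (k A : Type u) [Field k] [CommRing A] [Algebra k A] [IsLocalRing A]

/-- multiplication by `a` as a `k`-linear endomorphism of an `A`-module. -/
abbrev mulBy (M : Type u) [AddCommGroup M] [Module A M] [Module k M] [IsScalarTower k A M]
    (a : A) : M →ₗ[k] M := (LinearMap.lsmul A M a).restrictScalars k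

variable {k A}

lemma trace_conj_equiv {M N : Type u} [AddCommGroup M] [Module A M] [Module k M]
    [IsScalarTower k A M] [AddCommGroup N] [Module A N] [Module k N] [IsScalarTower k A N]
    (e : M ≃ₗ[A] N) (a : A) : trace k M (mulBy k A M a) = trace k N (mulBy k A N a) := by
  rw [← LinearMap.trace_conj' (mulBy k A M a) (e.restrictScalars k)]
  congr 1
  ext x
  simp [LinearEquiv.conj_apply]

theorem trace_mulBy (a : A) : ∀ (n : ℕ) (M : Type u) [AddCommGroup M] [Module A M] [Module k M]
    [IsScalarTower k A M] [FiniteDimensional k M], Module.finrank k M = n →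
    trace k M (mulBy k A M a) = ((Module.length A M).toNat : k) *
      Algebra.trace k (IsLocalRing.ResidueField A) (IsLocalRing.residue A a) := by
  intro n
  induction n using Nat.strong_induction_on with
  | _ n ih =>
    intro M _ _ _ _ _ hn
    by_cases hM : Subsingleton M
    · have h0 : Module.length A M = 0 := Module.length_eq_zero
      rw [h0]
      have : mulBy k A M a = 0 := by ext x; exact Subsingleton.elim _ _
      rw [this]; simp
    · rw [not_subsingleton_iff_nontrivial] at hM
      haveI : Module.Finite A M := Module.Finite.of_restrictScalars_finite k A M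
      -- a maximal submodule
      obtain ⟨N, hN, -⟩ := (eq_top_or_exists_le_coatom (⊥ : Submodule A M)).resolve_left bot_ne_top
      haveI hsimple : IsSimpleModule A (M ⧸ N) := isSimpleModule_iff_isCoatom.mpr hN
      haveI : FiniteDimensional k N :=
        Module.Finite.of_injective (N.subtype.restrictScalars k) (Submodule.subtype_injective N)
      -- additivity of trace
      have hW : N.restrictScalars k ≤ (N.restrictScalars k).comap (mulBy k A M a) := by
        intro x hx
        exact N.smul_mem a hx
      have hadd := trace_eq_restrict_add_mapQ (N.restrictScalars k) (mulBy k A M a) hW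
      -- the submodule part
      have h1 : trace k (N.restrictScalars k) ((mulBy k A M a).restrict hW) =
          trace k N (mulBy k A N a) := rfl
      -- the quotient part
      have h2 : trace k (M ⧸ N.restrictScalars k) ((N.restrictScalars k).mapQ _ (mulBy k A M a) hW)
          = trace k (M ⧸ N) (mulBy k A (M ⧸ N) a) := by
        rw [← LinearMap.trace_conj' _ (Submodule.Quotient.restrictScalarsEquiv k N)]
        congr 1
        apply LinearMap.ext
        intro y
        obtain ⟨x, rfl⟩ := Submodule.Quotient.mk_surjective _ y
        rfl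
      -- the simple quotient
      obtain ⟨I, hI, ⟨e⟩⟩ := isSimpleModule_iff_quot_maximal.mp hsimple
      have hIm : I = IsLocalRing.maximalIdeal A := IsLocalRing.eq_maximalIdeal hI
      subst hIm
      have h3 : trace k (M ⧸ N) (mulBy k A (M ⧸ N) a) =
          Algebra.trace k (IsLocalRing.ResidueField A) (IsLocalRing.residue A a) := by
        rw [trace_conj_equiv e a, Algebra.trace_apply]
        congr 1
      -- induction hypothesis
      have hlt : Module.finrank k N < n := by
        rw [← hn]
        have : N.restrictScalars k ≠ ⊤ := by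
          intro h
          apply hN.1
          exact (Submodule.restrictScalars_eq_top_iff k A M).mp h
        exact Submodule.finrank_lt this
      have h4 := ih _ hlt N rfl
      -- lengths
      have hlen : Module.length A M = Module.length A N + 1 := by
        rw [Module.length_eq_add_of_exact N.subtype N.mkQ (Submodule.subtype_injective _)
          (Submodule.mkQ_surjective _) (LinearMap.exact_subtype_mkQ N)]
        congr 1
        exact Module.length_eq_one_iff.mpr hsimple
      have hNfin : Module.length A N ≠ ⊤ := by
        rw [Module.length_ne_top_iff, isFiniteLength_iff_isNoetherian_isArtinian]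
        exact ⟨isNoetherian_of_tower k inferInstance, isArtinian_of_tower k inferInstance⟩
      rw [hadd, h1, h2, h3, h4, hlen, ENat.toNat_add hNfin (by simp), ENat.toNat_one]
      push_cast
      ring

end Groth.Agent.Helper1.TraceLen

namespace Groth.Agent.Helper1.TraceLen

theorem main (k A : Type u) [Field k] [CommRing A]
    [Algebra k A] [FiniteDimensional k A] [IsLocalRing A] :
    Algebra.trace k A ≠ 0 ↔
      (Algebra.IsSeparable k (IsLocalRing.ResidueField A) ∧
        ∀ p : ℕ, p.Prime → CharP k p → ¬ p ∣ (Module.length A A).toNat) := by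
  have hformula : ∀ a : A, Algebra.trace k A a = ((Module.length A A).toNat : k) *
      Algebra.trace k (IsLocalRing.ResidueField A) (IsLocalRing.residue A a) := by
    intro a
    rw [← trace_mulBy a _ A rfl, Algebra.trace_apply]
    congr 1
  haveI : FiniteDimensional k (IsLocalRing.ResidueField A) :=
    Module.Finite.of_surjective ((Ideal.Quotient.mkₐ k (IsLocalRing.maximalIdeal A)).toLinearMap)
      (Ideal.Quotient.mkₐ_surjective k _)
  have hlen_ne : (Module.length A A).toNat ≠ 0 := by
    have hfin : Module.length A A ≠ ⊤ := by
      rw [Module.length_ne_top_iff, isFiniteLength_iff_isNoetherian_isArtinian]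
      exact ⟨isNoetherian_of_tower k inferInstance, isArtinian_of_tower k inferInstance⟩
    have hpos : 0 < Module.length A A := Module.length_pos
    intro h0
    rw [ENat.toNat_eq_zero] at h0
    rcases h0 with h0 | h0
    · exact hpos.ne' h0
    · exact hfin h0
  constructor
  · intro hne
    have : ∃ a, Algebra.trace k A a ≠ 0 := by
      by_contra hcon
      push_neg at hcon
      exact hne (LinearMap.ext hcon)
    obtain ⟨a, ha⟩ := this
    rw [hformula a] at ha
    have h1 := left_ne_zero_of_mul ha
    have h2 := right_ne_zero_of_mul ha
    refine ⟨?_, ?_⟩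
    · by_contra hsep
      rw [Algebra.trace_eq_zero_of_not_isSeparable hsep] at h2
      exact h2 rfl
    · intro p _ hchar hdvd
      exact h1 ((CharP.cast_eq_zero_iff k p _).mpr hdvd)
  · rintro ⟨hsep, hp⟩
    have htr : Algebra.trace k (IsLocalRing.ResidueField A) ≠ 0 := Algebra.trace_ne_zero _ _
    have : ∃ b, Algebra.trace k (IsLocalRing.ResidueField A) b ≠ 0 := by
      by_contra hcon
      push_neg at hcon
      exact htr (LinearMap.ext hcon)
    obtain ⟨b, hb⟩ := this
    obtain ⟨a, rfl⟩ := IsLocalRing.residue_surjective b
    have hcast : ((Module.length A A).toNat : k) ≠ 0 := by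
      obtain ⟨q, hq⟩ := CharP.exists k
      rw [Ne, CharP.cast_eq_zero_iff k q]
      rcases CharP.char_is_prime_or_zero k q with hq' | hq'
      · exact hp q hq' hq
      · subst hq'
        rw [zero_dvd_iff]
        exact hlen_ne
    intro h0
    have := hformula a
    rw [h0] at this
    exact mul_ne_zero hcast hb this.symm

end Groth.Agent.Helper1.TraceLen
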