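import Mathlib
import Groth.Prelude.Def_ProjUP
import Groth.Agent.Lib.Helper1.TwistGen
import Groth.Agent.Lib.Helper1.GrMon

/-!
# Global generation of `O(n)` on `Proj` of a finitely generated graded algebra for large `n` (helper1)
-/

open DirectSum CategoryTheory AlgebraicGeometry TopologicalSpace Opposite HomogeneousLocalization

universe u

namespace Groth.Agent.Helper1.TwGenBd
open Groth.Agent.Helper1.TwistTriv Groth.Agent.Helper1.TwistTens Groth.Agent.Helper1.TwistGen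

section
variable {R A : Type u} [CommRing R] [CommRing A] [Algebra R A] (𝒜 : ℕ → Submodule R A)
  [GradedAlgebra 𝒜]

set_option synthInstance.maxHeartbeats 400000

theorem fracSec_val {i j : ℕ} {a b : A} (ha : a ∈ 𝒜 i) (hb : b ∈ 𝒜 j) {m : ℤ}
    (hm : (i : ℤ) = j + m) (V : Opens (ProjectiveSpectrum.top 𝒜))
    (hbV : ∀ x : V, b ∉ x.1.asHomogeneousIdeal) (y : V) :
    (((fracSec 𝒜 ha hb hm V hbV).1 y).1 : Twist.Loc 𝒜 y.1) = Localization.mk a ⟨b, hbV y⟩ := rfl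

theorem sec_ext {m : ℤ} {W : Opens (ProjectiveSpectrum.top 𝒜)}
    (t₁ t₂ : Twist.sectN (𝒜 := 𝒜) m (op W))
    (h : ∀ y : W, ((t₁.1 y).1 : Twist.Loc 𝒜 y.1) = (t₂.1 y).1) : t₁ = t₂ := by
  apply Subtype.ext
  funext y
  apply Subtype.ext
  exact h y

/-- the degree-zero fraction `γ/q` as a section of the structure sheaf -/
noncomputable def fracO {k : ℕ} {γ q : A} (hγ : γ ∈ 𝒜 k) (hq : q ∈ 𝒜 k)
    (W : Opens (ProjectiveSpectrum.top 𝒜)) (hqW : ∀ y : W, q ∉ y.1.asHomogeneousIdeal) :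
    Twist.O (𝒜 := 𝒜) (op W) :=
  ⟨fun y => HomogeneousLocalization.mk ⟨k, ⟨γ, hγ⟩, ⟨q, hq⟩, hqW y⟩,
    fun y => ⟨W, y.2, 𝟙 _, k, ⟨γ, hγ⟩, ⟨q, hq⟩, hqW, fun _ => rfl⟩⟩

theorem fracSec_mul {n k : ℕ} {β γ q : A} (hβ : β ∈ 𝒜 n) (hγ : γ ∈ 𝒜 k) (hq : q ∈ 𝒜 k)
    (W : Opens (ProjectiveSpectrum.top 𝒜)) (hqW : ∀ y : W, q ∉ y.1.asHomogeneousIdeal)
    (hm : ((n + k : ℕ) : ℤ) = ((k : ℕ) : ℤ) + (n : ℤ))
    (h0 : ((n : ℕ) : ℤ) = ((0 : ℕ) : ℤ) + (n : ℤ)) :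
    fracSec 𝒜 (SetLike.mul_mem_graded hβ hγ) hq hm W hqW =
      fracO 𝒜 hγ hq W hqW •
        fracSec 𝒜 hβ (SetLike.GradedOne.one_mem : (1 : A) ∈ 𝒜 0) h0 W
          (fun y => one_not_mem 𝒜 y.1) := by
  apply sec_ext
  intro y
  refine Eq.trans ?_ (smul_sec_val 𝒜 W _ _ y).symm
  rw [fracSec_val, fracSec_val]
  change _ = (HomogeneousLocalization.mk ⟨k, ⟨γ, hγ⟩, ⟨q, hq⟩, hqW y⟩ : Twist.A0 𝒜 y.1).val * _
  rw [HomogeneousLocalization.val_mk, Localization.mk_mul, Localization.mk_eq_mk_iff,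
    Localization.r_iff_exists]
  exact ⟨1, by simp only [Submonoid.coe_mul, OneMemClass.coe_one]; ring⟩

theorem fracSec_add {i j : ℕ} {a a' b : A} (ha : a ∈ 𝒜 i) (ha' : a' ∈ 𝒜 i) (hb : b ∈ 𝒜 j)
    {m : ℤ} (hm : (i : ℤ) = j + m) (W : Opens (ProjectiveSpectrum.top 𝒜))
    (hbW : ∀ y : W, b ∉ y.1.asHomogeneousIdeal) :
    fracSec 𝒜 (add_mem ha ha') hb hm W hbW =
      fracSec 𝒜 ha hb hm W hbW + fracSec 𝒜 ha' hb hm W hbW := by
  apply sec_ext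
  intro y
  rw [fracSec_val]
  change _ = (Localization.mk a ⟨b, hbW y⟩ : Twist.Loc 𝒜 y.1) + Localization.mk a' ⟨b, hbW y⟩
  exact (Localization.add_mk_self a ⟨b, hbW y⟩ a').symm

theorem mem_of_eq' {X : Scheme.{u}} {M : X.Modules} {V : X.Opens}
    (N : Submodule Γ(X, V) Γ(M, V)) (a b : Γ(M, V)) (h : a = b) (hb : b ∈ N) : a ∈ N := h ▸ hb

theorem fracSec_mem_span {n k : ℕ} {q : A} (hq : q ∈ 𝒜 k)
    (W : (Proj 𝒜).Opens) (hqW : ∀ y : W, q ∉ y.1.asHomogeneousIdeal)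
    (hm : ((n + k : ℕ) : ℤ) = ((k : ℕ) : ℤ) + (n : ℤ))
    (c : A) (hc : c ∈ 𝒜 n * 𝒜 k) (hc' : c ∈ 𝒜 (n + k)) :
    (fracSec 𝒜 hc' hq hm W hqW : Γ(Twist.twist 𝒜 (n : ℤ), W)) ∈
      Submodule.span Γ(Proj 𝒜, W)
        (Set.range fun b : 𝒜 n => (Twist.twist 𝒜 (n : ℤ)).presheaf.map
          (homOfLE (le_top : W ≤ ⊤)).op (Twist.globalOf 𝒜 b)) := by
  have h0 : ((n : ℕ) : ℤ) = ((0 : ℕ) : ℤ) + (n : ℤ) := by simp
  have hle : 𝒜 n * 𝒜 k ≤ 𝒜 (n + k) :=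
    Submodule.mul_le.2 fun a ha b hb => SetLike.mul_mem_graded ha hb
  revert hc'
  refine Submodule.mul_induction_on'
    (C := fun c _ => ∀ hc' : c ∈ 𝒜 (n + k),
      (fracSec 𝒜 hc' hq hm W hqW : Γ(Twist.twist 𝒜 (n : ℤ), W)) ∈
        Submodule.span Γ(Proj 𝒜, W)
          (Set.range fun b : 𝒜 n => (Twist.twist 𝒜 (n : ℤ)).presheaf.map
            (homOfLE (le_top : W ≤ ⊤)).op (Twist.globalOf 𝒜 b))) ?_ ?_ hc
  · intro β hβ γ hγ hc'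
    have e := fracSec_mul 𝒜 hβ hγ hq W hqW hm h0
    exact mem_of_eq' _ _ _ e (Submodule.smul_mem _ _ (Submodule.subset_span ⟨⟨β, hβ⟩, rfl⟩))
  · intro c₁ h₁ c₂ h₂ ih₁ ih₂ hc'
    have e := fracSec_add 𝒜 (hle h₁) (hle h₂) hq hm W hqW
    exact mem_of_eq' _ _ _ e (Submodule.add_mem _ (ih₁ (hle h₁)) (ih₂ (hle h₂)))

theorem res_mem_span (l' n : ℕ)
    (hL1 : ∀ k, 𝒜 (n + k * (l' + 1)) ≤ 𝒜 n * 𝒜 (k * (l' + 1)))
    (U : (Proj 𝒜).Opens) (t : Γ(Twist.twist 𝒜 (n : ℤ), U)) (x : Proj 𝒜) (hxU : x ∈ U) :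
    ∃ (V : (Proj 𝒜).Opens) (hVU : V ≤ U), x ∈ V ∧
      (Twist.twist 𝒜 (n : ℤ)).presheaf.map (homOfLE hVU).op t ∈
        Submodule.span Γ(Proj 𝒜, V)
          (Set.range fun b : 𝒜 n => (Twist.twist 𝒜 (n : ℤ)).presheaf.map
            (homOfLE (le_top : V ≤ ⊤)).op (Twist.globalOf 𝒜 b)) := by
  obtain ⟨W, hxW, iW, i', j', a', s', nin, hc, hw⟩ :=
    (t : Twist.sectN (𝒜 := 𝒜) (n : ℤ) (op U)).2 ⟨x, hxU⟩
  refine ⟨W, iW.le, hxW, ?_⟩
  rcases hc with hc | hc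
  · have hi' : i' = j' + n := by exact_mod_cast hc
    have hq : s'.1 ^ (l' + 1) ∈ 𝒜 (j' * (l' + 1)) := by
      have := SetLike.pow_mem_graded (l' + 1) s'.2
      rwa [smul_eq_mul, mul_comm] at this
    have hc₀ : a'.1 * s'.1 ^ l' ∈ 𝒜 (n + j' * (l' + 1)) := by
      have h1 := SetLike.pow_mem_graded l' s'.2
      have h2 := SetLike.mul_mem_graded a'.2 h1
      have e : i' + l' • j' = n + j' * (l' + 1) := by
        rw [hi', smul_eq_mul]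
        ring
      exact e ▸ h2
    have hqW : ∀ y : W, s'.1 ^ (l' + 1) ∉ y.1.asHomogeneousIdeal :=
      fun y h => nin y (y.1.isPrime.mem_of_pow_mem _ h)
    have hm : ((n + j' * (l' + 1) : ℕ) : ℤ) = ((j' * (l' + 1) : ℕ) : ℤ) + (n : ℤ) := by
      push_cast
      ring
    have key : ((Twist.twist 𝒜 (n : ℤ)).presheaf.map (homOfLE iW.le).op t :
        Twist.sectN (𝒜 := 𝒜) (n : ℤ) (op W)) = fracSec 𝒜 hc₀ hq hm W hqW := by
      apply sec_ext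
      intro y
      refine (hw y).trans ?_
      rw [fracSec_val, Localization.mk_eq_mk_iff, Localization.r_iff_exists]
      exact ⟨1, by simp only [OneMemClass.coe_one]; ring⟩
    exact mem_of_eq' _ _ _ key (fracSec_mem_span 𝒜 hq W hqW hm _ (hL1 j' hc₀) hc₀)
  · have key : ((Twist.twist 𝒜 (n : ℤ)).presheaf.map (homOfLE iW.le).op t :
        Twist.sectN (𝒜 := 𝒜) (n : ℤ) (op W)) = 0 := by
      apply sec_ext
      intro y
      refine (hw y).trans ?_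
      rw [hc, Localization.mk_zero]
      rfl
    exact mem_of_eq' _ _ _ key (Submodule.zero_mem _)

theorem main {s : ℕ} (f : Fin s → A) (deg : Fin s → ℕ) (hdeg : ∀ i, 0 < deg i)
    (hf : ∀ i, f i ∈ 𝒜 (deg i)) (hgen : Algebra.adjoin R (Set.range f) = ⊤) (n : ℕ)
    (hn : (s - 1) * (Finset.univ.lcm deg - 1) ≤ n) :
    ProjUP.GeneratedBy (Twist.twist 𝒜 (n : ℤ))
      (fun b : 𝒜 n => (Twist.globalOf 𝒜 b : ProjUP.Γm (Twist.twist 𝒜 (n : ℤ)))) := by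
  classical
  have hl : 0 < Finset.univ.lcm deg := by
    apply Nat.pos_of_ne_zero
    intro h0
    rw [Finset.lcm_eq_zero_iff] at h0
    obtain ⟨i, -, hi⟩ := h0
    exact (hdeg i).ne' hi
  obtain ⟨l', hl'⟩ : ∃ l', Finset.univ.lcm deg = l' + 1 :=
    ⟨_, (Nat.succ_pred_eq_of_pos hl).symm⟩
  have hL1 : ∀ k, 𝒜 (n + k * (l' + 1)) ≤ 𝒜 n * 𝒜 (k * (l' + 1)) := by
    intro k
    induction k with
    | zero =>
      intro c hc
      have hc' : c ∈ 𝒜 n := by simpa using hc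
      have h1 : c * 1 ∈ 𝒜 n * 𝒜 (0 * (l' + 1)) :=
        Submodule.mul_mem_mul hc' (by rw [Nat.zero_mul]; exact SetLike.GradedOne.one_mem)
      rwa [mul_one] at h1
    | succ k ih =>
      have hb : (s - 1) * (Finset.univ.lcm deg - 1) ≤ n + k * (l' + 1) :=
        le_trans hn (Nat.le_add_right _ _)
      have h1 := Groth.Agent.Helper1.GrMon.S13164 𝒜 f deg hf hgen hdeg (n + k * (l' + 1)) hb
      rw [hl'] at h1
      have e : n + (k + 1) * (l' + 1) = n + k * (l' + 1) + (l' + 1) := by ring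
      rw [e, h1]
      calc 𝒜 (n + k * (l' + 1)) * 𝒜 (l' + 1)
          ≤ (𝒜 n * 𝒜 (k * (l' + 1))) * 𝒜 (l' + 1) := mul_le_mul' ih le_rfl
        _ = 𝒜 n * (𝒜 (k * (l' + 1)) * 𝒜 (l' + 1)) := mul_assoc _ _ _
        _ ≤ 𝒜 n * 𝒜 ((k + 1) * (l' + 1)) := by
          refine mul_le_mul' le_rfl (Submodule.mul_le.2 fun a ha b hb => ?_)
          have := SetLike.mul_mem_graded ha hb
          rwa [show k * (l' + 1) + (l' + 1) = (k + 1) * (l' + 1) by ring] at this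
  apply generatedBy_of_locally_span
  intro U t x hxU
  exact res_mem_span 𝒜 l' n hL1 U t x hxU

end
end Groth.Agent.Helper1.TwGenBd
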