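import Mathlib
import Groth.Prelude.Def_GrMod2
import Groth.Agent.Lib.Helper1.TensLib
import Groth.Agent.Lib.Helper1.TildeTens
import Groth.Agent.Lib.Lead.TilT4

/-!
# `M~ ⊗ O(m) ≅ M(m)~` over the open where unit fractions of degree `m` exist (helper1)
-/

set_option autoImplicit false
set_option backward.isDefEq.respectTransparency.types false
set_option synthInstance.maxHeartbeats 400000
universe u
open CategoryTheory CategoryTheory.Limits AlgebraicGeometry TopologicalSpace Opposite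

namespace Groth.Agent.Helper1.TwRes

open Groth.Agent.Helper1 Groth.Agent.Helper1.TensLib Groth.Agent.Helper1.TwistTriv

section Gen
variable {X : Scheme.{u}} {M N L : X.Modules}

/-- restriction of a pairing to an open subscheme -/
noncomputable def restrictPairing (p : Pairing M N L) (W : X.Opens) :
    Pairing (M.restrict W.ι) (N.restrict W.ι) (L.restrict W.ι) where
  β U m n := p.β (op (W.ι ''ᵁ U.unop)) m n
  add_left U m₁ m₂ n := p.add_left (op (W.ι ''ᵁ U.unop)) m₁ m₂ n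
  smul_left U a m n := p.smul_left (op (W.ι ''ᵁ U.unop)) ((W.ι.appIso U.unop).inv.hom a) m n
  add_right U m n₁ n₂ := p.add_right (op (W.ι ''ᵁ U.unop)) m n₁ n₂
  smul_right U a m n := p.smul_right (op (W.ι ''ᵁ U.unop)) ((W.ι.appIso U.unop).inv.hom a) m n
  nat {_ _} f m n := p.nat (W.ι.opensFunctor.map f.unop).op m n

theorem compose_abs (F G H : X.Modules) (W : X.Opens)
    (e : CohB1.tensorMod (G.restrict W.ι) (F.restrict W.ι) ≅ H.restrict W.ι) :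
    Nonempty ((CohB1.tensorMod F G).restrict W.ι ≅ H.restrict W.ι) :=
  ⟨(Groth.Agent.Lead.TilT.restrictTensorIso F G W.ι).symm ≪≫
    TildeTens.tensorModComm _ _ ≪≫ e⟩

end Gen

section Proj
variable {R A : Type u} [CommRing R] [CommRing A] [Algebra R A] (𝒜 : ℕ → Submodule R A)
  [GradedAlgebra 𝒜]
variable {M : Type u} [AddCommGroup M] [Module R M] [Module A M] (ℳ : ℕ → Submodule R M)
  [SetLike.GradedSMul 𝒜 ℳ]

theorem nonempty_restrict_iso {m n k : ℤ} (hk : k = m + n) (W : (Proj 𝒜).Opens)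
    (hcov : ∀ x : ProjectiveSpectrum 𝒜, x ∈ W → ∃ (i j : ℕ) (a b : A), a ∈ 𝒜 i ∧ b ∈ 𝒜 j ∧
      (i : ℤ) = j + m ∧ a ∉ x.asHomogeneousIdeal ∧ b ∉ x.asHomogeneousIdeal) :
    Nonempty (CohB1.tensorMod ((Twist.twist 𝒜 m).restrict W.ι)
        ((GrTilde.tilde 𝒜 ℳ n).restrict W.ι) ≅ (GrTilde.tilde 𝒜 ℳ k).restrict W.ι) := by
  refine (restrictPairing (TildeTens.tildePairing 𝒜 ℳ hk) W).nonempty_tensorMod_iso
    (fun V : (↑W : Scheme.{u}).Opens => ∃ (i j : ℕ) (a b : A), a ∈ 𝒜 i ∧ b ∈ 𝒜 j ∧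
      (i : ℤ) = j + m ∧ ∀ x : ProjectiveSpectrum 𝒜, x ∈ W.ι ''ᵁ V →
        a ∉ x.asHomogeneousIdeal ∧ b ∉ x.asHomogeneousIdeal)
    ?_ ?_ ?_
  · intro x
    obtain ⟨i, j, a, b, ha, hb, hm, hax, hbx⟩ := hcov x.1 x.2
    refine ⟨W.ι ⁻¹ᵁ (Proj.basicOpen 𝒜 a ⊓ Proj.basicOpen 𝒜 b), ⟨i, j, a, b, ha, hb, hm, ?_⟩, ?_⟩
    · intro y hy
      obtain ⟨z, hz, rfl⟩ := hy
      exact ⟨(Proj.mem_basicOpen 𝒜 a _).1 hz.1, (Proj.mem_basicOpen 𝒜 b _).1 hz.2⟩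
    · exact ⟨(Proj.mem_basicOpen 𝒜 a x.1).2 hax, (Proj.mem_basicOpen 𝒜 b x.1).2 hbx⟩
  · rintro V V' ⟨i, j, a, b, ha, hb, hm, h⟩ hle
    exact ⟨i, j, a, b, ha, hb, hm, fun x hx => h x (W.ι.image_mono hle hx)⟩
  · rintro V ⟨i, j, a, b, ha, hb, hm, h⟩
    refine ⟨fracSec 𝒜 ha hb hm (W.ι ''ᵁ V) (fun x => (h x.1 x.2).2), ?_, ?_⟩
    · have hb0 := fracSec_bijective 𝒜 ha hb hm (W.ι ''ᵁ V) (fun x => (h x.1 x.2).2)
        (fun x => (h x.1 x.2).1)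
      have hiso : Function.Bijective
          ((W.ι.appIso V).inv.hom : Γ(↑W, V) → Γ(Proj 𝒜, W.ι ''ᵁ V)) :=
        ConcreteCategory.bijective_of_isIso (W.ι.appIso V).inv
      exact hb0.comp hiso
    · exact TildeTens.smulSec_fracSec_bijective 𝒜 ℳ ha hb hm hk (W.ι ''ᵁ V)
        (fun x => (h x.1 x.2).2) (fun x => (h x.1 x.2).1)

/-- S9578 -/
theorem main {d : ℕ} (n : ℤ) :
    Nonempty ((Twist.twistBy 𝒜 (GrTilde.tilde 𝒜 ℳ 0) (n * d)).restrict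
        (⨆ (j : ℕ) (a : 𝒜 (j + d)) (b : 𝒜 j), Proj.basicOpen 𝒜 ((a : A) * b)).ι ≅
      (GrTilde.tilde 𝒜 ℳ (n * d)).restrict
        (⨆ (j : ℕ) (a : 𝒜 (j + d)) (b : 𝒜 j), Proj.basicOpen 𝒜 ((a : A) * b)).ι) := by
  have hcov : ∀ x : ProjectiveSpectrum 𝒜,
      x ∈ (⨆ (j : ℕ) (a : 𝒜 (j + d)) (b : 𝒜 j), Proj.basicOpen 𝒜 ((a : A) * b)) →
      ∃ (i j : ℕ) (a b : A), a ∈ 𝒜 i ∧ b ∈ 𝒜 j ∧
      (i : ℤ) = j + n * d ∧ a ∉ x.asHomogeneousIdeal ∧ b ∉ x.asHomogeneousIdeal := by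
    intro x hx
    obtain ⟨j, hx⟩ := Opens.mem_iSup.1 hx
    obtain ⟨a, hx⟩ := Opens.mem_iSup.1 hx
    obtain ⟨b, hx⟩ := Opens.mem_iSup.1 hx
    have hab : (a : A) * b ∉ x.asHomogeneousIdeal := (Proj.mem_basicOpen 𝒜 _ x).1 hx
    have hax : (a : A) ∉ x.asHomogeneousIdeal := fun h =>
      hab (x.asHomogeneousIdeal.toIdeal.mul_mem_right _ h)
    have hbx : (b : A) ∉ x.asHomogeneousIdeal := fun h =>
      hab (x.asHomogeneousIdeal.toIdeal.mul_mem_left _ h)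
    refine ⟨n.toNat • (j + d) + (-n).toNat • j, n.toNat • j + (-n).toNat • (j + d),
      (a : A) ^ n.toNat * (b : A) ^ (-n).toNat, (b : A) ^ n.toNat * (a : A) ^ (-n).toNat,
      SetLike.mul_mem_graded (SetLike.pow_mem_graded _ a.2) (SetLike.pow_mem_graded _ b.2),
      SetLike.mul_mem_graded (SetLike.pow_mem_graded _ b.2) (SetLike.pow_mem_graded _ a.2),
      ?_, ?_, ?_⟩
    · have := Int.toNat_sub_toNat_neg n
      push_cast [smul_eq_mul]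
      linear_combination (d : ℤ) * this
    · exact fun h => (x.isPrime.mem_or_mem h).elim
        (fun h1 => hax (x.isPrime.mem_of_pow_mem _ h1))
        (fun h2 => hbx (x.isPrime.mem_of_pow_mem _ h2))
    · exact fun h => (x.isPrime.mem_or_mem h).elim
        (fun h1 => hbx (x.isPrime.mem_of_pow_mem _ h1))
        (fun h2 => hax (x.isPrime.mem_of_pow_mem _ h2))
  obtain ⟨e⟩ := nonempty_restrict_iso 𝒜 ℳ (m := n * d) (n := 0) (k := n * d) (by ring) _ hcov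
  exact compose_abs (GrTilde.tilde 𝒜 ℳ 0) (Twist.twist 𝒜 (n * d)) (GrTilde.tilde 𝒜 ℳ (n * d)) _ e

end Proj
end Groth.Agent.Helper1.TwRes
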