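import Mathlib

set_option autoImplicit false

open Polynomial

namespace Groth.Agent.Helper1.TwoSubalg

universe u

lemma bot_or_top {k : Type u} [Field k] {A : Type u} [CommRing A] [Algebra k A]
    (h : Nat.card (Subalgebra k A) = 2) :
    (⊥ : Subalgebra k A) ≠ ⊤ ∧ ∀ B : Subalgebra k A, B = ⊥ ∨ B = ⊤ := by
  obtain ⟨x, y, hxy, huniv⟩ := Nat.card_eq_two_iff.1 h
  have hall : ∀ B : Subalgebra k A, B = x ∨ B = y := fun B => by
    have h1 : B ∈ ({x, y} : Set (Subalgebra k A)) := by rw [huniv]; trivial
    simpa using h1
  have hne : (⊥ : Subalgebra k A) ≠ ⊤ := by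
    intro hbt
    have hx : x = ⊥ := by
      apply le_antisymm _ bot_le
      rw [hbt]; exact le_top
    have hy : y = ⊥ := by
      apply le_antisymm _ bot_le
      rw [hbt]; exact le_top
    exact hxy (hx.trans hy.symm)
  refine ⟨hne, fun B => ?_⟩
  rcases hall ⊥ with hb | hb <;> rcases hall ⊤ with ht | ht <;> rcases hall B with hB | hB
  all_goals first
    | exact absurd (hb.trans ht.symm) hne
    | (left; exact hB.trans hb.symm)
    | (right; exact hB.trans ht.symm)

/-- Step A: a generator satisfies a monic quadratic relation. -/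
lemma exists_quadratic {k : Type u} [Field k] [IsAlgClosed k] {A : Type u} [CommRing A]
    [Algebra k A] [Nontrivial A]
    (hall : ∀ B : Subalgebra k A, B = ⊥ ∨ B = ⊤)
    (a : A) (ha : a ∉ (⊥ : Subalgebra k A)) :
    ∃ p q : k, a * a + algebraMap k A p * a + algebraMap k A q = 0 := by
  have hgen : ∀ b : A, b ∉ (⊥ : Subalgebra k A) → Algebra.adjoin k {b} = ⊤ := by
    intro b hb
    rcases hall (Algebra.adjoin k {b}) with h1 | h1
    · exfalso
      apply hb
      rw [← h1]
      exact Algebra.subset_adjoin (Set.mem_singleton b)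
    · exact h1
  by_cases ha2 : a * a ∈ (⊥ : Subalgebra k A)
  · obtain ⟨c, hc⟩ := Algebra.mem_bot.1 ha2
    refine ⟨0, -c, ?_⟩
    rw [map_zero, zero_mul, add_zero, map_neg, hc, add_neg_cancel]
  · -- a is algebraic
    have h1 : a ∈ Algebra.adjoin k {a * a} := by rw [hgen _ ha2]; trivial
    rw [Algebra.adjoin_singleton_eq_range_aeval] at h1
    obtain ⟨g, hg⟩ := h1
    have hg' : aeval (a * a) g = a := hg
    have hP : aeval a (expand k 2 g - X) = 0 := by
      rw [map_sub, expand_aeval, aeval_X, pow_two, hg', sub_self]
    have hP0 : expand k 2 g - X ≠ 0 := by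
      intro h0
      have h2 := congrArg (fun P : k[X] => P.coeff 1) h0
      simp only [coeff_sub, coeff_expand (by norm_num : 0 < 2), coeff_X_one, coeff_zero] at h2
      norm_num at h2
    have halg : IsAlgebraic k a := ⟨_, hP0, hP⟩
    have hint : IsIntegral k a := halg.isIntegral
    have hdeg : 2 ≤ (minpoly k a).natDegree := by
      rw [minpoly.two_le_natDegree_iff hint]
      exact fun hr => ha (Algebra.mem_bot.2 hr)
    have hf0 : minpoly k a ≠ 0 := minpoly.ne_zero hint
    -- first root
    obtain ⟨r₁, hr₁⟩ := IsAlgClosed.exists_root (minpoly k a) (by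
      intro h0
      have h00 : (minpoly k a).natDegree = 0 := natDegree_eq_zero_iff_degree_le_zero.2 h0.le
      omega)
    obtain ⟨f₁, hf₁⟩ := dvd_iff_isRoot.2 hr₁
    have hf₁0 : f₁ ≠ 0 := by
      rintro rfl
      rw [mul_zero] at hf₁
      exact hf0 hf₁
    have hdeg1 : (minpoly k a).natDegree = 1 + f₁.natDegree := by
      rw [hf₁, natDegree_mul (X_sub_C_ne_zero r₁) hf₁0, natDegree_X_sub_C]
    obtain ⟨r₂, hr₂⟩ := IsAlgClosed.exists_root f₁ (by
      intro h0
      have h00 : f₁.natDegree = 0 := natDegree_eq_zero_iff_degree_le_zero.2 h0.le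
      omega)
    obtain ⟨f₂, hf₂⟩ := dvd_iff_isRoot.2 hr₂
    -- d = (X - r₁)(X - r₂) divides minpoly
    have hd : (X - C r₁) * (X - C r₂) ∣ minpoly k a := ⟨f₂, by rw [hf₁, hf₂, mul_assoc]⟩
    have hdd : ((X - C r₁) * (X - C r₂) : k[X]).natDegree = 2 := by
      rw [natDegree_mul (X_sub_C_ne_zero r₁) (X_sub_C_ne_zero r₂), natDegree_X_sub_C,
        natDegree_X_sub_C]
    have hda : aeval a ((X - C r₁) * (X - C r₂) : k[X]) =
        (a - algebraMap k A r₁) * (a - algebraMap k A r₂) := by
      simp
    rcases hall (Subalgebra.comap (Ideal.Quotient.mkₐ k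
      (Ideal.span {(a - algebraMap k A r₁) * (a - algebraMap k A r₂)})) ⊥) with hB | hB
    · -- B = ⊥ : d(a) is a scalar
      have h3 : (a - algebraMap k A r₁) * (a - algebraMap k A r₂) ∈
          Subalgebra.comap (Ideal.Quotient.mkₐ k
            (Ideal.span {(a - algebraMap k A r₁) * (a - algebraMap k A r₂)})) ⊥ := by
        rw [Subalgebra.mem_comap]
        have h4 : Ideal.Quotient.mkₐ k
            (Ideal.span {(a - algebraMap k A r₁) * (a - algebraMap k A r₂)})
            ((a - algebraMap k A r₁) * (a - algebraMap k A r₂)) = 0 :=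
          Ideal.Quotient.eq_zero_iff_mem.2 (Ideal.subset_span (Set.mem_singleton _))
        rw [h4]
        exact Subalgebra.zero_mem _
      rw [hB] at h3
      obtain ⟨c, hc⟩ := Algebra.mem_bot.1 h3
      refine ⟨-(r₁ + r₂), r₁ * r₂ - c, ?_⟩
      rw [map_neg, map_add, map_sub, map_mul, hc]
      ring
    · -- B = ⊤ : contradiction
      exfalso
      have h3 : a ∈ Subalgebra.comap (Ideal.Quotient.mkₐ k
            (Ideal.span {(a - algebraMap k A r₁) * (a - algebraMap k A r₂)})) ⊥ := by
        rw [hB]; trivial
      rw [Subalgebra.mem_comap] at h3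
      obtain ⟨c, hc⟩ := Algebra.mem_bot.1 h3
      have hc' : Ideal.Quotient.mk (Ideal.span {(a - algebraMap k A r₁) * (a - algebraMap k A r₂)})
          (algebraMap k A c) = Ideal.Quotient.mk _ a := hc
      rw [Ideal.Quotient.eq, Ideal.mem_span_singleton'] at hc'
      obtain ⟨u, hu⟩ := hc'
      have h4 : u ∈ Algebra.adjoin k {a} := by rw [hgen a ha]; trivial
      rw [Algebra.adjoin_singleton_eq_range_aeval] at h4
      obtain ⟨U, hU⟩ := h4
      have hU' : aeval a U = u := hU
      have h5 : aeval a (C c - X - U * ((X - C r₁) * (X - C r₂))) = 0 := by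
        rw [map_sub, map_sub, map_mul, hda, aeval_C, aeval_X, hU', hu, sub_self]
      have h6 : minpoly k a ∣ C c - X - U * ((X - C r₁) * (X - C r₂)) := minpoly.dvd k a h5
      have h7 : (X - C r₁) * (X - C r₂) ∣ C c - X := by
        have h8 := dvd_trans hd h6
        have h9 : (X - C r₁) * (X - C r₂) ∣ U * ((X - C r₁) * (X - C r₂)) := dvd_mul_left _ _
        have h10 := dvd_add h8 h9
        rwa [sub_add_cancel] at h10
      have h11 : (C c - X : k[X]) ≠ 0 := by
        intro h0
        have h2 := congrArg (fun P : k[X] => P.coeff 1) h0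
        simp only [coeff_sub, coeff_C, coeff_X_one, coeff_zero] at h2
        norm_num at h2
      have h12 := natDegree_le_of_dvd h7 h11
      have h13 : (C c - X : k[X]).natDegree ≤ 1 := by
        have : (C c - X : k[X]) = -(X - C c) := by ring
        rw [this, natDegree_neg, natDegree_X_sub_C]
      omega

theorem main (k : Type u) [Field k] [IsAlgClosed k] (A : Type u) [CommRing A] [Algebra k A]
    (h : Nat.card (Subalgebra k A) = 2) :
    Nonempty (A ≃ₐ[k] (k × k)) ∨ Nonempty (A ≃ₐ[k] DualNumber k) := by
  obtain ⟨hne, hall⟩ := bot_or_top h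
  have hnontriv : Nontrivial A := by
    by_contra hnt
    rw [not_nontrivial_iff_subsingleton] at hnt
    apply hne
    apply le_antisymm bot_le
    intro x _
    rw [Subsingleton.elim x 0]
    exact Subalgebra.zero_mem _
  obtain ⟨a, ha⟩ : ∃ a : A, a ∉ (⊥ : Subalgebra k A) := by
    by_contra hcon
    push Not at hcon
    exact hne (le_antisymm bot_le fun x _ => hcon x)
  have hinj : Function.Injective (algebraMap k A) := (algebraMap k A).injective
  obtain ⟨p, q, hpq⟩ := exists_quadratic hall a ha
  -- root of X^2 + pX + q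
  obtain ⟨r, hr⟩ := IsAlgClosed.exists_root (C (1 : k) * X ^ 2 + C p * X + C q) (by
    rw [degree_quadratic one_ne_zero]; norm_num)
  have hr' : r ^ 2 + p * r + q = 0 := by
    have h1 : eval r (C (1 : k) * X ^ 2 + C p * X + C q) = 0 := hr
    simpa using h1
  obtain ⟨s, hs⟩ : ∃ s : k, s = -p - r := ⟨_, rfl⟩
  have hrs : (a - algebraMap k A r) * (a - algebraMap k A s) = 0 := by
    have h1 : algebraMap k A (r ^ 2 + p * r + q) = 0 := by rw [hr', map_zero]
    rw [map_add, map_add, map_mul, map_pow] at h1
    rw [hs, map_sub, map_neg]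
    linear_combination hpq - h1
  -- not-in-bot helper
  have hnotbot : ∀ (u v : k), u ≠ 0 → algebraMap k A u * a + algebraMap k A v ∉
      (⊥ : Subalgebra k A) := by
    intro u v hu hmem
    apply ha
    obtain ⟨c, hc⟩ := Algebra.mem_bot.1 hmem
    refine Algebra.mem_bot.2 ⟨u⁻¹ * (c - v), ?_⟩
    rw [map_mul, map_sub, hc, add_sub_cancel_right, ← mul_assoc, ← map_mul, inv_mul_cancel₀ hu,
      map_one, one_mul]
  have hsurj : ∀ (φ : (k × k) →ₐ[k] A) (z : k × k), φ z ∉ (⊥ : Subalgebra k A) →
      Function.Surjective φ := by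
    intro φ z hz
    rw [← AlgHom.range_eq_top]
    rcases hall φ.range with h1 | h1
    · exact absurd (h1 ▸ (⟨z, rfl⟩ : φ z ∈ φ.range)) hz
    · exact h1
  by_cases hrs' : r = s
  · -- dual numbers
    right
    have hb : (a - algebraMap k A r) * (a - algebraMap k A r) = 0 := by
      have h1 := hrs
      rw [← hrs'] at h1
      exact h1
    let φ : DualNumber k →ₐ[k] A := DualNumber.lift
      ⟨(Algebra.ofId k A, a - algebraMap k A r), hb, fun _ => Commute.all _ _⟩
    have hφ : ∀ z : DualNumber k, φ z = algebraMap k A z.fst + algebraMap k A z.snd *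
        (a - algebraMap k A r) := fun z => DualNumber.lift_apply_apply _ z
    have hφinj : Function.Injective φ := by
      rw [injective_iff_map_eq_zero]
      intro z hz
      rw [hφ] at hz
      have hsnd : z.snd = 0 := by
        by_contra hne0
        apply hnotbot z.snd (z.fst - z.snd * r) hne0
        have h1 : algebraMap k A z.snd * a + algebraMap k A (z.fst - z.snd * r) = 0 := by
          rw [map_sub, map_mul]
          linear_combination hz
        rw [h1]
        exact Subalgebra.zero_mem _
      rw [hsnd, map_zero, zero_mul, add_zero] at hz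
      have hfst : z.fst = 0 := hinj (by rw [hz, map_zero])
      exact TrivSqZeroExt.ext hfst hsnd
    have hφsurj : Function.Surjective φ := by
      rw [← AlgHom.range_eq_top]
      rcases hall φ.range with h1 | h1
      · exfalso
        have h2 : φ DualNumber.eps ∈ φ.range := ⟨_, rfl⟩
        rw [h1, hφ] at h2
        simp only [DualNumber.fst_eps, DualNumber.snd_eps, map_zero, map_one, one_mul,
          zero_add] at h2
        apply hnotbot 1 (-r) one_ne_zero
        rw [map_one, one_mul, map_neg, ← sub_eq_add_neg]
        exact h2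
      · exact h1
    exact ⟨(AlgEquiv.ofBijective φ ⟨hφinj, hφsurj⟩).symm⟩
  · -- k × k
    left
    have hrs0 : r - s ≠ 0 := sub_ne_zero.2 hrs'
    obtain ⟨e, he⟩ : ∃ e : A, e = algebraMap k A (r - s)⁻¹ * (a - algebraMap k A s) := ⟨_, rfl⟩
    obtain ⟨e', he'⟩ : ∃ e' : A, e' = algebraMap k A (r - s)⁻¹ * (algebraMap k A r - a) :=
      ⟨_, rfl⟩
    have hsum : e + e' = 1 := by
      rw [he, he', ← mul_add]
      have h1 : a - algebraMap k A s + (algebraMap k A r - a) = algebraMap k A (r - s) := by
        rw [map_sub]; ring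
      rw [h1, ← map_mul, inv_mul_cancel₀ hrs0, map_one]
    have hee' : e * e' = 0 := by
      rw [he, he']
      linear_combination (-(algebraMap k A (r - s)⁻¹ * algebraMap k A (r - s)⁻¹)) * hrs
    have hee : e * e = e := by
      have h1 : e * (e + e') = e := by rw [hsum, mul_one]
      rw [mul_add, hee', add_zero] at h1
      exact h1
    have he'e' : e' * e' = e' := by
      have h1 : (e + e') * e' = e' := by rw [hsum, one_mul]
      rw [add_mul, hee', zero_add] at h1
      exact h1
    let φ : (k × k) →ₐ[k] A :=
      { toFun := fun z => algebraMap k A z.1 * e + algebraMap k A z.2 * e'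
        map_one' := by
          show algebraMap k A 1 * e + algebraMap k A 1 * e' = 1
          rw [map_one, one_mul, one_mul, hsum]
        map_mul' := fun z w => by
          show algebraMap k A (z.1 * w.1) * e + algebraMap k A (z.2 * w.2) * e' =
            (algebraMap k A z.1 * e + algebraMap k A z.2 * e') *
              (algebraMap k A w.1 * e + algebraMap k A w.2 * e')
          rw [map_mul, map_mul]
          linear_combination (-(algebraMap k A z.1 * algebraMap k A w.1)) * hee -
            (algebraMap k A z.1 * algebraMap k A w.2 + algebraMap k A z.2 * algebraMap k A w.1) *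
              hee' - (algebraMap k A z.2 * algebraMap k A w.2) * he'e'
        map_zero' := by
          show algebraMap k A 0 * e + algebraMap k A 0 * e' = 0
          rw [map_zero, zero_mul, zero_mul, add_zero]
        map_add' := fun z w => by
          show algebraMap k A (z.1 + w.1) * e + algebraMap k A (z.2 + w.2) * e' =
            (algebraMap k A z.1 * e + algebraMap k A z.2 * e') +
              (algebraMap k A w.1 * e + algebraMap k A w.2 * e')
          rw [map_add, map_add]; ring
        commutes' := fun c => by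
          show algebraMap k A c * e + algebraMap k A c * e' = algebraMap k A c
          rw [← mul_add, hsum, mul_one] }
    have hφ : ∀ z : k × k, φ z = algebraMap k A z.1 * e + algebraMap k A z.2 * e' := fun _ => rfl
    have he0 : e ∉ (⊥ : Subalgebra k A) := by
      rw [he]
      have h1 : algebraMap k A (r - s)⁻¹ * (a - algebraMap k A s) =
          algebraMap k A (r - s)⁻¹ * a + algebraMap k A (-((r - s)⁻¹ * s)) := by
        rw [map_neg, map_mul]; ring
      rw [h1]
      exact hnotbot _ _ (inv_ne_zero hrs0)
    have he'0 : e' ∉ (⊥ : Subalgebra k A) := by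
      rw [he']
      have h1 : algebraMap k A (r - s)⁻¹ * (algebraMap k A r - a) =
          algebraMap k A (-(r - s)⁻¹) * a + algebraMap k A ((r - s)⁻¹ * r) := by
        rw [map_neg, map_mul]; ring
      rw [h1]
      exact hnotbot _ _ (neg_ne_zero.2 (inv_ne_zero hrs0))
    have hφinj : Function.Injective φ := by
      rw [injective_iff_map_eq_zero]
      intro z hz
      rw [hφ] at hz
      have h1 : algebraMap k A z.1 * e = 0 := by
        have h2 : (algebraMap k A z.1 * e + algebraMap k A z.2 * e') * e = 0 := by
          rw [hz, zero_mul]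
        rw [add_mul, mul_assoc, mul_assoc, hee, mul_comm e' e, hee', mul_zero, add_zero] at h2
        exact h2
      have h2 : algebraMap k A z.2 * e' = 0 := by
        rw [h1, zero_add] at hz
        exact hz
      have hz1 : z.1 = 0 := by
        by_contra hne0
        apply he0
        have h3 : e = algebraMap k A z.1⁻¹ * (algebraMap k A z.1 * e) := by
          rw [← mul_assoc, ← map_mul, inv_mul_cancel₀ hne0, map_one, one_mul]
        rw [h3, h1, mul_zero]
        exact Subalgebra.zero_mem _
      have hz2 : z.2 = 0 := by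
        by_contra hne0
        apply he'0
        have h3 : e' = algebraMap k A z.2⁻¹ * (algebraMap k A z.2 * e') := by
          rw [← mul_assoc, ← map_mul, inv_mul_cancel₀ hne0, map_one, one_mul]
        rw [h3, h2, mul_zero]
        exact Subalgebra.zero_mem _
      exact Prod.ext hz1 hz2
    have hφsurj : Function.Surjective φ := by
      apply hsurj φ (1, 0)
      rw [hφ]
      show algebraMap k A 1 * e + algebraMap k A 0 * e' ∉ _
      rw [map_one, one_mul, map_zero, zero_mul, add_zero]
      exact he0
    exact ⟨(AlgEquiv.ofBijective φ ⟨hφinj, hφsurj⟩).symm⟩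

end Groth.Agent.Helper1.TwoSubalg
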