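import Mathlib
import Groth.Agent.Lib.Helper1.UCTb

universe u
open CategoryTheory MonoidalCategory Limits TensorProduct

namespace Groth.Agent.Helper1.TwoTerm
open Groth.Agent.Helper1.TorL Groth.Agent.Helper1.UCT
theorem quot_equiv_generic {A : Type*} [CommRing A] {E F : Type*} [AddCommGroup E] [Module A E]
    [AddCommGroup F] [Module A F] (ψ : E →ₗ[A] F) (hψ : Function.Surjective ψ)
    (R : Submodule A E) (h : LinearMap.ker ψ = R) : Nonempty ((E ⧸ R) ≃ₗ[A] F) :=
  ⟨(Submodule.quotEquivOfEq _ _ h.symm).trans (ψ.quotKerEquivOfSurjective hψ)⟩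

variable {A : Type u} [CommRing A] {P₁ P₀ : Type u} [AddCommGroup P₁] [Module A P₁]
  [AddCommGroup P₀] [Module A P₀] (d : P₁ →ₗ[A] P₀) (Y : Type u) [AddCommGroup Y] [Module A Y]

theorem range_le_ker :
    LinearMap.range ((LinearMap.ker d).subtype.rTensor Y) ≤ LinearMap.ker (d.rTensor Y) := by
  rintro _ ⟨x, rfl⟩
  rw [LinearMap.mem_ker, ← LinearMap.comp_apply, ← LinearMap.rTensor_comp]
  have : d ∘ₗ (LinearMap.ker d).subtype = 0 := by
    ext z
    exact z.2
  rw [this, LinearMap.rTensor_zero, LinearMap.zero_apply]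

/-- `P₁ ⊗ Y → B ⊗ Y`. -/
noncomputable abbrev φ : P₁ ⊗[A] Y →ₗ[A] (LinearMap.range d) ⊗[A] Y := d.rangeRestrict.rTensor Y

theorem comp_φ : (LinearMap.range d).subtype.rTensor Y ∘ₗ φ d Y = d.rTensor Y := by
  rw [← LinearMap.rTensor_comp]
  rfl

theorem φ_surjective : Function.Surjective (φ d Y) :=
  LinearMap.rTensor_surjective Y d.surjective_rangeRestrict

theorem ker_φ : LinearMap.ker (φ d Y) = LinearMap.range ((LinearMap.ker d).subtype.rTensor Y) := by
  have hex : Function.Exact (LinearMap.ker d).subtype d.rangeRestrict := by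
    intro x
    constructor
    · intro hx
      refine ⟨⟨x, ?_⟩, rfl⟩
      have := congrArg Subtype.val hx
      exact this
    · rintro ⟨z, rfl⟩
      apply Subtype.ext
      exact z.2
  exact (rTensor_exact Y hex d.surjective_rangeRestrict).linearMap_ker_eq

/-- the restriction of `φ` to the kernels. -/
noncomputable def ψ : LinearMap.ker (d.rTensor Y) →ₗ[A]
    LinearMap.ker ((LinearMap.range d).subtype.rTensor Y) :=
  LinearMap.codRestrict _ (φ d Y ∘ₗ (LinearMap.ker (d.rTensor Y)).subtype) (by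
    intro x
    rw [LinearMap.mem_ker, LinearMap.comp_apply, ← LinearMap.comp_apply, comp_φ]
    exact x.2)

theorem ψ_surjective : Function.Surjective (ψ d Y) := by
  intro y
  obtain ⟨x, hx⟩ := φ_surjective d Y y.1
  have hxk : x ∈ LinearMap.ker (d.rTensor Y) := by
    rw [LinearMap.mem_ker, ← comp_φ, LinearMap.comp_apply, hx]
    exact y.2
  exact ⟨⟨x, hxk⟩, Subtype.ext hx⟩

theorem ker_ψ : LinearMap.ker (ψ d Y) =
    Submodule.comap (LinearMap.ker (d.rTensor Y)).subtype
      (LinearMap.range ((LinearMap.ker d).subtype.rTensor Y)) := by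
  ext x
  rw [LinearMap.mem_ker, Submodule.mem_comap, ← ker_φ, LinearMap.mem_ker]
  constructor
  · intro h
    exact congrArg Subtype.val h
  · intro h
    exact Subtype.ext h

theorem part3 : Nonempty ((↥(LinearMap.ker (d.rTensor Y)) ⧸
    Submodule.comap (LinearMap.ker (d.rTensor Y)).subtype
      (LinearMap.range ((LinearMap.ker d).subtype.rTensor Y))) ≃ₗ[A]
    ↥(LinearMap.ker ((LinearMap.range d).subtype.rTensor Y))) :=
  quot_equiv_generic (E := ↥(LinearMap.ker (d.rTensor Y)))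
    (F := ↥(LinearMap.ker ((LinearMap.range d).subtype.rTensor Y)))
    (ψ d Y) (ψ_surjective d Y) _ (ker_ψ d Y)


section TorParts

theorem exact_ker_range : Function.Exact (LinearMap.ker d).subtype d.rangeRestrict := by
  intro x
  constructor
  · intro hx
    refine ⟨⟨x, ?_⟩, rfl⟩
    have := congrArg Subtype.val hx
    exact this
  · rintro ⟨z, rfl⟩
    apply Subtype.ext
    exact z.2

/-- `0 → ker d → P₁ → range d → 0`. -/
noncomputable abbrev S1 : ShortComplex (ModuleCat.{u} A) :=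
  ModuleCat.shortComplexOfCompEqZero (LinearMap.ker d).subtype d.rangeRestrict
    (exact_ker_range d).linearMap_comp_eq_zero

theorem S1_shortExact : (S1 d).ShortExact :=
  ModuleCat.shortComplex_shortExact _ (exact_ker_range d) (LinearMap.ker d).injective_subtype
    d.surjective_rangeRestrict

/-- `0 → range d → P₀ → coker d → 0`. -/
noncomputable abbrev S2 : ShortComplex (ModuleCat.{u} A) :=
  ModuleCat.shortComplexOfCompEqZero (LinearMap.range d).subtype (LinearMap.range d).mkQ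
    (by ext x; simp)

theorem S2_shortExact : (S2 d).ShortExact := shortExact_subtype_mkQ (LinearMap.range d)

variable [Module.Flat A P₁] [Module.Flat A P₀]

theorem part1 : Nonempty (LinearMap.ker ((LinearMap.ker d).subtype.rTensor Y) ≃ₗ[A]
    T 2 (ModuleCat.of A (P₀ ⧸ LinearMap.range d)) (ModuleCat.of A Y)) := by
  have h2 : IsZero (T 2 (S2 d).X₂ (ModuleCat.of A Y)) :=
    isZero_tor_succ_of_flat (ModuleCat.of A P₀) (ModuleCat.of A Y) 1
  have h1 : IsZero (T 1 (S2 d).X₂ (ModuleCat.of A Y)) :=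
    isZero_tor_succ_of_flat (ModuleCat.of A P₀) (ModuleCat.of A Y) 0
  have e1 := torShiftIso (S2 d) (S2_shortExact d) (ModuleCat.of A Y) 1 h2 h1
  have h1' : IsZero (T 1 (S1 d).X₂ (ModuleCat.of A Y)) :=
    isZero_tor_succ_of_flat (ModuleCat.of A P₁) (ModuleCat.of A Y) 0
  obtain ⟨e2⟩ := nonempty_torOne_iso_ker (S1 d) (S1_shortExact d) (ModuleCat.of A Y) h1'
  exact ⟨((e1 ≪≫ e2).toLinearEquiv).symm⟩

theorem part3' : Nonempty (LinearMap.ker ((LinearMap.range d).subtype.rTensor Y) ≃ₗ[A]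
    T 1 (ModuleCat.of A (P₀ ⧸ LinearMap.range d)) (ModuleCat.of A Y)) := by
  have h1 : IsZero (T 1 (S2 d).X₂ (ModuleCat.of A Y)) :=
    isZero_tor_succ_of_flat (ModuleCat.of A P₀) (ModuleCat.of A Y) 0
  obtain ⟨e2⟩ := nonempty_torOne_iso_ker (S2 d) (S2_shortExact d) (ModuleCat.of A Y) h1
  exact ⟨(e2.toLinearEquiv).symm⟩

theorem main :
    Nonempty (LinearMap.ker ((LinearMap.ker d).subtype.rTensor Y) ≃ₗ[A]
        T 2 (ModuleCat.of A (P₀ ⧸ LinearMap.range d)) (ModuleCat.of A Y)) ∧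
      LinearMap.range ((LinearMap.ker d).subtype.rTensor Y) ≤ LinearMap.ker (d.rTensor Y) ∧
      Nonempty ((↥(LinearMap.ker (d.rTensor Y)) ⧸
          Submodule.comap (LinearMap.ker (d.rTensor Y)).subtype
            (LinearMap.range ((LinearMap.ker d).subtype.rTensor Y))) ≃ₗ[A]
        T 1 (ModuleCat.of A (P₀ ⧸ LinearMap.range d)) (ModuleCat.of A Y)) := by
  refine ⟨part1 d Y, range_le_ker d Y, ?_⟩
  obtain ⟨e1⟩ := part3 d Y
  obtain ⟨e2⟩ := part3' d Y
  exact ⟨e1.trans e2⟩

end TorParts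

end Groth.Agent.Helper1.TwoTerm
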