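import Mathlib
import Groth.Agent.Lib.Helper1.VAngD
import Groth.Agent.Lib.Helper1.AmpleLib3
import Groth.Agent.Lib.Helper1.ThmB4

/-!
# Loci of generation of sections of relatively ample modules over universally closed morphisms
are affine over the base (helper1)
-/

set_option backward.isDefEq.respectTransparency.types false
set_option synthInstance.maxHeartbeats 400000
set_option autoImplicit false
set_option linter.unusedSectionVars false
universe u
open CategoryTheory CategoryTheory.Limits AlgebraicGeometry TopologicalSpace Opposite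
  HomogeneousLocalization

namespace Groth.Agent.Helper1.UCAff

open Groth.Agent.Helper1.QcCech Groth.Agent.Helper1.SubSh Groth.Agent.Helper1.LGen
open Groth.Agent.Helper1 Groth.Agent.Helper1.AmpleLib Groth.Agent.Helper1.TwForm
open Groth.Agent.Helper1.TmulLib Groth.Agent.Helper1.TwistSec Groth.Agent.Helper1.TensGen
open Groth.Agent.Helper1.VA1 Groth.Agent.Helper1.VA2
open Groth.Agent.Helper1.ProjUP5 Groth.Agent.Helper1.PullSec Groth.Agent.Helper1.PullGen
open Groth.Agent.Helper1.ProjUP7

section Affine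

/-- a quasi-affine scheme universally closed over an affine scheme is affine -/
theorem isAffine_of_isQuasiAffine_of_universallyClosed {U B : Scheme.{u}} [IsAffine B]
    (g : U ⟶ B) [UniversallyClosed g] [U.IsQuasiAffine] : IsAffine U := by
  have hnat : U.toSpecΓ ≫ Spec.map g.appTop = g ≫ B.toSpecΓ :=
    (Scheme.toSpecΓ_naturality g).symm
  haveI : UniversallyClosed (U.toSpecΓ ≫ Spec.map g.appTop) := by rw [hnat]; infer_instance
  haveI : UniversallyClosed U.toSpecΓ :=
    UniversallyClosed.of_comp_of_isSeparated U.toSpecΓ (Spec.map g.appTop)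
  have hcl : IsClosed (Set.range U.toSpecΓ) := U.toSpecΓ.isClosedMap.isClosed_range
  have hdense : DenseRange U.toSpecΓ := U.toSpecΓ.denseRange
  have hsurj : Function.Surjective U.toSpecΓ := by
    rw [← Set.range_eq_univ, ← hcl.closure_eq]
    exact hdense.closure_range
  haveI : Surjective U.toSpecΓ := ⟨hsurj⟩
  haveI : IsIso U.toSpecΓ :=
    (isIso_iff_isOpenImmersion_and_surjective _).2 ⟨inferInstance, inferInstance⟩
  exact ⟨inferInstance⟩

/-- the locus of generation of a section of an ample module is affine as soon as it is the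
preimage of an affine open under a universally closed morphism -/
theorem isAffineOpen_genLocus_of_uc {X P : Scheme.{u}} (r : X ⟶ P) [UniversallyClosed r]
    (V : P.Opens) (hV : IsAffineOpen V) {L : X.Modules} (hL : CohB1.IsAmple L)
    (s : Coh.structureModule X ⟶ L) (hpre : CohB1.genLocus L s = r ⁻¹ᵁ V)
    (hc : IsCompact ((CohB1.genLocus L s : X.Opens) : Set X)) :
    IsAffineOpen (CohB1.genLocus L s) := by
  have hamp : CohB1.IsAmple (L.restrict (CohB1.genLocus L s).ι) :=
    isAmple_restrict_of_isCompact hL _ hc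
  have hgl : CohB1.genLocus (L.restrict (CohB1.genLocus L s).ι)
      (restrictSec (CohB1.genLocus L s).ι s) = ⊤ := by
    rw [genLocus_restrictSec]
    exact Scheme.Opens.ι_preimage_self _
  haveI : IsIso (restrictSec (CohB1.genLocus L s).ι s) :=
    Groth.Agent.Lead.SurfSec.isIso_of_genLocus_eq_top _ hgl
  have hO : CohB1.IsAmple (Coh.structureModule (↑(CohB1.genLocus L s) : Scheme.{u})) :=
    TwistAmpleOpen.isAmple_of_iso (asIso (restrictSec (CohB1.genLocus L s).ι s)).symm hamp
  haveI : (↑(CohB1.genLocus L s) : Scheme.{u}).IsQuasiAffine :=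
    GenLoc.isQuasiAffine_of_isAmple_O hO
  haveI : IsAffine (↑V : Scheme.{u}) := hV
  let g : (↑(CohB1.genLocus L s) : Scheme.{u}) ⟶ (↑V : Scheme.{u}) :=
    (X.isoOfEq hpre).hom ≫ (r ∣_ V)
  haveI : UniversallyClosed (r ∣_ V) :=
    IsZariskiLocalAtTarget.restrict ‹UniversallyClosed r› V
  haveI : UniversallyClosed g := by
    change UniversallyClosed ((X.isoOfEq hpre).hom ≫ (r ∣_ V))
    infer_instance
  exact isAffine_of_isQuasiAffine_of_universallyClosed g

end Affine

section Charts

variable {R : Type u} [CommRing R] {X : Scheme.{u}}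

/-- the loci of generation of a finite generating family of global sections of an ample
module on a scheme universally closed over an affine base are affine -/
theorem isAffineOpen_genLocus_of_cover_uc (q : X ⟶ Spec (CommRingCat.of R))
    [UniversallyClosed q]
    {L : X.Modules} (hL : CohB1.IsAmple L) {ι : Type*} [Fintype ι] (σ : ι → Γ(L, ⊤))
    (hcov : ∀ x : X, ∃ l, x ∈ CohB1.genLocus L (TwistAmple.homOfSec L (σ l))) (l : ι) :
    IsAffineOpen (CohB1.genLocus L (TwistAmple.homOfSec L (σ l))) := by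
  classical
  haveI : CompactSpace X := hL.2.1
  let e : Option ι ≃ Fin (Fintype.card ι + 1) :=
    (Fintype.equivFin (Option ι)).trans (finCongr Fintype.card_option)
  let s : Fin (Fintype.card ι + 1) → Γ(L, ⊤) := fun i => (e.symm i).elim 0 σ
  have hs : ∀ l : ι, s (e (some l)) = σ l := by
    intro l
    change (e.symm (e (some l))).elim 0 σ = σ l
    rw [Equiv.symm_apply_apply]
    rfl
  have hgen : ProjUP.GeneratedBy L s := by
    apply generatedBy_of_cover
    intro x
    obtain ⟨a, ha⟩ := hcov x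
    exact ⟨e (some a), by rw [hs]; exact ha⟩
  obtain ⟨r, hr, τ, hτ⟩ := Groth.Agent.S3572.result (R := R) (Fintype.card ι) q L hL.1 s hgen
  let 𝒮 := CohB1.polyGrading (Fintype.card ι) R
  have hτ' : ∀ k, τ.hom.app ⊤ (pt 𝒮 (ProjUP8.tX (Fintype.card ι) _)
      (ProjUP8.htX (Fintype.card ι) _) r k) = s k := hτ
  have hpre : ∀ k, r ⁻¹ᵁ D 𝒮 (ProjUP8.tX (Fintype.card ι) _) k =
      CohB1.genLocus L (TwistAmple.homOfSec L (s k)) :=
    preimage_D 𝒮 (ProjUP8.tX (Fintype.card ι) _) (ProjUP8.htX (Fintype.card ι) _)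
      (ProjUP8.hcov (Fintype.card ι) _) r τ s hτ'
  haveI : UniversallyClosed (r ≫ CohB1.ProjSpace.toSpec (Fintype.card ι) R) := by
    rw [hr]; infer_instance
  haveI : IsSeparated (CohB1.ProjSpace.toSpec (Fintype.card ι) R) :=
    (VA5.isProper_toSpec (Fintype.card ι) R).toIsSeparated
  haveI : UniversallyClosed r :=
    UniversallyClosed.of_comp_of_isSeparated r (CohB1.ProjSpace.toSpec (Fintype.card ι) R)
  haveI : QuasiSeparatedSpace (CohB1.ProjSpace (Fintype.card ι) R) :=
    quasiSeparatedSpace_of_quasiSeparated (CohB1.ProjSpace.toSpec (Fintype.card ι) R)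
  haveI : QuasiCompact r := inferInstance
  have haffD : IsAffineOpen (D 𝒮 (ProjUP8.tX (Fintype.card ι) _) (e (some l))) :=
    Proj.isAffineOpen_basicOpen 𝒮 _ (ProjUP8.htX (Fintype.card ι) _ (e (some l))) one_pos
  have hc : IsCompact ((CohB1.genLocus L (TwistAmple.homOfSec L (s (e (some l)))) : X.Opens) :
      Set X) := by
    rw [← hpre]
    exact r.isCompact_preimage haffD.isCompact
  have h := isAffineOpen_genLocus_of_uc r _ haffD hL
    (TwistAmple.homOfSec L (s (e (some l)))) (hpre _).symm hc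
  rwa [hs] at h

/-- **the locus of generation of a section of an ample module on a scheme universally closed
over an affine base is affine** -/
theorem isAffineOpen_genLocus_of_universallyClosed (q : X ⟶ Spec (CommRingCat.of R))
    [UniversallyClosed q] {L : X.Modules} (hL : CohB1.IsAmple L)
    (s : Coh.structureModule X ⟶ L) : IsAffineOpen (CohB1.genLocus L s) := by
  classical
  haveI : CompactSpace X := hL.2.1
  haveI : QuasiSeparatedSpace X := quasiSeparatedSpace_of_isAmple hL
  obtain ⟨n₀, hn₀⟩ := eventually_globallyGenerated hL (Coh.structureModule X)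
    (Dv.isCoh_structureModule X)
  have hM := isInvertible_tensorPow hL.1 (n₀ + 1)
  obtain ⟨e⟩ := TwistAmpleOpen.nonempty_tensorMod_unit_iso (CohB1.tensorPow L (n₀ + 1))
  have hMgg : Curv2.IsGloballyGenerated (CohB1.tensorPow L (n₀ + 1)) :=
    ThmB.gg_of_iso e (hn₀ (n₀ + 1) (Nat.le_succ _))
  have hMa : CohB1.IsAmple (CohB1.tensorPow L (n₀ + 1)) :=
    (isAmple_tensorPow_iff hL.1 (n₀ + 1) (Nat.succ_pos _)).1 hL
  obtain ⟨N, τ, hτ⟩ := KosCurve.exists_finite_gen X (CohB1.tensorPow L (n₀ + 1)) hM hMgg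
  have hσ₀ : TwistAmple.homOfSec _ ((SecTwist.powHom s (n₀ + 1)).app ⊤
      (show Γ(Coh.structureModule X, ⊤) from (1 : Γ(X, ⊤)))) = SecTwist.powHom s (n₀ + 1) :=
    (PFrame.eq_homOfSec _).symm
  let σ : Option (Fin N) → Γ(CohB1.tensorPow L (n₀ + 1), ⊤) := fun o =>
    o.elim ((SecTwist.powHom s (n₀ + 1)).app ⊤
      (show Γ(Coh.structureModule X, ⊤) from (1 : Γ(X, ⊤)))) τ
  have hcov : ∀ x : X, ∃ l, x ∈ CohB1.genLocus _ (TwistAmple.homOfSec _ (σ l)) := by
    intro x
    obtain ⟨j, V, hxV, hV⟩ := hτ x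
    refine ⟨some j, (mem_genLocus_iff_isGen _ x).2 ⟨V, hxV, ?_⟩⟩
    rw [secVal_homOfSec]
    exact hV
  have h := isAffineOpen_genLocus_of_cover_uc q hMa σ hcov none
  change IsAffineOpen (CohB1.genLocus _ (TwistAmple.homOfSec _
    ((SecTwist.powHom s (n₀ + 1)).app ⊤
      (show Γ(Coh.structureModule X, ⊤) from (1 : Γ(X, ⊤)))))) at h
  rw [hσ₀, genLocus_powHom hL.1 s n₀] at h
  exact h

end Charts

section Rel

/-- **for a universally closed morphism and a relatively ample module, the locus of generation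
of a global section is affine over the base** -/
theorem isAffineHom_genLocus {X S : Scheme.{u}} (f : X ⟶ S) [UniversallyClosed f]
    (L : X.Modules) (hL : RelAmple.IsRelAmple f L) (s : Coh.structureModule X ⟶ L) :
    IsAffineHom ((CohB1.genLocus L s).ι ≫ f) := by
  refine ⟨fun V hV => ?_⟩
  have hMa : CohB1.IsAmple (L.restrict (f ⁻¹ᵁ V).ι) := hL.2 ⟨V, hV⟩
  haveI : UniversallyClosed (f ∣_ V) :=
    IsZariskiLocalAtTarget.restrict ‹UniversallyClosed f› V
  let q : (↑(f ⁻¹ᵁ V) : Scheme.{u}) ⟶ Spec (CommRingCat.of Γ(S, V)) :=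
    (f ∣_ V) ≫ hV.isoSpec.hom
  haveI : UniversallyClosed q := by
    change UniversallyClosed ((f ∣_ V) ≫ hV.isoSpec.hom)
    infer_instance
  have h1 : IsAffineOpen (CohB1.genLocus (L.restrict (f ⁻¹ᵁ V).ι)
      (restrictSec (f ⁻¹ᵁ V).ι s)) :=
    isAffineOpen_genLocus_of_universallyClosed q hMa (restrictSec (f ⁻¹ᵁ V).ι s)
  rw [genLocus_restrictSec] at h1
  have h2 : IsAffineOpen ((f ⁻¹ᵁ V).ι ''ᵁ ((f ⁻¹ᵁ V).ι ⁻¹ᵁ CohB1.genLocus L s)) :=
    h1.image_of_isOpenImmersion (f ⁻¹ᵁ V).ι
  have e2 : (f ⁻¹ᵁ V).ι ''ᵁ ((f ⁻¹ᵁ V).ι ⁻¹ᵁ CohB1.genLocus L s) =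
      f ⁻¹ᵁ V ⊓ CohB1.genLocus L s := by
    rw [Scheme.Hom.image_preimage_eq_opensRange_inf, Scheme.Opens.opensRange_ι]
  rw [e2] at h2
  have e3 : (CohB1.genLocus L s).ι ''ᵁ (((CohB1.genLocus L s).ι ≫ f) ⁻¹ᵁ V) =
      f ⁻¹ᵁ V ⊓ CohB1.genLocus L s := by
    rw [Scheme.Hom.comp_preimage, Scheme.Hom.image_preimage_eq_opensRange_inf,
      Scheme.Opens.opensRange_ι, inf_comm]
  rw [← e3] at h2
  exact ((CohB1.genLocus L s).ι.isAffineOpen_iff_of_isOpenImmersion).1 h2

end Rel

end Groth.Agent.Helper1.UCAff
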