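import Mathlib
import Groth.Prelude.Def_Coh
import Groth.Prelude.Def_EtZar
import Groth.Agent.Lib.Helper1.Flq6
import Groth.Agent.Lib.Helper1.Uni1
import Groth.Agent.S0454

set_option autoImplicit false
set_option linter.unusedSectionVars false
set_option linter.unusedVariables false
set_option maxHeartbeats 400000
universe u
open CategoryTheory CategoryTheory.Limits AlgebraicGeometry Opposite TopologicalSpace

namespace Groth.Agent.Helper1.Uni

open Groth.Agent.Helper1.Flq

variable (S : Scheme.{u})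

/-- abelian sheaves on the Zariski site, in the universe of the scheme -/
abbrev ShU : Type (u + 1) := Sheaf (Opens.grothendieckTopology S) AddCommGrpCat.{u}

/-- lifting the universe of the values -/
noncomputable abbrev LZ : ShU S ⥤ EtZar.Ab S :=
  sheafCompose (Opens.grothendieckTopology S) AddCommGrpCat.uliftFunctor.{u + 1, u}

instance : (LZ S).Additive where
  map_add := by
    intros
    rfl

/-- global sections -/
noncomputable abbrev ΓU : ShU S ⥤ AddCommGrpCat.{u} :=
  (sheafSections (Opens.grothendieckTopology S) AddCommGrpCat.{u}).obj (op ⊤)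

instance : (ΓU S).Additive where

instance : PreservesFiniteLimits (ΓU S) :=
  inferInstanceAs (PreservesFiniteLimits (sheafToPresheaf _ _ ⋙ (evaluation _ _).obj (op ⊤)))

/-- the constant sheaf `ℤ` -/
noncomputable abbrev ZU : ShU S :=
  (constantSheaf (Opens.grothendieckTopology S) AddCommGrpCat.{u}).obj
    (AddCommGrpCat.of (ULift ℤ))

/-- maps from the constant sheaf are global sections -/
noncomputable def coyonedaIsoΓU : preadditiveCoyoneda.obj (op (ZU S)) ≅ ΓU S :=
  NatIso.ofComponents (fun F => AddEquiv.toAddCommGrpIso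
      (X := AddCommGrpCat.of (ZU S ⟶ F)) (Y := F.obj.obj (op ⊤))
      (((constantSheafAdj (Opens.grothendieckTopology S) AddCommGrpCat.{u}
        (isTerminalTop : IsTerminal (⊤ : Opens S))).homAddEquiv _ F).trans
        (AddCommGrpCat.uliftZMultiplesAddEquiv _)))
    (fun {F G} φ => by
      ext ψ
      change AddCommGrpCat.uliftZMultiplesAddEquiv _
          ((constantSheafAdj (Opens.grothendieckTopology S) AddCommGrpCat.{u}
            (isTerminalTop : IsTerminal (⊤ : Opens S))).homEquiv _ G (ψ ≫ φ)) =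
        (φ.hom.app (op ⊤)).hom (AddCommGrpCat.uliftZMultiplesAddEquiv _
          ((constantSheafAdj (Opens.grothendieckTopology S) AddCommGrpCat.{u}
            (isTerminalTop : IsTerminal (⊤ : Opens S))).homEquiv _ F ψ))
      rw [Adjunction.homEquiv_naturality_right]
      rfl)

/-- global sections commute with lifting the universe -/
noncomputable def liftΓIso : LZ S ⋙ ΓZ S ≅ ΓU S ⋙ AddCommGrpCat.uliftFunctor.{u + 1, u} :=
  NatIso.ofComponents (fun F => Iso.refl _) (fun {F G} φ => by
    refine (Category.comp_id _).trans (Eq.trans ?_ (Category.id_comp _).symm)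
    rfl)

instance : PreservesFiniteLimits (LZ S) := by
  haveI : PreservesFiniteLimits (LZ S ⋙ sheafToPresheaf _ _) :=
    inferInstanceAs (PreservesFiniteLimits
      (sheafToPresheaf (Opens.grothendieckTopology S) AddCommGrpCat.{u} ⋙
        (Functor.whiskeringRight _ _ _).obj AddCommGrpCat.uliftFunctor.{u + 1, u}))
  exact ⟨fun J _ _ => preservesLimitsOfShape_of_reflects_of_preserves (LZ S) (sheafToPresheaf _ _)⟩

/-- lifting the universe preserves epimorphisms -/
theorem epi_LZ_map {F G : ShU S} (φ : F ⟶ G) [Epi φ] : Epi ((LZ S).map φ) := by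
  have h1 : Sheaf.IsLocallySurjective φ := (Sheaf.isLocallySurjective_iff_epi' (φ := φ)).2 inferInstance
  rw [← Sheaf.isLocallySurjective_iff_epi']
  constructor
  intro U s
  refine GrothendieckTopology.superset_covering _ ?_
    (Presheaf.imageSieve_mem (Opens.grothendieckTopology S) φ.hom (U := op U) s.down)
  rintro V i ⟨t, ht⟩
  exact ⟨ULift.up t, congrArg ULift.up ht⟩

instance : (LZ S).PreservesEpimorphisms := ⟨fun φ _ => epi_LZ_map S φ⟩

/-- the lift of an injective sheaf is flasque -/
theorem isFl_LZ_of_injective (Q : ShU S) [Injective Q] : IsFl S ((LZ S).obj Q) := by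
  have hQ : TopCat.Sheaf.IsFlasque (X := S.carrier) Q := Groth.Agent.S0454.result (X := S.carrier) Q
  constructor
  intro U V i
  rw [AddCommGrpCat.epi_iff_surjective]
  have h1 : Epi (Q.obj.map i) := TopCat.Presheaf.IsFlasque.epi (F := Q.obj) i
  rw [AddCommGrpCat.epi_iff_surjective] at h1
  intro s
  obtain ⟨t, ht⟩ := h1 s.down
  exact ⟨ULift.up t, congrArg ULift.up ht⟩

open Groth.Agent.Helper3 in
/-- Zariski cohomology does not depend on the universe of the values -/
theorem lift_iso (A : ShU S) (n : ℕ) :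
    Nonempty (EtZar.H ((LZ S).obj A) n ≃+ Sheaf.H A n) := by
  have hT : ∀ Q : ShU S, Injective Q → ∀ q : ℕ, 0 < q →
      IsZero (((ΓZ S).rightDerived q).obj ((LZ S).obj Q)) := by
    intro Q hQ q hq
    haveI := hQ
    obtain ⟨m, rfl⟩ : ∃ m, q = m + 1 := ⟨q - 1, by omega⟩
    have e := ExtRD.rightDerivedIsoExt (ΓZ S) (ZZ S) (coyonedaIsoΓZ S).symm
      ((LZ S).obj Q) (m + 1)
    refine IsZero.of_iso ?_ e
    have hfl := isFl_LZ_of_injective S Q
    haveI : Subsingleton (Abelian.Ext (ZZ S) ((LZ S).obj Q) (m + 1)) :=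
      ⟨fun x y => (ext_eq_zero_of_isFl _ hfl m x).trans (ext_eq_zero_of_isFl _ hfl m y).symm⟩
    exact AddCommGrpCat.isZero_of_subsingleton _
  have hvan : ∀ q : ℕ, 0 < q → IsZero (((LZ S).rightDerived q).obj A) := by
    intro q hq
    obtain ⟨m, rfl⟩ : ∃ m, q = m + 1 := ⟨q - 1, by omega⟩
    exact rightDerived_isZero_of_exact (LZ S) m A
  obtain ⟨e1⟩ := LerayCol3.nonempty_iso_row (LZ S) (ΓZ S) hT A hvan n
  let e2 := ExtRD.rightDerivedIsoExt (ΓZ S) (ZZ S) (coyonedaIsoΓZ S).symm ((LZ S).obj A) n
  let e3 := (ExtRD.rightDerivedNatIso (liftΓIso S) n).app A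
  obtain ⟨e4⟩ := rightDerived_comp_exact (ΓU S) AddCommGrpCat.uliftFunctor.{u + 1, u} A n
  let e5 := ExtRD.rightDerivedIsoExt (ΓU S) (ZU S) (coyonedaIsoΓU S).symm A n
  let e := e2.symm ≪≫ e1.symm ≪≫ e3 ≪≫ e4 ≪≫ AddCommGrpCat.uliftFunctor.{u + 1, u}.mapIso e5
  exact ⟨e.addCommGroupIsoToAddEquiv.trans AddEquiv.ulift⟩

end Groth.Agent.Helper1.Uni
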