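import Mathlib
import Groth.Prelude.Def_Adeq2
import Groth.Agent.Lib.Helper1.AdqP4

set_option autoImplicit false
set_option linter.unusedSectionVars false
set_option linter.unusedVariables false
set_option maxHeartbeats 400000
universe u
open CategoryTheory CategoryTheory.Limits AlgebraicGeometry Opposite TopologicalSpace

namespace Groth.Agent.Helper1.ZarC

open Groth.Agent.Helper1.AdqP

variable (S : Scheme.{u})

/-- lifting a morphism over `S` to an open containing the image -/
theorem exists_lift (X : Over S) (W : S.Opens)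
    (hW : Set.range X.hom ⊆ (W : Set S)) :
    ∃ h : X ⟶ (BigSite.zarIncl S).obj W, True := by
  have hr : Set.range X.hom ⊆ Set.range W.ι := by
    rw [Scheme.Opens.range_ι]
    exact hW
  let l : X.left ⟶ (W : Scheme.{u}) := IsOpenImmersion.lift W.ι X.hom hr
  have hl : l ≫ W.ι = X.hom := IsOpenImmersion.lift_fac _ _ _
  exact ⟨Over.homMk l hl, trivial⟩

theorem hom_ext_zarIncl {X : Over S} {W : S.Opens} (h h' : X ⟶ (BigSite.zarIncl S).obj W) : h = h' := by
  apply Over.OverMorphism.ext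
  have e1 : h.left ≫ W.ι = X.hom := Over.w h
  have e2 : h'.left ≫ W.ι = X.hom := Over.w h'
  exact (cancel_mono W.ι).1 (e1.trans e2.symm)

theorem range_hom_subset {X : Over S} {W : S.Opens} (f : X ⟶ (BigSite.zarIncl S).obj W) :
    Set.range X.hom ⊆ (W : Set S) := by
  rintro _ ⟨x, rfl⟩
  have e1 : f.left ≫ W.ι = X.hom := Over.w f
  rw [← e1]
  exact (f.left x).2

theorem compatiblePreserving_zarIncl (K : Precoverage Scheme.{u}) :
    CompatiblePreserving (QuotSh.J K S) (BigSite.zarIncl S) := by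
  constructor
  intro ℱ Z T x hx Y₁ Y₂ X f₁ f₂ g₁ g₂ hg₁ hg₂ _
  obtain ⟨h, -⟩ := exists_lift S X (Y₁ ⊓ Y₂) (fun s hs =>
    ⟨range_hom_subset S f₁ hs, range_hom_subset S f₂ hs⟩)
  have e1 : f₁ = h ≫ (BigSite.zarIncl S).map (homOfLE inf_le_left) := hom_ext_zarIncl S _ _
  have e2 : f₂ = h ≫ (BigSite.zarIncl S).map (homOfLE inf_le_right) := hom_ext_zarIncl S _ _
  have hc := hx (homOfLE inf_le_left : Y₁ ⊓ Y₂ ⟶ Y₁) (homOfLE inf_le_right : Y₁ ⊓ Y₂ ⟶ Y₂)
    hg₁ hg₂ (Subsingleton.elim _ _)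
  rw [e1, e2, op_comp, op_comp, ℱ.obj.map_comp, ℱ.obj.map_comp]
  exact congrArg (ℱ.obj.map h.op) hc

theorem coverPreserving_zarIncl (K : Precoverage Scheme.{u}) (hK : Scheme.zariskiPrecoverage ≤ K) :
    CoverPreserving (Opens.grothendieckTopology S) (QuotSh.J K S) (BigSite.zarIncl S) := by
  constructor
  intro U R hR
  rw [Opens.mem_grothendieckTopology] at hR
  let ι : Type u := {V : S.Opens // ∃ f : V ⟶ U, R f}
  let Wf : ι → Over S := fun i => (BigSite.zarIncl S).obj i.1
  let n : ∀ i : ι, Wf i ⟶ (BigSite.zarIncl S).obj U := fun i =>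
    (BigSite.zarIncl S).map i.2.choose
  have hcov := ofArrows_mem_J_of_open K hK ((BigSite.zarIncl S).obj U) Wf n
    (fun i => by
      change IsOpenImmersion (S.homOfLE (leOfHom i.2.choose))
      infer_instance)
    (fun v => by
      obtain ⟨V, f, hf, hv⟩ := hR v.1 v.2
      refine ⟨⟨V, f, hf⟩, ⟨⟨v.1, hv⟩, ?_⟩⟩
      change (S.homOfLE (leOfHom f)) ⟨v.1, hv⟩ = v
      exact Subtype.ext (Scheme.homOfLE_apply (leOfHom f) ⟨v.1, hv⟩))
  refine GrothendieckTopology.superset_covering _ ?_ hcov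
  rintro Y f ⟨Z, h, g', ⟨i⟩, rfl⟩
  exact Sieve.downward_closed _ (Sieve.image_mem_functorPushforward _ R i.2.choose_spec) h

instance zarCont (K : Precoverage Scheme.{u}) [Fact (Scheme.zariskiPrecoverage ≤ K)] :
    BigSite.ZarCont K S :=
  Functor.isContinuous_of_coverPreserving (compatiblePreserving_zarIncl S K)
    (coverPreserving_zarIncl S K Fact.out)

theorem zarCont_fppf : BigSite.ZarCont Scheme.fppfPrecoverage S :=
  Functor.isContinuous_of_coverPreserving (compatiblePreserving_zarIncl S _)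
    (coverPreserving_zarIncl S _ Scheme.zariskiPrecoverage_le_fppfPrecoverage)

end Groth.Agent.Helper1.ZarC
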