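import Mathlib
import Groth.Prelude.Def_Coh
import Groth.Prelude.Def_EtZar
import Groth.Agent.Lib.Helper1.Uni2
import Groth.Agent.Lib.Helper1.Eps4
import Groth.Agent.Lib.Helper1.ZarC1

set_option autoImplicit false
set_option linter.unusedSectionVars false
set_option linter.unusedVariables false
set_option maxHeartbeats 400000
universe u
open CategoryTheory CategoryTheory.Limits AlgebraicGeometry Opposite TopologicalSpace

namespace Groth.Agent.Helper1.Uni

open Groth.Agent.Helper1.Flq Groth.Agent.Helper1.Eps Groth.Agent.Helper1.ZarC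

variable (X : Scheme.{u})

/-- sections of the structure sheaf over an open, seen on the open subscheme -/
noncomputable def secEquiv (U : X.Opens) :
    (((LZ X).obj (Coh.toAb (Coh.structureModule X))).obj.obj (op U)) ≃+
      ((Oab X).obj.obj (op ((BigSite.zarIncl X).obj U))) :=
  (AddEquiv.ulift : ULift.{u + 1} Γ(X, U) ≃+ Γ(X, U)).trans
    ((U.topIso.symm.commRingCatIsoToRingEquiv.toAddEquiv).trans
      (AddEquiv.ulift : ULift.{u + 1} Γ((U : Scheme.{u}), ⊤) ≃+ Γ((U : Scheme.{u}), ⊤)).symm)

theorem secEquiv_nat {U V : X.Opens} (i : V ⟶ U)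
    (x : ((LZ X).obj (Coh.toAb (Coh.structureModule X))).obj.obj (op U)) :
    secEquiv X V ((((LZ X).obj (Coh.toAb (Coh.structureModule X))).obj.map i.op).hom x) =
      ((Oab X).obj.map ((BigSite.zarIncl X).map i).op).hom (secEquiv X U x) := by
  have key : X.presheaf.map i.op ≫ V.topIso.inv =
      U.topIso.inv ≫ (X.homOfLE (leOfHom i)).appTop := by
    rw [Scheme.homOfLE_appTop, Scheme.Opens.topIso_inv, Scheme.Opens.topIso_inv]
    exact (X.presheaf.map_comp _ _).symm.trans
      ((congrArg X.presheaf.map (Subsingleton.elim _ _)).trans (X.presheaf.map_comp _ _))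
  apply ULift.ext
  exact ConcreteCategory.congr_hom key x.down

/-- the structure sheaf of the big fppf site restricts to the structure sheaf of the scheme -/
noncomputable def structIso [BigSite.ZarCont Scheme.fppfPrecoverage X] :
    (LZ X).obj (Coh.toAb (Coh.structureModule X)) ≅
      (BigSite.resZar Scheme.fppfPrecoverage X).obj (Oab X) :=
  (fullyFaithfulSheafToPresheaf _ _).preimageIso
    (NatIso.ofComponents (fun U => AddEquiv.toAddCommGrpIso (secEquiv X U.unop))
      (fun {U V} i => by
        ext x
        exact secEquiv_nat X i.unop x))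

/-- étale cohomology of `G_a` is the Zariski cohomology of the structure sheaf -/
theorem ga_zar_iso (p : ℕ) :
    Nonempty (EtCoh.H X (EtCoh.Ga X) p ≃+ Coh.HH X (Coh.structureModule X) p) := by
  haveI : BigSite.ZarCont Scheme.fppfPrecoverage X := zarCont_fppf X
  obtain ⟨e1⟩ := ga_fppf_iso X p
  obtain ⟨e2⟩ := zar_fppf_iso X (Oab X) (PA_O X) p
  let e3 : EtZar.H ((LZ X).obj (Coh.toAb (Coh.structureModule X))) p ≃+
      EtZar.H ((BigSite.resZar Scheme.fppfPrecoverage X).obj (Oab X)) p :=
    ((Sheaf.functorH (Opens.grothendieckTopology X) p).mapIso (structIso X)).addCommGroupIsoToAddEquiv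
  obtain ⟨e4⟩ := lift_iso X (Coh.toAb (Coh.structureModule X)) p
  exact ⟨e1.trans (e2.symm.trans (e3.symm.trans e4))⟩

end Groth.Agent.Helper1.Uni
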