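import Groth.Prelude.Def_CAlgX
import Mathlib

/-! Helper lemmas about universally injective maps (helper1). -/

namespace Groth.Agent.Helper1.UnivInj

open TensorProduct

universe u

variable {R : Type u} [CommRing R]

/-- For a universally injective `R → S`, the map `q ↦ 1 ⊗ q` is injective. -/
theorem one_tmul_injective {S : Type u} [CommRing S] [Algebra R S]
    (hS : CAlgX.UniversallyInjective R (Algebra.linearMap R S))
    (Q : Type u) [AddCommGroup Q] [Module R Q] :
    Function.Injective (fun q : Q => (1 : S) ⊗ₜ[R] q) := by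
  have h := hS Q
  have : (fun q : Q => (1 : S) ⊗ₜ[R] q) =
      ((Algebra.linearMap R S).rTensor Q) ∘ (TensorProduct.lid R Q).symm := by
    ext q
    simp
  rw [this]
  exact h.comp (TensorProduct.lid R Q).symm.injective

/-- Universally exact sequence with flat middle term: the first term is flat. -/
theorem flat_left {M₁ M₂ : Type u} [AddCommGroup M₁] [Module R M₁] [AddCommGroup M₂] [Module R M₂]
    (f : M₁ →ₗ[R] M₂) (hf : CAlgX.UniversallyInjective R f) [Module.Flat R M₂] :
    Module.Flat R M₁ := by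
  rw [Module.Flat.iff_lTensor_injective']
  intro I
  have h2 : Function.Injective (f.rTensor I) := hf I
  have h3 : Function.Injective (I.subtype.lTensor M₂) :=
    Module.Flat.lTensor_preserves_injective_linearMap _ I.injective_subtype
  have hcomm : (f.rTensor R) ∘ₗ (I.subtype.lTensor M₁) = (I.subtype.lTensor M₂) ∘ₗ (f.rTensor I) := by
    ext; simp
  have : Function.Injective ((f.rTensor R) ∘ₗ (I.subtype.lTensor M₁)) := by
    rw [hcomm]
    exact h3.comp h2
  exact Function.Injective.of_comp this

/-- Universally exact sequence with flat middle term: the last term is flat. -/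
theorem flat_right {M₁ M₂ M₃ : Type u} [AddCommGroup M₁] [Module R M₁] [AddCommGroup M₂]
    [Module R M₂] [AddCommGroup M₃] [Module R M₃]
    (f : M₁ →ₗ[R] M₂) (g : M₂ →ₗ[R] M₃) (hexact : Function.Exact f g)
    (hg : Function.Surjective g) (hf : CAlgX.UniversallyInjective R f) [Module.Flat R M₂] :
    Module.Flat R M₃ := by
  rw [Module.Flat.iff_lTensor_injective']
  intro I
  rw [injective_iff_map_eq_zero]
  intro x hx
  -- lift x to y ∈ M₂ ⊗ I
  obtain ⟨y, rfl⟩ := LinearMap.rTensor_surjective I hg x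
  -- image y' of y in M₂ ⊗ R maps to zero in M₃ ⊗ R
  have hy' : (g.rTensor R) ((I.subtype.lTensor M₂) y) = 0 := by
    have : (g.rTensor R) ∘ₗ (I.subtype.lTensor M₂) = (I.subtype.lTensor M₃) ∘ₗ (g.rTensor I) := by
      ext; simp
    rw [← LinearMap.comp_apply, this, LinearMap.comp_apply, hx]
  -- so y' = (f ⊗ R) z
  obtain ⟨z, hz⟩ := (rTensor_exact R hexact hg ((I.subtype.lTensor M₂) y)).mp hy'
  -- z maps to zero in M₁ ⊗ R/I
  have hzq : ((Ideal.Quotient.mkₐ R I).toLinearMap.lTensor M₁) z = 0 := by
    apply hf (R ⧸ I)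
    have : (f.rTensor (R ⧸ I)) ∘ₗ ((Ideal.Quotient.mkₐ R I).toLinearMap.lTensor M₁) =
        ((Ideal.Quotient.mkₐ R I).toLinearMap.lTensor M₂) ∘ₗ (f.rTensor R) := by
      ext; simp
    rw [map_zero, ← LinearMap.comp_apply, this, LinearMap.comp_apply, hz,
      ← LinearMap.comp_apply, ← LinearMap.lTensor_comp]
    have : (Ideal.Quotient.mkₐ R I).toLinearMap ∘ₗ I.subtype = 0 := by
      ext a
      simp [Ideal.Quotient.eq_zero_iff_mem]
    rw [this, LinearMap.lTensor_zero, LinearMap.zero_apply]
  -- so z comes from w ∈ M₁ ⊗ I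
  have hex : Function.Exact I.subtype (Ideal.Quotient.mkₐ R I).toLinearMap := by
    intro a
    simp [Ideal.Quotient.eq_zero_iff_mem]
  obtain ⟨w, hw⟩ := (lTensor_exact M₁ hex Ideal.Quotient.mk_surjective z).mp hzq
  -- (f ⊗ I) w = y
  have hfw : (f.rTensor I) w = y := by
    apply Module.Flat.lTensor_preserves_injective_linearMap (M := M₂) _ I.injective_subtype
    have : (I.subtype.lTensor M₂) ∘ₗ (f.rTensor I) = (f.rTensor R) ∘ₗ (I.subtype.lTensor M₁) := by
      ext; simp
    rw [← LinearMap.comp_apply, this, LinearMap.comp_apply, hw, hz]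
  rw [← hfw, ← LinearMap.comp_apply, ← LinearMap.rTensor_comp, hexact.linearMap_comp_eq_zero,
    LinearMap.rTensor_zero, LinearMap.zero_apply]

theorem rTensor_quot_injective_iff {M M' : Type u} [AddCommGroup M] [Module R M]
    [AddCommGroup M'] [Module R M'] (f : M →ₗ[R] M') (I : Ideal R) :
    Function.Injective (f.rTensor (R ⧸ I)) ↔
      ∀ x : M, f x ∈ I • (⊤ : Submodule R M') → x ∈ I • (⊤ : Submodule R M) := by
  constructor
  · intro h x hx
    have h1 : (f.rTensor (R ⧸ I)) (x ⊗ₜ[R] (1 : R ⧸ I)) = 0 := by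
      rw [LinearMap.rTensor_tmul, ← tensorQuotEquivQuotSMul_symm_mk,
        (Submodule.Quotient.mk_eq_zero _).mpr hx, map_zero]
    have h2 : x ⊗ₜ[R] (1 : R ⧸ I) = 0 := h (by rw [h1, map_zero])
    have h3 := congrArg (tensorQuotEquivQuotSMul M I) h2
    rw [← tensorQuotEquivQuotSMul_symm_mk, LinearEquiv.apply_symm_apply, map_zero] at h3
    exact (Submodule.Quotient.mk_eq_zero _).mp h3
  · intro h
    rw [injective_iff_map_eq_zero]
    intro t ht
    obtain ⟨q, rfl⟩ := (tensorQuotEquivQuotSMul M I).symm.surjective t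
    obtain ⟨x, rfl⟩ := Submodule.Quotient.mk_surjective _ q
    rw [tensorQuotEquivQuotSMul_symm_mk, LinearMap.rTensor_tmul] at ht
    have h3 := congrArg (tensorQuotEquivQuotSMul M' I) ht
    rw [← tensorQuotEquivQuotSMul_symm_mk, LinearEquiv.apply_symm_apply, map_zero] at h3
    have hx := h x ((Submodule.Quotient.mk_eq_zero _).mp h3)
    rw [(Submodule.Quotient.mk_eq_zero _).mpr hx, map_zero]

theorem exists_fg_le_mem_smul_top {M : Type u} [AddCommGroup M] [Module R M] (I : Ideal R)
    {x : M} (hx : x ∈ I • (⊤ : Submodule R M)) :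
    ∃ J : Ideal R, J.FG ∧ J ≤ I ∧ x ∈ J • (⊤ : Submodule R M) := by
  refine Submodule.smul_induction_on hx (fun r hr n _ => ?_) (fun x y hx hy => ?_)
  · refine ⟨Ideal.span {r}, Submodule.fg_span_singleton r, ?_, ?_⟩
    · rwa [Ideal.span_singleton_le_iff_mem]
    · exact Submodule.smul_mem_smul (Ideal.mem_span_singleton_self r) trivial
  · obtain ⟨J₁, h1, h1', hx⟩ := hx
    obtain ⟨J₂, h2, h2', hy⟩ := hy
    refine ⟨J₁ ⊔ J₂, Submodule.FG.sup h1 h2, sup_le h1' h2', ?_⟩
    exact Submodule.add_mem _ (Submodule.smul_mono_left le_sup_left hx)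
      (Submodule.smul_mono_left le_sup_right hy)

theorem rTensor_quot_injective_of_fg {M M' : Type u} [AddCommGroup M] [Module R M]
    [AddCommGroup M'] [Module R M'] (f : M →ₗ[R] M')
    (h : ∀ I : Ideal R, I.FG → Function.Injective (f.rTensor (R ⧸ I))) (I : Ideal R) :
    Function.Injective (f.rTensor (R ⧸ I)) := by
  rw [rTensor_quot_injective_iff]
  intro x hx
  obtain ⟨J, hJ, hJI, hxJ⟩ := exists_fg_le_mem_smul_top I hx
  exact Submodule.smul_mono_left hJI ((rTensor_quot_injective_iff f J).mp (h J hJ) x hxJ)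

theorem rTensor_injective_of_equiv {M M' : Type u} [AddCommGroup M] [Module R M]
    [AddCommGroup M'] [Module R M'] (f : M →ₗ[R] M') {Q₁ Q₂ : Type u} [AddCommGroup Q₁]
    [Module R Q₁] [AddCommGroup Q₂] [Module R Q₂] (e : Q₁ ≃ₗ[R] Q₂)
    (h : Function.Injective (f.rTensor Q₁)) : Function.Injective (f.rTensor Q₂) := by
  have hcomm : (f.rTensor Q₂) ∘ₗ (e.toLinearMap.lTensor M) =
      (e.toLinearMap.lTensor M') ∘ₗ (f.rTensor Q₁) := by
    ext; simp
  have h1 : Function.Injective ((f.rTensor Q₂) ∘ₗ (e.toLinearMap.lTensor M)) := by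
    rw [hcomm]
    exact (e.lTensor M').injective.comp h
  have h2 : Function.Surjective (e.toLinearMap.lTensor M) := (e.lTensor M).surjective
  intro a b hab
  obtain ⟨a', rfl⟩ := h2 a
  obtain ⟨b', rfl⟩ := h2 b
  rw [h1 hab]

/-- dévissage: injectivity for a submodule and the quotient gives injectivity. -/
theorem rTensor_injective_of_sub_quot {M M' : Type u} [AddCommGroup M] [Module R M]
    [AddCommGroup M'] [Module R M'] [Module.Flat R M'] (f : M →ₗ[R] M') {Q : Type u}
    [AddCommGroup Q] [Module R Q] (Q' : Submodule R Q)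
    (h1 : Function.Injective (f.rTensor Q')) (h2 : Function.Injective (f.rTensor (Q ⧸ Q'))) :
    Function.Injective (f.rTensor Q) := by
  rw [injective_iff_map_eq_zero]
  intro x hx
  have hex : Function.Exact Q'.subtype Q'.mkQ := LinearMap.exact_subtype_mkQ Q'
  -- image of x in M ⊗ Q/Q' is zero
  have hx2 : (Q'.mkQ.lTensor M) x = 0 := by
    apply h2
    have : (f.rTensor (Q ⧸ Q')) ∘ₗ (Q'.mkQ.lTensor M) = (Q'.mkQ.lTensor M') ∘ₗ (f.rTensor Q) := by
      ext; simp
    rw [← LinearMap.comp_apply, this, LinearMap.comp_apply, hx, map_zero, map_zero]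
  obtain ⟨x', rfl⟩ := (lTensor_exact M hex Q'.mkQ_surjective x).mp hx2
  have hx' : x' = 0 := by
    apply h1
    apply Module.Flat.lTensor_preserves_injective_linearMap (M := M') _ Q'.injective_subtype
    have : (Q'.subtype.lTensor M') ∘ₗ (f.rTensor Q') = (f.rTensor Q) ∘ₗ (Q'.subtype.lTensor M) := by
      ext; simp
    rw [← LinearMap.comp_apply, this, LinearMap.comp_apply, hx, map_zero, map_zero]
  rw [hx', map_zero]

theorem rTensor_injective_of_fin {M M' : Type u} [AddCommGroup M] [Module R M]
    [AddCommGroup M'] [Module R M'] [Module.Flat R M'] (f : M →ₗ[R] M')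
    (hcyc : ∀ I : Ideal R, Function.Injective (f.rTensor (R ⧸ I))) :
    ∀ (n : ℕ) (Q : Type u) [AddCommGroup Q] [Module R Q] (s : Fin n → Q),
      Submodule.span R (Set.range s) = ⊤ → Function.Injective (f.rTensor Q) := by
  intro n
  induction n with
  | zero =>
    intro Q _ _ s hs
    have : Subsingleton Q := by
      rw [← Submodule.subsingleton_iff R]
      refine subsingleton_of_bot_eq_top ?_
      rw [← hs]
      simp
    intro a b _
    exact Subsingleton.elim _ _
  | succ n ih =>
    intro Q _ _ s hs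
    let Q' : Submodule R Q := Submodule.span R (Set.range (fun i : Fin n => s i.succ))
    have h1 : Function.Injective (f.rTensor Q') := by
      refine ih Q' (fun i => ⟨s i.succ, Submodule.subset_span ⟨i, rfl⟩⟩) ?_
      apply Submodule.map_injective_of_injective Q'.injective_subtype
      rw [Submodule.map_span, Submodule.map_subtype_top, ← Set.range_comp]
      rfl
    have h2 : Function.Injective (f.rTensor (Q ⧸ Q')) := by
      let g : R →ₗ[R] Q ⧸ Q' := LinearMap.toSpanSingleton R _ (Q'.mkQ (s 0))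
      have hg : Function.Surjective g := by
        rw [← LinearMap.range_eq_top, eq_top_iff]
        have htop : (⊤ : Submodule R (Q ⧸ Q')) = Submodule.map Q'.mkQ ⊤ := by
          rw [Submodule.map_top, Submodule.range_mkQ]
        rw [htop, ← hs, Submodule.map_span, Submodule.span_le]
        rintro _ ⟨_, ⟨i, rfl⟩, rfl⟩
        cases i using Fin.cases with
        | zero => exact ⟨1, by simp [g]⟩
        | succ j =>
          have : Q'.mkQ (s j.succ) = 0 := by
            rw [Submodule.mkQ_apply, Submodule.Quotient.mk_eq_zero]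
            exact Submodule.subset_span ⟨j, rfl⟩
          rw [this]
          exact Submodule.zero_mem _
      exact rTensor_injective_of_equiv f (g.quotKerEquivOfSurjective hg) (hcyc (LinearMap.ker g))
    exact rTensor_injective_of_sub_quot f Q' h1 h2

theorem rTensor_injective_of_cyclic {M M' : Type u} [AddCommGroup M] [Module R M]
    [AddCommGroup M'] [Module R M'] [Module.Flat R M'] (f : M →ₗ[R] M')
    (hcyc : ∀ I : Ideal R, Function.Injective (f.rTensor (R ⧸ I))) :
    CAlgX.UniversallyInjective R f := by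
  intro Q _ _
  rw [injective_iff_map_eq_zero]
  intro x hx
  obtain ⟨Q₀, hfin, hQ₀⟩ := TensorProduct.exists_finite_submodule_right_of_setFinite {x}
    (Set.finite_singleton x)
  obtain ⟨x₀, rfl⟩ := hQ₀ (Set.mem_singleton x)
  obtain ⟨n, s, hs⟩ := Module.Finite.exists_fin (R := R) (M := Q₀)
  have hinj := rTensor_injective_of_fin f hcyc n Q₀ s hs
  have hx₀ : x₀ = 0 := by
    apply hinj
    apply Module.Flat.lTensor_preserves_injective_linearMap (M := M') _ Q₀.injective_subtype
    have : (Q₀.subtype.lTensor M') ∘ₗ (f.rTensor Q₀) = (f.rTensor Q) ∘ₗ (Q₀.subtype.lTensor M) := by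
      ext; simp
    rw [← LinearMap.comp_apply, this, LinearMap.comp_apply, hx, map_zero, map_zero]
  rw [hx₀, map_zero]

end Groth.Agent.Helper1.UnivInj
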