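import Mathlib
import Groth.Agent.Lib.Helper1.VABC
import Groth.Agent.Lib.Helper1.VeryAmpleId
import Groth.Agent.Lib.Helper1.PushQc

set_option autoImplicit false
universe u

open CategoryTheory CategoryTheory.Limits AlgebraicGeometry TopologicalSpace Opposite
open scoped HomogeneousIdeal

namespace Groth.Agent.Helper1.VABC

/-- base change of a projective bundle, with the target bundle given -/
theorem bundle_baseChange {Y Y' P P' : Scheme.{u}} (ψ : Y' ⟶ Y) (E : Y.Modules)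
    [E.IsQuasicoherent] (𝒮 : RelProj.QCGrAlg Y) (j : E ⟶ 𝒮.toModule)
    (hj : RelProj.IsGrSymAlg E 𝒮 j) (p : P ⟶ Y)
    (chart : ∀ (U : Y.Opens) (hU : IsAffineOpen U),
      (((p ⁻¹ᵁ U : P.Opens) : Scheme.{u}) ≅ Proj (𝒮.deg U hU)))
    (hP : RelProj.IsRelProj 𝒮 p chart) (O1 : P.Modules)
    (lam : ∀ (U : Y.Opens) (hU : IsAffineOpen U),
      O1 ⟶ (Scheme.Modules.pushforward (RelProj.emb p chart U hU)).obj
        (GrTwist.twist (𝒮.deg U hU) 1))
    (hO1 : RelProj.IsRelTwist 𝒮 p chart 1 O1 lam)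
    (𝒮' : RelProj.QCGrAlg Y') (j' : (Scheme.Modules.pullback ψ).obj E ⟶ 𝒮'.toModule)
    (hj' : RelProj.IsGrSymAlg ((Scheme.Modules.pullback ψ).obj E) 𝒮' j')
    (p' : P' ⟶ Y')
    (chart' : ∀ (U : Y'.Opens) (hU : IsAffineOpen U),
      (((p' ⁻¹ᵁ U : P'.Opens) : Scheme.{u}) ≅ Proj (𝒮'.deg U hU)))
    (hP' : RelProj.IsRelProj 𝒮' p' chart') (O1' : P'.Modules)
    (lam' : ∀ (U : Y'.Opens) (hU : IsAffineOpen U),
      O1' ⟶ (Scheme.Modules.pushforward (RelProj.emb p' chart' U hU)).obj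
        (GrTwist.twist (𝒮'.deg U hU) 1))
    (hO1' : RelProj.IsRelTwist 𝒮' p' chart' 1 O1' lam') :
    ∃ h : P' ⟶ P, IsPullback h p' p ψ ∧ Nonempty ((Scheme.Modules.pullback h).obj O1 ≅ O1') := by
  let u := SymBC.uGr ψ E hj hj'
  have hu := SymBC.isQBaseChange_uGr ψ E hj hj'
  obtain ⟨h, hh⟩ := ProjBCQ.exists_isProjQMap u hu p chart p' chart' hP hP'
  have hpb := ProjBCQ.isPullback u hu p chart p' chart' hP hP' h hh
  have hcm := isChartMap u hu p chart p' chart' h hh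
  have hiso := RPQ.nonempty_pullback_iso (SymAlg.isGenDegOne_of_isGrSymAlg hj) hP hP' hcm hO1 hO1'
  exact ⟨h, hpb, hiso⟩

/-- transport of a graded symmetric algebra along an isomorphism of modules -/
theorem isGrSymAlg_of_iso {Y : Scheme.{u}} {E E' : Y.Modules} (e : E' ≅ E)
    {𝒮 : RelProj.QCGrAlg Y} {j : E ⟶ 𝒮.toModule} (hj : RelProj.IsGrSymAlg E 𝒮 j) :
    RelProj.IsGrSymAlg E' 𝒮 (e.hom ≫ j) := by
  refine ⟨?_, ?_⟩
  · intro B φ
    obtain ⟨ψ, hψ, hψu⟩ := hj.1 B (e.inv ≫ φ)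
    refine ⟨ψ, ?_, ?_⟩
    · change (e.hom ≫ j) ≫ _ = φ
      rw [Category.assoc, hψ, Iso.hom_inv_id_assoc]
    · intro ψ' hψ'
      apply hψu
      change j ≫ _ = e.inv ≫ φ
      rw [← hψ']
      change _ = e.inv ≫ (e.hom ≫ j) ≫ _
      rw [Category.assoc, Iso.inv_hom_id_assoc]
  · intro U hU x
    exact hj.2 U hU _

/-- very ampleness is preserved by post-composition with a quasi-compact open immersion -/
theorem postcomp_openImmersion {X Y S : Scheme.{u}} (f : X ⟶ Y) (k : Y ⟶ S) [IsOpenImmersion k]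
    [QuasiCompact k] (L : X.Modules) (hva : RelProj.IsRelVeryAmple f L) :
    RelProj.IsRelVeryAmple (f ≫ k) L := by
  obtain ⟨E, hE, 𝒮, j, hj, P, p, chart, hP, O1, lam, hO1, i, hi, hip, ⟨eL⟩⟩ := hva
  have : E.IsQuasicoherent := hE
  let ES : S.Modules := (Scheme.Modules.pushforward k).obj E
  have hES : ES.IsQuasicoherent := PushQc.isQuasicoherent_pushforward k E
  obtain ⟨PS, pS, chartS, hPS⟩ := RP2.exists_isRelProj (SymAlg.symGr ES)
  obtain ⟨O1S, lamS, hO1S⟩ := RP9.exists_isRelTwist hPS 1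
  let e : (Scheme.Modules.pullback k).obj ES ≅ E :=
    (Scheme.Modules.restrictFunctorIsoPullback k).symm.app ES ≪≫
      (Scheme.Modules.restrictFunctorAdjCounitIso k).app E
  obtain ⟨h, hpb, ⟨eO⟩⟩ := bundle_baseChange k ES (SymAlg.symGr ES) (SymAlg.jGr ES)
    (SymAlg.isGrSymAlg ES) pS chartS hPS O1S lamS hO1S 𝒮 (e.hom ≫ j) (isGrSymAlg_of_iso e hj)
    p chart hP O1 lam hO1
  have hh : IsOpenImmersion h := MorphismProperty.of_isPullback hpb.flip ‹IsOpenImmersion k›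
  refine ⟨ES, hES, SymAlg.symGr ES, SymAlg.jGr ES, SymAlg.isGrSymAlg ES, PS, pS, chartS, hPS,
    O1S, lamS, hO1S, i ≫ h, inferInstance, ?_, ⟨?_⟩⟩
  · rw [Category.assoc, hpb.w, ← Category.assoc, hip]
  · exact eL ≪≫ (Scheme.Modules.pullback i).mapIso eO.symm ≪≫
      (Scheme.Modules.pullbackComp i h).app O1S

theorem main12480 (X : Scheme.{u}) [X.IsQuasiAffine] (L : X.Modules)
    (hL : PicF.IsInvertible L) : RelProj.IsRelVeryAmple X.toSpecΓ L := by
  have h := postcomp_openImmersion (𝟙 X) X.toSpecΓ L (VeryAmpleId.main12472 X L hL)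
  rwa [Category.id_comp] at h

end Groth.Agent.Helper1.VABC
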