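import Mathlib
import Groth.Agent.Lib.Helper1.VAcA
import Groth.Agent.Lib.Helper1.HypPnA

/-!
# Sections of an invertible module of degree `≥ 2g - 1 + m` on a proper integral curve surject
onto functions modulo an ideal of colength `m` (helper1)
-/

set_option autoImplicit false
universe u
open CategoryTheory CategoryTheory.Limits AlgebraicGeometry TopologicalSpace Opposite

namespace Groth.Agent.Helper1.VAc

open Groth.Agent.Helper1.QcCech Groth.Agent.Helper1.SubSh Groth.Agent.Helper1.LGen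
open Groth.Agent.Helper1.TmulLib Groth.Agent.Helper1 Groth.Agent.Helper1.TwForm
open Groth.Agent.Helper1.TensGen Groth.Agent.Lib.Helper4.TwExact Groth.Agent.Helper1.Dv
open Groth.Agent.Lib.Helper4 Groth.Agent.Helper1.CurveAmp Groth.Agent.Helper1.FinSupp
open Groth.Agent.Helper1.Euler Groth.Agent.Helper1.Curve Groth.Agent.Helper1.CurveLin
open Groth.Agent.Helper1.CurveDual

section Curve

variable (k : Type u) [Field k] (X : Scheme.{u}) [X.Over (Spec (CommRingCat.of k))]
  [IsIntegral X] [IsProper (X ↘ (Spec (CommRingCat.of k)))]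

theorem surjective_HHlin_quot (hdim : topologicalKrullDim X = 1)
    (h0 : Module.finrank k (Coh.HH X (Coh.structureModule X) 0) = 1)
    (L : X.Modules) (hL : PicF.IsInvertible L) (Z : X.IdealSheafData)
    (hZ : topologicalKrullDim (Z.support : Set X) ≤ 0)
    (hdeg : 2 * (Curv2.genus k X : ℤ) - 1 + Module.finrank k (Coh.HH X (ClSub.quotMod Z) 0) ≤
      Curv2.deg k X L 1) :
    Function.Surjective (Canon.HHlin k ((IdealModL.S Z).map (TL L)).g 0) := by
  have hSE := shortExact_map (locGen_of_isInvertible L hL) (shortExact_S Z)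
  have hsub : Subsingleton (Coh.HH X (CohB1.tensorMod (ClSub.idealMod Z) L) 1) := by
    by_contra hns
    rw [not_subsingleton_iff_nontrivial] at hns
    have := deg_le_of_H1_ideal_nontrivial k X hdim h0 L hL Z hZ hns
    linarith
  intro t
  exact HHFin2.exact_g_delta k hSE 0 t (@Subsingleton.elim _ hsub _ _)

theorem finrank_HH_tensor_quot (L : X.Modules) (hL : PicF.IsInvertible L) (Z : X.IdealSheafData)
    (hZ : topologicalKrullDim (Z.support : Set X) ≤ 0) :
    Module.finrank k (Coh.HH X (CohB1.tensorMod (ClSub.quotMod Z) L) 0) =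
      Module.finrank k (Coh.HH X (ClSub.quotMod Z) 0) := by
  haveI := isNoetherian_of_proper k X
  haveI : IsLocallyNoetherian X := (isNoetherian_of_proper k X).toIsLocallyNoetherian
  have hLc : Coh.IsCoh L := InvQc.isCoh_of_isInvertible _ hL
  have hQc : Coh.IsCoh (ClSub.quotMod Z) := isCoh_quotMod Z
  have hQLc : Coh.IsCoh (CohB1.tensorMod (ClSub.quotMod Z) L) := isCoh_tensor _ _ hQc hLc
  have hQd : topologicalKrullDim ↥(CohB1.support (ClSub.quotMod Z)) ≤ 0 :=
    (Groth.Agent.Helper1.Dv.krullDim_le_of_subset (support_quotMod_subset Z)).trans hZ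
  have hQLd : topologicalKrullDim ↥(CohB1.support (CohB1.tensorMod (ClSub.quotMod Z) L)) ≤ 0 :=
    (Groth.Agent.Helper1.Dv.krullDim_le_of_subset
      (Groth.Agent.Helper1.CurvePt.support_tensor_quotMod_subset Z hL)).trans hZ
  have e3 := euler_tensor_of_dim_zero k X (ClSub.quotMod Z) hQc hQd 1 L (isFinLocFreeOfRank_one hL)
  have e4 := euler_eq_finrank_of_dim_le_zero k X (ClSub.quotMod Z) hQc hQd
  have e5 := euler_eq_finrank_of_dim_le_zero k X _ hQLc hQLd
  rw [e4, e5] at e3
  push_cast at e3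
  have : (Module.finrank k (Coh.HH X (CohB1.tensorMod (ClSub.quotMod Z) L) 0) : ℤ) =
      Module.finrank k (Coh.HH X (ClSub.quotMod Z) 0) := by linarith
  exact_mod_cast this

/-- the structure map `k → Γ(X, W)` -/
noncomputable def ιW (W : X.Opens) : k →+* Γ(X, W) :=
  (resR (le_top : W ≤ ⊤)).comp (ProjUP.toGlobal (X ↘ Spec (CommRingCat.of k)))

omit [IsIntegral X] in
theorem finrank_quotMod_of_ideal (Z : X.IdealSheafData) {W : X.Opens} (hW : IsAffineOpen W)
    (hZW : (Z.support : Set X) ⊆ (W : Set X))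
    (E : Type u) [AddCommGroup E] [Module k E] (Φ : Γ(X, W) →+ E)
    (hΦlin : ∀ (c : k) (x : Γ(X, W)), Φ (ιW k X W c * x) = c • Φ x)
    (hΦsurj : Function.Surjective Φ) (hΦker : ∀ x, Φ x = 0 ↔ x ∈ Z.ideal ⟨W, hW⟩) :
    Module.finrank k (Coh.HH X (ClSub.quotMod Z) 0) = Module.finrank k E := by
  letI a1 : Algebra k Γ(Z.subscheme, ⊤) :=
    (toΓ' k Z.subscheme (Z.subschemeι ≫ (X ↘ Spec (CommRingCat.of k)))).toAlgebra
  obtain ⟨E1⟩ := Groth.Agent.Helper1.CurvePt.nonempty_HH_quotMod_linearEquiv k X Z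
  rw [E1.finrank_eq]
  have hpre : Z.subschemeι ⁻¹ᵁ W = ⊤ := by
    ext z
    simp only [Opens.coe_top, Set.mem_univ, iff_true]
    apply hZW
    rw [← Scheme.IdealSheafData.range_subschemeι]
    exact ⟨z, rfl⟩
  have e : (⊤ : Z.subscheme.Opens) ≤ Z.subschemeι ⁻¹ᵁ W := by rw [hpre]
  let ψ : Γ(X, W) →+* Γ(Z.subscheme, ⊤) := (Z.subschemeι.appLE W ⊤ e).hom
  have hbij : Function.Bijective (Z.subscheme.presheaf.map (homOfLE e).op).hom := by
    have : homOfLE e = eqToHom hpre.symm := Subsingleton.elim _ _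
    rw [this]
    exact ConcreteCategory.bijective_of_isIso _
  have hψ : ∀ r, ψ r = (Z.subscheme.presheaf.map (homOfLE e).op).hom
      ((Z.subschemeι.app W).hom r) := fun r => rfl
  have hψsurj : Function.Surjective ψ := by
    intro t
    obtain ⟨t', rfl⟩ := hbij.2 t
    obtain ⟨r, rfl⟩ := Z.subschemeι_app_surjective ⟨W, hW⟩ t'
    exact ⟨r, rfl⟩
  have hψker : ∀ r, ψ r = 0 ↔ r ∈ Z.ideal ⟨W, hW⟩ := by
    intro r
    rw [hψ, ← Z.ker_subschemeι_app ⟨W, hW⟩, RingHom.mem_ker]
    constructor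
    · intro h
      exact hbij.1 (h.trans (map_zero _).symm)
    · intro h
      rw [h, map_zero]
  have h3 : ∀ g : Γ(X, ⊤), ψ (resR (le_top : W ≤ ⊤) g) = (Z.subschemeι.appTop).hom g := by
    intro g
    have h1 := Scheme.Hom.map_appLE Z.subschemeι e (homOfLE (le_top : W ≤ ⊤)).op
    have h2 := congrArg (fun f => f.hom g) h1
    have h4 : Z.subschemeι.appLE ⊤ ⊤ (fun _ _ => trivial) = Z.subschemeι.appTop :=
      Scheme.Hom.appLE_eq_app _
    exact h2.trans (congrArg (fun f => f.hom g) h4)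
  have hψk : ∀ c : k, ψ (ιW k X W c) = algebraMap k Γ(Z.subscheme, ⊤) c := by
    intro c
    rw [show ιW k X W c = resR (le_top : W ≤ ⊤)
      (ProjUP.toGlobal (X ↘ Spec (CommRingCat.of k)) c) from rfl, h3]
    exact HypPn.toGlobal_comp Z.subschemeι (X ↘ Spec (CommRingCat.of k)) c
  letI algW : Algebra k Γ(X, W) := (ιW k X W).toAlgebra
  let ψL : Γ(X, W) →ₗ[k] Γ(Z.subscheme, ⊤) :=
    { toFun := ψ
      map_add' := map_add ψ
      map_smul' := fun c x => by
        show ψ (ιW k X W c * x) = algebraMap k Γ(Z.subscheme, ⊤) c * ψ x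
        rw [map_mul, hψk] }
  let ΦL : Γ(X, W) →ₗ[k] E :=
    { toFun := Φ
      map_add' := map_add Φ
      map_smul' := fun c x => by
        show Φ (ιW k X W c * x) = c • Φ x
        exact hΦlin c x }
  have hker : LinearMap.ker ψL = LinearMap.ker ΦL := by
    ext x
    rw [LinearMap.mem_ker, LinearMap.mem_ker]
    show ψ x = 0 ↔ Φ x = 0
    rw [hψker, hΦker]
  have h1 := (ψL.quotKerEquivOfSurjective hψsurj).finrank_eq
  have h2 := (ΦL.quotKerEquivOfSurjective hΦsurj).finrank_eq
  rw [← h1, ← h2, hker]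

/-- **key lemma**: sections of an invertible module of large degree surject onto functions modulo
an ideal of small colength supported at closed points -/
theorem exists_section_of_ideal (hdim : topologicalKrullDim X = 1)
    (h0 : Module.finrank k (Coh.HH X (Coh.structureModule X) 0) = 1)
    (L : X.Modules) (hL : PicF.IsInvertible L)
    {W : X.Opens} (hW : IsAffineOpen W) (a : Γ(L, W)) (ha : IsGen L W a)
    (𝔞 : Ideal Γ(X, W)) (S : Set X) (hSfin : S.Finite) (hSne : S.Nonempty)
    (hScl : ∀ x ∈ S, IsClosed ({x} : Set X)) (hSW : S ⊆ (W : Set X))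
    (h𝔞 : ∀ 𝔭 ∈ PrimeSpectrum.zeroLocus (𝔞 : Set Γ(X, W)), hW.fromSpec 𝔭 ∈ S)
    (E : Type u) [AddCommGroup E] [Module k E] [Module.Finite k E] (Φ : Γ(X, W) →+ E)
    (hΦlin : ∀ (c : k) (x : Γ(X, W)), Φ (ιW k X W c * x) = c • Φ x)
    (hΦsurj : Function.Surjective Φ) (hΦker : ∀ x, Φ x = 0 ↔ x ∈ 𝔞)
    (hdeg : 2 * (Curv2.genus k X : ℤ) - 1 + Module.finrank k E ≤ Curv2.deg k X L 1) (e : E) :
    ∃ (s : Γ(L, ⊤)) (r : Γ(X, W)), res L (le_top : W ≤ ⊤) s = r • a ∧ Φ r = e := by
  haveI := isNoetherian_of_proper k X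
  haveI : IsLocallyNoetherian X := (isNoetherian_of_proper k X).toIsLocallyNoetherian
  haveI : QuasiSeparatedSpace X := inferInstance
  have hSclosed := isClosed_of_finite_closed S hSfin hScl
  obtain ⟨Z, hZdef⟩ : ∃ Z : X.IdealSheafData, Z = ZI hW 𝔞 := ⟨_, rfl⟩
  have hZid : Z.ideal ⟨W, hW⟩ = 𝔞 := by rw [hZdef]; exact ZI_ideal hW 𝔞 S hSW h𝔞
  have hZS : (Z.support : Set X) ⊆ S := by
    rw [hZdef]; exact ZI_support_subset hW 𝔞 S hSclosed h𝔞
  have hZW : (Z.support : Set X) ⊆ (W : Set X) := hZS.trans hSW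
  have hZ : topologicalKrullDim (Z.support : Set X) ≤ 0 :=
    (Groth.Agent.Helper1.Dv.krullDim_le_of_subset hZS).trans
      (dim_le_zero_of_finite_closed S hSfin hSne hScl)
  have hfr : Module.finrank k (Coh.HH X (ClSub.quotMod Z) 0) = Module.finrank k E :=
    finrank_quotMod_of_ideal k X Z hW hZW E Φ hΦlin hΦsurj
      (fun x => by rw [hZid]; exact hΦker x)
  have hGsurj := surjective_HHlin_quot k X hdim h0 L hL Z hZ (by rw [hfr]; exact hdeg)
  have hT : Module.finrank k (Coh.HH X (CohB1.tensorMod (ClSub.quotMod Z) L) 0) =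
      Module.finrank k E := (finrank_HH_tensor_quot k X L hL Z hZ).trans hfr
  obtain ⟨e'⟩ := TwistAmpleOpen.nonempty_tensorMod_unit_iso L
  have hLc : Coh.IsCoh L := InvQc.isCoh_of_isInvertible _ hL
  haveI : FiniteDimensional k (Coh.HH X L 0) := T2Main1.t2 k X L hLc 0
  let G : Coh.HH X L 0 →ₗ[k] Coh.HH X (CohB1.tensorMod (ClSub.quotMod Z) L) 0 :=
    (Canon.HHlin k ((IdealModL.S Z).map (TL L)).g 0).comp (Canon.HHlin k e'.inv 0)
  have hG : Function.Surjective G :=
    hGsurj.comp (HHFin1.HHequiv k e'.symm 0).surjective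
  let coef : Coh.HH X L 0 →ₗ[k] E :=
    { toFun := fun x => Φ (coefOf ha (res L (le_top : W ≤ ⊤) (HH0.equiv X L x)))
      map_add' := fun x y => by
        have h1 : HH0.equiv X L (x + y) = HH0.equiv X L x + HH0.equiv X L y := map_add _ _ _
        have h2 : res L (le_top : W ≤ ⊤) (HH0.equiv X L (x + y)) =
            res L (le_top : W ≤ ⊤) (HH0.equiv X L x) +
              res L (le_top : W ≤ ⊤) (HH0.equiv X L y) := by
          rw [h1]
          exact map_add (res L (le_top : W ≤ ⊤)) _ _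
        show Φ (coefOf ha (res L (le_top : W ≤ ⊤) (HH0.equiv X L (x + y)))) =
          Φ (coefOf ha (res L (le_top : W ≤ ⊤) (HH0.equiv X L x))) +
            Φ (coefOf ha (res L (le_top : W ≤ ⊤) (HH0.equiv X L y)))
        rw [h2, coefOf_add, map_add]
      map_smul' := fun c x => by
        have h1 := HH0.equiv_smul_over X L c x
        have h2 : res L (le_top : W ≤ ⊤) (HH0.equiv X L (c • x)) =
            resR (le_top : W ≤ ⊤) (Coh.toGlobal (X ↘ Spec (CommRingCat.of k)) c) •
              res L (le_top : W ≤ ⊤) (HH0.equiv X L x) := by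
          rw [h1]
          exact res_smul L le_top _ _
        show Φ (coefOf ha (res L (le_top : W ≤ ⊤) (HH0.equiv X L (c • x)))) =
          c • Φ (coefOf ha (res L (le_top : W ≤ ⊤) (HH0.equiv X L x)))
        rw [h2, coefOf_smul]
        exact hΦlin c _ }
  have hker : LinearMap.ker coef ≤ LinearMap.ker G := by
    intro x hx
    rw [LinearMap.mem_ker] at hx ⊢
    have hr : coefOf ha (res L (le_top : W ≤ ⊤) (HH0.equiv X L x)) ∈ Z.ideal ⟨W, hW⟩ := by
      rw [hZid]
      exact (hΦker _).1 hx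
    have h1 := image_eq_zero_of_mem_ideal hL Z hW hZW a ha
      (e'.inv ≫ ((IdealModL.S Z).map (TL L)).g) (HH0.equiv X L x) _ a (coefOf_spec ha _) hr
    apply (HH0.equiv X _).injective
    rw [map_zero]
    have hc := HHFin1.HHlin_comp k e'.inv ((IdealModL.S Z).map (TL L)).g 0 x
    have h2 := equiv_HHlin k (e'.inv ≫ ((IdealModL.S Z).map (TL L)).g) x
    exact ((congrArg (HH0.equiv X _) hc).symm.trans (h2.trans h1))
  have hrange : LinearMap.range coef = ⊤ := by
    apply Submodule.eq_top_of_finrank_eq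
    have h2 := LinearMap.finrank_range_add_finrank_ker G
    have h3 := LinearMap.finrank_range_add_finrank_ker coef
    have h4 : Module.finrank k (LinearMap.ker coef) ≤ Module.finrank k (LinearMap.ker G) :=
      Submodule.finrank_mono hker
    have h5 : Module.finrank k (LinearMap.range G) = Module.finrank k E := by
      rw [LinearMap.range_eq_top.2 hG, finrank_top]
      exact hT
    have h6 := Submodule.finrank_le (LinearMap.range coef)
    omega
  obtain ⟨x, hx⟩ := (LinearMap.range_eq_top.1 hrange) e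
  exact ⟨HH0.equiv X L x, coefOf ha (res L (le_top : W ≤ ⊤) (HH0.equiv X L x)),
    (coefOf_spec ha _).symm, hx⟩

end Curve

end Groth.Agent.Helper1.VAc
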