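import Mathlib
import Groth.Prelude.Def_ProjUP
import Groth.Agent.Lib.Helper1.VAcB
import Groth.Agent.Lib.Helper1.CIcE
import Groth.Agent.Lib.Helper1.CurveQP3
import Groth.Agent.Lib.Helper1.NumInv2
import Groth.Agent.Lib.Helper1.GenusOne1
import Groth.Agent.Lib.Helper1.PullGen2

/-!
# Degree `≥ 2g+1` separates points and tangent vectors (over an algebraically closed field)
(helper1)
-/

set_option autoImplicit false
universe u
open CategoryTheory CategoryTheory.Limits AlgebraicGeometry TopologicalSpace Opposite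

namespace Groth.Agent.Helper1.VAc

open Groth.Agent.Helper1.QcCech Groth.Agent.Helper1.SubSh Groth.Agent.Helper1.LGen
open Groth.Agent.Helper1 Groth.Agent.Helper1.PullSec Groth.Agent.Helper1.PullGen
open Groth.Agent.Helper1.ProjUP4 Groth.Agent.Helper1.HypPn Groth.Agent.Helper1.CIc

section General

variable {X : Scheme.{u}} {L : X.Modules} {W : X.Opens} {a : Γ(L, W)}

theorem germ_mem_iff (hW : IsAffineOpen W) (ha : IsGen L W a) (s : Γ(L, ⊤)) (r : Γ(X, W))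
    (hr : res L (le_top : W ≤ ⊤) s = r • a) (P : X) (hP : P ∈ W) :
    (L.presheaf.germ ⊤ P trivial).hom s ∈
      IsLocalRing.maximalIdeal ↑(X.presheaf.stalk P) •
        (⊤ : Submodule ↑(X.presheaf.stalk P) ↑(L.presheaf.stalk P)) ↔
      r ∈ (hW.primeIdealOf ⟨P, hP⟩).asIdeal := by
  have e1 : (L.presheaf.germ ⊤ P trivial).hom s =
      (X.presheaf.germ W P hP).hom r • (L.presheaf.germ W P hP).hom a := by
    rw [← germ_smul', ← hr]
    exact (TopCat.Presheaf.germ_res_apply L.presheaf (homOfLE (le_top : W ≤ ⊤)) P hP s).symm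
  rw [e1, smul_germ_mem_iff ha hP, mem_primeIdealOf_iff hW P hP]

theorem isGen_top_of_eq_top (ha : IsGen L W a) (hW : W = ⊤) (s : Γ(L, ⊤))
    (hs : res L (le_top : W ≤ ⊤) s = a) : IsGen L ⊤ s := by
  subst hW
  rw [res_self] at hs
  subst hs
  exact ha

/-- transfer of `𝔭 ≤ (G) + 𝔭²` to the stalk -/
theorem mL_le_of_le_span_sup_sq (hW : IsAffineOpen W) (ha : IsGen L W a) (P : X) (hPW : P ∈ W)
    (G : Set Γ(X, W))
    (hG : (hW.primeIdealOf ⟨P, hPW⟩).asIdeal ≤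
      Ideal.span G ⊔ (hW.primeIdealOf ⟨P, hPW⟩).asIdeal ^ 2)
    (T : Set ↑(L.presheaf.stalk P))
    (hT : ∀ r ∈ G, (X.presheaf.germ W P hPW).hom r • (L.presheaf.germ W P hPW).hom a ∈ T) :
    IsLocalRing.maximalIdeal ↑(X.presheaf.stalk P) •
        (⊤ : Submodule ↑(X.presheaf.stalk P) ↑(L.presheaf.stalk P)) ≤
      Submodule.span ↑(X.presheaf.stalk P) T ⊔
        (IsLocalRing.maximalIdeal ↑(X.presheaf.stalk P) ^ 2 •
          (⊤ : Submodule ↑(X.presheaf.stalk P) ↑(L.presheaf.stalk P))) := by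
  letI := X.presheaf.algebra_section_stalk (⟨P, hPW⟩ : (W : Opens X))
  haveI := hW.isLocalization_stalk ⟨P, hPW⟩
  have h1 := IsLocalization.AtPrime.map_eq_maximalIdeal (hW.primeIdealOf ⟨P, hPW⟩).asIdeal
    ↑(X.presheaf.stalk P)
  have h2 : IsLocalRing.maximalIdeal ↑(X.presheaf.stalk P) ≤
      Ideal.span ((algebraMap Γ(X, W) ↑(X.presheaf.stalk P)) '' G) ⊔
        IsLocalRing.maximalIdeal ↑(X.presheaf.stalk P) ^ 2 := by
    refine le_trans (le_of_eq h1.symm) ?_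
    refine le_trans (Ideal.map_mono hG) ?_
    rw [Ideal.map_sup, Ideal.map_pow, h1, Ideal.map_span]
  have key : ∀ y ∈ Ideal.span ((algebraMap Γ(X, W) ↑(X.presheaf.stalk P)) '' G),
      y • (L.presheaf.germ W P hPW).hom a ∈ Submodule.span ↑(X.presheaf.stalk P) T := by
    intro y hy
    induction hy using Submodule.span_induction with
    | mem y hy =>
      obtain ⟨r, hr, rfl⟩ := hy
      exact Submodule.subset_span (hT r hr)
    | zero => rw [zero_smul]; exact Submodule.zero_mem _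
    | add y z _ _ hy hz => rw [add_smul]; exact Submodule.add_mem _ hy hz
    | smul c y _ hy => rw [smul_eq_mul, mul_smul]; exact Submodule.smul_mem _ _ hy
  intro v hv
  obtain ⟨ρ, rfl⟩ := exists_smul_germ ha hPW v
  have hρ : ρ ∈ IsLocalRing.maximalIdeal ↑(X.presheaf.stalk P) :=
    (smul_germ_mem_iff ha hPW _ ρ).1 hv
  obtain ⟨ρ₁, hρ₁, ρ₂, hρ₂, hsum⟩ := Submodule.mem_sup.1 (h2 hρ)
  rw [← hsum, add_smul]
  exact Submodule.add_mem _ (Submodule.mem_sup_left (key ρ₁ hρ₁))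
    (Submodule.mem_sup_right (Submodule.smul_mem_smul hρ₂ Submodule.mem_top))

end General

section Pn

variable {k : Type u} [Field k] {n : ℕ} {X : Scheme.{u}}
  {pX : X ⟶ Spec (CommRingCat.of k)} {f : X ⟶ CohB1.ProjSpace n k}

theorem res_sc (hf : f ≫ CohB1.ProjSpace.toSpec n k = pX) (i : Fin (n + 1))
    (c : Fin (n + 1) → k) :
    res (LL f) (le_top : f ⁻¹ᵁ Dc n k i ≤ ⊤) (sc pX f c) =
      (f.app (Dc n k i)).hom (ℓ n k i c) • gen f i := by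
  rw [sc_eq hf c, pullSec_eq]
  have e1 : res _ (show f ⁻¹ᵁ Dc n k i ≤ f ⁻¹ᵁ ⊤ from fun _ _ => trivial)
      (σ f (Twist.twistProjSpace n k 1) ⊤ (tc n k c)) =
      σ f (Twist.twistProjSpace n k 1) (Dc n k i)
        (res (Twist.twistProjSpace n k 1) le_top (tc n k c)) := σ_res f _ le_top (tc n k c)
  rw [res_tc, σ_smul] at e1
  exact e1

theorem not_vanAt_coord (i : Fin (n + 1)) (z : CohB1.ProjSpace n k) (hz : z ∈ Dc n k i) :
    ¬ VanAt n k (tc n k (Pi.single i 1)) z := by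
  rw [vanAt_tc_iff n k i z hz, ℓ_single, cc_self]
  intro h
  exact ((isAffineOpen_Dc n k i).primeIdealOf ⟨z, hz⟩).isPrime.ne_top
    ((Ideal.eq_top_iff_one _).2 h)

theorem vanAt_coord_of_notMem (i : Fin (n + 1)) (z : CohB1.ProjSpace n k) (hz : z ∉ Dc n k i) :
    VanAt n k (tc n k (Pi.single i 1)) z := by
  obtain ⟨j, hj⟩ := ProjUP8.hcov n k z
  have hj' : z ∈ Dc n k j := hj
  rw [vanAt_tc_iff n k j z hj', ℓ_single, mem_prime_iff, IsLocalRing.mem_maximalIdeal,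
    mem_nonunits_iff]
  intro hunit
  have h7 : z ∈ (CohB1.ProjSpace n k).basicOpen (cc n k j i) :=
    ((CohB1.ProjSpace n k).mem_basicOpen _ _ hj').2 hunit
  have h8 : (CohB1.ProjSpace n k).basicOpen (cc n k j i) = Dc n k i ⊓ Dc n k j :=
    ProjUP7.basicOpen_c (CohB1.polyGrading n k) (ProjUP8.tX n k) (ProjUP8.htX n k)
      (ProjUP8.hcov n k) j i
  rw [h8] at h7
  exact hz h7.1

end Pn

section Curve

variable {K : Type u} [Field K] [IsAlgClosed K] (X : Scheme.{u})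
  [X.Over (Spec (CommRingCat.of K))] [IsIntegral X]
  [IsProper (X ↘ (Spec (CommRingCat.of K)))]

omit [IsAlgClosed K] [IsIntegral X] [IsProper (X ↘ (Spec (CommRingCat.of K)))] in
theorem deg_structure : Curv2.deg K X (Coh.structureModule X) 1 = 0 := by
  unfold Curv2.deg; push_cast; ring

/-- sections of degree `≥ 2g+1` separate two closed points of an affine chart -/
theorem exists_sep_section (hdim : topologicalKrullDim X = 1)
    (h0 : Module.finrank K (Coh.HH X (Coh.structureModule X) 0) = 1)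
    (L : X.Modules) (hL : PicF.IsInvertible L)
    (hdeg : 2 * (Curv2.genus K X : ℤ) + 1 ≤ Curv2.deg K X L 1)
    {W : X.Opens} (hW : IsAffineOpen W) (a : Γ(L, W)) (ha : IsGen L W a)
    (P Q : X) (hPW : P ∈ W) (hQW : Q ∈ W) (hPc : IsClosed ({P} : Set X))
    (hQc : IsClosed ({Q} : Set X)) (hPQ : P ≠ Q) :
    ∃ (s : Γ(L, ⊤)) (r : Γ(X, W)), res L (le_top : W ≤ ⊤) s = r • a ∧
      r ∈ (hW.primeIdealOf ⟨P, hPW⟩).asIdeal ∧ r ∉ (hW.primeIdealOf ⟨Q, hQW⟩).asIdeal := by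
  obtain ⟨𝔭, h𝔭⟩ : ∃ 𝔭' : Ideal Γ(X, W), 𝔭' = (hW.primeIdealOf ⟨P, hPW⟩).asIdeal := ⟨_, rfl⟩
  obtain ⟨𝔮, h𝔮⟩ : ∃ 𝔮' : Ideal Γ(X, W), 𝔮' = (hW.primeIdealOf ⟨Q, hQW⟩).asIdeal := ⟨_, rfl⟩
  rw [← h𝔭, ← h𝔮]
  haveI hpm : 𝔭.IsMaximal := by
    rw [h𝔭]; exact hW.primeIdealOf_isMaximal_of_isClosed ⟨P, hPW⟩ hPc
  haveI hqm : 𝔮.IsMaximal := by
    rw [h𝔮]; exact hW.primeIdealOf_isMaximal_of_isClosed ⟨Q, hQW⟩ hQc
  obtain ⟨evP, hevP1, hevP2⟩ := exists_ev (X ↘ Spec (CommRingCat.of K)) hW 𝔭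
  obtain ⟨evQ, hevQ1, hevQ2⟩ := exists_ev (X ↘ Spec (CommRingCat.of K)) hW 𝔮
  have hevP1' : ∀ c, evP (ιW K X W c) = c := hevP1
  have hevQ1' : ∀ c, evQ (ιW K X W c) = c := hevQ1
  have hmemP : ∀ x, evP x = 0 ↔ x ∈ 𝔭 := fun x => by rw [← hevP2]; exact RingHom.mem_ker.symm
  have hmemQ : ∀ x, evQ x = 0 ↔ x ∈ 𝔮 := fun x => by rw [← hevQ2]; exact RingHom.mem_ker.symm
  have hne : 𝔭 ≠ 𝔮 := by
    intro h
    apply hPQ
    have h1 : hW.primeIdealOf ⟨P, hPW⟩ = hW.primeIdealOf ⟨Q, hQW⟩ :=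
      PrimeSpectrum.ext (by rw [← h𝔭, ← h𝔮, h])
    have h2 := congrArg (fun y => hW.fromSpec y) h1
    simp only [IsAffineOpen.fromSpec_primeIdealOf] at h2
    exact h2
  obtain ⟨x₁, hx₁p, hx₁q⟩ : ∃ x, x ∈ 𝔭 ∧ x ∉ 𝔮 := by
    by_contra hcon
    push Not at hcon
    exact hne (hpm.eq_of_le hqm.ne_top hcon)
  obtain ⟨x₂, hx₂q, hx₂p⟩ : ∃ x, x ∈ 𝔮 ∧ x ∉ 𝔭 := by
    by_contra hcon
    push Not at hcon
    exact hne (hqm.eq_of_le hpm.ne_top hcon).symm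
  let Φ : Γ(X, W) →+ K × K :=
    AddMonoidHom.prod (evP : Γ(X, W) →+ K) (evQ : Γ(X, W) →+ K)
  have hΦ : ∀ x, Φ x = (evP x, evQ x) := fun x => rfl
  have hΦlin : ∀ (c : K) (x : Γ(X, W)), Φ (ιW K X W c * x) = c • Φ x := by
    intro c x
    rw [hΦ, hΦ, map_mul, map_mul, hevP1', hevQ1']
    rfl
  have hΦsurj : Function.Surjective Φ := by
    rintro ⟨u, v⟩
    have hP2 : evP x₂ ≠ 0 := fun h => hx₂p ((hmemP x₂).1 h)
    have hQ1 : evQ x₁ ≠ 0 := fun h => hx₁q ((hmemQ x₁).1 h)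
    refine ⟨ιW K X W (u / evP x₂) * x₂ + ιW K X W (v / evQ x₁) * x₁, ?_⟩
    have e1 : evP (ιW K X W (u / evP x₂) * x₂ + ιW K X W (v / evQ x₁) * x₁) = u := by
      rw [map_add, map_mul, map_mul, hevP1', hevP1', (hmemP x₁).2 hx₁p, mul_zero, add_zero,
        div_mul_cancel₀ _ hP2]
    have e2 : evQ (ιW K X W (u / evP x₂) * x₂ + ιW K X W (v / evQ x₁) * x₁) = v := by
      rw [map_add, map_mul, map_mul, hevQ1', hevQ1', (hmemQ x₂).2 hx₂q, mul_zero, zero_add,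
        div_mul_cancel₀ _ hQ1]
    rw [hΦ, e1, e2]
  have hΦker : ∀ x, Φ x = 0 ↔ x ∈ 𝔭 ⊓ 𝔮 := by
    intro x
    rw [hΦ, Prod.mk_eq_zero, hmemP, hmemQ, Ideal.mem_inf]
  have h𝔞 : ∀ 𝔯 ∈ PrimeSpectrum.zeroLocus ((𝔭 ⊓ 𝔮 : Ideal Γ(X, W)) : Set Γ(X, W)),
      hW.fromSpec 𝔯 ∈ ({P, Q} : Set X) := by
    intro 𝔯 h𝔯
    have hle : 𝔭 ⊓ 𝔮 ≤ 𝔯.asIdeal := fun x hx => h𝔯 hx
    rcases (𝔯.isPrime.inf_le).1 hle with h | h
    · have h1 : 𝔯 = hW.primeIdealOf ⟨P, hPW⟩ :=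
        PrimeSpectrum.ext (by rw [← h𝔭]; exact (hpm.eq_of_le 𝔯.isPrime.ne_top h).symm)
      rw [h1]
      exact Or.inl (hW.fromSpec_primeIdealOf ⟨P, hPW⟩)
    · have h1 : 𝔯 = hW.primeIdealOf ⟨Q, hQW⟩ :=
        PrimeSpectrum.ext (by rw [← h𝔮]; exact (hqm.eq_of_le 𝔯.isPrime.ne_top h).symm)
      rw [h1]
      exact Or.inr (hW.fromSpec_primeIdealOf ⟨Q, hQW⟩)
  have hfr : Module.finrank K (K × K) = 2 := by simp
  have hScl : ∀ x ∈ ({P, Q} : Set X), IsClosed ({x} : Set X) := by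
    intro x hx
    rcases hx with h | h
    · rw [h]; exact hPc
    · rw [Set.mem_singleton_iff.1 h]; exact hQc
  have hSW : ({P, Q} : Set X) ⊆ (W : Set X) := by
    intro x hx
    rcases hx with h | h
    · rw [h]; exact hPW
    · rw [Set.mem_singleton_iff.1 h]; exact hQW
  obtain ⟨s, r, hr, hΦr⟩ := exists_section_of_ideal K X hdim h0 L hL hW a ha (𝔭 ⊓ 𝔮) {P, Q}
    (Set.toFinite _) ⟨P, Or.inl rfl⟩ hScl hSW h𝔞 (K × K) Φ hΦlin hΦsurj hΦker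
    (by rw [hfr]; push_cast; linarith) ((0 : K), (1 : K))
  have h1 : evP r = 0 := congrArg Prod.fst hΦr
  have h2 : evQ r = 1 := congrArg Prod.snd hΦr
  refine ⟨s, r, hr, (hmemP r).1 h1, fun h => ?_⟩
  rw [← hmemQ, h2] at h
  exact one_ne_zero h

/-- sections of degree `≥ 2g+1` generate the cotangent space at a closed point of an affine
chart -/
theorem le_span_sup_sq (hdim : topologicalKrullDim X = 1)
    (h0 : Module.finrank K (Coh.HH X (Coh.structureModule X) 0) = 1)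
    (L : X.Modules) (hL : PicF.IsInvertible L)
    (hdeg : 2 * (Curv2.genus K X : ℤ) + 1 ≤ Curv2.deg K X L 1)
    {W : X.Opens} (hW : IsAffineOpen W) (a : Γ(L, W)) (ha : IsGen L W a)
    (P : X) (hPW : P ∈ W) (hPc : IsClosed ({P} : Set X)) :
    (hW.primeIdealOf ⟨P, hPW⟩).asIdeal ≤
      Ideal.span {r | r ∈ (hW.primeIdealOf ⟨P, hPW⟩).asIdeal ∧
        ∃ s : Γ(L, ⊤), res L (le_top : W ≤ ⊤) s = r • a} ⊔
      (hW.primeIdealOf ⟨P, hPW⟩).asIdeal ^ 2 := by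
  obtain ⟨𝔭, h𝔭⟩ : ∃ 𝔭' : Ideal Γ(X, W), 𝔭' = (hW.primeIdealOf ⟨P, hPW⟩).asIdeal := ⟨_, rfl⟩
  rw [← h𝔭]
  haveI hpm : 𝔭.IsMaximal := by
    rw [h𝔭]; exact hW.primeIdealOf_isMaximal_of_isClosed ⟨P, hPW⟩ hPc
  obtain ⟨ev, hev1, hev2⟩ := exists_ev (X ↘ Spec (CommRingCat.of K)) hW 𝔭
  have hev1' : ∀ c, ev (ιW K X W c) = c := hev1
  have hmem : ∀ x, ev x = 0 ↔ x ∈ 𝔭 := fun x => by rw [← hev2]; exact RingHom.mem_ker.symm
  obtain ⟨G, hG⟩ : ∃ G' : Set Γ(X, W), G' = {r | r ∈ 𝔭 ∧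
      ∃ s : Γ(L, ⊤), res L (le_top : W ≤ ⊤) s = r • a} := ⟨_, rfl⟩
  rw [← hG]
  intro x₀ hx₀
  by_contra hx₀J
  letI algW : Algebra K Γ(X, W) := (ιW K X W).toAlgebra
  have hsmul : ∀ (c : K) (x : Γ(X, W)), c • x = ιW K X W c * x := fun c x =>
    Algebra.smul_def c x
  obtain ⟨J, hJ⟩ : ∃ J' : Ideal Γ(X, W), J' = Ideal.span G ⊔ 𝔭 ^ 2 := ⟨_, rfl⟩
  rw [← hJ] at hx₀J
  obtain ⟨φ, hφ0, hφJ⟩ := Submodule.exists_le_ker_of_notMem (K := K)
    (p := J.restrictScalars K) (v := x₀) (fun h => hx₀J h)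
  have hφJ' : ∀ y ∈ J, φ y = 0 := fun y hy => LinearMap.mem_ker.1 (hφJ hy)
  have hφlin : ∀ (c : K) (x : Γ(X, W)), φ (ιW K X W c * x) = c * φ x := by
    intro c x
    rw [← hsmul, map_smul, smul_eq_mul]
  have hp2J : 𝔭 ^ 2 ≤ J := by rw [hJ]; exact le_sup_right
  have hGJ : Ideal.span G ≤ J := by rw [hJ]; exact le_sup_left
  have hφmul : ∀ u x, x ∈ 𝔭 → φ (u * x) = ev u * φ x := by
    intro u x hx
    have hu' : u - ιW K X W (ev u) ∈ 𝔭 := by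
      rw [← hmem, map_sub, hev1', sub_self]
    have h1 : u * x = ιW K X W (ev u) * x + (u - ιW K X W (ev u)) * x := by ring
    have h2 : (u - ιW K X W (ev u)) * x ∈ 𝔭 ^ 2 := by
      rw [pow_two]; exact Ideal.mul_mem_mul hu' hx
    rw [h1, map_add, hφlin, hφJ' _ (hp2J h2), add_zero]
  let ψ : Γ(X, W) →+ K :=
    { toFun := fun x => φ x - ev x * φ 1
      map_zero' := by simp
      map_add' := fun x y => by simp only [map_add]; ring }
  have hψ : ∀ x, ψ x = φ x - ev x * φ 1 := fun x => rfl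
  let Φ : Γ(X, W) →+ K × K := AddMonoidHom.prod (ev : Γ(X, W) →+ K) ψ
  have hΦ : ∀ x, Φ x = (ev x, ψ x) := fun x => rfl
  have hψx₀ : ψ x₀ = φ x₀ := by rw [hψ, (hmem x₀).2 hx₀, zero_mul, sub_zero]
  have hψι : ∀ c, ψ (ιW K X W c) = 0 := by
    intro c
    have h3 : φ (ιW K X W c) = c * φ 1 := by
      have := hφlin c 1
      rwa [mul_one] at this
    rw [hψ, h3, hev1', sub_self]
  have hψlin : ∀ c x, ψ (ιW K X W c * x) = c * ψ x := by
    intro c x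
    rw [hψ, hψ, hφlin, map_mul, hev1']; ring
  have hΦlin : ∀ (c : K) (x : Γ(X, W)), Φ (ιW K X W c * x) = c • Φ x := by
    intro c x
    rw [hΦ, hΦ, hψlin, map_mul, hev1']
    rfl
  have hΦsurj : Function.Surjective Φ := by
    rintro ⟨u, v⟩
    refine ⟨ιW K X W u + ιW K X W (v / φ x₀) * x₀, ?_⟩
    have e1 : ev (ιW K X W u + ιW K X W (v / φ x₀) * x₀) = u := by
      rw [map_add, map_mul, hev1', hev1', (hmem x₀).2 hx₀, mul_zero, add_zero]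
    have e2 : ψ (ιW K X W u + ιW K X W (v / φ x₀) * x₀) = v := by
      rw [map_add, hψι, hψlin, hψx₀, zero_add, div_mul_cancel₀ _ hφ0]
    rw [hΦ, e1, e2]
  let 𝔞 : Ideal Γ(X, W) :=
    { carrier := {x | x ∈ 𝔭 ∧ φ x = 0}
      add_mem' := fun {x y} hx hy =>
        ⟨𝔭.add_mem hx.1 hy.1, by rw [map_add, hx.2, hy.2, add_zero]⟩
      zero_mem' := ⟨𝔭.zero_mem, map_zero φ⟩
      smul_mem' := fun u {x} hx =>
        ⟨𝔭.mul_mem_left u hx.1, by rw [smul_eq_mul, hφmul u x hx.1, hx.2, mul_zero]⟩ }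
  have h𝔞mem : ∀ x, x ∈ 𝔞 ↔ x ∈ 𝔭 ∧ φ x = 0 := fun x => Iff.rfl
  have hΦker : ∀ x, Φ x = 0 ↔ x ∈ 𝔞 := by
    intro x
    rw [hΦ, Prod.mk_eq_zero, h𝔞mem, hmem]
    constructor
    · rintro ⟨h1, h2⟩
      refine ⟨h1, ?_⟩
      rw [hψ, (hmem x).2 h1, zero_mul, sub_zero] at h2
      exact h2
    · rintro ⟨h1, h2⟩
      refine ⟨h1, ?_⟩
      rw [hψ, (hmem x).2 h1, zero_mul, sub_zero]; exact h2
  have hp2𝔞 : 𝔭 ^ 2 ≤ 𝔞 := fun y hy =>
    ⟨Ideal.pow_le_self two_ne_zero hy, hφJ' y (hp2J hy)⟩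
  have h𝔞 : ∀ 𝔯 ∈ PrimeSpectrum.zeroLocus (𝔞 : Set Γ(X, W)),
      hW.fromSpec 𝔯 ∈ ({P} : Set X) := by
    intro 𝔯 h𝔯
    have hle : 𝔞 ≤ 𝔯.asIdeal := fun x hx => h𝔯 hx
    haveI := 𝔯.isPrime
    have h1 : 𝔭 ≤ 𝔯.asIdeal := Ideal.IsPrime.le_of_pow_le (hp2𝔞.trans hle)
    have h2 : 𝔯 = hW.primeIdealOf ⟨P, hPW⟩ :=
      PrimeSpectrum.ext (by rw [← h𝔭]; exact (hpm.eq_of_le 𝔯.isPrime.ne_top h1).symm)
    rw [h2]
    exact Set.mem_singleton_iff.2 (hW.fromSpec_primeIdealOf ⟨P, hPW⟩)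
  have hfr : Module.finrank K (K × K) = 2 := by simp
  obtain ⟨s, r, hr, hΦr⟩ := exists_section_of_ideal K X hdim h0 L hL hW a ha 𝔞 {P}
    (Set.finite_singleton P) ⟨P, rfl⟩
    (fun x hx => by rw [Set.mem_singleton_iff.1 hx]; exact hPc)
    (fun x hx => by rw [Set.mem_singleton_iff.1 hx]; exact hPW) h𝔞 (K × K) Φ hΦlin hΦsurj hΦker
    (by rw [hfr]; push_cast; linarith) ((0 : K), (1 : K))
  have h1 : ev r = 0 := congrArg Prod.fst hΦr
  have h2 : ψ r = 1 := congrArg Prod.snd hΦr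
  have hrp : r ∈ 𝔭 := (hmem r).1 h1
  have hφr : φ r = 1 := by
    rw [hψ, h1, zero_mul, sub_zero] at h2; exact h2
  have hrG : r ∈ G := by rw [hG]; exact ⟨hrp, s, hr⟩
  have h3 : φ r = 0 := hφJ' r (hGJ (Ideal.subset_span hrG))
  rw [hφr] at h3
  exact one_ne_zero h3

variable {n : ℕ} {f : X ⟶ CohB1.ProjSpace n K}

omit [IsAlgClosed K] in
theorem isAffineOpen_chart (hdim : topologicalKrullDim X = 1)
    (hf : f ≫ CohB1.ProjSpace.toSpec n K = X ↘ Spec (CommRingCat.of K))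
    (hdeg : 0 < Curv2.deg K X (LL f) 1) (i : Fin (n + 1)) (P : X) (hP : f P ∈ Dc n K i) :
    IsAffineOpen (f ⁻¹ᵁ Dc n K i) := by
  by_cases htop : ∃ y₀ : X, y₀ ∉ f ⁻¹ᵁ Dc n K i
  · obtain ⟨y₀, hy₀⟩ := htop
    exact CurveQP.isAffineOpen_of_ne_top K X hdim _ ⟨P, hP⟩ y₀ hy₀
  · exfalso
    push Not at htop
    have hW : f ⁻¹ᵁ Dc n K i = ⊤ := eq_top_iff.2 (fun y _ => htop y)
    have hres : res (LL f) (le_top : f ⁻¹ᵁ Dc n K i ≤ ⊤)
        (sc (X ↘ Spec (CommRingCat.of K)) f (Pi.single i 1)) = gen f i := by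
      rw [res_sc hf, ℓ_single, cc_self, map_one, one_smul]
    have hg := isGen_top_of_eq_top (isGen_gen (f := f) i) hW _ hres
    haveI := NumInv.isIso_homOfSec_top hg
    have e := GenusOne.deg_iso K X (asIso (TwistAmple.homOfSec (LL f)
      (sc (X ↘ Spec (CommRingCat.of K)) f (Pi.single i 1)))) 1
    rw [deg_structure] at e
    omega

theorem sep_of_deg (hdim : topologicalKrullDim X = 1)
    (h0 : Module.finrank K (Coh.HH X (Coh.structureModule X) 0) = 1)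
    (hf : f ≫ CohB1.ProjSpace.toSpec n K = X ↘ Spec (CommRingCat.of K))
    (hdeg : 2 * (Curv2.genus K X : ℤ) + 1 ≤ Curv2.deg K X (LL f) 1)
    (hspan : ∀ s : Γ(LL f, ⊤), ∃ c, s = sc (X ↘ Spec (CommRingCat.of K)) f c)
    (P Q : X) (hPc : IsClosed ({P} : Set X)) (hQc : IsClosed ({Q} : Set X)) (hPQ : P ≠ Q) :
    ∃ c : Fin (n + 1) → K,
      (gsc (X ↘ Spec (CommRingCat.of K)) f c P ∈ mL f P ∧
        gsc (X ↘ Spec (CommRingCat.of K)) f c Q ∉ mL f Q) ∨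
      (gsc (X ↘ Spec (CommRingCat.of K)) f c Q ∈ mL f Q ∧
        gsc (X ↘ Spec (CommRingCat.of K)) f c P ∉ mL f P) := by
  obtain ⟨i, hi⟩ := ProjUP8.hcov n K (f P)
  have hP : f P ∈ Dc n K i := hi
  by_cases hQ : f Q ∈ Dc n K i
  swap
  · refine ⟨Pi.single i 1, Or.inr ⟨?_, ?_⟩⟩
    · exact (gsc_mem_iff hf _ Q).2 (vanAt_coord_of_notMem i (f Q) hQ)
    · intro h
      exact not_vanAt_coord i (f P) hP ((gsc_mem_iff hf _ P).1 h)
  have hdeg0 : 0 < Curv2.deg K X (LL f) 1 := by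
    have := Int.natCast_nonneg (Curv2.genus K X)
    linarith
  have hW := isAffineOpen_chart X hdim hf hdeg0 i P hP
  have hLL : PicF.IsInvertible (LL f) := isInvertible_pullback f isInvertible_O1'
  obtain ⟨s, r, hr, hrP, hrQ⟩ := exists_sep_section X hdim h0 (LL f) hLL hdeg hW (gen f i)
    (isGen_gen i) P Q hP hQ hPc hQc hPQ
  obtain ⟨c, rfl⟩ := hspan s
  refine ⟨c, Or.inl ⟨?_, ?_⟩⟩
  · exact (germ_mem_iff hW (isGen_gen i) _ r hr P hP).2 hrP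
  · intro h
    exact hrQ ((germ_mem_iff hW (isGen_gen i) _ r hr Q hQ).1 h)

theorem tan_of_deg (hdim : topologicalKrullDim X = 1)
    (h0 : Module.finrank K (Coh.HH X (Coh.structureModule X) 0) = 1)
    (hf : f ≫ CohB1.ProjSpace.toSpec n K = X ↘ Spec (CommRingCat.of K))
    (hdeg : 2 * (Curv2.genus K X : ℤ) + 1 ≤ Curv2.deg K X (LL f) 1)
    (hspan : ∀ s : Γ(LL f, ⊤), ∃ c, s = sc (X ↘ Spec (CommRingCat.of K)) f c)
    (P : X) (hPc : IsClosed ({P} : Set X)) :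
    mL f P ≤ Submodule.span ↑(X.presheaf.stalk P)
        {v | ∃ c : Fin (n + 1) → K,
          v = gsc (X ↘ Spec (CommRingCat.of K)) f c P ∧ v ∈ mL f P} ⊔
      (IsLocalRing.maximalIdeal ↑(X.presheaf.stalk P) ^ 2 •
        (⊤ : Submodule ↑(X.presheaf.stalk P) ↑((LL f).presheaf.stalk P))) := by
  obtain ⟨i, hi⟩ := ProjUP8.hcov n K (f P)
  have hP : f P ∈ Dc n K i := hi
  have hdeg0 : 0 < Curv2.deg K X (LL f) 1 := by
    have := Int.natCast_nonneg (Curv2.genus K X)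
    linarith
  have hW := isAffineOpen_chart X hdim hf hdeg0 i P hP
  have hPW : P ∈ f ⁻¹ᵁ Dc n K i := hP
  have hLL : PicF.IsInvertible (LL f) := isInvertible_pullback f isInvertible_O1'
  have hG := le_span_sup_sq X hdim h0 (LL f) hLL hdeg hW (gen f i) (isGen_gen i) P hPW hPc
  refine mL_le_of_le_span_sup_sq hW (isGen_gen i) P hPW _ hG _ ?_
  rintro r ⟨hrp, s, hs⟩
  obtain ⟨c, rfl⟩ := hspan s
  have hr : r = (f.app (Dc n K i)).hom (ℓ n K i c) := by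
    apply (TensGen.IsGen.bijective_self (isGen_gen (f := f) i)).1
    show r • gen f i = (f.app (Dc n K i)).hom (ℓ n K i c) • gen f i
    rw [← hs, res_sc hf]
  refine ⟨c, ?_, ?_⟩
  · subst hr
    rw [gsc_eq hf i P hP c]
    congr 1
    exact (Scheme.Hom.germ_stalkMap_apply f (Dc n K i) P hP (ℓ n K i c)).symm
  · rw [smul_germ_mem_iff (isGen_gen i) hPW]
    exact (mem_primeIdealOf_iff hW P hPW r).1 hrp

/-- **closed immersion from degree `≥ 2g+1`** (complete linear system, algebraically closed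
base field) -/
theorem closedImmersion_of_deg (hdim : topologicalKrullDim X = 1)
    (h0 : Module.finrank K (Coh.HH X (Coh.structureModule X) 0) = 1)
    (hf : f ≫ CohB1.ProjSpace.toSpec n K = X ↘ Spec (CommRingCat.of K))
    (hdeg : 2 * (Curv2.genus K X : ℤ) + 1 ≤ Curv2.deg K X (LL f) 1)
    (hspan : ∀ s : Γ(LL f, ⊤), ∃ c, s = sc (X ↘ Spec (CommRingCat.of K)) f c) :
    IsClosedImmersion f :=
  closedImmersion_of_sep_tan hf
    (fun P Q hP hQ hPQ => sep_of_deg X hdim h0 hf hdeg hspan P Q hP hQ hPQ)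
    (fun P hP => tan_of_deg X hdim h0 hf hdeg hspan P hP)

end Curve

end Groth.Agent.Helper1.VAc
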