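import Mathlib
import Groth.Prelude.Def_ProjUP
import Groth.Prelude.Def_RelProj3
import Groth.Agent.Lib.Helper1.CIcB
import Groth.Agent.Lib.Helper1.HProjLoc
import Groth.Agent.Lib.Helper1.RP13
import Groth.Agent.Lib.Helper1.HypPnA

/-!
# `O(1)` on projective space and its coordinates under extension of the base field (helper1)
-/

set_option autoImplicit false
universe u
open CategoryTheory CategoryTheory.Limits AlgebraicGeometry TopologicalSpace Opposite

namespace Groth.Agent.Helper1.VAc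

open Groth.Agent.Helper1.QcCech Groth.Agent.Helper1.SubSh Groth.Agent.Helper1.LGen
open Groth.Agent.Helper1 Groth.Agent.Helper1.PullSec Groth.Agent.Helper1.PullGen
open Groth.Agent.Helper1.ProjUP4 Groth.Agent.Helper1.HypPn Groth.Agent.Helper1.CIc

section PnBC

variable (n : ℕ) {k K : Type u} [Field k] [Field K] (ρ : k →+* K)

/-- the base change morphism `P^n_K ⟶ P^n_k` -/
noncomputable abbrev hP : CohB1.ProjSpace n K ⟶ CohB1.ProjSpace n k :=
  Proj.map (HProjLoc.polyMap n ρ) (HProjLoc.hirr_polyMap n ρ)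

theorem hP_preimage_Dc (i : Fin (n + 1)) : hP n ρ ⁻¹ᵁ Dc n k i = Dc n K i := by
  have h1 : hP n ρ ⁻¹ᵁ Dc n k i = Proj.basicOpen (CohB1.polyGrading n K)
      (HProjLoc.polyMap n ρ (MvPolynomial.X i)) := rfl
  rw [h1, HProjLoc.polyMap_apply, MvPolynomial.map_X]

/-- the coefficientwise map as a semilinear map -/
noncomputable def vP : MvPolynomial (Fin (n + 1)) k →ₛₗ[(HProjLoc.polyMap n ρ).toRingHom]
    MvPolynomial (Fin (n + 1)) K where
  toFun := HProjLoc.polyMap n ρ
  map_add' := map_add _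
  map_smul' := fun b x => by
    change HProjLoc.polyMap n ρ (b * x) = HProjLoc.polyMap n ρ b * HProjLoc.polyMap n ρ x
    exact map_mul _ b x

/-- the comparison morphism `O(1) ⟶ h_* O(1)` -/
noncomputable def cm : Twist.twistProjSpace n k 1 ⟶
    (Scheme.Modules.pushforward (hP n ρ)).obj (Twist.twistProjSpace n K 1) :=
  GrMod.comap (HProjLoc.polyMap n ρ) (HProjLoc.hirr_polyMap n ρ) (vP n ρ)
    (fun _ _ hm => (HProjLoc.polyMap n ρ).map_mem hm) 1

theorem cm_coord (i : Fin (n + 1)) :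
    (cm n ρ).app ⊤ (ProjUP.coord n k i) = ProjUP.coord n K i := by
  apply Subtype.ext
  funext y
  apply Subtype.ext
  change GrMod.locModMap (HProjLoc.polyMap n ρ) (HProjLoc.hirr_polyMap n ρ) (vP n ρ) y.1
      (LocalizedModule.mk (MvPolynomial.X i) 1) = _
  rw [GrMod.locModMap_mk]
  have e1 : (vP n ρ) (MvPolynomial.X i) = MvPolynomial.X i := MvPolynomial.map_X ρ i
  rw [e1]
  change LocalizedModule.mk (MvPolynomial.X i : MvPolynomial (Fin (n + 1)) K) _ =
    LocalizedModule.mk (MvPolynomial.X i : MvPolynomial (Fin (n + 1)) K) 1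
  congr 1
  exact Subtype.ext (map_one _)

theorem cm_res_coord (i : Fin (n + 1)) :
    (cm n ρ).app (Dc n k i)
        (res (Twist.twistProjSpace n k 1) (le_top : Dc n k i ≤ ⊤) (ProjUP.coord n k i)) =
      res (Twist.twistProjSpace n K 1) (le_top : hP n ρ ⁻¹ᵁ Dc n k i ≤ ⊤)
        (ProjUP.coord n K i) := by
  have h2 := QcExt.app_res (cm n ρ) (le_top : Dc n k i ≤ ⊤) (ProjUP.coord n k i)
  rw [cm_coord] at h2
  exact h2

theorem isIso_adj : IsIso (((Scheme.Modules.pullbackPushforwardAdjunction (hP n ρ)).homEquiv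
    (Twist.twistProjSpace n k 1) (Twist.twistProjSpace n K 1)).symm (cm n ρ)) := by
  apply RP13.isIso_of_isGen
  intro x
  obtain ⟨i, hi⟩ := ProjUP8.hcov n k (hP n ρ x)
  refine ⟨hP n ρ ⁻¹ᵁ Dc n k i, σ (hP n ρ) (Twist.twistProjSpace n k 1) (Dc n k i)
    (res (Twist.twistProjSpace n k 1) (le_top : Dc n k i ≤ ⊤) (ProjUP.coord n k i)), hi,
    isGen_σ (hP n ρ) (isGen_coord n k i), ?_⟩
  rw [RP13.adjunct_σ, cm_res_coord]
  have h1 := (isGen_coord n K i).res (le_of_eq (hP_preimage_Dc n ρ i))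
  rw [res_res] at h1
  exact h1

/-- **`O(1)` and its coordinates are compatible with extension of the base field** -/
theorem exists_twistIso_carries :
    ∃ θ : (Scheme.Modules.pullback (hP n ρ)).obj (Twist.twistProjSpace n k 1) ≅
        Twist.twistProjSpace n K 1,
      ∀ i, Carries (hP n ρ) (Twist.twistProjSpace n k 1) (Twist.twistProjSpace n K 1) θ
        (ProjUP.coord n k i) (ProjUP.coord n K i) := by
  haveI := isIso_adj n ρ
  refine ⟨asIso (((Scheme.Modules.pullbackPushforwardAdjunction (hP n ρ)).homEquiv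
    (Twist.twistProjSpace n k 1) (Twist.twistProjSpace n K 1)).symm (cm n ρ)), fun i => ?_⟩
  show (((Scheme.Modules.pullbackPushforwardAdjunction (hP n ρ)).homEquiv
    (Twist.twistProjSpace n k 1) (Twist.twistProjSpace n K 1)).symm (cm n ρ)).app ⊤
      (ProjUP.pullSec (hP n ρ) (Twist.twistProjSpace n k 1) (ProjUP.coord n k i)) =
    ProjUP.coord n K i
  rw [pullSec_eq]
  exact (RP13.adjunct_σ (hP n ρ) (cm n ρ) ⊤ (ProjUP.coord n k i)).trans (cm_coord n ρ i)

end PnBC

end Groth.Agent.Helper1.VAc
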