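import Mathlib
import Groth.Prelude.Def_ProjUP
import Groth.Prelude.Def_Curv2
import Groth.Agent.Lib.Helper1.VAcC
import Groth.Agent.Lib.Helper1.VAcD
import Groth.Agent.Lib.Helper1.VAcE
import Groth.Agent.Lib.Helper1.CurveDual4
import Groth.Agent.Lib.Helper1.AmpleQA
import Groth.Agent.Lib.Helper1.InvFt
import Groth.Agent.Lib.Helper1.QcPullGen
import Groth.Agent.Lib.Helper1.HypPnC
import Groth.Agent.Lib.Helper2.Sch.FieldBCDim
import Groth.Agent.Lib.Helper4.T2Main1
import Groth.Agent.S0083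
import Groth.Agent.S3572

/-!
# Invertible modules of degree `≥ 2g+1` on a geometrically integral proper curve are very ample
(helper1)
-/

set_option autoImplicit false
universe u
open CategoryTheory CategoryTheory.Limits AlgebraicGeometry TopologicalSpace Opposite

namespace Groth.Agent.Helper1.VAc

open Groth.Agent.Helper1.QcCech Groth.Agent.Helper1.SubSh Groth.Agent.Helper1.LGen
open Groth.Agent.Helper1 Groth.Agent.Helper1.PullSec Groth.Agent.Helper1.PullGen
open Groth.Agent.Helper1.ProjUP4 Groth.Agent.Helper1.HypPn Groth.Agent.Helper1.CIc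

section Aux

theorem exists_carries_of_eq {X Y : Scheme.{u}} {f₁ f₂ : X ⟶ Y} (h : f₁ = f₂) {M : Y.Modules}
    {N : X.Modules} (θ : (Scheme.Modules.pullback f₁).obj M ≅ N) {ι : Type*}
    (t : ι → Γ(M, ⊤)) (u : ι → Γ(N, ⊤)) (hc : ∀ i, Carries f₁ M N θ (t i) (u i)) :
    ∃ θ' : (Scheme.Modules.pullback f₂).obj M ≅ N, ∀ i, Carries f₂ M N θ' (t i) (u i) := by
  subst h
  exact ⟨θ, hc⟩

theorem fpqc_hP (n : ℕ) {k K : Type u} [Field k] [Field K] (ρ : k →+* K) :
    (@Surjective ⊓ @Flat ⊓ @QuasiCompact : MorphismProperty Scheme.{u}) (hP n ρ) := by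
  have sq := (HProjLoc.isPullback_projSpace n ρ).flip
  have hs : Surjective (Spec.map (CommRingCat.ofHom ρ)) := ⟨fun x => by
    haveI : Subsingleton ↥(Spec (CommRingCat.of k)) :=
      inferInstanceAs (Subsingleton (PrimeSpectrum k))
    haveI : Nonempty ↥(Spec (CommRingCat.of K)) :=
      inferInstanceAs (Nonempty (PrimeSpectrum K))
    obtain ⟨y⟩ := ‹Nonempty ↥(Spec (CommRingCat.of K))›
    exact ⟨y, Subsingleton.elim _ _⟩⟩
  have hfl : Flat (Spec.map (CommRingCat.ofHom ρ)) := by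
    rw [HasRingHomProperty.Spec_iff (P := @Flat)]
    change (letI := ρ.toAlgebra; Module.Flat k K)
    letI := ρ.toAlgebra
    infer_instance
  exact ⟨⟨MorphismProperty.of_isPullback (P := @Surjective) sq hs,
    MorphismProperty.of_isPullback (P := @Flat) sq hfl⟩,
    MorphismProperty.of_isPullback (P := @QuasiCompact) sq inferInstance⟩

end Aux

section Main

variable (k : Type u) [Field k] (X : Scheme.{u}) [X.Over (Spec (CommRingCat.of k))]
  [IsProper (X ↘ (Spec (CommRingCat.of k)))]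

/-- a basis of `H^0(L)`, padded by zero, generates `L` when `deg L ≥ 2g` -/
theorem exists_basis_generatedBy [IsIntegral X] (hdim : topologicalKrullDim X = 1)
    (h0 : Module.finrank k (Coh.HH X (Coh.structureModule X) 0) = 1)
    (L : X.Modules) (hL : PicF.IsInvertible L)
    (hdeg : 2 * (Curv2.genus k X : ℤ) ≤ Curv2.deg k X L 1) {d : ℕ}
    (β : Module.Basis (Fin d) k (Coh.HH X L 0)) :
    ProjUP.GeneratedBy L
      (Fin.cons (0 : ProjUP.Γm L) (fun j => HH0.equiv X L (β j)) : Fin (d + 1) → ProjUP.Γm L) := by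
  intro x
  haveI := Euler.isNoetherian_of_proper k X
  obtain ⟨x₀, hx₀mem, hx₀⟩ := IsClosed.exists_closed_singleton
    (isClosed_closure : IsClosed (closure ({x} : Set X))) ⟨x, subset_closure rfl⟩
  obtain ⟨t, V, hxV, hV⟩ := CurveDual.exists_genAt_closedPoint k X hdim h0 L hL hdeg x₀ hx₀
  have hxV' : x ∈ V := (specializes_iff_mem_closure.2 hx₀mem).mem_open V.isOpen hxV
  rw [eq_top_iff]
  intro v _
  obtain ⟨ρ, rfl⟩ := CIc.exists_smul_germ hV hxV' v
  apply Submodule.smul_mem
  have e0 : (L.presheaf.germ V x hxV').hom (res L le_top t) =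
      (L.presheaf.germ ⊤ x trivial).hom t :=
    TopCat.Presheaf.germ_res_apply L.presheaf (homOfLE (le_top : V ≤ ⊤)) x hxV' t
  rw [e0]
  have h1 : (HH0.equiv X L).symm t = ∑ j, β.repr ((HH0.equiv X L).symm t) j • β j :=
    (β.sum_repr _).symm
  have h2 := congrArg (HH0.equiv X L) h1
  rw [AddEquiv.apply_symm_apply, map_sum] at h2
  let G : Γ(L, ⊤) →+ ↑(L.presheaf.stalk x) := (L.presheaf.germ ⊤ x trivial).hom
  have h3 : G t = ∑ j, G (HH0.equiv X L (β.repr ((HH0.equiv X L).symm t) j • β j)) :=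
    (congrArg G h2).trans (map_sum G _ _)
  show G t ∈ _
  rw [h3]
  refine Submodule.sum_mem _ fun j _ => ?_
  rw [HH0.equiv_smul_over]
  have e1 : G (Coh.toGlobal (X ↘ Spec (CommRingCat.of k)) (β.repr ((HH0.equiv X L).symm t) j) •
      HH0.equiv X L (β j)) = (X.presheaf.germ ⊤ x trivial).hom
        (Coh.toGlobal (X ↘ Spec (CommRingCat.of k)) (β.repr ((HH0.equiv X L).symm t) j)) •
      G (HH0.equiv X L (β j)) := germ_smul' L x ⊤ trivial _ _
  rw [e1]
  apply Submodule.smul_mem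
  exact Submodule.subset_span ⟨j.succ, rfl⟩

set_option maxHeartbeats 1600000 in
/-- **S1611**: an invertible module of degree `≥ 2g+1` on a geometrically integral proper curve
is very ample -/
theorem veryAmple_of_deg_ge [GeometricallyIntegral (X ↘ (Spec (CommRingCat.of k)))]
    (hdim : topologicalKrullDim X = 1)
    (h0 : Module.finrank k (Coh.HH X (Coh.structureModule X) 0) = 1)
    (L : X.Modules) (hL : PicF.IsInvertible L)
    (hdeg : 2 * (Curv2.genus k X : ℤ) + 1 ≤ Curv2.deg k X L 1) :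
    ∃ (n : ℕ) (i : X ⟶ CohB1.ProjSpace n k), IsClosedImmersion i ∧
      i ≫ CohB1.ProjSpace.toSpec n k = X ↘ (Spec (CommRingCat.of k)) ∧
      Nonempty ((Scheme.Modules.pullback i).obj (Twist.twistProjSpace n k 1) ≅ L) := by
  classical
  haveI : Subsingleton ↥(Spec (CommRingCat.of k)) :=
    inferInstanceAs (Subsingleton (PrimeSpectrum k))
  haveI : IsIntegral X :=
    GeometricallyIntegral.isIntegral_of_subsingleton (X ↘ Spec (CommRingCat.of k))
  have hLc : Coh.IsCoh L := InvQc.isCoh_of_isInvertible L hL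
  haveI : L.IsQuasicoherent := hLc.1
  haveI hfin : Module.Finite k (Coh.HH X L 0) := Groth.Agent.Lib.Helper4.T2Main1.t2 k X L hLc 0
  obtain ⟨d, ⟨β⟩⟩ : ∃ d, Nonempty (Module.Basis (Fin d) k (Coh.HH X L 0)) :=
    ⟨_, ⟨Module.finBasis k (Coh.HH X L 0)⟩⟩
  obtain ⟨s, hsdef⟩ : ∃ s : Fin (d + 1) → ProjUP.Γm L,
      s = Fin.cons (0 : ProjUP.Γm L) (fun j => HH0.equiv X L (β j)) := ⟨_, rfl⟩
  have hs0 : s 0 = 0 := by rw [hsdef]; rfl
  have hss : ∀ j : Fin d, s j.succ = HH0.equiv X L (β j) := fun j => by rw [hsdef]; rfl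
  have hgen : ProjUP.GeneratedBy L s := by
    rw [hsdef]
    exact exists_basis_generatedBy k X hdim h0 L hL (by linarith) β
  obtain ⟨f, hf, τ, hτ⟩ := Groth.Agent.S3572.result (R := k) d
    (X ↘ Spec (CommRingCat.of k)) L hL s hgen
  refine ⟨d, f, ?_, hf, ⟨τ⟩⟩
  -- base change to the algebraic closure
  obtain ⟨K, _, _, hKdef⟩ : ∃ (K : Type u) (_ : Field K) (_ : Algebra k K), IsAlgClosed K :=
    ⟨AlgebraicClosure k, inferInstance, inferInstance, inferInstance⟩
  haveI := hKdef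
  letI ov' : (Curv2.bc k X K).Over (Spec (CommRingCat.of K)) := ⟨Curv2.bcSnd k X K⟩
  have hpb := FBC.isPullback_bc k X K
  have hPsq := HProjLoc.isPullback_projSpace d (algebraMap k K)
  have hcomm0 : (Curv2.bcFst k X K ≫ f) ≫ CohB1.ProjSpace.toSpec d k =
      Curv2.bcSnd k X K ≫ Spec.map (CommRingCat.ofHom (algebraMap k K)) := by
    rw [Category.assoc, hf]; exact hpb.w
  obtain ⟨f', hf'1, hf'2⟩ : ∃ f' : Curv2.bc k X K ⟶ CohB1.ProjSpace d K,
      f' ≫ hP d (algebraMap k K) = Curv2.bcFst k X K ≫ f ∧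
      f' ≫ CohB1.ProjSpace.toSpec d K = Curv2.bcSnd k X K :=
    ⟨hPsq.lift (Curv2.bcFst k X K ≫ f) (Curv2.bcSnd k X K) hcomm0, hPsq.lift_fst _ _ _,
      hPsq.lift_snd _ _ _⟩
  have hsq : IsPullback f' (Curv2.bcFst k X K) (hP d (algebraMap k K)) f := by
    refine IsPullback.of_right ?_ hf'1 hPsq.flip
    rw [hf'2, hf]
    exact hpb.flip
  -- properties of the base change
  haveI : IsIntegral (Curv2.bc k X K) := by
    have h := GeometricallyIntegral.geometrically_isIntegral
      (f := X ↘ Spec (CommRingCat.of k))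
    exact h _ _ _ hpb
  haveI : IsProper ((Curv2.bc k X K) ↘ Spec (CommRingCat.of K)) :=
    MorphismProperty.pullback_snd (P := @IsProper) _ _ inferInstance
  have hdim' : topologicalKrullDim (Curv2.bc k X K) = 1 := by
    have h := Groth.Agent.Helper2.FieldBCDim.S4642_main (K := K) (X ↘ Spec (CommRingCat.of k))
    rw [hdim] at h
    exact h
  haveI hOq : (Coh.structureModule X).IsQuasicoherent :=
    InvQc.isQuasicoherent_of_isInvertible _ GenLoc.isInvertible_O
  have eO : (Scheme.Modules.pullback (Curv2.bcFst k X K)).obj (Coh.structureModule X) ≅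
      Coh.structureModule (Curv2.bc k X K) := QcPullGen.pullbackUnitIso (Curv2.bcFst k X K)
  haveI : CompactSpace X := FBC.compactSpace_of_isProper k X
  have hfrO : ∀ p, Module.finrank K (Coh.HH (Curv2.bc k X K)
      (Coh.structureModule (Curv2.bc k X K)) p) =
      Module.finrank k (Coh.HH X (Coh.structureModule X) p) := by
    intro p
    rw [← (Groth.Agent.Lib.Helper4.HHFin1.HHequiv K eO p).finrank_eq]
    exact FBC.finrank_HH_field k K (Curv2.bcFst k X K) hpb (Coh.structureModule X) p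
  have h0' := (hfrO 0).trans h0
  have hgenus : Curv2.genus K (Curv2.bc k X K) = Curv2.genus k X := hfrO 1
  have heulL : Curv2.euler K (Curv2.bc k X K)
      ((Scheme.Modules.pullback (Curv2.bcFst k X K)).obj L) = Curv2.euler k X L := by
    unfold Curv2.euler
    refine finsum_congr fun i => ?_
    rw [FBC.finrank_HH_field k K (Curv2.bcFst k X K) hpb L i]
  have heulO : Curv2.euler K (Curv2.bc k X K) (Coh.structureModule (Curv2.bc k X K)) =
      Curv2.euler k X (Coh.structureModule X) := by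
    unfold Curv2.euler
    refine finsum_congr fun i => ?_
    rw [hfrO i]
  -- the comparison of `O(1)`
  obtain ⟨θ₁, hθ₁⟩ := exists_twistIso_carries d (algebraMap k K)
  have hθA : ∀ i, Carries (f' ≫ hP d (algebraMap k K)) (Twist.twistProjSpace d k 1) (LL f')
      (HypPn.compIso f' (hP d (algebraMap k K)) (Twist.twistProjSpace d k 1)
        (Twist.twistProjSpace d K 1) (LL f') θ₁ (Iso.refl _))
      (ProjUP.coord d k i)
      (ProjUP.pullSec f' (Twist.twistProjSpace d K 1) (ProjUP.coord d K i)) :=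
    fun i => (hθ₁ i).comp (Carries.refl f' _ _)
  have hθB : ∀ i, Carries (Curv2.bcFst k X K ≫ f) (Twist.twistProjSpace d k 1)
      ((Scheme.Modules.pullback (Curv2.bcFst k X K)).obj L)
      (HypPn.compIso (Curv2.bcFst k X K) f (Twist.twistProjSpace d k 1) L
        ((Scheme.Modules.pullback (Curv2.bcFst k X K)).obj L) τ (Iso.refl _))
      (ProjUP.coord d k i) (ProjUP.pullSec (Curv2.bcFst k X K) L (s i)) :=
    fun i => (show Carries f _ _ τ (ProjUP.coord d k i) (s i) from hτ i).comp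
      (Carries.refl (Curv2.bcFst k X K) _ _)
  obtain ⟨θA', hθA'⟩ := exists_carries_of_eq hf'1 _ _ _ hθA
  obtain ⟨θB, hθBdef⟩ : ∃ θB, θB = HypPn.compIso (Curv2.bcFst k X K) f
      (Twist.twistProjSpace d k 1) L
      ((Scheme.Modules.pullback (Curv2.bcFst k X K)).obj L) τ (Iso.refl _) := ⟨_, rfl⟩
  rw [← hθBdef] at hθB
  obtain ⟨θ', hθ'def⟩ : ∃ θ' : LL f' ≅ (Scheme.Modules.pullback (Curv2.bcFst k X K)).obj L,
      θ' = θA'.symm ≪≫ θB := ⟨_, rfl⟩
  have hθ' : ∀ i, θ'.hom.app ⊤
      (ProjUP.pullSec f' (Twist.twistProjSpace d K 1) (ProjUP.coord d K i)) =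
      ProjUP.pullSec (Curv2.bcFst k X K) L (s i) := by
    intro i
    rw [hθ'def]
    show θB.hom.app ⊤ (θA'.inv.app ⊤
      (ProjUP.pullSec f' (Twist.twistProjSpace d K 1) (ProjUP.coord d K i))) = _
    rw [← (hθA' i).eq, PullGen.iso_inv_hom_app]
    exact (hθB i).eq
  have hinj : Function.Injective (θ'.hom.app ⊤) := fun x y hxy => by
    have h := congrArg (θ'.inv.app ⊤) hxy
    rwa [PullGen.iso_inv_hom_app, PullGen.iso_inv_hom_app] at h
  have hdeg' : 2 * (Curv2.genus K (Curv2.bc k X K) : ℤ) + 1 ≤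
      Curv2.deg K (Curv2.bc k X K) (LL f') 1 := by
    have e1 : Curv2.deg K (Curv2.bc k X K) (LL f') 1 = Curv2.deg k X L 1 := by
      unfold Curv2.deg
      rw [Euler.euler_iso K (Curv2.bc k X K) θ', heulL, heulO]
    rw [e1, hgenus]
    exact hdeg
  have hspan : ∀ s' : Γ(LL f', ⊤), ∃ c, s' =
      sc ((Curv2.bc k X K) ↘ Spec (CommRingCat.of K)) f' c := by
    intro s'
    obtain ⟨c, hc⟩ := exists_coeffs_pullSec k K (Curv2.bcFst k X K) hpb L β (θ'.hom.app ⊤ s')
    obtain ⟨c', hc'def⟩ : ∃ c' : Fin (d + 1) → K, c' = Fin.cons (0 : K) c := ⟨_, rfl⟩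
    have hc'0 : c' 0 = 0 := by rw [hc'def]; rfl
    have hc's : ∀ j : Fin d, c' j.succ = c j := fun j => by rw [hc'def]; rfl
    refine ⟨c', hinj ?_⟩
    have e1 : θ'.hom.app ⊤ (sc ((Curv2.bc k X K) ↘ Spec (CommRingCat.of K)) f' c') =
        ∑ i : Fin (d + 1), ProjUP.toGlobal ((Curv2.bc k X K) ↘ Spec (CommRingCat.of K)) (c' i) •
          ProjUP.pullSec (Curv2.bcFst k X K) L (s i) := by
      show θ'.hom.app ⊤ (∑ i : Fin (d + 1), _ • _) = _
      rw [map_sum]
      refine Finset.sum_congr rfl fun i _ => ?_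
      rw [Scheme.Modules.Hom.app_smul, hθ']
    rw [e1, hc, Fin.sum_univ_succ, hc'0, map_zero, zero_smul, zero_add]
    refine Finset.sum_congr rfl fun j _ => ?_
    rw [hc's, hss]
  haveI : IsClosedImmersion f' :=
    closedImmersion_of_deg (K := K) (Curv2.bc k X K) hdim' h0' hf'2 hdeg' hspan
  haveI := Groth.Agent.S0083.result.{u}
  exact MorphismProperty.of_isPullback_of_descendsAlong (P := @IsClosedImmersion)
    (Q := @Surjective ⊓ @Flat ⊓ @QuasiCompact) hsq (fpqc_hP d (algebraMap k K)) inferInstance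

end Main

end Groth.Agent.Helper1.VAc
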