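import Mathlib
import Groth.Agent.Lib.Helper1.VAngB
import Groth.Agent.Lib.Helper1.CurvePt1
import Groth.Agent.Lib.Helper1.CIcA
import Groth.Agent.Lib.Helper1.CurveAmp3
import Groth.Agent.Lib.Helper1.NefGG2

/-!
# Embedding by a basis of the sections of a normally generated ample module (helper1)
-/

set_option backward.isDefEq.respectTransparency.types false
set_option synthInstance.maxHeartbeats 400000
set_option autoImplicit false
set_option linter.unusedSectionVars false
universe u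
open CategoryTheory CategoryTheory.Limits AlgebraicGeometry TopologicalSpace Opposite
  HomogeneousLocalization

namespace Groth.Agent.Helper1.VAng

open Groth.Agent.Helper1.QcCech Groth.Agent.Helper1.SubSh Groth.Agent.Helper1.LGen
open Groth.Agent.Helper1 Groth.Agent.Helper1.AmpleLib Groth.Agent.Helper1.TwForm
open Groth.Agent.Helper1.TmulLib Groth.Agent.Helper1.TwistSec Groth.Agent.Helper1.TensGen
open Groth.Agent.Helper1.VA1 Groth.Agent.Helper1.VA2
open Groth.Agent.Helper1.ProjUP5 Groth.Agent.Helper1.PullSec Groth.Agent.Helper1.PullGen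
open Groth.Agent.Helper1.ProjUP7 Groth.Agent.Helper1.Euler

section Basis

variable (k : Type u) [Field k] (X : Scheme.{u}) [X.Over (Spec (CommRingCat.of k))]
  [IsProper (X ↘ (Spec (CommRingCat.of k)))]

include k in
/-- **embedding by a basis of the sections** of a normally generated, globally generated ample
invertible module -/
theorem exists_closedImmersion_of_basis (L : X.Modules) (hL : CohB1.IsAmple L)
    (hgg : Curv2.IsGloballyGenerated L)
    (hng : ∀ (n : ℕ) (P : Γ(CohB1.tensorPow L (n + 1 + 1), ⊤) → Prop), P 0 →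
      (∀ x y, P x → P y → P (x + y)) →
      (∀ (m : Γ(CohB1.tensorPow L (n + 1), ⊤)) (s : Γ(L, ⊤)),
        P (tm (CohB1.tensorPow L (n + 1)) L ⊤ m s)) → ∀ t, P t)
    (d : ℕ) (β : Module.Basis (Fin (d + 1)) k (Coh.HH X L 0)) :
    ∃ i : X ⟶ CohB1.ProjSpace d k, IsClosedImmersion i ∧
      i ≫ CohB1.ProjSpace.toSpec d k = X ↘ (Spec (CommRingCat.of k)) ∧
      Nonempty ((Scheme.Modules.pullback i).obj (Twist.twistProjSpace d k 1) ≅ L) := by
  classical
  haveI : IsNoetherian X := Euler.isNoetherian_of_proper k X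
  haveI : CompactSpace X :=
    QuasiCompact.compactSpace_of_compactSpace (X ↘ Spec (CommRingCat.of k))
  haveI : QuasiSeparatedSpace X := quasiSeparatedSpace_of_isAmple hL
  let σ : Fin (d + 1) → Γ(L, ⊤) := fun l => HH0.equiv X L (β l)
  have hspan : ∀ τ : Γ(L, ⊤), ∃ c : Fin (d + 1) → k,
      τ = ∑ l, ProjUP.toGlobal (X ↘ Spec (CommRingCat.of k)) (c l) • σ l := by
    intro τ
    refine ⟨fun l => β.repr ((HH0.equiv X L).symm τ) l, ?_⟩
    have h1 : (HH0.equiv X L).symm τ = ∑ j, β.repr ((HH0.equiv X L).symm τ) j • β j :=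
      (β.sum_repr _).symm
    have h2 := congrArg (HH0.equiv X L) h1
    rw [AddEquiv.apply_symm_apply, map_sum] at h2
    refine h2.trans (Finset.sum_congr rfl fun j _ => ?_)
    rw [HH0.equiv_smul_over]
    rfl
  have hs : ProjUP.GeneratedBy L σ := by
    intro x
    obtain ⟨t, V, hxV, hV⟩ := CurvePt.exists_genAt_of_gg X L hL.1 hgg x
    rw [eq_top_iff]
    intro v _
    obtain ⟨ρ, rfl⟩ := CIc.exists_smul_germ hV hxV v
    apply Submodule.smul_mem
    have e0 : (L.presheaf.germ V x hxV).hom (res L le_top t) =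
        (L.presheaf.germ ⊤ x trivial).hom t :=
      TopCat.Presheaf.germ_res_apply L.presheaf (homOfLE (le_top : V ≤ ⊤)) x hxV t
    rw [e0]
    obtain ⟨c, hc⟩ := hspan t
    rw [hc, map_sum]
    refine Submodule.sum_mem _ fun j _ => ?_
    rw [ProjUP4.germ_smul']
    apply Submodule.smul_mem
    exact Submodule.subset_span ⟨j, rfl⟩
  obtain ⟨r₀, hr₀, τ₀, hτ₀⟩ := Groth.Agent.S3572.result (R := k) d
    (X ↘ Spec (CommRingCat.of k)) L hL.1 σ hs
  let 𝒮 := CohB1.polyGrading d k
  have hτ' : ∀ j, τ₀.hom.app ⊤ (pt 𝒮 (ProjUP8.tX d _) (ProjUP8.htX d _) r₀ j) = σ j := hτ₀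
  have hpre : ∀ j, r₀ ⁻¹ᵁ D 𝒮 (ProjUP8.tX d _) j =
      CohB1.genLocus L (TwistAmple.homOfSec L (σ j)) :=
    preimage_D 𝒮 (ProjUP8.tX d _) (ProjUP8.htX d _) (ProjUP8.hcov d _) r₀ τ₀ σ hτ'
  have hcov : ∀ x : X, ∃ j, x ∈ CohB1.genLocus L (TwistAmple.homOfSec L (σ j)) := by
    intro x
    obtain ⟨j, hj⟩ := ProjUP8.hcov d _ (r₀ x)
    refine ⟨j, ?_⟩
    rw [← hpre]
    exact hj
  obtain ⟨r, hr, hrq, ⟨e⟩⟩ := VA8.exists_immersion_projSpace_of_charts
    (X ↘ Spec (CommRingCat.of k)) hL.1 d σ hs (fun a : Fin (d + 1) => a)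
    (fun a => NM.isAffineOpen_genLocus_of_no_curves k X L hL.1 d
      (fun j => TwistAmple.homOfSec L (σ j)) hcov a
      (fun ξ hξ => not_subset_genLocus k X L hL _ ξ hξ))
    hcov
    (fun a U hU T hT1 hT2 =>
      subring_eq_top (X ↘ Spec (CommRingCat.of k)) hL.1 σ hspan hng (σ a) U hU T hT1 hT2)
  haveI := hr
  haveI : IsProper (r ≫ CohB1.ProjSpace.toSpec d k) := by rw [hrq]; infer_instance
  haveI : IsSeparated (CohB1.ProjSpace.toSpec d k) :=
    (VA5.isProper_toSpec d k).toIsSeparated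
  haveI : IsClosedImmersion r :=
    Chow.isClosedImmersion_of_isProper_comp r (CohB1.ProjSpace.toSpec d k)
  exact ⟨r, inferInstance, hrq, ⟨e.symm⟩⟩

include k in
/-- **S1636**: a proper integral curve of genus `0` with `h⁰(O) = 1` embeds into `P^d` by any
invertible module of degree `d > 0` -/
theorem genus_zero_embedding [IsIntegral X] (hdim : topologicalKrullDim X = 1)
    (h0 : Module.finrank k (Coh.HH X (Coh.structureModule X) 0) = 1)
    (hg : Curv2.genus k X = 0)
    (L : X.Modules) (hL : PicF.IsInvertible L) (d : ℕ) (hd : 0 < d)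
    (hdeg : Curv2.deg k X L 1 = d) :
    ∃ i : X ⟶ CohB1.ProjSpace d k, IsClosedImmersion i ∧
      i ≫ CohB1.ProjSpace.toSpec d k = X ↘ (Spec (CommRingCat.of k)) ∧
      Nonempty ((Scheme.Modules.pullback i).obj (Twist.twistProjSpace d k 1) ≅ L) := by
  haveI : IsNoetherian X := Euler.isNoetherian_of_proper k X
  have h1 := NefGG.subsingleton_H1_of_genus k X hg
  have hdegpos : 0 < Curv2.deg k X L 1 := by
    rw [hdeg]
    exact_mod_cast hd
  have hA : CohB1.IsAmple L := CurveAmp.isAmple_of_deg_pos k X hdim hL hdegpos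
  obtain ⟨hL1, hgg⟩ := NefGG.main k X (le_of_eq hdim) h1 L hL
    (fun ξ hξ => (SnapPos.pos_gen k 1 X L hA ξ hξ).le)
  have hfr : Module.finrank k (Coh.HH X L 0) = d + 1 := by
    have h := NefGG.h0_eq k X hdim h1 L hL hL1
    rw [h0, hdeg] at h
    have h' : (Module.finrank k (Coh.HH X L 0) : ℤ) = ((1 + d : ℕ) : ℤ) := by
      rw [h]
      push_cast
      ring
    have h'' : Module.finrank k (Coh.HH X L 0) = 1 + d := by exact_mod_cast h'
    omega
  haveI : Module.Finite k (Coh.HH X L 0) :=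
    Groth.Agent.Lib.Helper4.T2Main1.t2 k X L (InvQc.isCoh_of_isInvertible _ hL) 0
  let β : Module.Basis (Fin (d + 1)) k (Coh.HH X L 0) :=
    Module.finBasisOfFinrankEq k (Coh.HH X L 0) hfr
  refine exists_closedImmersion_of_basis k X L hA hgg ?_ d β
  intro n
  exact ind_of_span (KosCurve.span_tmul_eq_top_of_ample k X hdim h1 L hA (n + 1))

end Basis

end Groth.Agent.Helper1.VAng
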