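import Mathlib
import Groth.Agent.Lib.Helper1.VT31

set_option autoImplicit false
universe u
open CategoryTheory CategoryTheory.Limits AlgebraicGeometry TopologicalSpace Opposite

namespace Groth.Agent.Helper1.VAsec

open Groth.Agent.Helper1.QcCech Groth.Agent.Helper1.LGen
open Groth.Agent.Helper1 Groth.Agent.Helper1.VT

section Sub
variable {X : Scheme.{u}} (L : X.Modules) {W : X.Opens}

/-- over a field acting through `ρ`, the sections whose generating locus misses a point `y` of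
the generating locus of a reference section form a subspace -/
noncomputable def missSub (k : Type u) [Field k] (ρ : k →+* Γ(X, W)) (m₀ : Γ(L, W)) (y : X) :
    letI : Module k Γ(L, W) := Module.compHom _ ρ
    Submodule k Γ(L, W) :=
  letI : Module k Γ(L, W) := Module.compHom _ ρ
  { carrier := {m | y ∉ X.basicOpen (ratio L m₀ m)}
    zero_mem' := by
      show y ∉ X.basicOpen (ratio L m₀ 0)
      rw [ratio_zero, Scheme.basicOpen_zero]
      exact fun h => h
    add_mem' := by
      intro m m' hm hm'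
      show y ∉ X.basicOpen (ratio L m₀ (m + m'))
      rw [ratio_add]
      intro h
      rcases X.basicOpen_add_le _ _ h with h | h
      · exact hm h
      · exact hm' h
    smul_mem' := by
      intro c m hm
      show y ∉ X.basicOpen (ratio L m₀ (ρ c • m))
      rw [ratio_smul, Scheme.basicOpen_mul]
      exact fun h => hm h.2 }

theorem mem_missSub (k : Type u) [Field k] (ρ : k →+* Γ(X, W)) (m₀ : Γ(L, W)) (y : X)
    (m : Γ(L, W)) :
    letI : Module k Γ(L, W) := Module.compHom _ ρ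
    m ∈ missSub L k ρ m₀ y ↔ y ∉ X.basicOpen (ratio L m₀ m) := Iff.rfl

end Sub

section Main

/-- **S19593** -/
theorem main19593 (k : Type u) [Field k] [Infinite k] (Y : Scheme.{u})
    (f : Y ⟶ Spec (CommRingCat.of k))
    (A : Y.Modules) (hA : RelProj.IsRelVeryAmple f A)
    (ι : Type) [Finite ι] (y : ι → ↥Y) :
    ∃ s : Coh.structureModule Y ⟶ A, ∀ i : ι, y i ∈ CohB1.genLocus A s := by
  classical
  obtain ⟨E, hE, hVA⟩ := (isRelVeryAmple_iff_exists_isVAWith f A).1 hA
  have : E.IsQuasicoherent := hE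
  obtain ⟨u, hgen, -⟩ := hVA.exists_crit
  let U₀ : (Spec (CommRingCat.of k)).AffineZariskiSite := ⟨⊤, isAffineOpen_top _⟩
  have hε : ∀ i, ∃ ε : Γ(E, (⊤ : (Spec (CommRingCat.of k)).Opens)), y i ∈ W f u ⊤ ε :=
    fun i => hgen U₀ (y i) trivial
  choose ε hεy using hε
  let ρ' : k →+* Γ(Spec (CommRingCat.of k), ⊤) := (Scheme.ΓSpecIso (CommRingCat.of k)).inv.hom
  let ρ : k →+* Γ(Y, f ⁻¹ᵁ ⊤) := (f.app ⊤).hom.comp ρ'
  letI : Module k Γ(A, f ⁻¹ᵁ ⊤) := Module.compHom _ ρ
  letI : Module k Γ(E, (⊤ : (Spec (CommRingCat.of k)).Opens)) := Module.compHom _ ρ'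
  let v : Γ(E, (⊤ : (Spec (CommRingCat.of k)).Opens)) →ₗ[k] Γ(A, f ⁻¹ᵁ ⊤) :=
    { toFun := sec f u ⊤
      map_add' := sec_add f u ⊤
      map_smul' := by
        intro c e
        show sec f u ⊤ (ρ' c • e) = ρ c • sec f u ⊤ e
        rw [sec_smul]
        rfl }
  let N : ι → Submodule k Γ(E, (⊤ : (Spec (CommRingCat.of k)).Opens)) := fun i =>
    (missSub A k ρ (sec f u ⊤ (ε i)) (y i)).comap v
  haveI : Fintype ι := Fintype.ofFinite ι
  let S : Finset (Submodule k Γ(E, (⊤ : (Spec (CommRingCat.of k)).Opens))) := Finset.univ.image N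
  have hS : ⊤ ∉ S := by
    intro h
    obtain ⟨i, -, hi⟩ := Finset.mem_image.1 h
    have h1 : ε i ∈ N i := by rw [hi]; trivial
    have h2 : y i ∉ Y.basicOpen (ratio A (sec f u ⊤ (ε i)) (sec f u ⊤ (ε i))) := h1
    rw [ratio_self] at h2
    apply h2
    rw [Scheme.basicOpen_of_isUnit _ isUnit_one]
    exact hεy i
  have hne := Subspace.biUnion_ne_univ_of_top_notMem hS
  obtain ⟨e, he⟩ := (Set.ne_univ_iff_exists_notMem _).1 hne
  have hei : ∀ i, y i ∈ gl A (sec f u ⊤ e) := by
    intro i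
    have h1 : e ∉ N i := by
      intro h
      apply he
      exact Set.mem_biUnion (Finset.mem_image_of_mem N (Finset.mem_univ i)) h
    have h2 : y i ∈ Y.basicOpen (ratio A (sec f u ⊤ (ε i)) (sec f u ⊤ e)) := by
      by_contra h
      exact h1 h
    rw [← gl_inf_gl] at h2
    exact h2.2
  have htop : (⊤ : Y.Opens) ≤ f ⁻¹ᵁ ⊤ := le_rfl
  refine ⟨TwistAmple.homOfSec A (res A htop (sec f u ⊤ e)), fun i => ?_⟩
  rw [AmpleLib.mem_genLocus_iff_isGen]
  obtain ⟨V, hV, hyV, hg⟩ := (mem_gl_iff A _ (y i)).1 (hei i)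
  refine ⟨V, hyV, ?_⟩
  rw [AmpleLib.secVal_homOfSec, res_res]
  exact hg

end Main

end Groth.Agent.Helper1.VAsec
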