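import Mathlib
import Groth.Prelude.Def_RelSpec
import Groth.Prelude.Def_AffAlg
import Groth.Prelude.Def_Coh
import Groth.Agent.Lib.Helper1.SubAlgGen
import Groth.Agent.Lib.Helper1.SymAlg
import Groth.Agent.Lib.Helper1.AlgOf
import Groth.Agent.Lib.Helper1.RelSpecGamma
import Groth.Agent.S3583

set_option autoImplicit false
universe u
open CategoryTheory CategoryTheory.Limits AlgebraicGeometry TopologicalSpace Opposite

namespace Groth.Agent.Helper1.VBEmbed

open Groth.Agent.Helper1.QcCech Groth.Agent.Helper1 Groth.Agent.Helper1.SubSh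
open Groth.Agent.Helper1.SubAlgGen

variable {X Y : Scheme.{u}} (f : X ⟶ Y) [IsAffineHom f] [LocallyOfFiniteType f]

theorem finiteType_directImage (U : Y.affineOpens) :
    ((RelSpec.QCAlg.directImage f).str.app (op (U : Y.Opens))).hom.FiniteType := by
  have h := HasRingHomProperty.appLE (P := @LocallyOfFiniteType) f inferInstance U
    ⟨f ⁻¹ᵁ U.1, U.2.preimage f⟩ le_rfl
  rwa [Scheme.Hom.appLE_eq_app] at h

theorem main [CompactSpace Y] [QuasiSeparatedSpace Y] :
    ∃ (E : Y.Modules) (_ : Coh.IsCoh E) (A : RelSpec.QCAlg Y) (j : E ⟶ A.toModule)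
      (_ : RelSpec.IsSymAlg E A j) (i : X ⟶ A.spec), IsClosedImmersion i ∧ i ≫ A.π = f := by
  have hq := QCAlgQc.isQuasicoherent_toModule (RelSpec.QCAlg.directImage f)
  obtain ⟨N, hN, hgen⟩ := exists_generating (RelSpec.QCAlg.directImage f) (finiteType_directImage f)
  have hEq : N.obj.IsQuasicoherent := N.isQuasicoherent_obj hN.isQcOn
  refine ⟨N.obj, ⟨hEq, N.isFiniteType_obj hN⟩, SymAlg.symAlg N.obj, SymAlg.j N.obj,
    SymAlg.isSymAlg N.obj, ?_⟩
  have hsurj : ∀ U : Y.affineOpens, Function.Surjective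
      ((SymAlg.lift N.obj (RelSpec.QCAlg.directImage f) N.ι).hom.app (op U.1)).hom := by
    intro U
    rw [← RingHom.range_eq_top, eq_top_iff, ← hgen U.1 U.2]
    refine Subring.closure_le.2 ?_
    rintro b (⟨r, rfl⟩ | hb)
    · refine ⟨((SymAlg.symAlg N.obj).str.app (op U.1)).hom r, ?_⟩
      have := NatTrans.congr_app (SymAlg.lift N.obj (RelSpec.QCAlg.directImage f) N.ι).comm (op U.1)
      exact ConcreteCategory.congr_hom this r
    · refine ⟨(SymAlg.j N.obj).app U.1 (N.mkSec _ hb), ?_⟩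
      have h1 := SymAlg.j_lift N.obj (RelSpec.QCAlg.directImage f) N.ι
      have h2 := congrArg (fun k => k.app U.1 (N.mkSec _ hb)) h1
      exact h2
  obtain ⟨⟨i, w⟩, hi⟩ := (AlgOf.algOf_bijective (SymAlg.symAlg N.obj).π f).2
    ⟨(SymAlg.symAlg N.obj).gammaMap ≫ (SymAlg.lift N.obj (RelSpec.QCAlg.directImage f) N.ι).hom, by
      rw [← Category.assoc, RelSpec.QCAlg.π_c_gammaMap]
      exact (SymAlg.lift N.obj (RelSpec.QCAlg.directImage f) N.ι).comm⟩
  refine ⟨i, ?_, w⟩
  have hi' : AffAlg.algHom (SymAlg.symAlg N.obj).π f i w =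
      (SymAlg.symAlg N.obj).gammaMap ≫ (SymAlg.lift N.obj (RelSpec.QCAlg.directImage f) N.ι).hom :=
    congrArg Subtype.val hi
  refine Groth.Agent.S3583.result (SymAlg.symAlg N.obj).π f i w (fun U => ?_)
  rw [hi']
  have h1 : IsIso (SymAlg.symAlg N.obj).gammaMap := RelSpecGamma.isIso_gammaMap _
  have h2 : IsIso ((SymAlg.symAlg N.obj).gammaMap.app (op U.1)) := inferInstance
  have b2 : Function.Bijective ((SymAlg.symAlg N.obj).gammaMap.app (op U.1)).hom :=
    ConcreteCategory.bijective_of_isIso _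
  exact (hsurj U).comp b2.2

end Groth.Agent.Helper1.VBEmbed
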