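import Mathlib
import Groth.Agent.Lib.Lead.FLF6
import Groth.Agent.Lib.Helper1.PushQc
import Groth.Agent.S9716

/-!
# Direct images of finite locally free modules along finite locally free morphisms (helper1)
-/

set_option autoImplicit false
universe u
open CategoryTheory CategoryTheory.Limits AlgebraicGeometry TopologicalSpace Opposite

namespace Groth.Agent.Helper1.VBP

open Groth.Agent.Lead.FLF Groth.Agent.Helper1

section Alg

theorem projective_trans (A B N : Type*) [CommRing A] [CommRing B] [Algebra A B] [AddCommGroup N]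
    [Module A N] [Module B N] [IsScalarTower A B N] [Module.Projective A B]
    [Module.Projective B N] : Module.Projective A N := by
  classical
  obtain ⟨s, hs⟩ := (Module.projective_def' (R := B) (P := N)).1 inferInstance
  haveI : Module.Projective A (N →₀ B) :=
    Module.Projective.of_equiv' (finsuppLequivDFinsupp (M := B) (ι := N) A).symm
  refine Module.Projective.of_split (M := N →₀ B) (s.restrictScalars A)
    ((Finsupp.linearCombination B (id : N → N)).restrictScalars A) ?_
  ext x
  have := congrArg (fun g => g x) hs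
  simpa using this

end Alg

variable {X S : Scheme.{u}} (f : X ⟶ S)

/-- **the direct image of a finite locally free module along a finite locally free morphism is
finite locally free** -/
theorem isFinLocFree_pushforward (hf : Mor2.IsFinLocFree f) (M : X.Modules)
    (hM : FlatMod.IsFinLocFree M) :
    FlatMod.IsFinLocFree ((Scheme.Modules.pushforward f).obj M) := by
  obtain ⟨h1, h2, h3⟩ := hf
  haveI : IsAffineHom f := inferInstance
  haveI : M.IsQuasicoherent := isQuasicoherent_of_isFinLocFree M hM
  haveI : ((Scheme.Modules.pushforward f).obj M).IsQuasicoherent :=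
    PushQc.isQuasicoherent_pushforward f M
  rw [isFinLocFree_iff_affineOpens]
  intro U hU
  have hU' : IsAffineOpen (f ⁻¹ᵁ U) := hU.preimage f
  obtain ⟨m1, m2⟩ := (isFinLocFree_iff_affineOpens M).1 hM (f ⁻¹ᵁ U) hU'
  letI alg := (f.app U).hom.toAlgebra
  have a1 : Module.Finite Γ(S, U) Γ(X, f ⁻¹ᵁ U) := h1.finite_app U hU
  have a2 : Module.Flat Γ(S, U) Γ(X, f ⁻¹ᵁ U) := (Groth.Agent.S9716.iff_app f).1 h2 U hU
  have a3 : Algebra.FinitePresentation Γ(S, U) Γ(X, f ⁻¹ᵁ U) :=
    (Groth.Agent.S9716.iff_app f).1 h3 U hU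
  haveI : Module.FinitePresentation Γ(S, U) Γ(X, f ⁻¹ᵁ U) :=
    Module.FinitePresentation.of_finite_of_finitePresentation _ _
  haveI : Module.Projective Γ(S, U) Γ(X, f ⁻¹ᵁ U) :=
    Module.Flat.projective_of_finitePresentation
  letI mod : Module Γ(S, U) Γ(M, f ⁻¹ᵁ U) := Module.compHom _ (f.app U).hom
  haveI : IsScalarTower Γ(S, U) Γ(X, f ⁻¹ᵁ U) Γ(M, f ⁻¹ᵁ U) :=
    IsScalarTower.of_algebraMap_smul fun r m => rfl
  haveI := m1
  haveI := m2
  have b1 : Module.Finite Γ(S, U) Γ(M, f ⁻¹ᵁ U) := Module.Finite.trans Γ(X, f ⁻¹ᵁ U) _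
  have b2 : Module.Projective Γ(S, U) Γ(M, f ⁻¹ᵁ U) := projective_trans _ Γ(X, f ⁻¹ᵁ U) _
  let E : Γ((Scheme.Modules.pushforward f).obj M, U) ≃ₗ[Γ(S, U)] Γ(M, f ⁻¹ᵁ U) :=
    { toFun := fun x => x
      invFun := fun x => x
      map_add' := fun _ _ => rfl
      map_smul' := fun _ _ => rfl
      left_inv := fun _ => rfl
      right_inv := fun _ => rfl }
  exact ⟨Module.Finite.equiv E.symm, Module.Projective.of_equiv E.symm⟩

end Groth.Agent.Helper1.VBP
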