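import Mathlib
import Groth.Agent.Lib.Helper1.VBP11
import Groth.Agent.Lib.Helper1.VBP10
import Groth.Agent.Lib.Helper1.VB1
import Groth.Agent.Lib.Helper3.IsoLoc4
import Groth.Agent.S19692

/-!
# Direct images of invertible modules along a double cover of the projective line by a genus one
curve (helper1)
-/

set_option backward.isDefEq.respectTransparency.types false
set_option synthInstance.maxHeartbeats 400000
set_option autoImplicit false
universe u
open CategoryTheory CategoryTheory.Limits AlgebraicGeometry TopologicalSpace Opposite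

namespace Groth.Agent.Helper1.VBP

open Groth.Agent.Helper1
open Groth.Agent.Lib.Helper4.SerreVan
open Groth.Agent.Lib.Helper4
open Groth.Agent.Helper1.P1Iso Groth.Agent.Helper1.Euler Groth.Agent.Helper1.Curve
open Groth.Agent.Helper1.CurveDual Groth.Agent.Helper1.TwForm Groth.Agent.Helper1.QcCech

variable (k : Type u) [Field k]

set_option maxHeartbeats 1600000 in
theorem push_invertible_double_cover (E : Scheme.{u}) [E.Over (Spec (CommRingCat.of k))]
    [IsProper (E ↘ Spec (CommRingCat.of k))] [IsIntegral E]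
    (hE : topologicalKrullDim E = 1) (hg : Curv2.genus k E = 1)
    (h0E : Module.finrank k (Coh.HH E (Coh.structureModule E) 0) = 1)
    (π : E ⟶ CohB1.ProjSpace 1 k) (hπ : π ≫ CohB1.ProjSpace.toSpec 1 k = E ↘ Spec (CommRingCat.of k))
    [IsFinite π] [Flat π] (hrk : ∀ y : ↥(CohB1.ProjSpace 1 k), Scheme.Hom.finrank π y = 2)
    (L : E.Modules) (hL : PicF.IsInvertible L) :
    ∃ c : Fin 2 → ℤ, Antitone c ∧
      Nonempty ((Scheme.Modules.pushforward π).obj L ≅
        ∐ fun i : Fin 2 => Twist.twistProjSpace 1 k (c i)) ∧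
      ∀ n : ℤ, (c 0 + n + 1).toNat + (c 1 + n + 1).toNat =
          Module.finrank k (Coh.HH E
            (CohB1.tensorMod L ((Scheme.Modules.pullback π).obj (Twist.twistProjSpace 1 k n))) 0) ∧
        Curv2.deg k E
          (CohB1.tensorMod L ((Scheme.Modules.pullback π).obj (Twist.twistProjSpace 1 k n))) 1 =
          Curv2.deg k E L 1 + 2 * n := by
  haveI := isNoetherian_of_proper k (CohB1.ProjSpace 1 k)
  haveI : IsLocallyNoetherian (CohB1.ProjSpace 1 k) :=
    (isNoetherian_of_proper k (CohB1.ProjSpace 1 k)).toIsLocallyNoetherian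
  haveI : LocallyOfFinitePresentation π :=
    Groth.Agent.Helper3.IsoLoc.lfp_of_lft_of_isLocallyNoetherian π
  have hcov : FinCov.IsCover π 2 := ⟨⟨inferInstance, inferInstance, inferInstance⟩, hrk⟩
  obtain ⟨haff, hrank⟩ := (Groth.Agent.S19692.result π 2).1 hcov
  haveI := haff
  have hdimP := dim_P1 k
  have eO := GenusOne.euler_O_eq_zero k E hE hg h0E
  have hOE : PicF.IsInvertible (Coh.structureModule E) := GenLoc.isInvertible_O
  -- degrees of pullbacks
  have hdegpull : ∀ n : ℤ, Curv2.deg k E
      ((Scheme.Modules.pullback π).obj (Twist.twistProjSpace 1 k n)) 1 = 2 * n := by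
    intro n
    have h1 := euler_push_tensor k π hπ hOE (isInvertible_twist k n)
    have hV := isFinLocFreeOfRank_one (isInvertible_twist k n)
    rw [euler_tensor_locFree k (CohB1.ProjSpace 1 k) hdimP.le 2 1 _ _ hrank hV, euler_twist] at h1
    obtain ⟨u⟩ := TwistAmpleOpen.nonempty_tensorMod_unit_iso
      ((Scheme.Modules.pullback π).obj (Twist.twistProjSpace 1 k n))
    rw [euler_iso k E u] at h1
    have hpush := euler_push k (CohB1.ProjSpace 1 k) E π hπ (Coh.structureModule E)
    unfold Curv2.deg at h1 ⊢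
    rw [hpush, euler_O, eO] at h1
    rw [h1, eO]
    push_cast
    ring
  have hdegL : ∀ n : ℤ, Curv2.deg k E
      (CohB1.tensorMod L ((Scheme.Modules.pullback π).obj (Twist.twistProjSpace 1 k n))) 1 =
      Curv2.deg k E L 1 + 2 * n := by
    intro n
    rw [GenusOne.deg_tensor_inv k E hE hL
      (PullGen.isInvertible_pullback π (isInvertible_twist k n)), hdegpull]
  -- the direct image is locally free of rank two
  have hLf := FinLen.isFinLocFree_of_rank (isFinLocFreeOfRank_one hL)
  have hPf := isFinLocFree_pushforward π hcov.1 L hLf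
  obtain ⟨r, hr⟩ := VB.exists_rank _ hPf
  have hr2 : r = 2 := by
    have h1 := euler_push_tensor k π hπ hL (isInvertible_twist k 1)
    have hV := isFinLocFreeOfRank_one (isInvertible_twist k 1)
    rw [euler_tensor_locFree k (CohB1.ProjSpace 1 k) hdimP.le r 1 _ _ hr hV, euler_twist] at h1
    haveI : L.IsQuasicoherent := InvQc.isQuasicoherent_of_isInvertible _ hL
    have hpush := euler_push k (CohB1.ProjSpace 1 k) E π hπ L
    have h2 := hdegL 1
    unfold Curv2.deg at h1 h2
    rw [hpush, euler_O] at h1
    rw [eO] at h2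
    push_cast at h1 h2
    have : (r : ℤ) = 2 := by linarith
    exact_mod_cast this
  subst hr2
  obtain ⟨c, hc, ⟨e⟩⟩ := exists_splitting k 2 _ hr
  refine ⟨c, hc, ⟨e⟩, fun n => ⟨?_, hdegL n⟩⟩
  have q0 := finrank_H0_twist_of_iso k c _ e n
  rw [Fin.sum_univ_two] at q0
  rw [← q0, (nonempty_HH_equiv_push k π hπ hL (isInvertible_twist k n) 0).some.finrank_eq]

end Groth.Agent.Helper1.VBP
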