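import Mathlib
import Groth.Agent.Lib.Helper1.VBP12
import Groth.Agent.Lib.Helper4.PullTens1

/-!
# The splitting type of the direct image of an invertible module along a double cover of the
projective line by a genus one curve (helper1)
-/

set_option backward.isDefEq.respectTransparency.types false
set_option synthInstance.maxHeartbeats 400000
set_option autoImplicit false
universe u
open CategoryTheory CategoryTheory.Limits AlgebraicGeometry TopologicalSpace Opposite

namespace Groth.Agent.Helper1.VBP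

open Groth.Agent.Helper1
open Groth.Agent.Lib.Helper4.SerreVan
open Groth.Agent.Lib.Helper4
open Groth.Agent.Helper1.P1Iso Groth.Agent.Helper1.Euler Groth.Agent.Helper1.Curve
open Groth.Agent.Helper1.CurveDual Groth.Agent.Helper1.TwForm Groth.Agent.Helper1.QcCech

variable (k : Type u) [Field k]

section Pull

variable {E : Scheme.{u}} (π : E ⟶ CohB1.ProjSpace 1 k)

theorem nonempty_pull_twist_inv (a b : ℤ) (h : a + b = 0) :
    Nonempty (CohB1.tensorMod ((Scheme.Modules.pullback π).obj (Twist.twistProjSpace 1 k a))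
      ((Scheme.Modules.pullback π).obj (Twist.twistProjSpace 1 k b)) ≅ Coh.structureModule E) := by
  have hp := TwistTens.twist_package (CohB1.polyGrading 1 k) (SerreFin.hcov1 1 k)
  obtain ⟨e1⟩ := hp.2.1 a b
  obtain ⟨e0⟩ := TwistTens.nonempty_twist_zero_iso (CohB1.polyGrading 1 k)
  have e2 : CohB1.tensorMod (Twist.twistProjSpace 1 k a) (Twist.twistProjSpace 1 k b) ≅
      Coh.structureModule (CohB1.ProjSpace 1 k) := e1 ≪≫ eqToIso (by rw [h]) ≪≫ e0
  have p1 := Groth.Agent.Lib.Helper4.PullTens1.pullTensIso π (isInvertible_twist k a)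
    (isInvertible_twist k b)
  exact ⟨p1.symm ≪≫ (Scheme.Modules.pullback π).mapIso e2 ≪≫ PullSec.unitIso π⟩

theorem nonempty_tensor_iso_unit_of_iso {L : E.Modules} (e : ℤ)
    (i : L ≅ (Scheme.Modules.pullback π).obj (Twist.twistProjSpace 1 k e)) :
    Nonempty (CohB1.tensorMod L ((Scheme.Modules.pullback π).obj (Twist.twistProjSpace 1 k (-e))) ≅
      Coh.structureModule E) := by
  obtain ⟨j⟩ := nonempty_pull_twist_inv k π e (-e) (by ring)
  exact ⟨TwistTens.tensorModCongrLeft i _ ≪≫ j⟩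

theorem nonempty_iso_of_tensor_iso_unit {L : E.Modules} (e : ℤ)
    (i : CohB1.tensorMod L ((Scheme.Modules.pullback π).obj (Twist.twistProjSpace 1 k (-e))) ≅
      Coh.structureModule E) :
    Nonempty (L ≅ (Scheme.Modules.pullback π).obj (Twist.twistProjSpace 1 k e)) := by
  obtain ⟨j⟩ := nonempty_pull_twist_inv k π (-e) e (by ring)
  have hA := PullGen.isInvertible_pullback π (isInvertible_twist k (-e))
  have hB := PullGen.isInvertible_pullback π (isInvertible_twist k e)
  have b1 := GenusOne.assocIso L hA hB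
  have b2 := TwistTens.tensorModCongrRight L j
  have b3 := SecTwist.unitorR L
  have a1 := TwistTens.tensorModCongrLeft i
    ((Scheme.Modules.pullback π).obj (Twist.twistProjSpace 1 k e))
  obtain ⟨a2⟩ := TwistAmpleOpen.nonempty_tensorMod_unit_iso
    ((Scheme.Modules.pullback π).obj (Twist.twistProjSpace 1 k e))
  exact ⟨b3.symm ≪≫ b2.symm ≪≫ b1.symm ≪≫ a1 ≪≫ a2⟩

end Pull

theorem nonempty_iso_vec {P : (CohB1.ProjSpace 1 k).Modules} {c : Fin 2 → ℤ}
    (i : P ≅ ∐ fun j : Fin 2 => Twist.twistProjSpace 1 k (c j)) (a b : ℤ)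
    (ha : c 0 = a) (hb : c 1 = b) :
    Nonempty (P ≅ ∐ fun j : Fin 2 => Twist.twistProjSpace 1 k (![a, b] j)) := by
  have : c = ![a, b] := by
    funext j
    fin_cases j
    · simpa using ha
    · simpa using hb
  subst this
  exact ⟨i⟩

set_option maxHeartbeats 1600000 in
theorem push_splitting_genus_one (E : Scheme.{u}) [E.Over (Spec (CommRingCat.of k))]
    [IsProper (E ↘ Spec (CommRingCat.of k))] [IsIntegral E]
    (hE : topologicalKrullDim E = 1) (hg : Curv2.genus k E = 1)
    (h0E : Module.finrank k (Coh.HH E (Coh.structureModule E) 0) = 1)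
    (π : E ⟶ CohB1.ProjSpace 1 k) (hπ : π ≫ CohB1.ProjSpace.toSpec 1 k = E ↘ Spec (CommRingCat.of k))
    [IsFinite π] [Flat π] (hrk : ∀ y : ↥(CohB1.ProjSpace 1 k), Scheme.Hom.finrank π y = 2)
    (L : E.Modules) (hL : PicF.IsInvertible L) (d : ℤ) (hd : Curv2.deg k E L 1 = d) :
    (∀ e : ℤ, d = 2 * e + 1 → Nonempty ((Scheme.Modules.pushforward π).obj L ≅
        ∐ fun j : Fin 2 => Twist.twistProjSpace 1 k (![e, e - 1] j))) ∧
    (∀ e : ℤ, d = 2 * e → Nonempty (L ≅ (Scheme.Modules.pullback π).obj (Twist.twistProjSpace 1 k e)) →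
        Nonempty ((Scheme.Modules.pushforward π).obj L ≅
          ∐ fun j : Fin 2 => Twist.twistProjSpace 1 k (![e, e - 2] j))) ∧
    (∀ e : ℤ, d = 2 * e → IsEmpty (L ≅ (Scheme.Modules.pullback π).obj (Twist.twistProjSpace 1 k e)) →
        Nonempty ((Scheme.Modules.pushforward π).obj L ≅
          ∐ fun j : Fin 2 => Twist.twistProjSpace 1 k (![e - 1, e - 1] j))) := by
  obtain ⟨c, hc, ⟨iso⟩, hf⟩ := push_invertible_double_cover k E hE hg h0E π hπ hrk L hL
  have hc10 : c 1 ≤ c 0 := hc (by decide : (0 : Fin 2) ≤ 1)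
  have hM : ∀ n : ℤ, PicF.IsInvertible
      (CohB1.tensorMod L ((Scheme.Modules.pullback π).obj (Twist.twistProjSpace 1 k n))) := fun n =>
    isInvertible_tensorMod hL (PullGen.isInvertible_pullback π (isInvertible_twist k n))
  have RR := fun n : ℤ => h0_genus_one k E hE hg h0E _ (hM n)
  rw [hd] at hf
  refine ⟨fun e hde => ?_, fun e hde hiso => ?_, fun e hde hniso => ?_⟩
  · obtain ⟨f1, d1⟩ := hf (-e - 1)
    obtain ⟨f2, d2⟩ := hf (-e)
    obtain ⟨f3, d3⟩ := hf (-e + 1)
    have r1 := (RR (-e - 1)).2.1 (by rw [d1]; omega)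
    have r2 := (RR (-e)).1 (by rw [d2]; omega)
    have r3 := (RR (-e + 1)).1 (by rw [d3]; omega)
    rw [d2] at r2
    rw [d3] at r3
    rw [r1] at f1
    apply nonempty_iso_vec k iso <;> omega
  · obtain ⟨f1, d1⟩ := hf (-e - 1)
    obtain ⟨f2, d2⟩ := hf (-e)
    obtain ⟨f3, d3⟩ := hf (-e + 1)
    obtain ⟨f4, d4⟩ := hf (-e + 2)
    obtain ⟨i0⟩ := hiso
    have r1 := (RR (-e - 1)).2.1 (by rw [d1]; omega)
    have r2 := (RR (-e)).2.2.1 (by rw [d2]; omega) (nonempty_tensor_iso_unit_of_iso k π e i0)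
    have r3 := (RR (-e + 1)).1 (by rw [d3]; omega)
    have r4 := (RR (-e + 2)).1 (by rw [d4]; omega)
    rw [d3] at r3
    rw [d4] at r4
    rw [r1] at f1
    rw [r2] at f2
    apply nonempty_iso_vec k iso <;> omega
  · obtain ⟨f2, d2⟩ := hf (-e)
    obtain ⟨f3, d3⟩ := hf (-e + 1)
    have hn : IsEmpty (CohB1.tensorMod L
        ((Scheme.Modules.pullback π).obj (Twist.twistProjSpace 1 k (-e))) ≅
        Coh.structureModule E) :=
      ⟨fun i => hniso.false (nonempty_iso_of_tensor_iso_unit k π e i).some⟩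
    have r2 := (RR (-e)).2.2.2 (by rw [d2]; omega) hn
    have r3 := (RR (-e + 1)).1 (by rw [d3]; omega)
    rw [d3] at r3
    rw [r2] at f2
    apply nonempty_iso_vec k iso <;> omega

end Groth.Agent.Helper1.VBP
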