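import Mathlib
import Groth.Agent.Lib.Helper1.VBP6
import Groth.Agent.Lib.Helper7.GeomConn.SmoothH0
import Groth.Agent.Lib.Helper3.IsoLoc4
import Groth.Agent.S19692

/-!
# Double covers of the projective line: sections of powers of the `g¹₂` (helper1)
-/

set_option backward.isDefEq.respectTransparency.types false
set_option synthInstance.maxHeartbeats 400000
set_option autoImplicit false
universe u
open CategoryTheory CategoryTheory.Limits AlgebraicGeometry TopologicalSpace Opposite

namespace Groth.Agent.Helper1.VBP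

open Groth.Agent.Helper1
open Groth.Agent.Lib.Helper4.SerreVan
open Groth.Agent.Lib.Helper4
open Groth.Agent.Helper1.P1Iso Groth.Agent.Helper1.Euler

variable (k : Type u) [Field k]

theorem finrank_H1_sigma {n : ℕ} (e : Fin n → ℤ) :
    Module.finrank k (Coh.HH (CohB1.ProjSpace 1 k)
      (∐ fun j => Twist.twistProjSpace 1 k (e j)) 1) = ∑ j, (-(e j) - 1).toNat := by
  rw [VBQ.finrank_HH_sigma k (fun j => Twist.twistProjSpace 1 k (e j)) 1
    (fun j => T2Main1.t2 k _ _ (isCoh_twist k (e j)) 1)]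
  exact Finset.sum_congr rfl fun j _ => finrank_H1_twist k (e j)

/-- the splitting type of `f_* O_C` for a double cover of the projective line by a curve with
`h⁰(O) = 1` -/
theorem hyperelliptic_h0 (C : Scheme.{u}) [C.Over (Spec (CommRingCat.of k))]
    [IsProper (C ↘ Spec (CommRingCat.of k))]
    (h0C : Module.finrank k (Coh.HH C (Coh.structureModule C) 0) = 1)
    (g : ℕ) (hg : Curv2.genus k C = g)
    (f : C ⟶ CohB1.ProjSpace 1 k) (hf : f ≫ CohB1.ProjSpace.toSpec 1 k = C ↘ Spec (CommRingCat.of k))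
    [IsFinite f] [Flat f] (hrk : ∀ y : ↥(CohB1.ProjSpace 1 k), Scheme.Hom.finrank f y = 2)
    (r : ℕ) (hr : r + 1 ≤ g) :
    Module.finrank k (Coh.HH C (CohB1.tensorPow
      ((Scheme.Modules.pullback f).obj (Twist.twistProjSpace 1 k 1)) r) 0) = r + 1 := by
  haveI := isNoetherian_of_proper k (CohB1.ProjSpace 1 k)
  haveI : IsLocallyNoetherian (CohB1.ProjSpace 1 k) :=
    (isNoetherian_of_proper k (CohB1.ProjSpace 1 k)).toIsLocallyNoetherian
  haveI : LocallyOfFinitePresentation f := Groth.Agent.Helper3.IsoLoc.lfp_of_lft_of_isLocallyNoetherian f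
  have hcov : FinCov.IsCover f 2 := ⟨⟨inferInstance, inferInstance, inferInstance⟩, hrk⟩
  obtain ⟨haff, hrank⟩ := (Groth.Agent.S19692.result f 2).1 hcov
  haveI := haff
  obtain ⟨d, hd, ⟨e⟩⟩ := exists_splitting k 2 _ hrank
  have hp := TwistTens.twist_package (CohB1.polyGrading 1 k) (SerreFin.hcov1 1 k)
  -- `h⁰` and `h¹` of `f_* O_C`
  have e0 := (LinBridge1.lerayEquiv f (Coh.structureModule C) k hf 0).finrank_eq
  have e1 := (LinBridge1.lerayEquiv f (Coh.structureModule C) k hf 1).finrank_eq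
  have hg' : Module.finrank k (Coh.HH C (Coh.structureModule C) 1) = g := hg
  rw [h0C] at e0
  rw [hg'] at e1
  have s0 := finrank_H0_sigma k d
  have s1 := finrank_H1_sigma k d
  rw [← (HHFin1.HHequiv k e 0).finrank_eq] at s0
  rw [← (HHFin1.HHequiv k e 1).finrank_eq] at s1
  rw [Fin.sum_univ_two] at s0 s1
  have t0 : (d 0 + 1).toNat + (d 1 + 1).toNat = 1 := s0.symm.trans e0
  have t1 : (-(d 0) - 1).toNat + (-(d 1) - 1).toNat = g := s1.symm.trans e1
  -- the module in question
  obtain ⟨p1⟩ := nonempty_pullback_tensorPow_iso f (isInvertible_twist k 1) r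
  obtain ⟨p2⟩ := hp.2.2 r
  have p2' : Twist.twistProjSpace 1 k (r : ℤ) ≅ CohB1.tensorPow (Twist.twistProjSpace 1 k 1) r := p2
  have p3 := (Scheme.Modules.pullback f).mapIso p2'
  have hOr := FinLen.isFinLocFree_of_rank
    (Curve.isFinLocFreeOfRank_one (isInvertible_twist k (r : ℤ)))
  obtain ⟨pf⟩ := PFrame.nonempty_projFormula_locFree f (Coh.structureModule C)
    (Twist.twistProjSpace 1 k (r : ℤ)) hOr
  obtain ⟨u⟩ := TwistAmpleOpen.nonempty_tensorMod_unit_iso
    ((Scheme.Modules.pullback f).obj (Twist.twistProjSpace 1 k (r : ℤ)))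
  have pu := (Scheme.Modules.pushforward f).mapIso u
  have cm := TildeTens.tensorModComm ((Scheme.Modules.pushforward f).obj (Coh.structureModule C))
    (Twist.twistProjSpace 1 k (r : ℤ))
  haveI : ((Scheme.Modules.pullback f).obj (Twist.twistProjSpace 1 k (r : ℤ))).IsQuasicoherent :=
    InvQc.isQuasicoherent_of_isInvertible _
      (PullGen.isInvertible_pullback f (isInvertible_twist k (r : ℤ)))
  have l0 := (LinBridge1.lerayEquiv f
    ((Scheme.Modules.pullback f).obj (Twist.twistProjSpace 1 k (r : ℤ))) k hf 0).finrank_eq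
  have q0 := finrank_H0_twist_of_iso k d _ e (r : ℤ)
  rw [(HHFin1.HHequiv k (cm ≪≫ pf ≪≫ pu) 0).finrank_eq, Fin.sum_univ_two] at q0
  rw [(HHFin1.HHequiv k (p1.symm ≪≫ p3.symm) 0).finrank_eq, ← l0]
  refine Eq.trans q0 ?_
  omega

end Groth.Agent.Helper1.VBP
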