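import Mathlib
import Groth.Agent.Lib.Helper1.VBP6
import Groth.Agent.Lib.Helper1.VB4

/-!
# Hypersurfaces (finite subschemes) of the projective line (helper1)
-/

set_option backward.isDefEq.respectTransparency.types false
set_option synthInstance.maxHeartbeats 400000
set_option autoImplicit false
universe u
open CategoryTheory CategoryTheory.Limits AlgebraicGeometry TopologicalSpace Opposite

namespace Groth.Agent.Helper1.VBP

open Groth.Agent.Helper1
open Groth.Agent.Lib.Helper4.SerreVan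
open Groth.Agent.Lib.Helper4
open Groth.Agent.Helper1.P1Iso Groth.Agent.Helper1.Euler Groth.Agent.Helper1.Curve
open Groth.Agent.Helper1.CurveDual Groth.Agent.Helper1.TwForm

variable (F : Type u) [Field F]

theorem hypersurface_P1 (k : ℕ) (hk : 1 ≤ k) (I : (CohB1.ProjSpace 1 F).IdealSheafData)
    (hI : Nonempty (ClSub.idealMod I ≅ Twist.twistProjSpace 1 F (-(k : ℤ)))) (n : ℤ) :
    (Module.Finite F (Coh.HH (CohB1.ProjSpace 1 F)
        (CohB1.tensorMod (ClSub.quotMod I) (Twist.twistProjSpace 1 F n)) 0) ∧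
      Module.finrank F (Coh.HH (CohB1.ProjSpace 1 F)
        (CohB1.tensorMod (ClSub.quotMod I) (Twist.twistProjSpace 1 F n)) 0) = k) ∧
    (∀ p : ℕ, 1 ≤ p →
      Subsingleton (Coh.HH (CohB1.ProjSpace 1 F)
        (CohB1.tensorMod (ClSub.quotMod I) (Twist.twistProjSpace 1 F n)) p)) := by
  haveI := isNoetherian_of_proper F (CohB1.ProjSpace 1 F)
  haveI : IsLocallyNoetherian (CohB1.ProjSpace 1 F) :=
    (isNoetherian_of_proper F (CohB1.ProjSpace 1 F)).toIsLocallyNoetherian
  obtain ⟨eI⟩ := hI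
  have hdim := dim_P1 F
  let T := Tw 1 F n
  have hT := TwExact.shortExact_map (SerreVan.locGen_twist 1 F n) (shortExact_S I)
  -- the outer terms
  have hp := TwistTens.twist_package (CohB1.polyGrading 1 F) (SerreFin.hcov1 1 F)
  obtain ⟨e1⟩ := hp.2.1 (-(k : ℤ)) n
  have eN : ((IdealModL.S I).map T).X₁ ≅ Twist.twistProjSpace 1 F (-(k : ℤ) + n) :=
    T.mapIso eI ≪≫ e1
  obtain ⟨e2⟩ := TwistAmpleOpen.nonempty_tensorMod_unit_iso (Twist.twistProjSpace 1 F n)
  have eL : ((IdealModL.S I).map T).X₂ ≅ Twist.twistProjSpace 1 F n := e2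
  have hN : PicF.IsInvertible ((IdealModL.S I).map T).X₁ :=
    TwistAmpleOpen.isInvertible_of_iso eN.symm (isInvertible_twist F _)
  have hL : PicF.IsInvertible ((IdealModL.S I).map T).X₂ :=
    TwistAmpleOpen.isInvertible_of_iso eL.symm (isInvertible_twist F _)
  haveI := hT.mono_f
  haveI := hT.epi_g
  have hφ : ((IdealModL.S I).map T).f ≠ 0 := by
    intro h0
    have hz : IsZero ((IdealModL.S I).map T).X₁ := by
      rw [IsZero.iff_id_eq_zero, ← cancel_mono ((IdealModL.S I).map T).f, h0, comp_zero,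
        zero_comp]
    exact VB.not_isZero_of_rank_pos (CohB1.ProjSpace 1 F) one_pos (isFinLocFreeOfRank_one hN) hz
  obtain ⟨-, hQc, hQd, hχ⟩ := cokernel_package F (CohB1.ProjSpace 1 F) hdim hN hL _ hφ
  have eQ : cokernel ((IdealModL.S I).map T).f ≅ ((IdealModL.S I).map T).X₃ :=
    (cokernelIsCokernel _).coconePointUniqueUpToIso hT.exact.gIsCokernel
  rw [euler_iso F _ eL, euler_iso F _ eN, euler_twist, euler_twist,
    euler_eq_finrank_of_dim_le_zero F _ _ hQc hQd, (HHFin1.HHequiv F eQ 0).finrank_eq] at hχ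
  have hc3 : Coh.IsCoh ((IdealModL.S I).map T).X₃ :=
    SerreVan.isCoh_Tw 1 F n _ (isCoh_quotMod I)
  refine ⟨⟨T2Main1.t2 F _ _ hc3 0, ?_⟩, fun p hp1 => ?_⟩
  · have : (Module.finrank F (Coh.HH (CohB1.ProjSpace 1 F) ((IdealModL.S I).map T).X₃ 0) : ℤ) =
        k := by linarith
    exact_mod_cast this
  · have := Euler.subsingleton_HH_of_dim_le_zero _ hQc hQd p (by omega)
    exact subsingleton_of_iso F (X := CohB1.ProjSpace 1 F) eQ p this

end Groth.Agent.Helper1.VBP
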