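import Mathlib
import Groth.Agent.Lib.Helper1.VBP6
import Groth.Agent.Lib.Helper1.VB5
import Groth.Agent.Lib.Helper1.Conn1
import Groth.Agent.Lib.Helper1.CohAbel
import Groth.Agent.Lib.Helper1.Curve5
import Groth.Agent.Lib.Helper1.SerreCrit
import Groth.Agent.S19692

/-!
# Double covers of the projective line: the kernel of the trace (helper1)
-/

set_option backward.isDefEq.respectTransparency.types false
set_option synthInstance.maxHeartbeats 400000
set_option autoImplicit false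
universe u
open CategoryTheory CategoryTheory.Limits AlgebraicGeometry TopologicalSpace Opposite

namespace Groth.Agent.Helper1.VBP

open Groth.Agent.Helper1
open Groth.Agent.Lib.Helper4.SerreVan
open Groth.Agent.Lib.Helper4
open Groth.Agent.Helper1.P1Iso Groth.Agent.Helper1.Euler Groth.Agent.Helper1.Curve
open Groth.Agent.Helper1.CurveDual Groth.Agent.Helper1.TwForm Groth.Agent.Helper1.QcCech
open Groth.Agent.Lead.FLF

section Epi

variable {X Y : Scheme.{u}} (f : X ⟶ Y)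

/-- the trace of a finite locally free morphism of degree `d`, with `d` invertible on the base,
is an epimorphism -/
theorem epi_of_isTraceHom [Flat f] [IsFinite f] (d : ℕ)
    (hM : FlatMod.IsFinLocFreeOfRank d
      ((Scheme.Modules.pushforward f).obj (Coh.structureModule X)))
    (hd : ∀ V : Y.Opens, IsUnit ((d : ℕ) : Γ(Y, V)))
    (τ : (Scheme.Modules.pushforward f).obj (Coh.structureModule X) ⟶ Coh.structureModule Y)
    (hτ : FinCov.IsTraceHom f τ) : Epi τ := by
  apply SerreCrit.epi_of_locally_surjective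
  intro U t x hxU
  obtain ⟨U₀, hxU₀, ⟨e⟩⟩ := hM x
  obtain ⟨_, ⟨V, hV, rfl⟩, hxV, hVU⟩ :=
    Y.isBasis_affineOpens.exists_subset_of_mem_open (show x ∈ ((U ⊓ U₀ : Y.Opens) : Set Y) from
      ⟨hxU, hxU₀⟩) (U ⊓ U₀).2
  have hVU' : V ≤ U := fun y hy => (hVU hy).1
  have hVU₀ : V ≤ U₀ := fun y hy => (hVU hy).2
  have e' := freeOfLE hVU₀ _ d e
  refine ⟨V, hVU', hxV, ?_⟩
  letI := (f.app V).hom.toAlgebra
  let E : Γ(X, f ⁻¹ᵁ V) ≃ₗ[Γ(Y, V)] (ULift.{u} (Fin d) →₀ Γ(Y, V)) :=
    (Groth.Agent.S9716.pushEquiv f V).symm ≪≫ₗ sectionsFreeEquiv hV _ d e'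
  let b : Module.Basis (ULift.{u} (Fin d)) Γ(Y, V) Γ(X, f ⁻¹ᵁ V) := Module.Basis.ofRepr E
  haveI : Module.Free Γ(Y, V) Γ(X, f ⁻¹ᵁ V) := Module.Free.of_basis b
  haveI : Module.Finite Γ(Y, V) Γ(X, f ⁻¹ᵁ V) := Module.Finite.of_basis b
  obtain ⟨u, hu⟩ := hd V
  set t' : Γ(Y, V) := resR hVU' t with ht'
  have htr := hτ V hV inferInstance inferInstance
    (algebraMap Γ(Y, V) Γ(X, f ⁻¹ᵁ V) (((u⁻¹ : (Γ(Y, V))ˣ) : Γ(Y, V)) * t'))
  rw [Algebra.trace_algebraMap_of_basis b] at htr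
  refine ⟨algebraMap Γ(Y, V) Γ(X, f ⁻¹ᵁ V) (((u⁻¹ : (Γ(Y, V))ˣ) : Γ(Y, V)) * t'), ?_⟩
  refine htr.trans ?_
  rw [Fintype.card_ulift, Fintype.card_fin, nsmul_eq_mul, ← hu, ← mul_assoc, Units.mul_inv,
    one_mul]
  rfl

end Epi

variable (k : Type u) [Field k]

theorem finrank_H0_of_isAlgClosed [IsAlgClosed k] (X : Scheme.{u})
    [X.Over (Spec (CommRingCat.of k))] [IsProper (X ↘ Spec (CommRingCat.of k))]
    [IsReduced X] [ConnectedSpace X] :
    Module.finrank k (Coh.HH X (Coh.structureModule X) 0) = 1 := by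
  letI : Algebra k Γ(X, ⊤) := ((X ↘ (Spec (CommRingCat.of k))).appTop.hom.comp
    (Scheme.ΓSpecIso (CommRingCat.of k)).inv.hom).toAlgebra
  obtain ⟨hF, hfin, -⟩ := GlobField.main k X
  obtain ⟨Le⟩ := CurveLin.nonempty_HH_zero_linearEquiv' k X
  rw [Le.finrank_eq]
  haveI : IsDomain Γ(X, ⊤) := hF.isDomain
  haveI : Algebra.IsIntegral k Γ(X, ⊤) := Algebra.IsIntegral.of_finite k _
  have hbij : Function.Bijective (Algebra.linearMap k Γ(X, ⊤)) :=
    IsAlgClosed.algebraMap_bijective_of_isIntegral (k := k) (K := Γ(X, ⊤))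
  have h1 := (LinearEquiv.ofBijective (Algebra.linearMap k Γ(X, ⊤)) hbij).finrank_eq
  rw [Module.finrank_self] at h1
  exact h1.symm

/-- **the kernel of the trace of a double cover of the projective line has degree `-g - 1`** -/
theorem deg_kernel_trace [IsAlgClosed k] (h2 : (2 : k) ≠ 0) {X : Scheme.{u}}
    (p : X ⟶ Spec (CommRingCat.of k)) [IsProper p] [Smooth p]
    [ConnectedSpace ↥X] (hX : topologicalKrullDim ↥X = 1)
    (h : X ⟶ CohB1.ProjSpace 1 k) (hh : h ≫ CohB1.ProjSpace.toSpec 1 k = p)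
    [IsFinite h] [Flat h] [LocallyOfFinitePresentation h]
    (hr : ∀ y : ↥(CohB1.ProjSpace 1 k), h.finrank y = 2)
    (τ : (Scheme.Modules.pushforward h).obj (Coh.structureModule X) ⟶
      Coh.structureModule (CohB1.ProjSpace 1 k))
    (hτ : FinCov.IsTraceHom h τ) :
    @Curv2.deg k _ (CohB1.ProjSpace 1 k) ⟨CohB1.ProjSpace.toSpec 1 k⟩ (kernel τ) 1 =
      -((@Curv2.genus k _ X ⟨p⟩ : ℤ) + 1) := by
  letI : X.Over (Spec (CommRingCat.of k)) := ⟨p⟩
  haveI : IsProper (X ↘ Spec (CommRingCat.of k)) := ‹IsProper p›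
  haveI := isNoetherian_of_proper k (CohB1.ProjSpace 1 k)
  haveI : IsLocallyNoetherian (CohB1.ProjSpace 1 k) :=
    (isNoetherian_of_proper k (CohB1.ProjSpace 1 k)).toIsLocallyNoetherian
  have hcov : FinCov.IsCover h 2 := ⟨⟨inferInstance, inferInstance, inferInstance⟩, hr⟩
  obtain ⟨haff, hrank⟩ := (Groth.Agent.S19692.result h 2).1 hcov
  haveI := haff
  have hd : ∀ V : (CohB1.ProjSpace 1 k).Opens, IsUnit (((2 : ℕ) : ℕ) : Γ(CohB1.ProjSpace 1 k, V)) := by
    intro V
    let φ : k →+* Γ(CohB1.ProjSpace 1 k, V) := (resR (le_top : V ≤ ⊤)).comp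
      (Coh.toGlobal ((CohB1.ProjSpace 1 k) ↘ Spec (CommRingCat.of k)))
    have e2 : (((2 : ℕ) : ℕ) : Γ(CohB1.ProjSpace 1 k, V)) = φ 2 := by
      rw [map_ofNat]
      norm_num
    rw [e2]
    exact (IsUnit.mk0 2 h2).map φ
  haveI := epi_of_isTraceHom h 2 hrank hd τ hτ
  have c2 := isCoh_of_rank k hrank
  have c3 : Coh.IsCoh (Coh.structureModule (CohB1.ProjSpace 1 k)) :=
    InvQc.isCoh_of_isInvertible _ GenLoc.isInvertible_O
  have c1 := FtLocal.isCoh_kernel c2 c3 τ
  obtain ⟨S, hSdef⟩ : ∃ S : ShortComplex (CohB1.ProjSpace 1 k).Modules,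
    S = ShortComplex.mk (kernel.ι τ) τ (kernel.condition τ) := ⟨_, rfl⟩
  have hS : S.ShortExact := by
    rw [hSdef]
    exact ShortComplex.ShortExact.mk' (ShortComplex.exact_kernel τ) inferInstance inferInstance
  have hadd := euler_additive k (CohB1.ProjSpace 1 k) S hS (by rw [hSdef]; exact c1)
    (by rw [hSdef]; exact c2) (by rw [hSdef]; exact c3)
  rw [hSdef] at hadd
  have hpush := euler_push k (CohB1.ProjSpace 1 k) X h hh (Coh.structureModule X)
  haveI : IsReduced X := by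
    have : ∀ y : X, _root_.IsReduced (X.presheaf.stalk y) := fun y => by
      have := VB5.isDomain_stalk_of_smooth k p y
      infer_instance
    exact isReduced_of_isReduced_stalk X
  have h0 := finrank_H0_of_isAlgClosed k X
  haveI := isNoetherian_of_proper k X
  have hOc : Coh.IsCoh (Coh.structureModule X) :=
    InvQc.isCoh_of_isInvertible _ GenLoc.isInvertible_O
  have eO := euler_eq_h0_sub_h1 k X hX.le _ hOc.1
  rw [h0] at eO
  have hg' : (Module.finrank k (Coh.HH X (Coh.structureModule X) 1) : ℤ) =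
      (Curv2.genus k X : ℤ) := rfl
  have hdeg : Curv2.deg k (CohB1.ProjSpace 1 k) (kernel τ) 1 =
      -((Curv2.genus k X : ℤ) + 1) := by
    unfold Curv2.deg
    rw [euler_O]
    change Curv2.euler k (CohB1.ProjSpace 1 k)
      ((Scheme.Modules.pushforward h).obj (Coh.structureModule X)) = _ at hadd
    rw [hpush, euler_O, eO, hg'] at hadd
    dsimp only at hadd
    push_cast at hadd ⊢
    linarith
  exact hdeg

end Groth.Agent.Helper1.VBP
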