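import Mathlib
import Groth.Agent.Lib.Helper1.VT14

/-!
# The universal property of the projective bundle (helper1 library, very ample theory 26)
-/

set_option autoImplicit false
universe u
open CategoryTheory CategoryTheory.Limits AlgebraicGeometry TopologicalSpace Opposite
  HomogeneousLocalization
open scoped HomogeneousIdeal

namespace Groth.Agent.Helper1.VT

open Groth.Agent.Helper1.QcCech Groth.Agent.Helper1.LGen Groth.Agent.Helper1.CocycleIso
open Groth.Agent.Helper1 Groth.Agent.Helper1.GP1 Groth.Agent.Helper1.GP2 Groth.Agent.Helper1.GP3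

section Ext

variable {X Y : Scheme.{u}} (g : X ⟶ Y) {E : Y.Modules} {L : X.Modules}

/-- morphisms out of a pullback are determined by their values on pulled back sections -/
theorem pullback_hom_ext {ψ ψ' : (Scheme.Modules.pullback g).obj E ⟶ L}
    (h : ∀ (U : Y.Opens) (ε : Γ(E, U)),
      ψ.app (g ⁻¹ᵁ U) (PullSec.σ g E U ε) = ψ'.app (g ⁻¹ᵁ U) (PullSec.σ g E U ε)) : ψ = ψ' := by
  apply ((Scheme.Modules.pullbackPushforwardAdjunction g).homEquiv E _).injective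
  apply Scheme.Modules.hom_ext
  intro V
  ext ε
  rw [Adjunction.homEquiv_unit, Adjunction.homEquiv_unit]
  exact h V ε

/-- the adjunct of a morphism into a pushforward evaluated on a pulled back section -/
theorem adj_symm_σ (φ : E ⟶ (Scheme.Modules.pushforward g).obj L) (U : Y.Opens) (ε : Γ(E, U)) :
    (((Scheme.Modules.pullbackPushforwardAdjunction g).homEquiv E L).symm φ).app (g ⁻¹ᵁ U)
      (PullSec.σ g E U ε) = φ.app U ε := by
  have h := sec_adjU g (((Scheme.Modules.pullbackPushforwardAdjunction g).homEquiv E L).symm φ) U ε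
  unfold adjU at h
  rw [Equiv.apply_symm_apply] at h
  exact h.symm

end Ext

section Glued

variable {X Y P : Scheme.{u}} (q : X ⟶ Y) {L : X.Modules} {E : Y.Modules}
  (u : E ⟶ (Scheme.Modules.pushforward q).obj L)
  {𝒮 : RelProj.QCGrAlg Y} {j : E ⟶ 𝒮.toModule} (hj : RelProj.IsGrSymAlg E 𝒮 j)
  {p : P ⟶ Y}
  {chart : ∀ (U : Y.Opens) (hU : IsAffineOpen U), ((p ⁻¹ᵁ U : P.Opens) : Scheme.{u}) ≅ Proj (𝒮.deg U hU)}
  (hP : RelProj.IsRelProj 𝒮 p chart)
  {O1 : P.Modules}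
  {lam : ∀ (U : Y.Opens) (hU : IsAffineOpen U),
    O1 ⟶ (Scheme.Modules.pushforward (RelProj.emb p chart U hU)).obj (GrTwist.twist (𝒮.deg U hU) 1)}
  (hO1 : RelProj.IsRelTwist 𝒮 p chart 1 O1 lam)
  (can : E ⟶ (Scheme.Modules.pushforward p).obj O1)
  (hcan : ∀ (U : Y.Opens) (hU : IsAffineOpen U) (e : Γ(E, U))
      (y : ↥(RelProj.emb p chart U hU ⁻¹ᵁ (p ⁻¹ᵁ U))),
      GrTwist.val (V := RelProj.emb p chart U hU ⁻¹ᵁ (p ⁻¹ᵁ U))
          ((lam U hU).app (p ⁻¹ᵁ U) ((can.app U) e)) y =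
        algebraMap (𝒮.presheaf.obj (op U)) (GrTwist.Loc (𝒮.deg U hU) y.1)
          ((j.app U) e : 𝒮.presheaf.obj (op U)))
  [E.IsQuasicoherent] (B : Y.AffineZariskiSite → Prop) {r : X ⟶ P}
  (hr : IsGlued q u hj B p chart r)

include hO1 hcan in
/-- the pulled back canonical section of `ε'` on the generating locus of `ε` -/
theorem σ_offdiag (U : Y.AffineZariskiSite) (hU : B U) (ε ε' : Γ(E, U.1)) :
    res _ (W_le_preimage_Dκ q u hj B hr U hU ε)
        (PullSec.σ r O1 (Dκ hj p chart U ε) (θD hj can chart U ε ε')) =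
      φ q u U.1 ε ε' • aSec q u hj can B hr U hU ε := by
  obtain ⟨c, hc⟩ := ((isGen_θ hj hO1 can hcan U ε) _ le_rfl).2 (θD hj can chart U ε ε')
  simp only [res_self] at hc
  have h1 := r_appLE_coeff' q u hj can hcan B hr U hU ε ε' c hc
  have h2 : PullSec.σ r O1 (Dκ hj p chart U ε) (θD hj can chart U ε ε') =
      (r.app (Dκ hj p chart U ε)).hom c •
        PullSec.σ r O1 (Dκ hj p chart U ε) (θD hj can chart U ε ε) := by
    rw [← PullSec.σ_smul, hc]
  have h3 := congrArg (res _ (W_le_preimage_Dκ q u hj B hr U hU ε)) h2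
  rw [res_smul, h1] at h3
  exact h3

include hr in
/-- **uniqueness of glued morphisms** -/
theorem IsGlued.unique (hBcov : ∀ y : Y, ∃ U, B U ∧ y ∈ U.1)
    (hgen : ∀ U, B U → ∀ x : X, q x ∈ U.1 → ∃ ε : Γ(E, U.1), x ∈ W q u U.1 ε)
    {r' : X ⟶ P} (hr' : IsGlued q u hj B p chart r') : r = r' := by
  apply RelProjGlue.hom_ext_of_local
  intro x
  obtain ⟨U, hU, hxU⟩ := hBcov (q x)
  obtain ⟨ε, hε⟩ := hgen U hU x hxU
  exact ⟨W q u U.1 ε, hε, by rw [hr U hU ε _ le_rfl, hr' U hU ε _ le_rfl]⟩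

end Glued

section Main

variable {X Y P : Scheme.{u}} {L : X.Modules} {E : Y.Modules}
  {𝒮 : RelProj.QCGrAlg Y} {j : E ⟶ 𝒮.toModule} (hj : RelProj.IsGrSymAlg E 𝒮 j)
  [E.IsQuasicoherent] {p : P ⟶ Y}
  {chart : ∀ (U : Y.Opens) (hU : IsAffineOpen U), ((p ⁻¹ᵁ U : P.Opens) : Scheme.{u}) ≅ Proj (𝒮.deg U hU)}
  (hP : RelProj.IsRelProj 𝒮 p chart)
  {O1 : P.Modules}
  {lam : ∀ (U : Y.Opens) (hU : IsAffineOpen U),
    O1 ⟶ (Scheme.Modules.pushforward (RelProj.emb p chart U hU)).obj (GrTwist.twist (𝒮.deg U hU) 1)}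
  (hO1 : RelProj.IsRelTwist 𝒮 p chart 1 O1 lam)
  (can : E ⟶ (Scheme.Modules.pushforward p).obj O1)
  (hcan : ∀ (U : Y.Opens) (hU : IsAffineOpen U) (e : Γ(E, U))
      (y : ↥(RelProj.emb p chart U hU ⁻¹ᵁ (p ⁻¹ᵁ U))),
      GrTwist.val (V := RelProj.emb p chart U hU ⁻¹ᵁ (p ⁻¹ᵁ U))
          ((lam U hU).app (p ⁻¹ᵁ U) ((can.app U) e)) y =
        algebraMap (𝒮.presheaf.obj (op U)) (GrTwist.Loc (𝒮.deg U hU) y.1)
          ((j.app U) e : 𝒮.presheaf.obj (op U)))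

omit [E.IsQuasicoherent] in
/-- the composite occurring in the universal property, evaluated on a pulled back section -/
theorem comp_app_σ (r : X ⟶ P) (τ : (Scheme.Modules.pullback r).obj O1 ⟶ L) (U : Y.Opens)
    (ε : Γ(E, U)) :
    ((Scheme.Modules.pullbackComp r p).inv.app E ≫
      (Scheme.Modules.pullback r).map
        (((Scheme.Modules.pullbackPushforwardAdjunction p).homEquiv E O1).symm can) ≫ τ).app
        ((r ≫ p) ⁻¹ᵁ U) (PullSec.σ (r ≫ p) E U ε) =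
      τ.app (r ⁻¹ᵁ p ⁻¹ᵁ U) (mSec can r U ε) := by
  rw [Scheme.Modules.Hom.comp_app, Scheme.Modules.Hom.comp_app]
  change τ.app _ (((Scheme.Modules.pullback r).map _).app _
    (((Scheme.Modules.pullbackComp r p).inv.app E).app ((r ≫ p) ⁻¹ᵁ U)
      (PullSec.σ (r ≫ p) E U ε))) = _
  rw [PullSec.σ_comp]
  have h1 := PullSec.σ_natural r
    (((Scheme.Modules.pullbackPushforwardAdjunction p).homEquiv E O1).symm can) (p ⁻¹ᵁ U)
    (PullSec.σ p E U ε)
  rw [adj_symm_σ] at h1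
  change τ.app _ (((Scheme.Modules.pullback r).map _).app (r ⁻¹ᵁ p ⁻¹ᵁ U) _) = _
  rw [h1]
  rfl

end Main

/-- morphisms out of a pullback are determined by their values on pulled back sections over affine
opens -/
theorem pullback_hom_ext_affine {X Y : Scheme.{u}} (g : X ⟶ Y) {E : Y.Modules} {L : X.Modules}
    {ψ ψ' : (Scheme.Modules.pullback g).obj E ⟶ L}
    (h : ∀ (U : Y.Opens) (_ : IsAffineOpen U) (ε : Γ(E, U)),
      ψ.app (g ⁻¹ᵁ U) (PullSec.σ g E U ε) = ψ'.app (g ⁻¹ᵁ U) (PullSec.σ g E U ε)) : ψ = ψ' := by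
  apply ((Scheme.Modules.pullbackPushforwardAdjunction g).homEquiv E _).injective
  apply AffExt.hom_ext_affine
  intro V hV ε
  rw [Adjunction.homEquiv_unit, Adjunction.homEquiv_unit]
  exact h V hV ε

section Main2

variable {X Y P : Scheme.{u}} {L : X.Modules} {E : Y.Modules}
  {𝒮 : RelProj.QCGrAlg Y} {j : E ⟶ 𝒮.toModule} (hj : RelProj.IsGrSymAlg E 𝒮 j)
  [E.IsQuasicoherent] {p : P ⟶ Y}
  {chart : ∀ (U : Y.Opens) (hU : IsAffineOpen U), ((p ⁻¹ᵁ U : P.Opens) : Scheme.{u}) ≅ Proj (𝒮.deg U hU)}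
  (hP : RelProj.IsRelProj 𝒮 p chart)
  {O1 : P.Modules}
  {lam : ∀ (U : Y.Opens) (hU : IsAffineOpen U),
    O1 ⟶ (Scheme.Modules.pushforward (RelProj.emb p chart U hU)).obj (GrTwist.twist (𝒮.deg U hU) 1)}
  (hO1 : RelProj.IsRelTwist 𝒮 p chart 1 O1 lam)
  (can : E ⟶ (Scheme.Modules.pushforward p).obj O1)
  (hcan : ∀ (U : Y.Opens) (hU : IsAffineOpen U) (e : Γ(E, U))
      (y : ↥(RelProj.emb p chart U hU ⁻¹ᵁ (p ⁻¹ᵁ U))),
      GrTwist.val (V := RelProj.emb p chart U hU ⁻¹ᵁ (p ⁻¹ᵁ U))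
          ((lam U hU).app (p ⁻¹ᵁ U) ((can.app U) e)) y =
        algebraMap (𝒮.presheaf.obj (op U)) (GrTwist.Loc (𝒮.deg U hU) y.1)
          ((j.app U) e : 𝒮.presheaf.obj (op U)))
  (B : Y.AffineZariskiSite → Prop)

include hO1 hcan in
/-- the isomorphism attached to a glued morphism is compatible with all the sections -/
theorem τ_mSec {r : X ⟶ P} (u : E ⟶ (Scheme.Modules.pushforward (r ≫ p)).obj L)
    (hr : IsGlued (r ≫ p) u hj B p chart r) (τ : (Scheme.Modules.pullback r).obj O1 ≅ L)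
    (hτ : ∀ (U : Y.AffineZariskiSite) (hU : B U) (ε : Γ(E, U.1)),
      τ.hom.app (W (r ≫ p) u U.1 ε) (aSec (r ≫ p) u hj can B hr U hU ε) = bSec (r ≫ p) u U.1 ε)
    (hgen : ∀ U, B U → ∀ x : X, (r ≫ p) x ∈ U.1 → ∃ ε : Γ(E, U.1), x ∈ W (r ≫ p) u U.1 ε)
    (U : Y.AffineZariskiSite) (hU : B U) (ε : Γ(E, U.1)) :
    τ.hom.app (r ⁻¹ᵁ p ⁻¹ᵁ U.1) (mSec can r U.1 ε) = sec (r ≫ p) u U.1 ε := by
  apply TwistSec.eq_of_locally L
  intro x hx
  obtain ⟨ε', hε'⟩ := hgen U hU x hx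
  refine ⟨W (r ≫ p) u U.1 ε', W_le (r ≫ p) u U.1 ε', hε', ?_⟩
  have e := QcExt.app_res τ.hom (O := r ⁻¹ᵁ p ⁻¹ᵁ U.1) (W_le (r ≫ p) u U.1 ε')
    (mSec can r U.1 ε)
  refine e.symm.trans ?_
  have h1 : res _ (W_le (r ≫ p) u U.1 ε') (mSec can r U.1 ε) =
      φ (r ≫ p) u U.1 ε' ε • aSec (r ≫ p) u hj can B hr U hU ε' := by
    rw [← σ_offdiag (r ≫ p) u hj hO1 can hcan B hr U hU ε' ε, aSec_eq]
    rfl
  refine (congrArg (fun t => τ.hom.app (W (r ≫ p) u U.1 ε') t) h1).trans ?_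
  rw [Scheme.Modules.Hom.app_smul, hτ U hU ε']
  exact ratio_spec L _ _

include hP hO1 hcan in
/-- the equation of the universal property for a glued morphism -/
theorem eq_of_isGlued {r : X ⟶ P} (s : (Scheme.Modules.pullback (r ≫ p)).obj E ⟶ L)
    (hr : IsGlued (r ≫ p) (adjU (r ≫ p) s) hj (fun _ => True) p chart r)
    (τ : (Scheme.Modules.pullback r).obj O1 ≅ L)
    (hτ : ∀ (U : Y.AffineZariskiSite) (hU : True) (ε : Γ(E, U.1)),
      τ.hom.app (W (r ≫ p) (adjU (r ≫ p) s) U.1 ε)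
        (aSec (r ≫ p) (adjU (r ≫ p) s) hj can (fun _ => True) hr U hU ε) =
          bSec (r ≫ p) (adjU (r ≫ p) s) U.1 ε)
    (hgen : ∀ U : Y.AffineZariskiSite, True → ∀ x : X, (r ≫ p) x ∈ U.1 →
      ∃ ε : Γ(E, U.1), x ∈ W (r ≫ p) (adjU (r ≫ p) s) U.1 ε) :
    (Scheme.Modules.pullbackComp r p).inv.app E ≫
      (Scheme.Modules.pullback r).map
        (((Scheme.Modules.pullbackPushforwardAdjunction p).homEquiv E O1).symm can) ≫ τ.hom = s := by
  have _ := hP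
  apply pullback_hom_ext_affine
  intro U hU ε
  rw [comp_app_σ, τ_mSec hj hO1 can hcan (fun _ => True) (adjU (r ≫ p) s) hr τ hτ hgen ⟨U, hU⟩
    trivial ε, sec_adjU]

include hP hO1 hcan in
/-- a solution of the universal property is glued -/
theorem isGlued_of_eq {r : X ⟶ P} (s : (Scheme.Modules.pullback (r ≫ p)).obj E ⟶ L)
    (τ : (Scheme.Modules.pullback r).obj O1 ≅ L)
    (h : (Scheme.Modules.pullbackComp r p).inv.app E ≫
      (Scheme.Modules.pullback r).map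
        (((Scheme.Modules.pullbackPushforwardAdjunction p).homEquiv E O1).symm can) ≫ τ.hom = s) :
    IsGlued (r ≫ p) (adjU (r ≫ p) s) hj (fun _ => True) p chart r := by
  apply isGlued_of_iso hj hP hO1 can hcan r (adjU (r ≫ p) s) τ (fun _ => True)
  intro U _ ε
  rw [sec_adjU, ← h, comp_app_σ]

end Main2

section Main3

variable {Y P : Scheme.{u}} {E : Y.Modules}
  {𝒮 : RelProj.QCGrAlg Y} {j : E ⟶ 𝒮.toModule} (hj : RelProj.IsGrSymAlg E 𝒮 j)
  [E.IsQuasicoherent] {p : P ⟶ Y}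
  {chart : ∀ (U : Y.Opens) (hU : IsAffineOpen U), ((p ⁻¹ᵁ U : P.Opens) : Scheme.{u}) ≅ Proj (𝒮.deg U hU)}
  (hP : RelProj.IsRelProj 𝒮 p chart)
  {O1 : P.Modules}
  {lam : ∀ (U : Y.Opens) (hU : IsAffineOpen U),
    O1 ⟶ (Scheme.Modules.pushforward (RelProj.emb p chart U hU)).obj (GrTwist.twist (𝒮.deg U hU) 1)}
  (hO1 : RelProj.IsRelTwist 𝒮 p chart 1 O1 lam)
  (can : E ⟶ (Scheme.Modules.pushforward p).obj O1)
  (hcan : ∀ (U : Y.Opens) (hU : IsAffineOpen U) (e : Γ(E, U))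
      (y : ↥(RelProj.emb p chart U hU ⁻¹ᵁ (p ⁻¹ᵁ U))),
      GrTwist.val (V := RelProj.emb p chart U hU ⁻¹ᵁ (p ⁻¹ᵁ U))
          ((lam U hU).app (p ⁻¹ᵁ U) ((can.app U) e)) y =
        algebraMap (𝒮.presheaf.obj (op U)) (GrTwist.Loc (𝒮.deg U hU) y.1)
          ((j.app U) e : 𝒮.presheaf.obj (op U)))

include hj hP hO1 hcan in
/-- **the universal property of the projective bundle** (S5733) -/
theorem existsUnique_of_epi {X : Scheme.{u}} (g : X ⟶ Y) (L : X.Modules)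
    (hL : PicF.IsInvertible L) (s : (Scheme.Modules.pullback g).obj E ⟶ L) [Epi s] :
    ∃! r : X ⟶ P, ∃ (hr : r ≫ p = g) (τ : (Scheme.Modules.pullback r).obj O1 ≅ L),
      (Scheme.Modules.pullbackCongr hr).inv.app E ≫ (Scheme.Modules.pullbackComp r p).inv.app E ≫
        (Scheme.Modules.pullback r).map
          (((Scheme.Modules.pullbackPushforwardAdjunction p).homEquiv E O1).symm can) ≫ τ.hom = s := by
  have hBle : ∀ U : Y.AffineZariskiSite, True → ∀ U', U' ≤ U → True := fun _ _ _ _ => trivial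
  have hBcov : ∀ y : Y, ∃ U : Y.AffineZariskiSite, True ∧ y ∈ U.1 := by
    intro y
    obtain ⟨U, hU, hyU⟩ := RP6.exists_affine_mem y
    exact ⟨⟨U, hU⟩, trivial, hyU⟩
  have hgen : ∀ U : Y.AffineZariskiSite, True → ∀ x : X, g x ∈ U.1 →
      ∃ ε : Γ(E, U.1), x ∈ W g (adjU g s) U.1 ε :=
    fun U _ x hx => exists_gl_of_epi g s hL U.2 x hx
  obtain ⟨r, hr⟩ := exists_r g (adjU g s) hj hP (fun _ => True) hBle hBcov hgen
  have hr' : IsGlued g (adjU g s) hj (fun _ => True) p chart r := hr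
  have hcomp : r ≫ p = g := hr'.comp_p g (adjU g s) hj hP (fun _ => True) hBcov hgen
  -- uniqueness first, in a form not depending on `r`
  have huniq : ∀ (r₂ : X ⟶ P) (hr₂ : r₂ ≫ p = g) (τ₂ : (Scheme.Modules.pullback r₂).obj O1 ≅ L),
      (Scheme.Modules.pullbackCongr hr₂).inv.app E ≫
        (Scheme.Modules.pullbackComp r₂ p).inv.app E ≫
        (Scheme.Modules.pullback r₂).map
          (((Scheme.Modules.pullbackPushforwardAdjunction p).homEquiv E O1).symm can) ≫ τ₂.hom = s →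
      IsGlued g (adjU g s) hj (fun _ => True) p chart r₂ := by
    intro r₂ hr₂ τ₂ h₂
    subst hr₂
    apply isGlued_of_eq hj hP hO1 can hcan s τ₂
    rw [← h₂]
    simp [Scheme.Modules.pullbackCongr]
  refine ⟨r, ⟨hcomp, ?_⟩, ?_⟩
  · clear huniq hr
    subst hcomp
    obtain ⟨τ, hτ⟩ := exists_τ (r ≫ p) (adjU (r ≫ p) s) hj hO1 can hcan (fun _ => True) hr' hBle
      hBcov hgen
    refine ⟨τ, ?_⟩
    have := eq_of_isGlued hj hP hO1 can hcan s hr' τ hτ hgen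
    rw [← this]
    simp [Scheme.Modules.pullbackCongr]
  · rintro r₂ ⟨hr₂, τ₂, h₂⟩
    exact (IsGlued.unique g (adjU g s) hj (fun _ => True) (huniq r₂ hr₂ τ₂ h₂) hBcov hgen hr')

end Main3

end Groth.Agent.Helper1.VT
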