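import Mathlib
import Groth.Agent.Lib.Helper1.VT31
import Groth.Agent.Lib.Helper1.VT24
import Groth.Agent.Lib.Helper1.ProjChar
import Groth.Agent.Lib.Lead.PBQc

/-!
# Products of projective morphisms (helper1 library, very ample theory 32)
-/

set_option autoImplicit false
universe u
open CategoryTheory CategoryTheory.Limits AlgebraicGeometry TopologicalSpace Opposite

namespace Groth.Agent.Helper1.VT

open Groth.Agent.Helper1.QcCech Groth.Agent.Helper1.LGen Groth.Agent.Helper1.CocycleIso
open Groth.Agent.Helper1 Groth.Agent.Helper1.TmulLib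

section Proj

variable {X Y : Scheme.{u}} (f : X ⟶ Y)

/-- a projective morphism is proper and carries a very ample invertible module through a
quasi-coherent module of finite type -/
theorem exists_isVAWith_of_isProjective (hf : RelProj.IsProjective f) :
    ∃ (E : Y.Modules) (L : X.Modules), E.IsQuasicoherent ∧ CohB1.IsFT E ∧ PicF.IsInvertible L ∧
      IsVAWith f L E ∧ IsProper f := by
  obtain ⟨E, 𝒯, j, P, p, chart, i, hEq, hEft, hj, hP, hi, hip⟩ :=
    ProjChar.exists_closedImmersion_of_isProjective f hf
  obtain ⟨O1, lam, hO1⟩ := RP9.exists_isRelTwist hP 1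
  have hO1inv : PicF.IsInvertible O1 :=
    RP3.isInvertible_of_isGenDegOne (SymAlg.isGenDegOne_of_isGrSymAlg hj) hO1
  refine ⟨E, (Scheme.Modules.pullback i).obj O1, hEq, hEft,
    PullGen.isInvertible_pullback i hO1inv, ?_, (ProjProper.main4418 f hf).2⟩
  exact ⟨𝒯, j, hj, P, p, chart, hP, O1, lam, hO1, i, inferInstance, hip, ⟨Iso.refl _⟩⟩

/-- a proper morphism with a very ample module through a module of finite type is projective -/
theorem isProjective_of_isVAWith_of_isProper [IsProper f] (E : Y.Modules) (hEq : E.IsQuasicoherent)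
    (hEft : CohB1.IsFT E) (L : X.Modules) (h : IsVAWith f L E) : RelProj.IsProjective f := by
  obtain ⟨𝒮, j, hj, P, p, chart, hP, O1, lam, hO1, i, hi, hip, -⟩ := h
  have : IsImmersion i := hi
  have hsep : IsSeparated p := RP1.isSeparated hP
  have : IsProper (i ≫ p) := by rw [hip]; infer_instance
  have : IsProper i := IsProper.of_comp i p
  have : IsClosedImmersion i :=
    IsClosedImmersion.of_isPreimmersion i i.isClosedMap.isClosed_range
  exact ProjChar.isProjective_of_closedImmersion f E 𝒮 j p chart i hEq hEft hj hP hip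

end Proj

/-- **products of projective morphisms are projective** -/
theorem isProjective_pullback_map {X X' Y Y' S : Scheme.{u}} (a : Y ⟶ S) (a' : Y' ⟶ S)
    (f : X ⟶ Y) (f' : X' ⟶ Y') (hf : RelProj.IsProjective f) (hf' : RelProj.IsProjective f') :
    RelProj.IsProjective (pullback.map (f ≫ a) (f' ≫ a') a a' f f' (𝟙 S)
      (Category.comp_id (f ≫ a)) (Category.comp_id (f' ≫ a'))) := by
  obtain ⟨E, L, hEq, hEft, hL, hva, hprop⟩ := exists_isVAWith_of_isProjective f hf
  obtain ⟨E', L', hEq', hEft', hL', hva', hprop'⟩ := exists_isVAWith_of_isProjective f' hf'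
  set F := pullback.map (f ≫ a) (f' ≫ a') a a' f f' (𝟙 S) (Category.comp_id (f ≫ a))
    (Category.comp_id (f' ≫ a')) with hF
  have hFprop : IsProper F :=
    MorphismProperty.pullbackMap (P := @IsProper) (f := f ≫ a) (g := f' ≫ a')
      (f' := a) (g' := a') (i₁ := f) (i₂ := f') inferInstance inferInstance rfl rfl
  have hF1 : F ≫ pullback.fst a a' = pullback.fst (f ≫ a) (f' ≫ a') ≫ f :=
    pullback.lift_fst _ _ _
  have hF2 : F ≫ pullback.snd a a' = pullback.snd (f ≫ a) (f' ≫ a') ≫ f' :=
    pullback.lift_snd _ _ _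
  have hq1 : ((Scheme.Modules.pullback (pullback.fst a a')).obj E).IsQuasicoherent :=
    QcPullGen.isQuasicoherent_pullback _ E
  have hq2 : ((Scheme.Modules.pullback (pullback.snd a a')).obj E').IsQuasicoherent :=
    QcPullGen.isQuasicoherent_pullback _ E'
  have hva2 := isVAWith_fibreProd a a' f f' (pullback.fst (f ≫ a) (f' ≫ a'))
    (pullback.snd (f ≫ a) (f' ≫ a')) (IsPullback.of_hasPullback _ _)
    (pullback.fst a a') (pullback.snd a a') (IsPullback.of_hasPullback _ _) F hF1 hF2
    L hL E hva L' hL' E' hva'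
  exact isProjective_of_isVAWith_of_isProper F _
    (Groth.Agent.Lead.TilT.isQuasicoherent_tensorMod _ _)
    (Groth.Agent.Lead.TilT.isFT_tensorMod _ _
      (Groth.Agent.Lead.PB.isFT_pullback _ E hEft) (Groth.Agent.Lead.PB.isFT_pullback _ E' hEft'))
    _ hva2

end Groth.Agent.Helper1.VT
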