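import Mathlib
import Groth.Agent.Lib.Helper1.VT21

/-!
# The immersion criterion into projective space over a general base (helper1 library, VT33)
-/

set_option autoImplicit false
universe u
open CategoryTheory CategoryTheory.Limits AlgebraicGeometry TopologicalSpace Opposite
  HomogeneousLocalization

namespace Groth.Agent.Helper1.VT

open Groth.Agent.Helper1.QcCech Groth.Agent.Helper1.LGen
open Groth.Agent.Helper1 Groth.Agent.Helper1.SubSh Groth.Agent.Helper1.AmpleLib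
open Groth.Agent.Helper1.ProjUP7 Groth.Agent.Helper1.VA1

set_option synthInstance.maxHeartbeats 400000

/-- a global section restricted to the preimage of an open of the base -/
noncomputable def resSec {X S : Scheme.{u}} (q : X ⟶ S) (G : X.Modules) (U : S.Opens) (m : Γ(G, ⊤)) :
    Γ(G, q ⁻¹ᵁ U) := res G (le_top : q ⁻¹ᵁ U ≤ ⊤) m

section Core2

variable {X S : Scheme.{u}} (q : X ⟶ S) {G : X.Modules} (hG : PicF.IsInvertible G)
  (n : ℕ) (s : Fin (n + 1) → Γ(G, ⊤))
  (hcrit : ∀ x : X, ∃ U : S.Opens, IsAffineOpen U ∧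
    CritAt q G U (Set.range (fun k => resSec q G U (s k))) x)

include hG hcrit in
/-- **the immersion criterion into projective space over a general base** -/
theorem exists_immersion_Pn_of_crit :
    ∃ i : X ⟶ CohB1.ProjSpaceOver n S, IsImmersion i ∧ i ≫ CohB1.ProjSpaceOver.toBase n S = q := by
  have hs : ProjUP.GeneratedBy G s := by
    apply generatedBy_of_cover
    intro x
    obtain ⟨U, hU, _, ⟨k, rfl⟩, b, hb, hxb, -, -⟩ := hcrit x
    refine ⟨k, ?_⟩
    rw [← PnVA.gl_top_eq_genLocus]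
    have h1 : x ∈ gl G (resSec q G U (s k)) := X.basicOpen_le b hxb
    unfold resSec at h1
    rw [gl_res] at h1
    exact h1.1
  obtain ⟨r, hr, τ, hτ⟩ := Groth.Agent.S3572.result (R := ULift.{u} ℤ) n
    (specULiftZIsTerminal.from X) G hG s hs
  let 𝒮 := CohB1.polyGrading n (ULift.{u} ℤ)
  let pr₁ := pullback.fst (CohB1.ProjSpace.toSpec n (ULift.{u} ℤ)) (specULiftZIsTerminal.from S)
  let pr₂ := pullback.snd (CohB1.ProjSpace.toSpec n (ULift.{u} ℤ)) (specULiftZIsTerminal.from S)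
  let i : X ⟶ CohB1.ProjSpaceOver n S := pullback.lift r q (specULiftZIsTerminal.hom_ext _ _)
  have hi1 : i ≫ pr₁ = r := pullback.lift_fst _ _ _
  have hi2 : i ≫ pr₂ = q := pullback.lift_snd _ _ _
  have hτ' : ∀ k, τ.hom.app ⊤ (pt 𝒮 (ProjUP8.tX n _) (ProjUP8.htX n _) r k) = s k := hτ
  have hpre : ∀ k, r ⁻¹ᵁ D 𝒮 (ProjUP8.tX n _) k =
      CohB1.genLocus G (TwistAmple.homOfSec G (s k)) :=
    preimage_D 𝒮 (ProjUP8.tX n _) (ProjUP8.htX n _) (ProjUP8.hcov n _) r τ s hτ'
  let V : Fin (n + 1) → S.Opens → (CohB1.ProjSpaceOver n S).Opens := fun k U =>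
    pr₁ ⁻¹ᵁ D 𝒮 (ProjUP8.tX n _) k ⊓ pr₂ ⁻¹ᵁ U
  have hVaff : ∀ k (U : S.Opens), IsAffineOpen U → IsAffineOpen (V k U) := fun k U hU =>
    isAffineOpen_chart _ _ _
      (Proj.isAffineOpen_basicOpen 𝒮 _ (ProjUP8.htX n _ k) one_pos) _ hU
  have hA : ∀ k (U : S.Opens), gl G (resSec q G U (s k)) = i ⁻¹ᵁ V k U := by
    intro k U
    change _ = i ⁻¹ᵁ (pr₁ ⁻¹ᵁ D 𝒮 (ProjUP8.tX n _) k) ⊓ i ⁻¹ᵁ (pr₂ ⁻¹ᵁ U)
    rw [← Scheme.Hom.comp_preimage, ← Scheme.Hom.comp_preimage, hi1, hi2, hpre]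
    rw [← PnVA.gl_top_eq_genLocus]
    unfold resSec
    rw [gl_res]
  -- the ring of ratios lies in the image of the sections of the chart
  have hrange : ∀ k (U : S.Opens), TS q G U (resSec q G U (s k))
      (Set.range (fun k => resSec q G U (s k))) ≤
      RingHom.range (i.appLE (V k U) (gl G (resSec q G U (s k))) (hA k U).le).hom := by
    intro k U
    apply Subring.closure_le.2
    rintro _ (⟨y, rfl⟩ | ⟨_, ⟨l, rfl⟩, rfl⟩)
    · exact appLE_mem_range' i pr₂ q hi2 U (V k U) inf_le_right _ (hA k U).le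
        (gl_le G (resSec q G U (s k))) y
    · have hU : gl G (resSec q G U (s k)) ≤ r ⁻¹ᵁ D 𝒮 (ProjUP8.tX n _) k := by
        rw [hpre, ← PnVA.gl_top_eq_genLocus]
        unfold resSec
        rw [gl_res]
        exact inf_le_left
      have hρ := ratio_spec G (resSec q G U (s k)) (resSec q G U (s l))
      unfold resSec at hρ
      rw [res_res, res_res] at hρ
      have e := coeff_eq 𝒮 (ProjUP8.tX n _) (ProjUP8.htX n _) r τ s hτ' k l _ hU
        (ratio G (resSec q G U (s k)) (resSec q G U (s l))) hρ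
      change ratio G (resSec q G U (s k)) (resSec q G U (s l)) ∈ _
      rw [e]
      exact appLE_mem_range' i pr₁ r hi1 _ (V k U) inf_le_left _ (hA k U).le hU _
  -- pointwise chart data
  have hpt : ∀ x : X, ∃ (k : Fin (n + 1)) (U : S.Opens) (_ : IsAffineOpen U)
      (β : Γ(CohB1.ProjSpaceOver n S, V k U)),
      x ∈ i ⁻¹ᵁ (CohB1.ProjSpaceOver n S).basicOpen β ∧
      IsAffineOpen (i ⁻¹ᵁ (CohB1.ProjSpaceOver n S).basicOpen β) ∧
      Function.Surjective (i.app ((CohB1.ProjSpaceOver n S).basicOpen β)).hom := by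
    intro x
    obtain ⟨U, hUaff, _, ⟨k, rfl⟩, b, hb, hxb, haff, hf⟩ := hcrit x
    obtain ⟨β, hβ⟩ := hrange k U hb
    have key := surjective_app_basicOpen i (V k U) _ (hA k U) β b hβ (fun f => by
      obtain ⟨N, t, ht, hft⟩ := hf f
      obtain ⟨θ, rfl⟩ := hrange k U ht
      exact ⟨N, θ, hft⟩)
    refine ⟨k, U, hUaff, β, ?_, ?_, key.2⟩
    · rw [key.1]; exact hxb
    · rw [key.1]; exact haff
  choose k U hUaff β h1 h2 h3 using hpt
  refine ⟨i, ?_, hi2⟩
  exact isImmersion_of_charts i (fun x => (CohB1.ProjSpaceOver n S).basicOpen (β x))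
    (fun x => (hVaff (k x) (U x) (hUaff x)).basicOpen (β x)) h2 (fun x => ⟨x, h1 x⟩) h3

end Core2

end Groth.Agent.Helper1.VT
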