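import Mathlib
import Groth.Agent.Lib.Helper1.VT33
import Groth.Agent.Lib.Helper1.VT32
import Groth.Agent.Lib.Helper1.FinPush

/-!
# Projective = H-projective over a base with an ample module (helper1 library, VT34)
-/

set_option autoImplicit false
universe u
open CategoryTheory CategoryTheory.Limits AlgebraicGeometry TopologicalSpace Opposite

namespace Groth.Agent.Helper1.VT

open Groth.Agent.Helper1.QcCech Groth.Agent.Helper1.LGen Groth.Agent.Helper1.CocycleIso
open Groth.Agent.Helper1 Groth.Agent.Helper1.TmulLib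

section SpanRed

variable {X Y : Scheme.{u}} (f : X ⟶ Y) {L : X.Modules} {E : Y.Modules}
  (u : E ⟶ (Scheme.Modules.pushforward f).obj L)

theorem CritT.mono_T {G : X.Opens} {T T' : Subring Γ(X, G)} (hT : T ≤ T') {W : X.Opens} {x : X}
    (h : CritT G T W x) : CritT G T' W x := by
  obtain ⟨b, hb, D, hDG, hD, hDW, hxD, haff, hf⟩ := h
  refine ⟨b, hT hb, D, hDG, hD, hDW, hxD, haff, fun φ => ?_⟩
  obtain ⟨n, t, ht, e⟩ := hf φ
  exact ⟨n, t, hT ht, e⟩

/-- **span reduction**: the criterion with respect to all the sections coming from `E` gives the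
criterion with respect to the sections coming from a spanning set -/
theorem CritAt.of_span (hL : PicF.IsInvertible L) (U : Y.Opens) (S : Set Γ(E, U))
    (hS : ∀ e : Γ(E, U), e ∈ Submodule.span Γ(Y, U) S) (x : X)
    (h : CritAt f L U (Set.range (sec f u U)) x) : CritAt f L U (sec f u U '' S) x := by
  rw [critAt_iff_critT] at h ⊢
  obtain ⟨_, ⟨e, rfl⟩, hT⟩ := h
  have hx : x ∈ gl L (sec f u U e) := by
    obtain ⟨b, -, D, hDG, -, -, hxD, -, -⟩ := hT
    exact hDG hxD
  obtain ⟨s, hs, hxs⟩ := exists_gl_of_mem_span f u hL U S e (hS e) x hx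
  refine ⟨sec f u U s, ⟨s, hs, rfl⟩, ?_⟩
  have h1 := CritT.change_gen f L U (Set.range (sec f u U)) x (sec f u U e) (sec f u U s)
    ⟨e, rfl⟩ hxs hT
  refine CritT.mono_T ?_ h1
  apply Subring.closure_le.2
  rintro _ (⟨y, rfl⟩ | ⟨_, ⟨e', rfl⟩, rfl⟩)
  · exact Subring.subset_closure (Or.inl ⟨y, rfl⟩)
  · have he' := hS e'
    induction he' using Submodule.span_induction with
    | mem z hz => exact Subring.subset_closure (Or.inr ⟨_, ⟨z, hz, rfl⟩, rfl⟩)
    | zero =>
      rw [sec_zero, ratio_zero]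
      exact Subring.zero_mem _
    | add a b _ _ ha hb =>
      rw [sec_add, ratio_add]
      exact Subring.add_mem _ ha hb
    | smul r a _ ha =>
      rw [sec_smul, ratio_smul]
      exact Subring.mul_mem _ (Subring.subset_closure (Or.inl ⟨r, rfl⟩)) ha

end SpanRed

section FinSub

variable {Y : Scheme.{u}} (M : Y.Modules)

/-- a finite subfamily of a family of global sections generating a module of finite type on a
quasi-compact scheme spans the sections over the members of a finite affine cover -/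
theorem exists_finset_spanning [CompactSpace Y] (hM : Coh.IsCoh M) {ι : Type u}
    (s : ι → Γ(M, ⊤)) [Epi (GlobGen.ofSections s)] :
    ∃ I : Finset ι, ∀ y : Y, ∃ V : Y.Opens, IsAffineOpen V ∧ y ∈ V ∧
      ∀ e : Γ(M, V), e ∈ Submodule.span Γ(Y, V)
        ((fun i => res M (le_top : V ≤ ⊤) (s i)) '' (I : Set ι)) := by
  classical
  have : M.IsQuasicoherent := hM.1
  choose V hV hyV using fun y : Y => RP6.exists_affine_mem y
  obtain ⟨t, ht⟩ := isCompact_univ.elim_finite_subcover (fun y => ((V y : Y.Opens) : Set Y))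
    (fun y => (V y).2) (fun y _ => Set.mem_iUnion.2 ⟨y, hyV y⟩)
  have hfin : ∀ y : Y, ∃ I : Finset ι, ∀ e : Γ(M, V y), e ∈ Submodule.span Γ(Y, V y)
      ((fun i => res M (le_top : V y ≤ ⊤) (s i)) '' (I : Set ι)) := by
    intro y
    have hfg : (⊤ : Submodule Γ(Y, V y) Γ(M, V y)).FG :=
      (FinPush.finite_sections M hM (hV y)).fg_top
    have htop : Submodule.span Γ(Y, V y)
        (Set.range fun i => res M (le_top : V y ≤ ⊤) (s i)) = ⊤ := by
      rw [eq_top_iff]
      intro e _
      exact mem_span_of_epi_ofSections s (hV y) e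
    rw [← htop] at hfg
    obtain ⟨s', hs', hspan⟩ := (Submodule.fg_span_iff_fg_span_finset_subset _).1 hfg
    rw [← Set.image_univ] at hs'
    obtain ⟨I, -, hI⟩ := Finset.subset_set_image_iff.1 hs'
    refine ⟨I, fun e => ?_⟩
    have he : e ∈ Submodule.span Γ(Y, V y)
        (Set.range fun i => res M (le_top : V y ≤ ⊤) (s i)) := by rw [htop]; trivial
    rw [hspan, ← hI, Finset.coe_image] at he
    exact he
  choose I hI using hfin
  refine ⟨t.biUnion I, fun y => ?_⟩
  obtain ⟨y', hy't, hyy'⟩ : ∃ y' ∈ t, y ∈ V y' := by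
    have := ht (Set.mem_univ y)
    simpa using this
  refine ⟨V y', hV y', hyy', fun e => ?_⟩
  refine Submodule.span_mono ?_ (hI y' e)
  apply Set.image_mono
  intro i hi
  exact Finset.mem_coe.2 (Finset.mem_biUnion.2 ⟨y', hy't, Finset.mem_coe.1 hi⟩)

end FinSub

section Main

open Groth.Agent.Helper1.TwForm

variable {X Y : Scheme.{u}}

/-- **over a quasi-compact base with an ample module, projective morphisms are H-projective** -/
theorem isHProjective_of_isProjective [CompactSpace Y] {K : Y.Modules} (hK : CohB1.IsAmple K)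
    (f : X ⟶ Y) (hf : RelProj.IsProjective f) : RelProj.IsHProjective f := by
  classical
  obtain ⟨E, L, hEq, hEft, hL, hva, hprop⟩ := exists_isVAWith_of_isProjective f hf
  have : E.IsQuasicoherent := hEq
  obtain ⟨u', -, hcrit'⟩ := hva.exists_crit
  obtain ⟨n₁, hn₁⟩ := AmpleLib.eventually_globallyGenerated hK E ⟨hEq, hEft⟩
  have hKinv : PicF.IsInvertible K := hK.1
  set A := CohB1.tensorPow K n₁ with hA_def
  have hA : PicF.IsInvertible A := TwForm.isInvertible_tensorPow hKinv n₁
  have hAq : A.IsQuasicoherent := InvQc.isQuasicoherent_of_isInvertible A hA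
  set NA := (Scheme.Modules.pullback f).obj A with hNA_def
  have hNA : PicF.IsInvertible NA := PullGen.isInvertible_pullback f hA
  set L2 := CohB1.tensorMod L NA with hL2_def
  have hL2 : PicF.IsInvertible L2 := TwForm.isInvertible_tensorMod hL hNA
  set E2 := CohB1.tensorMod E A with hE2_def
  have hE2q : E2.IsQuasicoherent := Groth.Agent.Lead.TilT.isQuasicoherent_tensorMod E A
  have hAft : CohB1.IsFT A := InvQc.isFiniteType_of_isInvertible A hA
  have hE2ft : CohB1.IsFT E2 := Groth.Agent.Lead.TilT.isFT_tensorMod E A hEft hAft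
  set u2 : E2 ⟶ (Scheme.Modules.pushforward f).obj L2 := uTens f u' (adjU f (𝟙 NA)) with hu2
  have hcrit2 : ∀ (V : Y.Opens), IsAffineOpen V → ∀ x : X, f x ∈ V →
      CritAt f L2 V (Set.range (sec f u2 V)) x := by
    intro V hV x hx
    obtain ⟨ε', hε'⟩ := exists_gl_of_epi f (𝟙 NA) hNA hV x hx
    exact critAt_tensor f u' (adjU f (𝟙 NA)) hL hNA V x (hcrit' ⟨V, hV⟩ x hx) ε' hε'
  -- global generation by finitely many sections
  obtain ⟨ι, pι, hpι⟩ := hn₁ n₁ le_rfl
  set s : ι → Γ(E2, ⊤) := fun i => (E2.freeHomEquiv pι i).1 (op ⊤) with hs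
  have hps : pι = GlobGen.ofSections s := GlobGen.eq_ofSections pι
  have hepi : Epi (GlobGen.ofSections s) := hps ▸ hpι
  obtain ⟨I, hI⟩ := exists_finset_spanning E2 ⟨hE2q, hE2ft⟩ s
  -- the global sections of `L2`
  let sG : ι → Γ(L2, ⊤) := fun i => sec f u2 ⊤ (s i)
  let sF : Fin (I.card + 1) → Γ(L2, ⊤) := fun k =>
    if h : k.val < I.card then sG (I.equivFin.symm ⟨k.val, h⟩).1 else 0
  obtain ⟨i, hi, hif⟩ := exists_immersion_Pn_of_crit f hL2 I.card sF (fun x => by
    obtain ⟨V, hV, hxV, hspan⟩ := hI (f x)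
    refine ⟨V, hV, ?_⟩
    have h1 := CritAt.of_span f u2 hL2 V _ hspan x (hcrit2 V hV x hxV)
    refine CritAt.mono f L2 ?_ h1
    rintro _ ⟨_, ⟨j, hj, rfl⟩, rfl⟩
    refine ⟨⟨(I.equivFin ⟨j, hj⟩).val, Nat.lt_succ_of_lt (I.equivFin ⟨j, hj⟩).2⟩, ?_⟩
    change resSec f L2 V (sF _) = _
    simp only [sF]
    rw [dif_pos (I.equivFin ⟨j, hj⟩).2]
    have : I.equivFin.symm ⟨(I.equivFin ⟨j, hj⟩).val, (I.equivFin ⟨j, hj⟩).2⟩ = ⟨j, hj⟩ :=
      I.equivFin.symm_apply_apply _
    rw [this]
    exact sec_res f u2 (le_top : V ≤ ⊤) (s j))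
  have : IsImmersion i := hi
  have hsep : IsSeparated (CohB1.ProjSpaceOver.toBase I.card Y) := inferInstance
  have : IsProper (i ≫ CohB1.ProjSpaceOver.toBase I.card Y) := by rw [hif]; exact hprop
  have : IsProper i := IsProper.of_comp i (CohB1.ProjSpaceOver.toBase I.card Y)
  have : IsClosedImmersion i :=
    IsClosedImmersion.of_isPreimmersion i i.isClosedMap.isClosed_range
  exact ⟨I.card, i, inferInstance, hif⟩

/-- H-projective morphisms over a quasi-compact separated base are projective -/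
theorem isProjective_of_isHProjective [CompactSpace Y] [Y.IsSeparated] (f : X ⟶ Y)
    (hf : RelProj.IsHProjective f) : RelProj.IsProjective f := by
  obtain ⟨n, i, hi, hif⟩ := hf
  have : IsClosedImmersion i := hi
  have hq : RelProj.IsQuasiProjective f :=
    HProj.isQuasiProjective_of_isHQuasiProjective f ⟨n, i, inferInstance, inferInstance, hif⟩
  have : IsProper f := by rw [← hif]; infer_instance
  exact isProjective_of_isProper_of_isQuasiProjective
    (qcqs_or_noeth_of_sep (Or.inl ⟨inferInstance, inferInstance⟩)) f hq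

end Main

end Groth.Agent.Helper1.VT
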