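import Mathlib

/-!
# The external graded module attached to a graded family of subgroups of a module (helper1)

For a graded ring `A` and a family `Q n` of additive subgroups of an `A`-module `P` with `A_i • Q_n ⊆ Q_{i+n}`, the
external direct sum `⨁ₙ Qₙ` is a graded `A`-module (with a decomposition by construction).  This is the generic
version of the construction in `PF9`.
-/

set_option backward.isDefEq.respectTransparency.types false
set_option synthInstance.maxHeartbeats 400000
set_option maxHeartbeats 1000000
set_option autoImplicit false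
set_option linter.unusedSectionVars false
set_option linter.style.haveILetI false
set_option linter.unusedVariables false
universe u
open DirectSum

namespace Groth.Agent.Helper1.VerGM

variable {R A : Type u} [CommRing R] [CommRing A] [Algebra R A] {𝒜 : ℕ → Submodule R A}
  [GradedAlgebra 𝒜]
variable {P : Type u} [AddCommGroup P] [Module A P]

/-- a copy of the module `P` which remembers the grading of the ring (so that instances can be found) -/
@[nolint unusedArguments]
def Amb {R A : Type u} [CommRing R] [CommRing A] [Algebra R A] (_𝒜 : ℕ → Submodule R A)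
    (P : Type u) : Type u := P

instance : AddCommGroup (Amb 𝒜 P) := inferInstanceAs (AddCommGroup P)
instance : Module A (Amb 𝒜 P) := inferInstanceAs (Module A P)

variable (Q : ℕ → AddSubgroup (Amb 𝒜 P)) [SetLike.GradedSMul 𝒜 Q]

/-- the graded module `⨁ₙ Qₙ` -/
abbrev GM : Type u := ⨁ n, Q n

@[reducible] noncomputable def modGM : Module A (GM Q) := GradedModule.isModule 𝒜 Q

attribute [local instance] modGM

@[reducible] noncomputable def modRGM : Module R (GM Q) := Module.compHom _ (algebraMap R A)

attribute [local instance] modRGM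

theorem towerGM : IsScalarTower R A (GM Q) :=
  ⟨fun r a m => by
    show (r • a) • m = (algebraMap R A r) • (a • m)
    rw [Algebra.smul_def, mul_smul]⟩

theorem of_smul_of' {e n : ℕ} (a : A) (ha : a ∈ 𝒜 e) (m : Q n) :
    a • (DirectSum.of (fun n => Q n) n m) =
      DirectSum.of (fun n => Q n) (e + n)
        ⟨a • m.1, SetLike.GradedSMul.smul_mem (A := 𝒜) (B := Q) ha m.2⟩ := by
  show DirectSum.decompose 𝒜 a • (DirectSum.of (fun n => Q n) n m) = _
  rw [DirectSum.decompose_of_mem 𝒜 ha, DirectSum.Gmodule.of_smul_of]
  rfl

theorem of_mem_range_cast {k n : ℕ} (h : k = n) (m : Q k) :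
    DirectSum.of (fun n => Q n) k m ∈ (DirectSum.of (fun n => Q n) n).range := by
  subst h
  exact ⟨m, rfl⟩

omit [SetLike.GradedSMul 𝒜 Q] in
theorem of_congr {i j : ℕ} (h : i = j) {x : Q i} {x' : Q j} (hx : x.1 = x'.1) :
    DirectSum.of (fun n => Q n) i x = DirectSum.of (fun n => Q n) j x' := by
  subst h
  congr 1
  exact Subtype.ext hx

/-- the graded pieces -/
noncomputable def piece (n : ℕ) : Submodule R (GM Q) where
  carrier := (DirectSum.of (fun n => Q n) n).range
  zero_mem' := zero_mem _
  add_mem' := add_mem
  smul_mem' := by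
    rintro r _ ⟨m, rfl⟩
    show (algebraMap R A r) • (DirectSum.of (fun n => Q n) n m) ∈ _
    rw [of_smul_of' Q (algebraMap R A r) (SetLike.algebraMap_mem_graded 𝒜 r) m]
    exact of_mem_range_cast Q (zero_add n) _

theorem mem_piece {n : ℕ} {x : GM Q} :
    x ∈ piece Q n ↔ ∃ m : Q n, DirectSum.of (fun n => Q n) n m = x := Iff.rfl

instance gradedSMulGM : SetLike.GradedSMul 𝒜 (piece Q) where
  smul_mem := by
    rintro e n a _ ha ⟨m, rfl⟩
    rw [of_smul_of' Q a ha m]
    exact ⟨_, rfl⟩

set_option maxHeartbeats 2000000 in
/-- the decomposition -/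
@[reducible] noncomputable def decompGM : DirectSum.Decomposition (piece Q) :=
  DirectSum.Decomposition.ofAddHom (piece Q)
    (DirectSum.toAddMonoid fun n =>
      (DirectSum.of (fun n => piece Q n) n).comp
        ((DirectSum.of (fun n => Q n) n).codRestrict (piece Q n).toAddSubmonoid
          (fun m => ⟨m, rfl⟩)))
    (by
      apply DirectSum.addHom_ext
      intro n m
      rw [AddMonoidHom.comp_apply, DirectSum.toAddMonoid_of, AddMonoidHom.comp_apply,
        DirectSum.coeAddMonoidHom_of]
      rfl)
    (by
      apply DirectSum.addHom_ext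
      intro n w
      obtain ⟨m, hm⟩ := (mem_piece Q).1 w.2
      have hw : w = ⟨DirectSum.of (fun n => Q n) n m, ⟨m, rfl⟩⟩ := Subtype.ext hm.symm
      rw [AddMonoidHom.comp_apply, DirectSum.coeAddMonoidHom_of, hw]
      show DirectSum.toAddMonoid _ (DirectSum.of (fun n => Q n) n m) = _
      rw [DirectSum.toAddMonoid_of]
      rfl)

/-- evaluation `⨁ₙ Qₙ → P` (sum of components) -/
noncomputable def evGM : GM Q →+ Amb 𝒜 P :=
  DirectSum.toAddMonoid fun n => (Q n).subtype

theorem evGM_of (n : ℕ) (m : Q n) :
    evGM Q (DirectSum.of (fun n => Q n) n m) = m.1 := by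
  rw [evGM, DirectSum.toAddMonoid_of]
  rfl

end Groth.Agent.Helper1.VerGM
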