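import Mathlib
import Groth.Agent.Lib.Helper1.ProjQ1
import Groth.Agent.Lib.Helper1.RelCone3
import Groth.Agent.Lib.Helper1.RelCone6

universe u

open HomogeneousLocalization CategoryTheory CategoryTheory.Limits AlgebraicGeometry TopologicalSpace Opposite

namespace Groth.Agent.Helper1.Veronese

section Lift
variable {R S T : Type*} [CommRing R] [CommRing S] [CommRing T]

/-- lift a ring hom along an injective ring hom containing its range -/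
noncomputable def liftInj (ι : S →+* T) (hι : Function.Injective ι) (f : R →+* T)
    (h : ∀ r, f r ∈ Set.range ι) : R →+* S :=
  ((RingEquiv.ofLeftInverse (f := ι) hι.hasLeftInverse.choose_spec).symm.toRingHom).comp
    (f.codRestrict ι.range (fun r => RingHom.mem_range.2 (h r)))

theorem liftInj_spec (ι : S →+* T) (hι : Function.Injective ι) (f : R →+* T)
    (h : ∀ r, f r ∈ Set.range ι) (r : R) : ι (liftInj ι hι f h r) = f r := by
  let e := RingEquiv.ofLeftInverse (f := ι) hι.hasLeftInverse.choose_spec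
  change ι (e.symm (f.codRestrict ι.range (fun r => RingHom.mem_range.2 (h r)) r)) = f r
  have : (e (e.symm (f.codRestrict ι.range (fun r => RingHom.mem_range.2 (h r)) r)) : T) = f r := by
    rw [e.apply_symm_apply]; rfl
  exact this

theorem awayMap_mk' {R P : Type*} [CommRing R] [CommRing P] (f : R →+* P) (r a : R) (k : ℕ) :
    Localization.awayMap f r (Localization.mk a (⟨r ^ k, ⟨k, rfl⟩⟩ : Submonoid.powers r)) =
      Localization.mk (f a) (⟨f r ^ k, ⟨k, rfl⟩⟩ : Submonoid.powers (f r)) := by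
  rw [Localization.mk_eq_mk', Localization.awayMap, IsLocalization.Away.map, IsLocalization.map_mk',
    Localization.mk_eq_mk']
  simp

end Lift

section Ring
variable {R A B : Type u} [CommRing R] [CommRing A] [Algebra R A] (𝒜 : ℕ → Submodule R A)
  [GradedAlgebra 𝒜] [CommRing B] [Algebra R B] (ℬ : ℕ → Submodule R B) [GradedAlgebra ℬ]
  (d : ℕ) (φ : B →ₐ[R] A)
  (hdeg : ∀ n : ℕ, Submodule.map φ.toLinearMap (ℬ n) = 𝒜 (n * d))

include hdeg in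
theorem map_mem {n : ℕ} {g : B} (hg : g ∈ ℬ n) : φ g ∈ 𝒜 (n * d) :=
  (hdeg n).le (Submodule.mem_map_of_mem hg)

include hdeg in
theorem exists_preimage {n : ℕ} {a : A} (ha : a ∈ 𝒜 (n * d)) : ∃ b ∈ ℬ n, φ b = a := by
  rw [← hdeg n] at ha
  obtain ⟨b, hb, rfl⟩ := ha
  exact ⟨b, hb, rfl⟩

/-- the auxiliary map `B_(g) → A_{φ g}` -/
noncomputable def θAux (g : B) : Away ℬ g →+* Localization.Away (φ g) :=
  (Localization.awayMap φ.toRingHom g).comp (algebraMap (Away ℬ g) (Localization.Away g))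

theorem θAux_mk {n : ℕ} {g : B} (hg : g ∈ ℬ n) (k : ℕ) (b : B) (hb : b ∈ ℬ (k • n)) :
    θAux ℬ φ g (Away.mk ℬ hg k b hb) =
      Localization.mk (φ b) (⟨φ g ^ k, ⟨k, rfl⟩⟩ : Submonoid.powers (φ g)) := by
  rw [θAux, RingHom.comp_apply, HomogeneousLocalization.algebraMap_apply, Away.val_mk,
    Localization.mk_eq_mk', Localization.awayMap, IsLocalization.Away.map, IsLocalization.map_mk',
    Localization.mk_eq_mk']
  simp

include hdeg in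
theorem range_θAux_subset {n : ℕ} {g : B} (hg : g ∈ ℬ n) (z : Away ℬ g) :
    θAux ℬ φ g z ∈ Set.range (algebraMap (Away 𝒜 (φ g)) (Localization.Away (φ g))) := by
  obtain ⟨k, b, hb, rfl⟩ := Away.mk_surjective ℬ hg z
  have hb' : φ b ∈ 𝒜 (k • (n * d)) := by
    have := map_mem 𝒜 ℬ d φ hdeg hb
    rwa [smul_eq_mul, mul_assoc] at this
  refine ⟨Away.mk 𝒜 (map_mem 𝒜 ℬ d φ hdeg hg) k (φ b) hb', ?_⟩
  rw [θAux_mk ℬ φ hg, HomogeneousLocalization.algebraMap_apply, Away.val_mk]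

/-- the map `B_(g) → A_(φ g)`, `b / g^k ↦ φ b / (φ g)^k` -/
noncomputable def θ {n : ℕ} {g : B} (hg : g ∈ ℬ n) : Away ℬ g →+* Away 𝒜 (φ g) :=
  liftInj (algebraMap (Away 𝒜 (φ g)) (Localization.Away (φ g)))
    (HomogeneousLocalization.val_injective _) (θAux ℬ φ g)
    (range_θAux_subset 𝒜 ℬ d φ hdeg hg)

theorem val_θ {n : ℕ} {g : B} (hg : g ∈ ℬ n) (z : Away ℬ g) :
    (θ 𝒜 ℬ d φ hdeg hg z).val = Localization.awayMap φ.toRingHom g z.val := by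
  have := liftInj_spec (algebraMap (Away 𝒜 (φ g)) (Localization.Away (φ g)))
    (HomogeneousLocalization.val_injective _) (θAux ℬ φ g)
    (range_θAux_subset 𝒜 ℬ d φ hdeg hg) z
  exact this

theorem θ_mk {n : ℕ} {g : B} (hg : g ∈ ℬ n) (k : ℕ) (b : B) (hb : b ∈ ℬ (k • n))
    (hb' : φ b ∈ 𝒜 (k • (n * d))) :
    θ 𝒜 ℬ d φ hdeg hg (Away.mk ℬ hg k b hb) =
      Away.mk 𝒜 (map_mem 𝒜 ℬ d φ hdeg hg) k (φ b) hb' := by
  apply HomogeneousLocalization.val_injective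
  rw [val_θ, Away.val_mk]
  exact θAux_mk ℬ φ hg k b hb

theorem θ_unique {n : ℕ} {g : B} (hg : g ∈ ℬ n)
    (θ' : Away ℬ g →+* Away 𝒜 (φ g))
    (h : (algebraMap (Away 𝒜 (φ g)) (Localization.Away (φ g))).comp θ' =
      (Localization.awayMap φ.toRingHom g).comp
        (algebraMap (Away ℬ g) (Localization.Away g))) :
    θ' = θ 𝒜 ℬ d φ hdeg hg := by
  ext z
  rw [val_θ]
  exact congrArg (fun f => f z) h

theorem θ_bijective (hφ : Function.Injective φ) {n : ℕ} {g : B} (hg : g ∈ ℬ n) :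
    Function.Bijective (θ 𝒜 ℬ d φ hdeg hg) := by
  constructor
  · rw [injective_iff_map_eq_zero]
    intro q hq
    obtain ⟨k, b, hb, rfl⟩ := Away.mk_surjective ℬ hg q
    have hb' : φ b ∈ 𝒜 (k • (n * d)) := by
      have := map_mem 𝒜 ℬ d φ hdeg hb
      rwa [smul_eq_mul, mul_assoc] at this
    rw [θ_mk 𝒜 ℬ d φ hdeg hg k b hb hb'] at hq
    have hv := congrArg HomogeneousLocalization.val hq
    rw [Away.val_mk, HomogeneousLocalization.val_zero,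
      Localization.mk_eq_mk'_apply, IsLocalization.mk'_eq_zero_iff] at hv
    obtain ⟨⟨_, N, rfl⟩, hN⟩ := hv
    simp only at hN
    have h0 : g ^ N * b = 0 := by
      apply hφ
      rw [map_mul, map_pow, hN, map_zero]
    apply HomogeneousLocalization.val_injective
    rw [Away.val_mk, HomogeneousLocalization.val_zero,
      Localization.mk_eq_mk'_apply, IsLocalization.mk'_eq_zero_iff]
    exact ⟨⟨g ^ N, N, rfl⟩, h0⟩
  · intro q
    obtain ⟨k, a, ha, rfl⟩ := Away.mk_surjective 𝒜 (map_mem 𝒜 ℬ d φ hdeg hg) q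
    have ha' : a ∈ 𝒜 ((k • n) * d) := by
      rwa [smul_eq_mul, mul_assoc]
    obtain ⟨b, hb, rfl⟩ := exists_preimage 𝒜 ℬ d φ hdeg ha'
    exact ⟨Away.mk ℬ hg k b hb, θ_mk 𝒜 ℬ d φ hdeg hg k b hb ha⟩

theorem θ_awayMap {n n' m : ℕ} {g g' x : B} (hg : g ∈ ℬ n) (hg' : g' ∈ ℬ n') (hx : x = g * g')
    (hxm : x ∈ ℬ m) (hx' : φ x = φ g * φ g') (z : Away ℬ g) :
    θ 𝒜 ℬ d φ hdeg hxm (awayMap ℬ hg' hx z) =
      awayMap 𝒜 (map_mem 𝒜 ℬ d φ hdeg hg') hx' (θ 𝒜 ℬ d φ hdeg hg z) := by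
  obtain ⟨k, b, hb, rfl⟩ := Away.mk_surjective ℬ hg z
  have hb' : φ b ∈ 𝒜 (k • (n * d)) := by
    have := map_mem 𝒜 ℬ d φ hdeg hb
    rwa [smul_eq_mul, mul_assoc] at this
  rw [θ_mk 𝒜 ℬ d φ hdeg hg k b hb hb', awayMap_mk, awayMap_mk]
  apply HomogeneousLocalization.val_injective
  rw [val_θ, Away.val_mk, Away.val_mk]
  rw [Localization.mk_eq_mk', Localization.awayMap, IsLocalization.Away.map,
    IsLocalization.map_mk', Localization.mk_eq_mk']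
  simp

end Ring

section GlueTop

variable {X Z : Scheme.{u}} {I : Type u} (Xi : I → Scheme.{u})
    (j : ∀ i, Xi i ⟶ X) [∀ i, IsOpenImmersion (j i)]
    (hcov : ∀ x : X, ∃ i, x ∈ Set.range (j i).base)
    (n : ∀ i, Xi i ⟶ Z)

include hcov in
/-- gluing morphisms along a cover by open immersions, with pointwise-local compatibility -/
theorem exists_glue_top
    (hdir : ∀ i i' (a : Xi i) (a' : Xi i'), j i a = j i' a' →
      ∃ (k : I) (b : Xi k) (ρ : Xi k ⟶ Xi i) (ρ' : Xi k ⟶ Xi i'), j k b = j i a ∧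
        ρ ≫ j i = j k ∧ ρ' ≫ j i' = j k ∧ ρ ≫ n i = n k ∧ ρ' ≫ n i' = n k) :
    ∃ v : X ⟶ Z, ∀ i, j i ≫ v = n i := by
  have hjG : ∀ i, Set.range (j i).base ⊆ Set.range (⊤ : X.Opens).ι.base := by
    intro i
    rw [Scheme.Opens.range_ι]
    exact fun _ _ => trivial
  have hG : ∀ x ∈ (⊤ : X.Opens), ∃ i, x ∈ Set.range (j i).base := fun x _ => hcov x
  obtain ⟨v, hv, -⟩ := Groth.Agent.Helper1.ProjQ.exists_glue (⊤ : X.Opens) Xi j hjG hG n hdir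
  refine ⟨X.topIso.inv ≫ v, fun i => ?_⟩
  rw [← hv i, ← Category.assoc]
  congr 1
  rw [Iso.comp_inv_eq]
  exact (IsOpenImmersion.lift_fac _ _ _).symm

end GlueTop

section Glue
variable {R A B : Type u} [CommRing R] [CommRing A] [Algebra R A] (𝒜 : ℕ → Submodule R A)
  [GradedAlgebra 𝒜] [CommRing B] [Algebra R B] (ℬ : ℕ → Submodule R B) [GradedAlgebra ℬ]
  (d : ℕ) (hd : 0 < d) (φ : B →ₐ[R] A)
  (hdeg : ∀ n : ℕ, Submodule.map φ.toLinearMap (ℬ n) = 𝒜 (n * d))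

/-- index of the standard charts of `Proj ℬ` -/
structure Idx where
  n : ℕ
  hn : 0 < n
  g : B
  hg : g ∈ ℬ n

variable {ℬ} in
/-- product of indices -/
abbrev Idx.mul (t t' : Idx ℬ) : Idx ℬ :=
  ⟨t.n + t'.n, Nat.add_pos_left t.hn _, t.g * t'.g, SetLike.mul_mem_graded t.hg t'.hg⟩

/-- chart of `Proj 𝒜` -/
noncomputable def jj (t : Idx ℬ) : Spec (CommRingCat.of (Away 𝒜 (φ t.g))) ⟶ Proj 𝒜 :=
  Proj.awayι 𝒜 (φ t.g) (map_mem 𝒜 ℬ d φ hdeg t.hg) (Nat.mul_pos t.hn hd)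

instance (t : Idx ℬ) : IsOpenImmersion (jj 𝒜 ℬ d hd φ hdeg t) := by
  unfold jj; infer_instance

/-- local piece of the Veronese morphism -/
noncomputable def nn (t : Idx ℬ) : Spec (CommRingCat.of (Away 𝒜 (φ t.g))) ⟶ Proj ℬ :=
  Spec.map (CommRingCat.ofHom (θ 𝒜 ℬ d φ hdeg t.hg)) ≫ Proj.awayι ℬ t.g t.hg t.hn

theorem mem_range_jj_iff (t : Idx ℬ) (x : Proj 𝒜) :
    x ∈ Set.range (jj 𝒜 ℬ d hd φ hdeg t).base ↔ φ t.g ∉ x.asHomogeneousIdeal :=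
  Groth.Agent.Helper1.RelCone3.mem_range_awayι_iff 𝒜 _ _ x

theorem hcov (x : Proj 𝒜) : ∃ t : Idx ℬ, x ∈ Set.range (jj 𝒜 ℬ d hd φ hdeg t).base := by
  have hx := x.not_irrelevant_le
  rw [HomogeneousIdeal.irrelevant_le] at hx
  push Not at hx
  obtain ⟨e, he, hx⟩ := hx
  obtain ⟨a, ha, hax⟩ := SetLike.not_le_iff_exists.mp hx
  have ha' : a ∈ 𝒜 e := ha
  have hpow : a ^ d ∈ 𝒜 (e * d) := by
    have := SetLike.pow_mem_graded d ha'
    rwa [smul_eq_mul, mul_comm] at this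
  obtain ⟨b, hb, hφb⟩ := exists_preimage 𝒜 ℬ d φ hdeg hpow
  refine ⟨⟨e, he, b, hb⟩, ?_⟩
  rw [mem_range_jj_iff]
  show φ b ∉ x.asHomogeneousIdeal
  rw [hφb]
  intro hmem
  exact hax (x.isPrime.mem_of_pow_mem _ hmem)

theorem rho_jj (t t' : Idx ℬ) :
    Spec.map (CommRingCat.ofHom (awayMap 𝒜 (map_mem 𝒜 ℬ d φ hdeg t'.hg)
      (show φ (t.mul t').g = φ t.g * φ t'.g from map_mul φ _ _))) ≫ jj 𝒜 ℬ d hd φ hdeg t =
      jj 𝒜 ℬ d hd φ hdeg (t.mul t') := by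
  unfold jj
  rw [Proj.SpecMap_awayMap_awayι]
  exact Groth.Agent.Helper1.RelCone6.awayι_deg_irrel 𝒜 _ _ _ _ (by
    show t.n * d + t'.n * d = (t.n + t'.n) * d
    ring)

theorem rho_jj' (t t' : Idx ℬ) :
    Spec.map (CommRingCat.ofHom (awayMap 𝒜 (map_mem 𝒜 ℬ d φ hdeg t.hg)
      (show φ (t.mul t').g = φ t'.g * φ t.g from (map_mul φ _ _).trans (mul_comm _ _)))) ≫
      jj 𝒜 ℬ d hd φ hdeg t' = jj 𝒜 ℬ d hd φ hdeg (t.mul t') := by
  unfold jj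
  rw [Proj.SpecMap_awayMap_awayι]
  exact Groth.Agent.Helper1.RelCone6.awayι_deg_irrel 𝒜 _ _ _ _ (by
    show t'.n * d + t.n * d = (t.n + t'.n) * d
    ring)

theorem rho_nn (t t' : Idx ℬ) :
    Spec.map (CommRingCat.ofHom (awayMap 𝒜 (map_mem 𝒜 ℬ d φ hdeg t'.hg)
      (show φ (t.mul t').g = φ t.g * φ t'.g from map_mul φ _ _))) ≫ nn 𝒜 ℬ d φ hdeg t =
      nn 𝒜 ℬ d φ hdeg (t.mul t') := by
  unfold nn
  rw [← Proj.SpecMap_awayMap_awayι ℬ t.hg t.hn t'.hg (rfl : (t.mul t').g = t.g * t'.g)]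
  rw [← Category.assoc, ← Category.assoc, ← Spec.map_comp, ← Spec.map_comp]
  congr 2
  ext z
  exact congrArg HomogeneousLocalization.val
    (θ_awayMap 𝒜 ℬ d φ hdeg t.hg t'.hg rfl (t.mul t').hg (map_mul φ _ _) z).symm

theorem rho_nn' (t t' : Idx ℬ) :
    Spec.map (CommRingCat.ofHom (awayMap 𝒜 (map_mem 𝒜 ℬ d φ hdeg t.hg)
      (show φ (t.mul t').g = φ t'.g * φ t.g from (map_mul φ _ _).trans (mul_comm _ _)))) ≫
      nn 𝒜 ℬ d φ hdeg t' = nn 𝒜 ℬ d φ hdeg (t.mul t') := by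
  unfold nn
  have hx : (t.mul t').g = t'.g * t.g := mul_comm _ _
  have e : Proj.awayι ℬ (t.mul t').g (t.mul t').hg (t.mul t').hn =
      Proj.awayι ℬ (t.mul t').g (hx ▸ SetLike.mul_mem_graded t'.hg t.hg)
        (t'.hn.trans_le (t'.n.le_add_right t.n)) :=
    Groth.Agent.Helper1.RelCone6.awayι_deg_irrel ℬ _ _ _ _ (add_comm _ _)
  rw [e, ← Proj.SpecMap_awayMap_awayι ℬ t'.hg t'.hn t.hg hx]
  rw [← Category.assoc, ← Category.assoc, ← Spec.map_comp, ← Spec.map_comp]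
  congr 2
  ext z
  exact congrArg HomogeneousLocalization.val
    (θ_awayMap 𝒜 ℬ d φ hdeg t'.hg t.hg hx (t.mul t').hg
      ((map_mul φ _ _).trans (mul_comm _ _)) z).symm

theorem exists_vmap : ∃ v : Proj 𝒜 ⟶ Proj ℬ, ∀ t : Idx ℬ,
    jj 𝒜 ℬ d hd φ hdeg t ≫ v = nn 𝒜 ℬ d φ hdeg t := by
  refine exists_glue_top (fun t : Idx ℬ => Spec (CommRingCat.of (Away 𝒜 (φ t.g))))
    (jj 𝒜 ℬ d hd φ hdeg) (hcov 𝒜 ℬ d hd φ hdeg) (nn 𝒜 ℬ d φ hdeg) ?_
  intro t t' a a' haa'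
  have h1 : φ t.g ∉ ((jj 𝒜 ℬ d hd φ hdeg t).base a).asHomogeneousIdeal :=
    (mem_range_jj_iff 𝒜 ℬ d hd φ hdeg t _).1 ⟨a, rfl⟩
  have h2 : φ t'.g ∉ ((jj 𝒜 ℬ d hd φ hdeg t).base a).asHomogeneousIdeal := by
    have := (mem_range_jj_iff 𝒜 ℬ d hd φ hdeg t' _).1 ⟨a', rfl⟩
    rwa [← haa'] at this
  have h3 : (jj 𝒜 ℬ d hd φ hdeg t).base a ∈ Set.range (jj 𝒜 ℬ d hd φ hdeg (t.mul t')).base := by
    rw [mem_range_jj_iff]
    show φ (t.g * t'.g) ∉ _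
    rw [map_mul]
    intro hmem
    rcases ((jj 𝒜 ℬ d hd φ hdeg t).base a).isPrime.mem_or_mem hmem with h | h
    · exact h1 h
    · exact h2 h
  obtain ⟨b, hb⟩ := h3
  exact ⟨t.mul t', b, _, _, hb, rho_jj 𝒜 ℬ d hd φ hdeg t t', rho_jj' 𝒜 ℬ d hd φ hdeg t t',
    rho_nn 𝒜 ℬ d φ hdeg t t', rho_nn' 𝒜 ℬ d φ hdeg t t'⟩

/-- the Veronese morphism `Proj 𝒜 ⟶ Proj ℬ` -/
noncomputable def vmap : Proj 𝒜 ⟶ Proj ℬ := (exists_vmap 𝒜 ℬ d hd φ hdeg).choose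

theorem jj_vmap (t : Idx ℬ) :
    jj 𝒜 ℬ d hd φ hdeg t ≫ vmap 𝒜 ℬ d hd φ hdeg = nn 𝒜 ℬ d φ hdeg t :=
  (exists_vmap 𝒜 ℬ d hd φ hdeg).choose_spec t

include hd hdeg in
theorem decompose_map (x : B) (i : ℕ) :
    (DirectSum.decompose 𝒜 (φ x) (i * d) : A) = φ (DirectSum.decompose ℬ x i) := by
  induction x using DirectSum.Decomposition.inductionOn ℬ with
  | zero => simp
  | @homogeneous k m =>
    have hm : φ (m : B) ∈ 𝒜 (k * d) := map_mem 𝒜 ℬ d φ hdeg m.2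
    by_cases hki : k = i
    · subst hki
      rw [DirectSum.decompose_of_mem_same 𝒜 hm, DirectSum.decompose_of_mem_same ℬ m.2]
    · have hne : k * d ≠ i * d := fun h => hki (Nat.eq_of_mul_eq_mul_right hd h)
      rw [DirectSum.decompose_of_mem_ne 𝒜 hm hne, DirectSum.decompose_of_mem_ne ℬ m.2 hki,
        map_zero]
  | add a b ha hb =>
    rw [map_add, DirectSum.decompose_add, DirectSum.decompose_add, DirectSum.add_apply,
      DirectSum.add_apply, Submodule.coe_add, Submodule.coe_add, map_add, ha, hb]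

include hdeg in
theorem decompose_map_of_not_dvd (x : B) (j : ℕ) (hj : ¬ d ∣ j) :
    (DirectSum.decompose 𝒜 (φ x) j : A) = 0 := by
  induction x using DirectSum.Decomposition.inductionOn ℬ with
  | zero => simp
  | @homogeneous k m =>
    have hm : φ (m : B) ∈ 𝒜 (k * d) := map_mem 𝒜 ℬ d φ hdeg m.2
    have hne : k * d ≠ j := fun h => hj ⟨k, by rw [← h, mul_comm]⟩
    rw [DirectSum.decompose_of_mem_ne 𝒜 hm hne]
  | add a b ha hb =>
    rw [map_add, DirectSum.decompose_add, DirectSum.add_apply, Submodule.coe_add, ha, hb,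
      add_zero]

theorem isLocElem_eq {n m : ℕ} {g x : B} (hg : g ∈ ℬ n) (hx : x ∈ ℬ m) :
    (Away.isLocalizationElem (map_mem 𝒜 ℬ d φ hdeg hg) (map_mem 𝒜 ℬ d φ hdeg hx) :
      Away 𝒜 (φ g)) = (θ 𝒜 ℬ d φ hdeg hg (Away.isLocalizationElem hg hx)) ^ d := by
  apply HomogeneousLocalization.val_injective
  rw [HomogeneousLocalization.val_pow, val_θ, Away.val_mk, Away.val_mk]
  erw [awayMap_mk' φ.toRingHom g (x ^ n) m]
  rw [Localization.mk_pow]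
  congr 1
  · simp only [AlgHom.toRingHom_eq_coe, RingHom.coe_coe, map_pow]
    rw [← pow_mul]
  · apply Subtype.ext
    simp only [AlgHom.toRingHom_eq_coe, RingHom.coe_coe, SubmonoidClass.coe_pow]
    rw [← pow_mul]

theorem vmap_mem_basicOpen_iff {m : ℕ} (hm : 0 < m) {x : B} (hx : x ∈ ℬ m) (p : Proj 𝒜) :
    (vmap 𝒜 ℬ d hd φ hdeg).base p ∈ Proj.basicOpen ℬ x ↔ p ∈ Proj.basicOpen 𝒜 (φ x) := by
  obtain ⟨t, a, rfl⟩ := hcov 𝒜 ℬ d hd φ hdeg p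
  have h1 : (vmap 𝒜 ℬ d hd φ hdeg).base ((jj 𝒜 ℬ d hd φ hdeg t).base a) =
      (nn 𝒜 ℬ d φ hdeg t).base a := by
    rw [← jj_vmap 𝒜 ℬ d hd φ hdeg t]; rfl
  rw [h1]
  have h2 : (nn 𝒜 ℬ d φ hdeg t).base a = (Proj.awayι ℬ t.g t.hg t.hn).base
      ((Spec.map (CommRingCat.ofHom (θ 𝒜 ℬ d φ hdeg t.hg))).base a) := rfl
  rw [h2]
  have h3 := Groth.Agent.Helper1.RelCone3.awayι_mem_basicOpen_iff ℬ t.hg t.hn hx hm
    ((Spec.map (CommRingCat.ofHom (θ 𝒜 ℬ d φ hdeg t.hg))).base a)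
  have h4 := Groth.Agent.Helper1.RelCone3.awayι_mem_basicOpen_iff 𝒜
    (map_mem 𝒜 ℬ d φ hdeg t.hg) (Nat.mul_pos t.hn hd) (map_mem 𝒜 ℬ d φ hdeg hx)
    (Nat.mul_pos hm hd) a
  rw [isLocElem_eq 𝒜 ℬ d φ hdeg t.hg hx] at h4
  refine h3.trans (Iff.trans ?_ h4.symm)
  show θ 𝒜 ℬ d φ hdeg t.hg (Away.isLocalizationElem t.hg hx) ∉ a.asIdeal ↔ _
  constructor
  · intro h hpow
    exact h (a.isPrime.mem_of_pow_mem _ hpow)
  · intro h hmem
    exact h (Ideal.pow_mem_of_mem _ hmem _ hd)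

theorem mem_vmap_iff_of_mem {m : ℕ} {x : B} (hx : x ∈ ℬ m) (p : Proj 𝒜) :
    x ∈ ((vmap 𝒜 ℬ d hd φ hdeg).base p).asHomogeneousIdeal ↔ φ x ∈ p.asHomogeneousIdeal := by
  obtain ⟨t, ht⟩ := hcov 𝒜 ℬ d hd φ hdeg p
  have h1 : φ t.g ∉ p.asHomogeneousIdeal := (mem_range_jj_iff 𝒜 ℬ d hd φ hdeg t p).1 ht
  have h2 : t.g ∉ ((vmap 𝒜 ℬ d hd φ hdeg).base p).asHomogeneousIdeal := by
    rw [← Proj.mem_basicOpen, vmap_mem_basicOpen_iff 𝒜 ℬ d hd φ hdeg t.hn t.hg, Proj.mem_basicOpen]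
    exact h1
  have hxg : x * t.g ∈ ℬ (m + t.n) := SetLike.mul_mem_graded hx t.hg
  have h3 := vmap_mem_basicOpen_iff 𝒜 ℬ d hd φ hdeg (Nat.add_pos_right m t.hn) hxg p
  rw [Proj.mem_basicOpen, Proj.mem_basicOpen, not_iff_not, map_mul] at h3
  constructor
  · intro h
    have := h3.1 (Ideal.mul_mem_right _ _ h)
    rcases p.isPrime.mem_or_mem this with h' | h'
    · exact h'
    · exact absurd h' h1
  · intro h
    have := h3.2 (Ideal.mul_mem_right _ _ h)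
    rcases ((vmap 𝒜 ℬ d hd φ hdeg).base p).isPrime.mem_or_mem this with h' | h'
    · exact h'
    · exact absurd h' h2

theorem vmap_base_ideal (p : Proj 𝒜) :
    ((vmap 𝒜 ℬ d hd φ hdeg).base p).asHomogeneousIdeal.toIdeal =
      Ideal.comap φ p.asHomogeneousIdeal.toIdeal := by
  ext x
  rw [Ideal.mem_comap,
    ((vmap 𝒜 ℬ d hd φ hdeg).base p).asHomogeneousIdeal.isHomogeneous.mem_iff,
    p.asHomogeneousIdeal.isHomogeneous.mem_iff]
  constructor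
  · intro h j
    by_cases hj : d ∣ j
    · obtain ⟨i, rfl⟩ := hj
      rw [mul_comm, decompose_map 𝒜 ℬ d hd φ hdeg]
      exact (mem_vmap_iff_of_mem 𝒜 ℬ d hd φ hdeg (DirectSum.decompose ℬ x i).2 p).1 (h i)
    · rw [decompose_map_of_not_dvd 𝒜 ℬ d φ hdeg x j hj]
      exact zero_mem _
  · intro h i
    have := h (i * d)
    rw [decompose_map 𝒜 ℬ d hd φ hdeg] at this
    exact (mem_vmap_iff_of_mem 𝒜 ℬ d hd φ hdeg (DirectSum.decompose ℬ x i).2 p).2 this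

theorem iSup_basicOpen_idx : (⨆ t : Idx ℬ, Proj.basicOpen ℬ t.g) = ⊤ := by
  rw [eq_top_iff]
  intro y _
  have hy := y.not_irrelevant_le
  rw [HomogeneousIdeal.irrelevant_le] at hy
  push Not at hy
  obtain ⟨e, he, hy⟩ := hy
  obtain ⟨a, ha, hay⟩ := SetLike.not_le_iff_exists.mp hy
  have ha' : a ∈ ℬ e := ha
  exact Opens.mem_iSup.2 ⟨⟨e, he, a, ha'⟩, (Proj.mem_basicOpen ℬ a y).2 hay⟩

theorem vmap_preimage_basicOpen (t : Idx ℬ) :
    vmap 𝒜 ℬ d hd φ hdeg ⁻¹ᵁ Proj.basicOpen ℬ t.g = Proj.basicOpen 𝒜 (φ t.g) := by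
  ext p
  exact vmap_mem_basicOpen_iff 𝒜 ℬ d hd φ hdeg t.hn t.hg p

theorem isIso_vmap (hφ : Function.Injective φ) : IsIso (vmap 𝒜 ℬ d hd φ hdeg) := by
  change MorphismProperty.isomorphisms Scheme (vmap 𝒜 ℬ d hd φ hdeg)
  refine IsZariskiLocalAtTarget.of_iSup_eq_top (P := MorphismProperty.isomorphisms Scheme)
    (fun t : Idx ℬ => Proj.basicOpen ℬ t.g) (iSup_basicOpen_idx ℬ) fun t => ?_
  change IsIso (vmap 𝒜 ℬ d hd φ hdeg ∣_ Proj.basicOpen ℬ t.g)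
  have hpre := vmap_preimage_basicOpen 𝒜 ℬ d hd φ hdeg t
  have hrange1 : Set.range (jj 𝒜 ℬ d hd φ hdeg t).base =
      Set.range (vmap 𝒜 ℬ d hd φ hdeg ⁻¹ᵁ Proj.basicOpen ℬ t.g).ι.base := by
    rw [Scheme.Opens.range_ι, hpre,
      ← Proj.opensRange_awayι 𝒜 (φ t.g) (map_mem 𝒜 ℬ d φ hdeg t.hg) (Nat.mul_pos t.hn hd)]
    rfl
  have hrange2 : Set.range (Proj.awayι ℬ t.g t.hg t.hn).base =
      Set.range (Proj.basicOpen ℬ t.g).ι.base := by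
    rw [Scheme.Opens.range_ι, ← Proj.opensRange_awayι ℬ t.g t.hg t.hn]
    rfl
  let e1 := IsOpenImmersion.isoOfRangeEq (jj 𝒜 ℬ d hd φ hdeg t)
    (vmap 𝒜 ℬ d hd φ hdeg ⁻¹ᵁ Proj.basicOpen ℬ t.g).ι hrange1
  let e2 := IsOpenImmersion.isoOfRangeEq (Proj.awayι ℬ t.g t.hg t.hn)
    (Proj.basicOpen ℬ t.g).ι hrange2
  have he1 : e1.hom ≫ (vmap 𝒜 ℬ d hd φ hdeg ⁻¹ᵁ Proj.basicOpen ℬ t.g).ι =
      jj 𝒜 ℬ d hd φ hdeg t := IsOpenImmersion.isoOfRangeEq_hom_fac _ _ _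
  have he2 : e2.hom ≫ (Proj.basicOpen ℬ t.g).ι = Proj.awayι ℬ t.g t.hg t.hn :=
    IsOpenImmersion.isoOfRangeEq_hom_fac _ _ _
  have hiso : IsIso (Spec.map (CommRingCat.ofHom (θ 𝒜 ℬ d φ hdeg t.hg))) :=
    isIso_SpecMap_iff.2 (θ_bijective 𝒜 ℬ d φ hdeg hφ t.hg)
  have key : vmap 𝒜 ℬ d hd φ hdeg ∣_ Proj.basicOpen ℬ t.g =
      e1.inv ≫ Spec.map (CommRingCat.ofHom (θ 𝒜 ℬ d φ hdeg t.hg)) ≫ e2.hom := by
    rw [Iso.eq_inv_comp]
    refine (cancel_mono (Proj.basicOpen ℬ t.g).ι).1 ?_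
    rw [Category.assoc, morphismRestrict_ι, reassoc_of% he1, Category.assoc, he2]
    exact jj_vmap 𝒜 ℬ d hd φ hdeg t
  rw [key]
  infer_instance

theorem main (hφ : Function.Injective φ) :
    ∃ e : Proj 𝒜 ≅ Proj ℬ,
      (∀ p : Proj 𝒜, (e.hom.base p).asHomogeneousIdeal.toIdeal =
        Ideal.comap φ p.asHomogeneousIdeal.toIdeal) ∧
      ∀ (n : ℕ) (g : B) (hn : 0 < n) (hg : g ∈ ℬ n)
        (θ' : CommRingCat.of (HomogeneousLocalization.Away ℬ g) ⟶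
          CommRingCat.of (HomogeneousLocalization.Away 𝒜 (φ g))),
        (algebraMap (HomogeneousLocalization.Away 𝒜 (φ g)) (Localization.Away (φ g))).comp θ'.hom =
          (Localization.awayMap φ.toRingHom g).comp
            (algebraMap (HomogeneousLocalization.Away ℬ g) (Localization.Away g)) →
        Proj.awayι 𝒜 (φ g) ((hdeg n).le (Submodule.mem_map_of_mem hg)) (Nat.mul_pos hn hd) ≫ e.hom =
          Spec.map θ' ≫ Proj.awayι ℬ g hg hn := by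
  have hiso := isIso_vmap 𝒜 ℬ d hd φ hdeg hφ
  refine ⟨asIso (vmap 𝒜 ℬ d hd φ hdeg), fun p => vmap_base_ideal 𝒜 ℬ d hd φ hdeg p, ?_⟩
  intro n g hn hg θ' hθ'
  have h1 : θ' = CommRingCat.ofHom (θ 𝒜 ℬ d φ hdeg hg) := by
    apply CommRingCat.hom_ext
    exact θ_unique 𝒜 ℬ d φ hdeg hg θ'.hom hθ'
  rw [h1]
  exact jj_vmap 𝒜 ℬ d hd φ hdeg ⟨n, hn, g, hg⟩

end Glue

end Groth.Agent.Helper1.Veronese
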