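import Mathlib
import Groth.Agent.Lib.Helper1.Veronese

/-! Veronese subrings: the projection `A → A^{(d)}`, Noetherianity and finite type. -/

universe u

namespace Groth.Agent.Helper1.Veronese

open DirectSum

section Proj
variable {R A B : Type u} [CommRing R] [CommRing A] [Algebra R A] (𝒜 : ℕ → Submodule R A)
  [GradedAlgebra 𝒜] [CommRing B] [Algebra R B] (ℬ : ℕ → Submodule R B) [GradedAlgebra ℬ]
  (d : ℕ) (φ : B →ₐ[R] A)
  (hdeg : ∀ n : ℕ, Submodule.map φ.toLinearMap (ℬ n) = 𝒜 (n * d))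

/-- The projection of `A` onto the sum of the components of degree divisible by `d`. -/
noncomputable def π : A →+ A :=
  (DirectSum.coeAddMonoidHom 𝒜).comp
    ((DFinsupp.filterAddMonoidHom (fun i => ↥(𝒜 i)) (fun i => d ∣ i)).comp
      (DirectSum.decomposeAddEquiv 𝒜).toAddMonoidHom)

theorem π_of_dvd {a : A} {j : ℕ} (ha : a ∈ 𝒜 j) (hj : d ∣ j) : π 𝒜 d a = a := by
  have h1 : DirectSum.decomposeAddEquiv 𝒜 a = DirectSum.of (fun i => ↥(𝒜 i)) j ⟨a, ha⟩ :=
    DirectSum.decompose_of_mem 𝒜 ha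
  simp only [π, AddMonoidHom.coe_comp, Function.comp_apply, AddEquiv.coe_toAddMonoidHom, h1]
  have h2 : DFinsupp.filterAddMonoidHom (fun i => ↥(𝒜 i)) (fun i => d ∣ i)
      (DirectSum.of (fun i => ↥(𝒜 i)) j ⟨a, ha⟩) = DirectSum.of (fun i => ↥(𝒜 i)) j ⟨a, ha⟩ :=
    DFinsupp.filter_single_pos (p := fun i => d ∣ i) j _ hj
  rw [h2, DirectSum.coeAddMonoidHom_of]

theorem π_of_not_dvd {a : A} {j : ℕ} (ha : a ∈ 𝒜 j) (hj : ¬ d ∣ j) : π 𝒜 d a = 0 := by
  have h1 : DirectSum.decomposeAddEquiv 𝒜 a = DirectSum.of (fun i => ↥(𝒜 i)) j ⟨a, ha⟩ :=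
    DirectSum.decompose_of_mem 𝒜 ha
  simp only [π, AddMonoidHom.coe_comp, Function.comp_apply, AddEquiv.coe_toAddMonoidHom, h1]
  have h2 : DFinsupp.filterAddMonoidHom (fun i => ↥(𝒜 i)) (fun i => d ∣ i)
      (DirectSum.of (fun i => ↥(𝒜 i)) j ⟨a, ha⟩) = 0 :=
    DFinsupp.filter_single_neg (p := fun i => d ∣ i) j _ hj
  rw [h2, map_zero]

include hdeg in
theorem π_map (b : B) : π 𝒜 d (φ b) = φ b := by
  induction b using DirectSum.Decomposition.inductionOn ℬ with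
  | zero => simp
  | @homogeneous k m =>
    exact π_of_dvd 𝒜 d (map_mem 𝒜 ℬ d φ hdeg m.2) (Dvd.intro_left k rfl)
  | add a b ha hb => rw [map_add, map_add, ha, hb]

include hdeg in
theorem π_mul (b : B) (a : A) : π 𝒜 d (φ b * a) = φ b * π 𝒜 d a := by
  induction b using DirectSum.Decomposition.inductionOn ℬ with
  | zero => simp
  | @homogeneous k m =>
    have hm : φ (m : B) ∈ 𝒜 (k * d) := map_mem 𝒜 ℬ d φ hdeg m.2
    induction a using DirectSum.Decomposition.inductionOn 𝒜 with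
    | zero => simp
    | @homogeneous j x =>
      have hmx : φ (m : B) * (x : A) ∈ 𝒜 (k * d + j) := SetLike.mul_mem_graded hm x.2
      by_cases hj : d ∣ j
      · rw [π_of_dvd 𝒜 d x.2 hj, π_of_dvd 𝒜 d hmx ((Nat.dvd_add_right (Dvd.intro_left k rfl)).2 hj)]
      · rw [π_of_not_dvd 𝒜 d x.2 hj, mul_zero,
          π_of_not_dvd 𝒜 d hmx (fun h => hj ((Nat.dvd_add_right (Dvd.intro_left k rfl)).1 h))]
    | add a a' ha ha' => rw [mul_add, map_add, map_add, ha, ha', mul_add]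
  | add b b' hb hb' => rw [map_add, add_mul, map_add, hb, hb', add_mul]

include hdeg in
theorem π_mem_range (a : A) : ∃ b : B, φ b = π 𝒜 d a := by
  induction a using DirectSum.Decomposition.inductionOn 𝒜 with
  | zero => exact ⟨0, by simp⟩
  | @homogeneous j x =>
    by_cases hj : d ∣ j
    · obtain ⟨k, rfl⟩ := hj
      rw [π_of_dvd 𝒜 d x.2 (Dvd.intro k rfl)]
      have hx : (x : A) ∈ 𝒜 (k * d) := by rw [mul_comm]; exact x.2
      obtain ⟨b, -, hb⟩ := exists_preimage 𝒜 ℬ d φ hdeg hx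
      exact ⟨b, hb⟩
    · rw [π_of_not_dvd 𝒜 d x.2 hj]
      exact ⟨0, by simp⟩
  | add a a' ha ha' =>
    obtain ⟨b, hb⟩ := ha
    obtain ⟨b', hb'⟩ := ha'
    exact ⟨b + b', by rw [map_add, map_add, hb, hb']⟩

include hdeg in
theorem comap_map (hφ : Function.Injective φ) (I : Ideal B) :
    (I.map φ).comap φ = I := by
  refine le_antisymm ?_ Ideal.le_comap_map
  intro b hb
  rw [Ideal.mem_comap] at hb
  have key : ∀ a ∈ Ideal.map φ I, ∀ a' : A, ∃ x ∈ I, φ x = π 𝒜 d (a' * a) := by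
    intro a ha
    refine Submodule.span_induction (p := fun a _ => ∀ a' : A, ∃ x ∈ I, φ x = π 𝒜 d (a' * a))
      ?_ ?_ ?_ ?_ ha
    · rintro _ ⟨y, hy, rfl⟩ a'
      obtain ⟨b', hb'⟩ := π_mem_range 𝒜 ℬ d φ hdeg a'
      refine ⟨b' * y, I.mul_mem_left _ hy, ?_⟩
      rw [mul_comm a', π_mul 𝒜 ℬ d φ hdeg, map_mul, hb', mul_comm]
    · intro a'
      exact ⟨0, I.zero_mem, by simp⟩
    · intro x y _ _ hx hy a'
      obtain ⟨u, hu, hu'⟩ := hx a'
      obtain ⟨v, hv, hv'⟩ := hy a'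
      exact ⟨u + v, I.add_mem hu hv, by rw [map_add, hu', hv', mul_add, map_add]⟩
    · intro c x _ hx a'
      obtain ⟨u, hu, hu'⟩ := hx (a' * c)
      exact ⟨u, hu, by rw [hu', smul_eq_mul, mul_assoc]⟩
  obtain ⟨x, hx, hx'⟩ := key _ hb 1
  rw [one_mul, π_map 𝒜 ℬ d φ hdeg] at hx'
  rw [← hφ hx']
  exact hx

include hdeg in
theorem isNoetherianRing [IsNoetherianRing A] (hφ : Function.Injective φ) :
    IsNoetherianRing B := by
  let f : Ideal B ↪o Ideal A := OrderEmbedding.ofMapLEIff (fun I => I.map φ) (by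
    intro I J
    constructor
    · intro h
      have := Ideal.comap_mono (f := φ) h
      rwa [comap_map 𝒜 ℬ d φ hdeg hφ, comap_map 𝒜 ℬ d φ hdeg hφ] at this
    · exact fun h => Ideal.map_mono h)
  have : WellFoundedGT (Ideal A) := (isNoetherian_iff' (R := A) (M := A)).1 inferInstance
  exact (isNoetherian_iff' (R := B) (M := B)).2 (OrderEmbedding.wellFoundedGT f)

end Proj

end Groth.Agent.Helper1.Veronese
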