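import Mathlib
import Groth.Agent.Lib.Helper1.Veronese2
import Groth.Agent.Lib.Helper1.VerGM

/-!
# From a graded module over the Veronese subring to a graded module over the whole ring (helper1)

`φ : B → A` identifies `B` with the `d`-th Veronese subring of `A`; `N` is a graded `B`-module and
`w₀ : N → P` a `φ`-semilinear map into an `A`-module.  The graded `A`-submodule of `P` generated by `w₀ N`
(with `w₀ N_j` in degree `jd`), made external, is a graded `A`-module `GM (Qten ..)` whose Veronese part is `N`;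
it is finite over `A` when `N` is finite over `B`.
-/

set_option backward.isDefEq.respectTransparency.types false
set_option synthInstance.maxHeartbeats 400000
set_option maxHeartbeats 1000000
set_option autoImplicit false
set_option linter.unusedSectionVars false
set_option linter.style.haveILetI false
set_option linter.unusedVariables false
universe u
open DirectSum

namespace Groth.Agent.Helper1.VerExt
open Groth.Agent.Helper1.Veronese Groth.Agent.Helper1.VerGM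

variable {R A B : Type u} [CommRing R] [CommRing A] [Algebra R A] (𝒜 : ℕ → Submodule R A)
  [GradedAlgebra 𝒜] [CommRing B] [Algebra R B] (ℬ : ℕ → Submodule R B) [GradedAlgebra ℬ]
  (d : ℕ) (hd : 0 < d) (φ : B →ₐ[R] A)
  (hdeg : ∀ n : ℕ, Submodule.map φ.toLinearMap (ℬ n) = 𝒜 (n * d))
variable {N : Type u} [AddCommGroup N] [Module R N] [Module B N] (𝒩 : ℕ → Submodule R N)
variable {P : Type u} [AddCommGroup P] [Module A P] (w₀ : N →ₛₗ[φ.toRingHom] Amb 𝒜 P)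

/-- the degree `k` part of the graded `A`-submodule generated by `w₀ N` -/
def Qten (k : ℕ) : AddSubgroup (Amb 𝒜 P) :=
  AddSubgroup.closure {p | ∃ (i j : ℕ) (a : A) (y : N), a ∈ 𝒜 i ∧ y ∈ 𝒩 j ∧ i + j * d = k ∧
    p = a • w₀ y}

theorem smul_w₀_mem {i j k : ℕ} {a : A} {y : N} (ha : a ∈ 𝒜 i) (hy : y ∈ 𝒩 j)
    (hk : i + j * d = k) : a • w₀ y ∈ Qten 𝒜 d φ 𝒩 w₀ k :=
  AddSubgroup.subset_closure ⟨i, j, a, y, ha, hy, hk, rfl⟩

theorem w₀_mem {j : ℕ} {y : N} (hy : y ∈ 𝒩 j) : w₀ y ∈ Qten 𝒜 d φ 𝒩 w₀ (j * d) := by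
  have := smul_w₀_mem 𝒜 d φ 𝒩 w₀ (SetLike.GradedOne.one_mem : (1 : A) ∈ 𝒜 0) hy (zero_add _)
  rwa [one_smul] at this

instance gradedSMulQ : SetLike.GradedSMul 𝒜 (Qten 𝒜 d φ 𝒩 w₀) where
  smul_mem := by
    intro e n a' p ha' hp
    rw [vadd_eq_add]
    induction hp using AddSubgroup.closure_induction with
    | mem p hp =>
      obtain ⟨i, j, a, y, ha, hy, rfl, rfl⟩ := hp
      rw [← mul_smul]
      exact smul_w₀_mem 𝒜 d φ 𝒩 w₀ (SetLike.mul_mem_graded ha' ha) hy (add_assoc _ _ _)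
    | zero => rw [smul_zero]; exact zero_mem _
    | add x y _ _ hx hy => rw [smul_add]; exact add_mem hx hy
    | neg x _ hx => rw [smul_neg]; exact neg_mem hx

attribute [local instance] modGM modRGM

variable [DirectSum.Decomposition 𝒩] [SetLike.GradedSMul ℬ 𝒩]

include hd hdeg in
theorem mem_Qten_mul (n : ℕ) {p : Amb 𝒜 P} (hp : p ∈ Qten 𝒜 d φ 𝒩 w₀ (n * d)) :
    ∃ y ∈ 𝒩 n, w₀ y = p := by
  induction hp using AddSubgroup.closure_induction with
  | mem p hp =>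
    obtain ⟨i, j, a, y, ha, hy, hij, rfl⟩ := hp
    have h1 : d ∣ j * d + i := by
      rw [add_comm, hij]; exact Dvd.intro_left n rfl
    have hdvd : d ∣ i := (Nat.dvd_add_right (Dvd.intro_left j rfl)).1 h1
    obtain ⟨q, rfl⟩ := hdvd
    have ha' : a ∈ 𝒜 (q * d) := by rw [mul_comm]; exact ha
    obtain ⟨b, hb, rfl⟩ := exists_preimage 𝒜 ℬ d φ hdeg ha'
    refine ⟨b • y, ?_, ?_⟩
    · have h2 : b • y ∈ 𝒩 (q + j) := SetLike.GradedSMul.smul_mem hb hy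
      have hn : q + j = n := by
        have h3 : (q + j) * d = n * d := by rw [add_mul, ← hij, mul_comm q d]
        exact Nat.eq_of_mul_eq_mul_right hd h3
      rwa [hn] at h2
    · exact map_smulₛₗ w₀ b y
  | zero => exact ⟨0, zero_mem _, map_zero _⟩
  | add x y _ _ hx hy =>
    obtain ⟨y1, h1, rfl⟩ := hx
    obtain ⟨y2, h2, rfl⟩ := hy
    exact ⟨y1 + y2, add_mem h1 h2, map_add _ _ _⟩
  | neg x _ hx =>
    obtain ⟨y1, h1, rfl⟩ := hx
    exact ⟨-y1, neg_mem h1, map_neg _ _⟩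

/-- the components of `w` -/
noncomputable def wcomp (n : ℕ) : 𝒩 n →+ GM (Qten 𝒜 d φ 𝒩 w₀) :=
  (DirectSum.of (fun k => Qten 𝒜 d φ 𝒩 w₀ k) (n * d)).comp
    { toFun := fun y => ⟨w₀ y.1, w₀_mem 𝒜 d φ 𝒩 w₀ y.2⟩
      map_zero' := Subtype.ext (by
        show w₀ (0 : N) = 0
        exact map_zero _)
      map_add' := fun y y' => Subtype.ext (by
        show w₀ ((y : N) + (y' : N)) = w₀ y + w₀ y'
        exact map_add _ _ _) }

/-- the inclusion of `N` into the extended module, as an additive map -/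
noncomputable def wAdd : N →+ GM (Qten 𝒜 d φ 𝒩 w₀) :=
  (DirectSum.toAddMonoid (wcomp 𝒜 d φ 𝒩 w₀)).comp (DirectSum.decomposeAddEquiv 𝒩).toAddMonoidHom

theorem wAdd_of_mem {n : ℕ} {y : N} (hy : y ∈ 𝒩 n) :
    wAdd 𝒜 d φ 𝒩 w₀ y =
      DirectSum.of (fun k => Qten 𝒜 d φ 𝒩 w₀ k) (n * d) ⟨w₀ y, w₀_mem 𝒜 d φ 𝒩 w₀ hy⟩ := by
  show DirectSum.toAddMonoid (wcomp 𝒜 d φ 𝒩 w₀) (DirectSum.decompose 𝒩 y) = _
  rw [DirectSum.decompose_of_mem 𝒩 hy, DirectSum.toAddMonoid_of]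
  rfl

theorem evGM_wAdd (y : N) : evGM (Qten 𝒜 d φ 𝒩 w₀) (wAdd 𝒜 d φ 𝒩 w₀ y) = w₀ y := by
  induction y using DirectSum.Decomposition.inductionOn 𝒩 with
  | zero => simp
  | @homogeneous n y => rw [wAdd_of_mem 𝒜 d φ 𝒩 w₀ y.2, evGM_of]
  | add y y' h h' => rw [map_add, map_add, h, h', map_add]

theorem wAdd_injective (hw₀ : Function.Injective w₀) :
    Function.Injective (wAdd 𝒜 d φ 𝒩 w₀) := by
  intro y y' h
  apply hw₀
  rw [← evGM_wAdd 𝒜 d φ 𝒩 w₀ y, ← evGM_wAdd 𝒜 d φ 𝒩 w₀ y', h]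

include hdeg in
theorem wAdd_smul (b : B) (y : N) :
    wAdd 𝒜 d φ 𝒩 w₀ (b • y) = φ b • wAdd 𝒜 d φ 𝒩 w₀ y := by
  induction y using DirectSum.Decomposition.inductionOn 𝒩 with
  | zero => simp
  | @homogeneous n y =>
    induction b using DirectSum.Decomposition.inductionOn ℬ with
    | zero => simp
    | @homogeneous k b =>
      have hby : (b : B) • (y : N) ∈ 𝒩 (k + n) := SetLike.GradedSMul.smul_mem b.2 y.2
      have hφb : φ (b : B) ∈ 𝒜 (k * d) := map_mem 𝒜 ℬ d φ hdeg b.2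
      rw [wAdd_of_mem 𝒜 d φ 𝒩 w₀ hby, wAdd_of_mem 𝒜 d φ 𝒩 w₀ y.2,
        of_smul_of' (Qten 𝒜 d φ 𝒩 w₀) (φ (b : B)) hφb]
      exact of_congr _ (add_mul k n d) (map_smulₛₗ w₀ _ _)
    | add b b' h h' => rw [add_smul, map_add, h, h', map_add, add_smul]
  | add y y' h h' => rw [smul_add, map_add, h, h', map_add, smul_add]

/-- the inclusion of `N` into the extended module -/
noncomputable def w : N →ₛₗ[φ.toRingHom] GM (Qten 𝒜 d φ 𝒩 w₀) where
  toFun := wAdd 𝒜 d φ 𝒩 w₀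
  map_add' := map_add _
  map_smul' := fun b y => wAdd_smul 𝒜 ℬ d φ hdeg 𝒩 w₀ b y

theorem w_injective (hw₀ : Function.Injective w₀) :
    Function.Injective (w 𝒜 ℬ d φ hdeg 𝒩 w₀) :=
  wAdd_injective 𝒜 d φ 𝒩 w₀ hw₀

include hd in
theorem image_w (n : ℕ) :
    (𝒩 n : Set N).image (w 𝒜 ℬ d φ hdeg 𝒩 w₀) =
      (piece (Qten 𝒜 d φ 𝒩 w₀) (n * d) : Set (GM (Qten 𝒜 d φ 𝒩 w₀))) := by
  ext x
  constructor
  · rintro ⟨y, hy, rfl⟩
    exact ⟨⟨w₀ y, w₀_mem 𝒜 d φ 𝒩 w₀ hy⟩, (wAdd_of_mem 𝒜 d φ 𝒩 w₀ hy).symm⟩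
  · rintro ⟨⟨p, hp⟩, rfl⟩
    obtain ⟨y, hy, rfl⟩ := mem_Qten_mul 𝒜 ℬ d hd φ hdeg 𝒩 w₀ n hp
    exact ⟨y, hy, wAdd_of_mem 𝒜 d φ 𝒩 w₀ hy⟩

open scoped Classical in
include hdeg in
theorem finite_GM [Module.Finite B N] : Module.Finite A (GM (Qten 𝒜 d φ 𝒩 w₀)) := by
  obtain ⟨S, hS⟩ := Module.finite_def.1 (inferInstance : Module.Finite B N)
  let G : Finset (GM (Qten 𝒜 d φ 𝒩 w₀)) := S.biUnion fun t =>
    (DirectSum.decompose 𝒩 t).support.image fun i =>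
      wAdd 𝒜 d φ 𝒩 w₀ (DirectSum.decompose 𝒩 t i : N)
  rw [Module.finite_def]
  refine ⟨G, ?_⟩
  rw [eq_top_iff]
  have key : ∀ y : N, wAdd 𝒜 d φ 𝒩 w₀ y ∈
      Submodule.span A (G : Set (GM (Qten 𝒜 d φ 𝒩 w₀))) := by
    intro y
    have hy : y ∈ Submodule.span B (S : Set N) := by rw [hS]; trivial
    induction hy using Submodule.span_induction with
    | mem t ht =>
      have h1 : wAdd 𝒜 d φ 𝒩 w₀ t = ∑ i ∈ (DirectSum.decompose 𝒩 t).support,
          wAdd 𝒜 d φ 𝒩 w₀ (DirectSum.decompose 𝒩 t i : N) := by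
        conv_lhs => rw [← DirectSum.sum_support_decompose 𝒩 t]
        rw [map_sum]
      rw [h1]
      refine Submodule.sum_mem _ (fun i hi => Submodule.subset_span ?_)
      exact Finset.mem_coe.2 (Finset.mem_biUnion.2 ⟨t, ht, Finset.mem_image.2 ⟨i, hi, rfl⟩⟩)
    | zero => rw [map_zero]; exact zero_mem _
    | add a b _ _ ha hb => rw [map_add]; exact add_mem ha hb
    | smul b a _ ha =>
      rw [wAdd_smul 𝒜 ℬ d φ hdeg 𝒩 w₀]
      exact Submodule.smul_mem _ _ ha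
  rintro x -
  induction x using DirectSum.induction_on with
  | zero => exact zero_mem _
  | add x y hx hy => exact add_mem hx hy
  | of k p =>
    obtain ⟨p, hp⟩ := p
    induction hp using AddSubgroup.closure_induction with
    | mem p hp =>
      obtain ⟨i, j, a, y, ha, hy, rfl, rfl⟩ := hp
      have h2 := of_smul_of' (Qten 𝒜 d φ 𝒩 w₀) a ha ⟨w₀ y, w₀_mem 𝒜 d φ 𝒩 w₀ hy⟩
      rw [← h2, ← wAdd_of_mem 𝒜 d φ 𝒩 w₀ hy]
      exact Submodule.smul_mem _ _ (key y)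
    | zero =>
      have : (⟨0, zero_mem _⟩ : Qten 𝒜 d φ 𝒩 w₀ k) = 0 := rfl
      rw [this, map_zero]
      exact zero_mem _
    | add x y hx hy hx' hy' =>
      have : (⟨x + y, add_mem hx hy⟩ : Qten 𝒜 d φ 𝒩 w₀ k) = ⟨x, hx⟩ + ⟨y, hy⟩ := rfl
      rw [this, map_add]
      exact add_mem hx' hy'
    | neg x hx hx' =>
      have : (⟨-x, neg_mem hx⟩ : Qten 𝒜 d φ 𝒩 w₀ k) = -⟨x, hx⟩ := rfl
      rw [this, map_neg]
      exact neg_mem hx'

end Groth.Agent.Helper1.VerExt
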