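import Mathlib
import Groth.Prelude.Def_GrTwist
import Groth.Agent.Lib.Helper1.Veronese
import Groth.Agent.Lib.Helper1.GrTwAmpleOpen

/-!
# The sheaf component of the Veronese morphism, pointwise (helper1)

`Veronese.vmap : Proj 𝒜 ⟶ Proj ℬ` is obtained by gluing; here we compute its action on sections of the
structure sheaf at a point: it is the map of degree zero localizations induced by `φ`.
-/

set_option backward.isDefEq.respectTransparency.types false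
set_option synthInstance.maxHeartbeats 400000
set_option autoImplicit false
set_option linter.unusedSectionVars false
set_option linter.style.haveILetI false
set_option linter.unusedVariables false
universe u
open HomogeneousLocalization CategoryTheory CategoryTheory.Limits AlgebraicGeometry TopologicalSpace
  Opposite

namespace Groth.Agent.Helper1.Veronese

section Ev
variable {A σ : Type u} [CommRing A] [SetLike σ A] [AddSubgroupClass σ A] {𝒜 : ℕ → σ} [GradedRing 𝒜]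

/-- evaluation of a section of the structure sheaf of `Proj` at a point -/
noncomputable abbrev ev {V : (Proj 𝒜).Opens} (s : Γ(Proj 𝒜, V)) (x : Proj 𝒜) (hx : x ∈ V) :
    GrTwist.A0 𝒜 x :=
  (show GrTwist.O (𝒜 := 𝒜) (op V) from s).1 ⟨x, hx⟩

theorem ev_res {V V' : (Proj 𝒜).Opens} (h : V' ≤ V) (s : Γ(Proj 𝒜, V)) (x : Proj 𝒜) (hx : x ∈ V') :
    ev ((Proj 𝒜).presheaf.map (homOfLE h).op s) x hx = ev s x (h hx) := rfl

theorem ev_awayToSection {f : A} (z : Away 𝒜 f) (x : Proj 𝒜) (hx : x ∈ Proj.basicOpen 𝒜 f) :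
    ev ((Proj.awayToSection 𝒜 f).hom z) x hx =
      HomogeneousLocalization.mapId 𝒜 (Submonoid.powers_le.mpr hx) z := rfl

theorem val_mapId_mk {f : A} {e : ℕ} (hf : f ∈ 𝒜 e) (n : ℕ) (a : A) (ha : a ∈ 𝒜 (n • e))
    (x : Proj 𝒜) (hx : f ∉ x.asHomogeneousIdeal) :
    (HomogeneousLocalization.mapId 𝒜
      (Submonoid.powers_le.mpr (show f ∈ x.asHomogeneousIdeal.toIdeal.primeCompl from hx))
      (Away.mk 𝒜 hf n a ha)).val =
      Localization.mk a (⟨f ^ n, fun h => hx (x.isPrime.mem_of_pow_mem n h)⟩ :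
        x.asHomogeneousIdeal.toIdeal.primeCompl) := rfl

end Ev

section Sh
variable {R A B : Type u} [CommRing R] [CommRing A] [Algebra R A] (𝒜 : ℕ → Submodule R A)
  [GradedAlgebra 𝒜] [CommRing B] [Algebra R B] (ℬ : ℕ → Submodule R B) [GradedAlgebra ℬ]
  (d : ℕ) (hd : 0 < d) (φ : B →ₐ[R] A)
  (hdeg : ∀ n : ℕ, Submodule.map φ.toLinearMap (ℬ n) = 𝒜 (n * d))

theorem resLE_basicOpenIsoSpec (t : Idx ℬ) :
    (vmap 𝒜 ℬ d hd φ hdeg).resLE (Proj.basicOpen ℬ t.g) (Proj.basicOpen 𝒜 (φ t.g))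
        (vmap_preimage_basicOpen 𝒜 ℬ d hd φ hdeg t).ge ≫
      (Proj.basicOpenIsoSpec ℬ t.g t.hg t.hn).hom =
    (Proj.basicOpenIsoSpec 𝒜 (φ t.g) (map_mem 𝒜 ℬ d φ hdeg t.hg) (Nat.mul_pos t.hn hd)).hom ≫
      Spec.map (CommRingCat.ofHom (θ 𝒜 ℬ d φ hdeg t.hg)) := by
  have h := jj_vmap 𝒜 ℬ d hd φ hdeg t
  unfold jj nn at h
  rw [Proj.awayι, Proj.awayι, Category.assoc, Iso.inv_comp_eq] at h
  refine (Iso.eq_comp_inv _).1 ?_
  rw [← cancel_mono (Proj.basicOpen ℬ t.g).ι, Scheme.Hom.resLE_comp_ι, h]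
  simp only [Category.assoc]

theorem awayToSection_appLE (t : Idx ℬ) :
    Proj.awayToSection ℬ t.g ≫ (vmap 𝒜 ℬ d hd φ hdeg).appLE (Proj.basicOpen ℬ t.g)
        (Proj.basicOpen 𝒜 (φ t.g)) (vmap_preimage_basicOpen 𝒜 ℬ d hd φ hdeg t).ge =
      CommRingCat.ofHom (θ 𝒜 ℬ d φ hdeg t.hg) ≫ Proj.awayToSection 𝒜 (φ t.g) := by
  have h := congrArg Scheme.Hom.appTop (resLE_basicOpenIsoSpec 𝒜 ℬ d hd φ hdeg t)
  rw [Scheme.Hom.comp_appTop, Scheme.Hom.comp_appTop] at h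
  simp only [Proj.basicOpenIsoSpec_hom, Proj.basicOpenToSpec_app_top, Scheme.Hom.resLE_app_top,
    Category.assoc, Iso.inv_hom_id_assoc] at h
  rw [Scheme.ΓSpecIso_naturality_assoc] at h
  have h2 := (cancel_epi _).1 h
  have h3 := congrArg (fun F => F ≫ (Proj.basicOpen 𝒜 (φ t.g)).topIso.hom) h2
  simp only [Category.assoc, Iso.inv_hom_id, Category.comp_id] at h3
  exact h3

/-- if `r` restricts on `D₊(g)` to the section defined by `z₀ ∈ B_(g)`, then its image under the Veronese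
morphism restricts on `D₊(φ g)` to the section defined by `θ z₀` -/
theorem app_res_eq (U : (Proj ℬ).Opens) (r : Γ(Proj ℬ, U)) (t : Idx ℬ)
    (hgU : Proj.basicOpen ℬ t.g ≤ U) (z₀ : Away ℬ t.g)
    (hres : ((Proj ℬ).presheaf.map (homOfLE hgU).op).hom r = (Proj.awayToSection ℬ t.g).hom z₀)
    (hle : Proj.basicOpen 𝒜 (φ t.g) ≤ (vmap 𝒜 ℬ d hd φ hdeg) ⁻¹ᵁ U) :
    ((Proj 𝒜).presheaf.map (homOfLE hle).op).hom (((vmap 𝒜 ℬ d hd φ hdeg).app U).hom r) =
      (Proj.awayToSection 𝒜 (φ t.g)).hom (θ 𝒜 ℬ d φ hdeg t.hg z₀) := by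
  have h1 := Scheme.Hom.map_appLE (vmap 𝒜 ℬ d hd φ hdeg)
    (vmap_preimage_basicOpen 𝒜 ℬ d hd φ hdeg t).ge (homOfLE hgU).op
  have e2 := congrArg (fun F => F.hom r) h1
  have e3 := congrArg (fun F => F.hom z₀) (awayToSection_appLE 𝒜 ℬ d hd φ hdeg t)
  simp only [CommRingCat.hom_comp, RingHom.comp_apply] at e2 e3
  rw [hres] at e2
  exact e2.symm.trans e3

theorem ev_app_eq (U : (Proj ℬ).Opens) (r : Γ(Proj ℬ, U)) (t : Idx ℬ)
    (hgU : Proj.basicOpen ℬ t.g ≤ U) (z₀ : Away ℬ t.g)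
    (hres : ((Proj ℬ).presheaf.map (homOfLE hgU).op).hom r = (Proj.awayToSection ℬ t.g).hom z₀)
    (x : Proj 𝒜) (hx : x ∈ (vmap 𝒜 ℬ d hd φ hdeg) ⁻¹ᵁ U)
    (hxt : x ∈ Proj.basicOpen 𝒜 (φ t.g)) :
    ev (((vmap 𝒜 ℬ d hd φ hdeg).app U).hom r) x hx =
      HomogeneousLocalization.mapId 𝒜 (Submonoid.powers_le.mpr hxt)
        (θ 𝒜 ℬ d φ hdeg t.hg z₀) := by
  have hle : Proj.basicOpen 𝒜 (φ t.g) ≤ (vmap 𝒜 ℬ d hd φ hdeg) ⁻¹ᵁ U := fun p hp =>
    hgU ((vmap_preimage_basicOpen 𝒜 ℬ d hd φ hdeg t).ge hp)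
  have h := app_res_eq 𝒜 ℬ d hd φ hdeg U r t hgU z₀ hres hle
  have h2 := congrArg (fun s => ev s x hxt) h
  exact h2

theorem localRingHom_mk {R P : Type*} [CommRing R] [CommRing P] (I : Ideal R) [I.IsPrime]
    (J : Ideal P) [J.IsPrime] (f : R →+* P) (hIJ : I = J.comap f) (a : R) (s : I.primeCompl)
    (hs : f s ∈ J.primeCompl) :
    Localization.localRingHom I J f hIJ (Localization.mk a s) =
      Localization.mk (f a) ⟨f s, hs⟩ := by
  rw [Localization.mk_eq_mk', Localization.mk_eq_mk']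
  exact Localization.localRingHom_mk' _ _ _ _ a s

/-- sections of the structure sheaf of `Proj` are determined by their values -/
theorem sec_ext {V : (Proj ℬ).Opens} (a b : Γ(Proj ℬ, V))
    (h : ∀ (y : Proj ℬ) (hy : y ∈ V), (ev a y hy).val = (ev b y hy).val) : a = b :=
  Subtype.ext (funext fun y => HomogeneousLocalization.val_injective _ (h y.1 y.2))

/-- the sheaf component of the Veronese morphism, pointwise: it is the map of localizations induced by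
`φ` -/
theorem vmap_app_val (U : (Proj ℬ).Opens) (r : Γ(Proj ℬ, U)) (x : Proj 𝒜)
    (hx : x ∈ (vmap 𝒜 ℬ d hd φ hdeg) ⁻¹ᵁ U)
    (hI : ((vmap 𝒜 ℬ d hd φ hdeg).base x).asHomogeneousIdeal.toIdeal =
      Ideal.comap φ.toRingHom x.asHomogeneousIdeal.toIdeal) :
    (ev (((vmap 𝒜 ℬ d hd φ hdeg).app U).hom r) x hx).val =
      Localization.localRingHom _ _ φ.toRingHom hI
        ((ev r ((vmap 𝒜 ℬ d hd φ hdeg).base x) hx).val) := by
  obtain ⟨W, hyW, iW, k, ⟨num, hnum⟩, ⟨den, hden⟩, nin, hw⟩ :=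
    (show GrTwist.O (𝒜 := ℬ) (op U) from r).2 ⟨(vmap 𝒜 ℬ d hd φ hdeg).base x, hx⟩
  obtain ⟨e, he, c₀, hc₀, hc₀y, hle⟩ :=
    GrTwAmpleOpen.exists_basicOpen_le ℬ W ((vmap 𝒜 ℬ d hd φ hdeg).base x) hyW
  have hgmem : den * c₀ ∈ ℬ (k + e) := SetLike.mul_mem_graded hden hc₀
  have hz : num * c₀ ∈ ℬ (1 • (k + e)) := by
    rw [one_smul]; exact SetLike.mul_mem_graded hnum hc₀
  have hb' : φ (num * c₀) ∈ 𝒜 (1 • ((k + e) * d)) := by
    rw [one_smul]; exact map_mem 𝒜 ℬ d φ hdeg (SetLike.mul_mem_graded hnum hc₀)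
  have hgW : Proj.basicOpen ℬ (den * c₀) ≤ W :=
    (Proj.basicOpen_mul ℬ den c₀).le.trans (inf_le_right.trans hle)
  have hgU : Proj.basicOpen ℬ (den * c₀) ≤ U := hgW.trans iW.le
  have hden_y : den ∉ ((vmap 𝒜 ℬ d hd φ hdeg).base x).asHomogeneousIdeal := nin ⟨_, hyW⟩
  have hx0 : (vmap 𝒜 ℬ d hd φ hdeg).base x ∈ Proj.basicOpen ℬ (den * c₀) := fun h =>
    (((vmap 𝒜 ℬ d hd φ hdeg).base x).isPrime.mem_or_mem h).elim hden_y hc₀y
  have hxt : x ∈ Proj.basicOpen 𝒜 (φ (den * c₀)) :=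
    (vmap_preimage_basicOpen 𝒜 ℬ d hd φ hdeg
      ⟨k + e, Nat.add_pos_right k he, den * c₀, hgmem⟩).le hx0
  have hres : ((Proj ℬ).presheaf.map (homOfLE hgU).op).hom r =
      (Proj.awayToSection ℬ (den * c₀)).hom (Away.mk ℬ hgmem 1 (num * c₀) hz) := by
    refine sec_ext ℬ _ _ fun y hy => ?_
    have h1 := hw ⟨y, hgW hy⟩
    refine (congrArg HomogeneousLocalization.val h1).trans ?_
    refine Eq.trans ?_ (val_mapId_mk hgmem 1 (num * c₀) hz y hy).symm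
    rw [HomogeneousLocalization.val_mk, Localization.mk_eq_mk_iff, Localization.r_iff_exists]
    refine ⟨1, ?_⟩
    change (1 : B) * ((den * c₀) ^ 1 * num) = 1 * (den * (num * c₀))
    ring
  have hev := ev_app_eq 𝒜 ℬ d hd φ hdeg U r
    ⟨k + e, Nat.add_pos_right k he, den * c₀, hgmem⟩ hgU
    (Away.mk ℬ hgmem 1 (num * c₀) hz) hres x hx hxt
  refine (congrArg HomogeneousLocalization.val hev).trans ?_
  have e1 : θ 𝒜 ℬ d φ hdeg hgmem (Away.mk ℬ hgmem 1 (num * c₀) hz) =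
      Away.mk 𝒜 (map_mem 𝒜 ℬ d φ hdeg hgmem) 1 (φ (num * c₀)) hb' :=
    θ_mk 𝒜 ℬ d φ hdeg hgmem 1 (num * c₀) hz hb'
  refine (congrArg (fun z =>
    (HomogeneousLocalization.mapId 𝒜 (Submonoid.powers_le.mpr hxt) z).val) e1).trans ?_
  refine (val_mapId_mk (map_mem 𝒜 ℬ d φ hdeg hgmem) 1 (φ (num * c₀)) hb' x hxt).trans ?_
  have e3 : ev r ((vmap 𝒜 ℬ d hd φ hdeg).base x) hx =
      HomogeneousLocalization.mk ⟨k, ⟨num, hnum⟩, ⟨den, hden⟩, hden_y⟩ := hw ⟨_, hyW⟩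
  have e4 : (ev r ((vmap 𝒜 ℬ d hd φ hdeg).base x) hx).val =
      Localization.mk num ⟨den, hden_y⟩ := congrArg HomogeneousLocalization.val e3
  have hφden : φ.toRingHom den ∈ x.asHomogeneousIdeal.toIdeal.primeCompl := by
    intro h
    apply hden_y
    show den ∈ ((vmap 𝒜 ℬ d hd φ hdeg).base x).asHomogeneousIdeal.toIdeal
    rw [hI]
    exact h
  rw [e4, localRingHom_mk _ _ _ hI num ⟨den, hden_y⟩ hφden, Localization.mk_eq_mk_iff,
    Localization.r_iff_exists]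
  refine ⟨1, ?_⟩
  change (1 : A) * (φ den * φ (num * c₀)) = 1 * (φ (den * c₀) ^ 1 * φ num)
  rw [map_mul, map_mul]
  ring

end Sh

end Groth.Agent.Helper1.Veronese
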