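import Mathlib
import Groth.Prelude.Def_GrMod3
import Groth.Agent.Lib.Helper1.ILocM
import Groth.Agent.Lib.Helper1.ProjHiTw

/-!
# Modules attached to graded modules under a Veronese-type homomorphism (helper1)

`ψ : A → B` multiplies degrees by `d` and is onto the degrees divisible by `d`; likewise a `ψ`-semilinear
`v : M → N`.  Over a map `c` of homogeneous primes with `c y = ψ⁻¹ y` we build the comparison map on
sections `M(n)~ (U) → N(nd)~ (V)` and prove it bijective when `c` is an open embedding.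
-/

set_option backward.isDefEq.respectTransparency.types false
set_option synthInstance.maxHeartbeats 400000
set_option autoImplicit false
set_option linter.unusedSectionVars false
set_option linter.style.haveILetI false
set_option linter.unusedVariables false
universe u
open CategoryTheory AlgebraicGeometry TopologicalSpace Opposite

namespace Groth.Agent.Helper1.VerTw

open GrMod Groth.Agent.Helper1

variable {A σ : Type u} [CommRing A] [SetLike σ A] [AddSubgroupClass σ A] {𝒜 : ℕ → σ} [GradedRing 𝒜]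
variable {M τ : Type u} [AddCommGroup M] [Module A M] [SetLike τ M] [AddSubgroupClass τ M] {ℳ : ℕ → τ}
  [SetLike.GradedSMul 𝒜 ℳ]
variable {B σ' : Type u} [CommRing B] [SetLike σ' B] [AddSubgroupClass σ' B] {ℬ : ℕ → σ'} [GradedRing ℬ]
variable {N τ' : Type u} [AddCommGroup N] [Module B N] [SetLike τ' N] [AddSubgroupClass τ' N] {𝒩 : ℕ → τ'}
  [SetLike.GradedSMul ℬ 𝒩]

/-- the difference of two fractions of twist degree `n` is a fraction with homogeneous numerator -/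
theorem sub_frac (n : ℤ) (x : ProjectiveSpectrum 𝒜) {i₁ j₁ i₂ j₂ : ℕ} (a₁ : ℳ i₁) (s₁ : 𝒜 j₁)
    (a₂ : ℳ i₂) (s₂ : 𝒜 j₂) (hs₁ : (s₁ : A) ∉ x.asHomogeneousIdeal)
    (hs₂ : (s₂ : A) ∉ x.asHomogeneousIdeal)
    (h₁ : (i₁ : ℤ) = j₁ + n ∨ (a₁ : M) = 0) (h₂ : (i₂ : ℤ) = j₂ + n ∨ (a₂ : M) = 0) :
    ∃ (i j : ℕ) (a : ℳ i) (s : 𝒜 j) (hs : (s : A) ∉ x.asHomogeneousIdeal),
      (LocalizedModule.mk (a₁ : M) ⟨(s₁ : A), hs₁⟩ - LocalizedModule.mk (a₂ : M) ⟨(s₂ : A), hs₂⟩ :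
        LocMod 𝒜 (M := M) x) = LocalizedModule.mk (a : M) ⟨(s : A), hs⟩ := by
  rcases h₁ with h₁ | h₁
  · rcases h₂ with h₂ | h₂
    · have hdeg : j₁ + i₂ = j₂ + i₁ := by omega
      have hnin : (s₁ : A) * (s₂ : A) ∉ x.asHomogeneousIdeal := fun h =>
        (x.isPrime.mem_or_mem h).elim hs₁ hs₂
      have hm1 : (s₂ : A) • (a₁ : M) ∈ ℳ (j₂ + i₁) := SetLike.GradedSMul.smul_mem s₂.2 a₁.2
      have hm2 : (s₁ : A) • (a₂ : M) ∈ ℳ (j₂ + i₁) := by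
        have h : (s₁ : A) • (a₂ : M) ∈ ℳ (j₁ + i₂) := SetLike.GradedSMul.smul_mem s₁.2 a₂.2
        rwa [hdeg] at h
      refine ⟨j₂ + i₁, j₁ + j₂, ⟨(s₂ : A) • (a₁ : M) - (s₁ : A) • (a₂ : M), sub_mem hm1 hm2⟩,
        ⟨(s₁ : A) * s₂, SetLike.mul_mem_graded s₁.2 s₂.2⟩, hnin, ?_⟩
      rw [sub_eq_add_neg, ← LocalizedModule.mk_neg, LocalizedModule.mk_add_mk]
      refine congrArg₂ LocalizedModule.mk ?_ rfl
      change (s₂ : A) • (a₁ : M) + (s₁ : A) • (-(a₂ : M)) = (s₂ : A) • (a₁ : M) - (s₁ : A) • (a₂ : M)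
      rw [smul_neg, sub_eq_add_neg]
    · refine ⟨i₁, j₁, a₁, s₁, hs₁, ?_⟩
      rw [h₂, LocalizedModule.zero_mk, sub_zero]
  · refine ⟨i₂, j₂, ⟨-(a₂ : M), neg_mem a₂.2⟩, s₂, hs₂, ?_⟩
    rw [h₁, LocalizedModule.zero_mk, zero_sub, LocalizedModule.mk_neg]

/-- homogeneous components of a product with a homogeneous element of the module -/
theorem decompose_smul_of_mem [DirectSum.Decomposition 𝒩] (t : B) {e : ℕ} {x : N} (hx : x ∈ 𝒩 e)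
    (k : ℕ) :
    (DirectSum.decompose 𝒩 (t • x) (k + e) : N) = (DirectSum.decompose ℬ t k : B) • x := by
  classical
  induction t using DirectSum.Decomposition.inductionOn ℬ with
  | zero => simp
  | @homogeneous i t =>
    have hm : (t : B) • x ∈ 𝒩 (i + e) := SetLike.GradedSMul.smul_mem t.2 hx
    by_cases h : i = k
    · subst h
      rw [DirectSum.decompose_of_mem_same 𝒩 hm, DirectSum.decompose_of_mem_same ℬ t.2]
    · rw [DirectSum.decompose_of_mem_ne 𝒩 hm (by omega : i + e ≠ k + e),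
        DirectSum.decompose_of_mem_ne ℬ t.2 h, zero_smul]
  | add t t' h h' =>
    simp only [add_smul, DirectSum.decompose_add, DirectSum.add_apply, AddMemClass.coe_add, h, h']

variable (𝒜 ℳ ℬ 𝒩) in
/-- a "Veronese-type" pair: `ψ` multiplies degrees by `d` and is onto the degrees divisible by `d`, likewise
`v`, and `c` is the induced map on homogeneous primes -/
structure Hyp (ψ : A →+* B) (v : M →ₛₗ[ψ] N) (d : ℕ)
    (c : ProjectiveSpectrum ℬ → ProjectiveSpectrum 𝒜) : Prop where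
  hd : 0 < d
  ψdeg : ∀ (i : ℕ) (a : A), a ∈ 𝒜 i → ψ a ∈ ℬ (i * d)
  ψsurj : ∀ (i : ℕ) (b : B), b ∈ ℬ (i * d) → ∃ a ∈ 𝒜 i, ψ a = b
  vdeg : ∀ (i : ℕ) (m : M), m ∈ ℳ i → v m ∈ 𝒩 (i * d)
  vsurj : ∀ (i : ℕ) (x : N), x ∈ 𝒩 (i * d) → ∃ m ∈ ℳ i, v m = x
  vinj : Function.Injective v
  hc : ∀ y : ProjectiveSpectrum ℬ,
    (c y).asHomogeneousIdeal.toIdeal = Ideal.comap ψ y.asHomogeneousIdeal.toIdeal
  hcont : Continuous c

variable {ψ : A →+* B} {v : M →ₛₗ[ψ] N} {d : ℕ} {c : ProjectiveSpectrum ℬ → ProjectiveSpectrum 𝒜}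
  (Hy : Hyp 𝒜 ℳ ℬ 𝒩 ψ v d c)

include Hy

theorem Hyp.mem_c_iff (y : ProjectiveSpectrum ℬ) (a : A) :
    a ∈ (c y).asHomogeneousIdeal ↔ ψ a ∈ y.asHomogeneousIdeal := by
  change a ∈ (c y).asHomogeneousIdeal.toIdeal ↔ _
  rw [Hy.hc y]
  exact Iff.rfl

theorem Hyp.notMem (y : ProjectiveSpectrum ℬ) {s : A} (hs : s ∉ (c y).asHomogeneousIdeal) :
    ψ s ∉ y.asHomogeneousIdeal :=
  fun h => hs ((Hy.mem_c_iff y s).2 h)

theorem Hyp.notMem' (y : ProjectiveSpectrum ℬ) {s : A} (hs : ψ s ∉ y.asHomogeneousIdeal) :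
    s ∉ (c y).asHomogeneousIdeal :=
  fun h => hs ((Hy.mem_c_iff y s).1 h)

/-- the induced map of localizations `A_{c y} → B_y` -/
noncomputable def Hyp.vloc (y : ProjectiveSpectrum ℬ) : GrTwist.Loc 𝒜 (c y) →+* GrTwist.Loc ℬ y :=
  Localization.localRingHom _ _ ψ (Hy.hc y)

theorem Hyp.vloc_mk (y : ProjectiveSpectrum ℬ) (a : A)
    (s : (c y).asHomogeneousIdeal.toIdeal.primeCompl) :
    Hy.vloc y (Localization.mk a s) = Localization.mk (ψ a) ⟨ψ (s : A), Hy.notMem y s.2⟩ := by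
  rw [Localization.mk_eq_mk', Localization.mk_eq_mk']
  exact Localization.localRingHom_mk' _ _ _ _ a s

/-- The value `v m / ψ s` on a representative `(m, s)`. -/
noncomputable def Hyp.vlocFun (y : ProjectiveSpectrum ℬ)
    (q : M × (c y).asHomogeneousIdeal.toIdeal.primeCompl) : LocMod ℬ (M := N) y :=
  LocalizedModule.mk (v q.1) ⟨ψ (q.2 : A), Hy.notMem y q.2.2⟩

theorem Hyp.vlocFun_wd (y : ProjectiveSpectrum ℬ)
    (q q' : M × (c y).asHomogeneousIdeal.toIdeal.primeCompl) (h : q ≈ q') :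
    Hy.vlocFun y q = Hy.vlocFun y q' := by
  obtain ⟨m, s⟩ := q
  obtain ⟨m', s'⟩ := q'
  obtain ⟨w, hw⟩ := h
  refine LocalizedModule.mk_eq.mpr ⟨⟨ψ (w : A), Hy.notMem y w.2⟩, ?_⟩
  have hw' := congrArg v hw
  simp only [Submonoid.smul_def, LinearMap.map_smulₛₗ] at hw' ⊢
  exact hw'

/-- the induced additive map of localized modules `M_{c y} → N_y`, `m / s ↦ v m / ψ s`. -/
noncomputable def Hyp.vlocMod (y : ProjectiveSpectrum ℬ) :
    LocMod 𝒜 (M := M) (c y) →+ LocMod ℬ (M := N) y where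
  toFun q := q.liftOn (Hy.vlocFun y) (Hy.vlocFun_wd y)
  map_zero' := by
    rw [← LocalizedModule.zero_mk 1, LocalizedModule.liftOn_mk]
    change LocalizedModule.mk (v 0) _ = 0
    rw [map_zero, LocalizedModule.zero_mk]
  map_add' q q' := by
    induction q using LocalizedModule.induction_on with
    | h m s =>
      induction q' using LocalizedModule.induction_on with
      | h m' s' =>
        rw [LocalizedModule.mk_add_mk, LocalizedModule.liftOn_mk, LocalizedModule.liftOn_mk,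
          LocalizedModule.liftOn_mk]
        change LocalizedModule.mk (v (s' • m + s • m')) _ =
          LocalizedModule.mk (v m) _ + LocalizedModule.mk (v m') _
        rw [LocalizedModule.mk_add_mk]
        simp only [map_add, Submonoid.smul_def, LinearMap.map_smulₛₗ]
        congr 1
        exact Subtype.ext (by simp [map_mul])

theorem Hyp.vlocMod_mk (y : ProjectiveSpectrum ℬ) (m : M)
    (s : (c y).asHomogeneousIdeal.toIdeal.primeCompl) :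
    Hy.vlocMod y (LocalizedModule.mk m s) =
      LocalizedModule.mk (v m) ⟨ψ (s : A), Hy.notMem y s.2⟩ := rfl

theorem Hyp.vlocMod_smul (y : ProjectiveSpectrum ℬ) (r : GrTwist.Loc 𝒜 (c y))
    (q : LocMod 𝒜 (M := M) (c y)) :
    Hy.vlocMod y (r • q) = Hy.vloc y r • Hy.vlocMod y q := by
  induction q using LocalizedModule.induction_on with
  | h m s =>
    induction r using Localization.induction_on with
    | H p =>
      obtain ⟨a, t⟩ := p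
      rw [LocalizedModule.mk_smul_mk, Hy.vlocMod_mk, Hy.vlocMod_mk, Hy.vloc_mk,
        LocalizedModule.mk_smul_mk, LinearMap.map_smulₛₗ]
      congr 1
      exact Subtype.ext (by simp [map_mul])

theorem Hyp.exists_a0 (y : ProjectiveSpectrum ℬ) (c' : GrTwist.A0 𝒜 (c y)) :
    ∃ c'' : GrTwist.A0 ℬ y, c''.val = Hy.vloc y c'.val := by
  obtain ⟨⟨k, num, den, hden⟩, rfl⟩ := HomogeneousLocalization.mk_surjective c'
  refine ⟨HomogeneousLocalization.mk ⟨k * d, ⟨ψ num.1, Hy.ψdeg _ _ num.2⟩,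
    ⟨ψ den.1, Hy.ψdeg _ _ den.2⟩, Hy.notMem y hden⟩, ?_⟩
  rw [HomogeneousLocalization.val_mk, HomogeneousLocalization.val_mk]
  exact (Hy.vloc_mk y (num : A) ⟨(den : A), hden⟩).symm

theorem Hyp.vlocMod_mem (n : ℤ) (y : ProjectiveSpectrum ℬ) {q : LocMod 𝒜 (M := M) (c y)}
    (hq : q ∈ tildeAt 𝒜 ℳ n (c y)) : Hy.vlocMod y q ∈ tildeAt ℬ 𝒩 (n * d) y := by
  induction hq using Submodule.span_induction with
  | mem q h =>
    obtain ⟨i, j, m, s, hs, hij, rfl⟩ := h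
    rw [Hy.vlocMod_mk]
    exact Submodule.subset_span ⟨i * d, j * d, ⟨v m, Hy.vdeg i m m.2⟩,
      ⟨ψ (s : A), Hy.ψdeg j s s.2⟩, Hy.notMem y hs, by push_cast; rw [hij]; ring, rfl⟩
  | zero => rw [map_zero]; exact zero_mem _
  | add q q' _ _ h h' => rw [map_add]; exact add_mem h h'
  | smul c' q _ h =>
    obtain ⟨c'', hc''⟩ := Hy.exists_a0 y c'
    rw [a0_smul_def, Hy.vlocMod_smul, ← hc'', ← a0_smul_def]
    exact Submodule.smul_mem _ _ h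

section comap

variable (n : ℤ) (U : Opens (ProjectiveSpectrum.top 𝒜)) (V : Opens (ProjectiveSpectrum.top ℬ))
  (hUV : V.1 ⊆ c ⁻¹' U.1)

/-- The comap of a dependent function into the degree-`n` fractions: `y ↦ v_y (s (c y))`. -/
noncomputable def Hyp.comapFun (s : ∀ x : U, tildeAt 𝒜 ℳ n x.1) (y : V) :
    tildeAt ℬ 𝒩 (n * d) y.1 :=
  ⟨Hy.vlocMod y.1 (s ⟨c y.1, hUV y.2⟩).1, Hy.vlocMod_mem n y.1 (s ⟨c y.1, hUV y.2⟩).2⟩

theorem Hyp.comapFun_coe (s : ∀ x : U, tildeAt 𝒜 ℳ n x.1) (y : V) :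
    ((Hy.comapFun n U V hUV s y : tildeAt ℬ 𝒩 (n * d) y.1) : LocMod ℬ (M := N) y.1) =
      Hy.vlocMod y.1 (s ⟨c y.1, hUV y.2⟩).1 := rfl

theorem Hyp.isLocFrac_comapFun (s : ∀ x : U, tildeAt 𝒜 ℳ n x.1)
    (hs : (isLocFrac 𝒜 ℳ n).pred s) :
    (isLocFrac ℬ 𝒩 (n * d)).pred (Hy.comapFun n U V hUV s) := by
  rintro ⟨y, hyV⟩
  rcases hs ⟨c y, hUV hyV⟩ with ⟨W, m, iWU, i, j, a, b, hb, hij, h_frac⟩
  refine ⟨⟨c ⁻¹' W.1, W.2.preimage Hy.hcont⟩ ⊓ V, ⟨m, hyV⟩, Opens.infLERight _ _, i * d, j * d,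
    ⟨v (a : M), Hy.vdeg i a a.2⟩, ⟨ψ (b : A), Hy.ψdeg j b b.2⟩,
    fun z => Hy.notMem z.1 (hb ⟨_, z.2.1⟩), ?_, fun z => ?_⟩
  · rcases hij with hij | h
    · exact Or.inl (by push_cast; rw [hij]; ring)
    · exact Or.inr (show v (a : M) = 0 by rw [h, map_zero])
  · exact (congrArg (Hy.vlocMod z.1) (h_frac ⟨_, z.2.1⟩)).trans (Hy.vlocMod_mk _ _ _)

/-- The comap on sections over `U ⊇ c(V)`, as an additive map. -/
noncomputable def Hyp.comapApp : sect 𝒜 ℳ n (op U) →+ sect ℬ 𝒩 (n * d) (op V) where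
  toFun s := ⟨Hy.comapFun n U V hUV s.1, Hy.isLocFrac_comapFun n U V hUV s.1 s.2⟩
  map_zero' := by
    refine Subtype.ext (funext fun y => Subtype.ext ?_)
    rw [Hy.comapFun_coe]
    simp only [ZeroMemClass.coe_zero, Pi.zero_apply, map_zero]
  map_add' s t := by
    refine Subtype.ext (funext fun y => Subtype.ext ?_)
    rw [Hy.comapFun_coe]
    simp only [AddMemClass.coe_add, Pi.add_apply, map_add, Hy.comapFun_coe]

theorem Hyp.comapApp_apply_coe (s : sect 𝒜 ℳ n (op U)) (y : V) :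
    (((Hy.comapApp n U V hUV s : sect ℬ 𝒩 (n * d) (op V)).1 y : tildeAt ℬ 𝒩 (n * d) y.1) :
      LocMod ℬ (M := N) y.1) = Hy.vlocMod y.1 (s.1 ⟨c y.1, hUV y.2⟩).1 := rfl

theorem Hyp.comapApp_smul (ρ : GrTwist.O (𝒜 := 𝒜) (op U) → GrTwist.O (𝒜 := ℬ) (op V))
    (hρ : ∀ (r : GrTwist.O (𝒜 := 𝒜) (op U)) (y : V),
      ((ρ r).1 y).val = Hy.vloc y.1 ((r.1 ⟨c y.1, hUV y.2⟩).val))
    (r : GrTwist.O (𝒜 := 𝒜) (op U)) (s : sect 𝒜 ℳ n (op U)) :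
    Hy.comapApp n U V hUV (r • s) = ρ r • Hy.comapApp n U V hUV s := by
  refine Subtype.ext (funext fun y => Subtype.ext ?_)
  have h1 : ∀ x : U, (((r • s : sect 𝒜 ℳ n (op U)).1 x : tildeAt 𝒜 ℳ n x.1) :
      LocMod 𝒜 (M := M) x.1) =
      (r.1 x).val • ((s.1 x : tildeAt 𝒜 ℳ n x.1) : LocMod 𝒜 (M := M) x.1) :=
    fun x => coe_smul_val n x.1 (r.1 x) (s.1 x)
  have h2 : ∀ y : V, (((ρ r • Hy.comapApp n U V hUV s :
      sect ℬ 𝒩 (n * d) (op V)).1 y : tildeAt ℬ 𝒩 (n * d) y.1) : LocMod ℬ (M := N) y.1) =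
      ((ρ r).1 y).val •
        (((Hy.comapApp n U V hUV s).1 y : tildeAt ℬ 𝒩 (n * d) y.1) : LocMod ℬ (M := N) y.1) :=
    fun y => coe_smul_val (n * d) y.1 _ _
  refine (congrArg (Hy.vlocMod y.1) (h1 ⟨_, hUV y.2⟩)).trans ?_
  refine (Hy.vlocMod_smul y.1 _ _).trans ?_
  refine Eq.trans ?_ (h2 y).symm
  rw [hρ r y]
  rfl

end comap

/-! ### bijectivity -/

theorem Hyp.ker_frac [DirectSum.Decomposition 𝒩] (y : ProjectiveSpectrum ℬ) {i j : ℕ} (a : ℳ i)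
    (s : 𝒜 j) (hs : (s : A) ∉ (c y).asHomogeneousIdeal)
    (h0 : Hy.vlocMod y (LocalizedModule.mk (a : M) ⟨(s : A), hs⟩) = 0) :
    (LocalizedModule.mk (a : M) ⟨(s : A), hs⟩ : LocMod 𝒜 (M := M) (c y)) = 0 := by
  classical
  rw [Hy.vlocMod_mk, ILocM.mk_eq_zero_iff] at h0
  obtain ⟨⟨t, ht⟩, hta⟩ := h0
  change t • v (a : M) = 0 at hta
  obtain ⟨k, hk⟩ := ProjHiTw.exists_comp_notMem y t ht
  have hva : v (a : M) ∈ 𝒩 (i * d) := Hy.vdeg i a a.2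
  have htk : (DirectSum.decompose ℬ t k : B) • v (a : M) = 0 := by
    rw [← decompose_smul_of_mem t hva k, hta]
    simp
  have hpow : (DirectSum.decompose ℬ t k : B) ^ d ∈ ℬ (k * d) := by
    have h := SetLike.pow_mem_graded d (SetLike.coe_mem (DirectSum.decompose ℬ t k))
    rwa [smul_eq_mul, mul_comm] at h
  obtain ⟨b, hb, hψb⟩ := Hy.ψsurj k _ hpow
  have hby : b ∉ (c y).asHomogeneousIdeal := by
    refine Hy.notMem' y ?_
    rw [hψb]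
    exact fun h => hk (y.isPrime.mem_of_pow_mem d h)
  have hba : b • (a : M) = 0 := by
    apply Hy.vinj
    rw [LinearMap.map_smulₛₗ, map_zero, hψb]
    have hd := Hy.hd
    obtain ⟨d', rfl⟩ : ∃ d', d = d' + 1 := ⟨d - 1, by omega⟩
    rw [pow_succ, mul_smul, htk, smul_zero]
  rw [ILocM.mk_eq_zero_iff]
  exact ⟨⟨b, hby⟩, hba⟩

theorem Hyp.lift_frac (n : ℤ) {i j : ℕ} (a' : 𝒩 i) (s' : ℬ j)
    (hij : (i : ℤ) = j + n * d ∨ (a' : N) = 0) :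
    ∃ (i₁ j₁ : ℕ) (a : ℳ i₁) (s : 𝒜 j₁), ((i₁ : ℤ) = j₁ + n ∨ (a : M) = 0) ∧
      ∀ (y : ProjectiveSpectrum ℬ) (hs' : (s' : B) ∉ y.asHomogeneousIdeal),
        ∃ hs : (s : A) ∉ (c y).asHomogeneousIdeal,
          Hy.vlocMod y (LocalizedModule.mk (a : M) ⟨(s : A), hs⟩) =
            LocalizedModule.mk (a' : N) ⟨(s' : B), hs'⟩ := by
  have hd := Hy.hd
  have hspow : (s' : B) ^ d ∈ ℬ (j * d) := by
    have h := SetLike.pow_mem_graded d s'.2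
    rwa [smul_eq_mul, mul_comm] at h
  obtain ⟨s, hs, hψs⟩ := Hy.ψsurj j _ hspow
  have hsy : ∀ (y : ProjectiveSpectrum ℬ) (hs' : (s' : B) ∉ y.asHomogeneousIdeal),
      s ∉ (c y).asHomogeneousIdeal := by
    intro y hs'
    refine Hy.notMem' y ?_
    rw [hψs]
    exact fun h => hs' (y.isPrime.mem_of_pow_mem d h)
  rcases hij with hij | hzero
  · have hd1 : (1 : ℤ) ≤ d := by exact_mod_cast hd
    have hnonneg : 0 ≤ (j : ℤ) + n := by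
      by_contra hneg
      push Not at hneg
      have h1 : n < 0 := by omega
      have h2 : n * (d : ℤ) ≤ n := by nlinarith
      omega
    obtain ⟨i₁, hi₁⟩ : ∃ i₁ : ℕ, (i₁ : ℤ) = j + n :=
      ⟨((j : ℤ) + n).toNat, Int.toNat_of_nonneg hnonneg⟩
    obtain ⟨d', rfl⟩ : ∃ d', d = d' + 1 := ⟨d - 1, by omega⟩
    have hdegeq : d' * j + i = i₁ * (d' + 1) := by
      have h : ((d' * j + i : ℕ) : ℤ) = ((i₁ * (d' + 1) : ℕ) : ℤ) := by
        push_cast at hij ⊢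
        rw [hij, hi₁]
        ring
      exact_mod_cast h
    have hnum : (s' : B) ^ d' • (a' : N) ∈ 𝒩 (i₁ * (d' + 1)) := by
      have h1 : (s' : B) ^ d' ∈ ℬ (d' * j) := by
        have h := SetLike.pow_mem_graded d' s'.2
        rwa [smul_eq_mul] at h
      have h2 : (s' : B) ^ d' • (a' : N) ∈ 𝒩 (d' * j + i) :=
        SetLike.GradedSMul.smul_mem h1 a'.2
      rwa [hdegeq] at h2
    obtain ⟨a, ha, hva⟩ := Hy.vsurj i₁ _ hnum
    refine ⟨i₁, j, ⟨a, ha⟩, ⟨s, hs⟩, Or.inl hi₁, fun y hs' => ⟨hsy y hs', ?_⟩⟩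
    rw [Hy.vlocMod_mk, LocalizedModule.mk_eq]
    refine ⟨1, ?_⟩
    simp only [one_smul, Submonoid.smul_def]
    change (s' : B) • v a = ψ s • (a' : N)
    rw [hva, hψs, pow_succ', mul_smul]
  · refine ⟨0, j, ⟨0, zero_mem _⟩, ⟨s, hs⟩, Or.inr rfl, fun y hs' => ⟨hsy y hs', ?_⟩⟩
    rw [Hy.vlocMod_mk, hzero]
    simp only [map_zero, LocalizedModule.zero_mk]

theorem Hyp.eq_of_vlocMod_eq [DirectSum.Decomposition 𝒩] (n : ℤ) (y : ProjectiveSpectrum ℬ)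
    {i₁ j₁ i₂ j₂ : ℕ} (a₁ : ℳ i₁) (s₁ : 𝒜 j₁) (a₂ : ℳ i₂) (s₂ : 𝒜 j₂)
    (hs₁ : (s₁ : A) ∉ (c y).asHomogeneousIdeal) (hs₂ : (s₂ : A) ∉ (c y).asHomogeneousIdeal)
    (h₁ : (i₁ : ℤ) = j₁ + n ∨ (a₁ : M) = 0) (h₂ : (i₂ : ℤ) = j₂ + n ∨ (a₂ : M) = 0)
    (e : Hy.vlocMod y (LocalizedModule.mk (a₁ : M) ⟨(s₁ : A), hs₁⟩) =
      Hy.vlocMod y (LocalizedModule.mk (a₂ : M) ⟨(s₂ : A), hs₂⟩)) :
    (LocalizedModule.mk (a₁ : M) ⟨(s₁ : A), hs₁⟩ : LocMod 𝒜 (M := M) (c y)) =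
      LocalizedModule.mk (a₂ : M) ⟨(s₂ : A), hs₂⟩ := by
  obtain ⟨i, j, a, s, hs, hsub⟩ := sub_frac n (c y) a₁ s₁ a₂ s₂ hs₁ hs₂ h₁ h₂
  have h0 : Hy.vlocMod y (LocalizedModule.mk (a : M) ⟨(s : A), hs⟩) = 0 := by
    rw [← hsub, map_sub, e, sub_self]
  have h1 := Hy.ker_frac y a s hs h0
  exact sub_eq_zero.1 (hsub.trans h1)

theorem Hyp.comapApp_injective [DirectSum.Decomposition 𝒩] (n : ℤ)
    (U : Opens (ProjectiveSpectrum.top 𝒜)) (V : Opens (ProjectiveSpectrum.top ℬ))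
    (hUV : V.1 ⊆ c ⁻¹' U.1) (hVU : ∀ x ∈ U, ∃ y ∈ V, c y = x) :
    Function.Injective (Hy.comapApp n U V hUV) := by
  intro s t hst
  apply Subtype.ext
  funext x
  apply Subtype.ext
  obtain ⟨y, hyV, hyx⟩ := hVU x.1 x.2
  obtain rfl : x = ⟨c y, hUV hyV⟩ := Subtype.ext hyx.symm
  obtain ⟨i₁, j₁, a₁, s₁, hs₁, h₁, e₁⟩ := ILocM.sec_val_eq s ⟨c y, hUV hyV⟩
  obtain ⟨i₂, j₂, a₂, s₂, hs₂, h₂, e₂⟩ := ILocM.sec_val_eq t ⟨c y, hUV hyV⟩
  have hst' := congrArg (fun u : sect ℬ 𝒩 (n * d) (op V) =>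
    ((u.1 ⟨y, hyV⟩ : tildeAt ℬ 𝒩 (n * d) y) : LocMod ℬ (M := N) y)) hst
  have hst'' : Hy.vlocMod y ((s.1 ⟨c y, hUV hyV⟩).1) = Hy.vlocMod y ((t.1 ⟨c y, hUV hyV⟩).1) :=
    hst'
  rw [e₁, e₂] at hst''
  refine e₁.trans (Eq.trans ?_ e₂.symm)
  exact Hy.eq_of_vlocMod_eq n y a₁ s₁ a₂ s₂ hs₁ hs₂ h₁ h₂ hst''

theorem Hyp.comapApp_surjective [DirectSum.Decomposition 𝒩] (n : ℤ)
    (hinj : Function.Injective c) (hopen : IsOpenMap c)
    (U : Opens (ProjectiveSpectrum.top 𝒜)) (V : Opens (ProjectiveSpectrum.top ℬ))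
    (hUV : V.1 ⊆ c ⁻¹' U.1) (hVU : ∀ x ∈ U, ∃ y ∈ V, c y = x) :
    Function.Surjective (Hy.comapApp n U V hUV) := by
  intro t'
  have hpt : ∀ x : U, ∃ (i j : ℕ) (a : ℳ i) (s : 𝒜 j) (hs : (s : A) ∉ x.1.asHomogeneousIdeal),
      ((i : ℤ) = j + n ∨ (a : M) = 0) ∧
      ∀ (y : V) (_ : c y.1 = x.1),
        ∃ hs₂ : (s : A) ∉ (c y.1).asHomogeneousIdeal,
          Hy.vlocMod y.1 (LocalizedModule.mk (a : M) ⟨(s : A), hs₂⟩) =
            ((t'.1 y : tildeAt ℬ 𝒩 (n * d) y.1) : LocMod ℬ (M := N) y.1) := by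
    rintro ⟨x, hx⟩
    obtain ⟨y, hyV, rfl⟩ := hVU x hx
    obtain ⟨i, j, a', s', hs', hij, hval⟩ := ILocM.sec_val_eq t' ⟨y, hyV⟩
    obtain ⟨i₁, j₁, a, s, hij', spec⟩ := Hy.lift_frac n a' s' hij
    obtain ⟨hs, e⟩ := spec y hs'
    refine ⟨i₁, j₁, a, s, hs, hij', ?_⟩
    rintro ⟨y₂, hy₂V⟩ hy₂
    obtain rfl : y₂ = y := hinj hy₂
    exact ⟨hs, e.trans hval.symm⟩
  choose i j a s hs hij spec using hpt
  have hlf : (isLocFrac 𝒜 ℳ n).pred (fun x : U =>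
      (⟨LocalizedModule.mk (a x : M) ⟨(s x : A), hs x⟩,
        ILocM.mk_mem_tildeAt n x.1 (a x) (s x) (hs x) (hij x)⟩ : tildeAt 𝒜 ℳ n x.1)) := by
    rintro ⟨x₀, hx₀⟩
    obtain ⟨y₀, hy₀V, rfl⟩ := hVU x₀ hx₀
    obtain ⟨N', hy₀N', iN', i', j', a', s', hs', hij', hval⟩ := t'.2 ⟨y₀, hy₀V⟩
    obtain ⟨i₁, j₁, a₁, s₁, hij₁, spec₁⟩ := Hy.lift_frac n a' s' hij'
    let N₀ : Opens (ProjectiveSpectrum.top 𝒜) := ⟨c '' N'.1, hopen _ N'.2⟩ ⊓ U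
    have hs₁ : ∀ x : N₀, (s₁ : A) ∉ x.1.asHomogeneousIdeal := by
      rintro ⟨x, ⟨z, hz, rfl⟩, hxU⟩
      exact (spec₁ z (hs' ⟨z, hz⟩)).1
    refine ⟨N₀, ⟨⟨y₀, hy₀N', rfl⟩, hx₀⟩, homOfLE inf_le_right, i₁, j₁, a₁, s₁, hs₁, hij₁, ?_⟩
    rintro ⟨x, ⟨z, hz, rfl⟩, hxU⟩
    obtain ⟨hs₂, e₂⟩ := spec ⟨_, hxU⟩ ⟨z, iN'.le hz⟩ rfl
    obtain ⟨hs₃, e₃⟩ := spec₁ z (hs' ⟨z, hz⟩)
    exact Hy.eq_of_vlocMod_eq n z (a ⟨_, hxU⟩) (s ⟨_, hxU⟩) a₁ s₁ hs₂ hs₃ (hij ⟨_, hxU⟩) hij₁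
      (e₂.trans ((hval ⟨z, hz⟩).trans e₃.symm))
  refine ⟨(⟨fun x : U =>
      (⟨LocalizedModule.mk (a x : M) ⟨(s x : A), hs x⟩,
        ILocM.mk_mem_tildeAt n x.1 (a x) (s x) (hs x) (hij x)⟩ : tildeAt 𝒜 ℳ n x.1), hlf⟩ :
      sect 𝒜 ℳ n (op U)), ?_⟩
  apply Subtype.ext
  funext y
  apply Subtype.ext
  obtain ⟨hs₂, e₂⟩ := spec ⟨_, hUV y.2⟩ y rfl
  exact e₂

theorem Hyp.comapApp_bijective [DirectSum.Decomposition 𝒩] (n : ℤ)
    (hinj : Function.Injective c) (hopen : IsOpenMap c)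
    (U : Opens (ProjectiveSpectrum.top 𝒜)) (V : Opens (ProjectiveSpectrum.top ℬ))
    (hUV : V.1 ⊆ c ⁻¹' U.1) (hVU : ∀ x ∈ U, ∃ y ∈ V, c y = x) :
    Function.Bijective (Hy.comapApp n U V hUV) :=
  ⟨Hy.comapApp_injective n U V hUV hVU, Hy.comapApp_surjective n hinj hopen U V hUV hVU⟩

end Groth.Agent.Helper1.VerTw
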