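import Mathlib
import Groth.Prelude.Def_GrMod3
import Groth.Agent.Lib.Helper1.VerSh
import Groth.Agent.Lib.Helper1.VerTw
import Groth.Agent.Lib.Helper1.ProjAway
import Groth.Agent.Lib.Helper1.RelProjGlue

/-!
# The modules `M(nd)~` and `N(n)~` under the Veronese isomorphism (helper1)

For `φ : B → A` identifying `B` with the `d`-th Veronese subring of `A` and a `φ`-semilinear `w : N → M`
identifying `N` with the Veronese submodule of `M`, the pullback of `N(n)~` along the Veronese isomorphism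
`Proj A ≅ Proj B` is `M(nd)~`.
-/

set_option backward.isDefEq.respectTransparency.types false
set_option synthInstance.maxHeartbeats 400000
set_option autoImplicit false
set_option linter.unusedSectionVars false
set_option linter.style.haveILetI false
set_option linter.unusedVariables false
universe u
open CategoryTheory CategoryTheory.Limits AlgebraicGeometry TopologicalSpace Opposite

namespace Groth.Agent.Helper1.VerMain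

open Groth.Agent.Helper1 Groth.Agent.Helper1.Veronese

variable {R A B : Type u} [CommRing R] [CommRing A] [Algebra R A] (𝒜 : ℕ → Submodule R A)
  [GradedAlgebra 𝒜] [CommRing B] [Algebra R B] (ℬ : ℕ → Submodule R B) [GradedAlgebra ℬ]
  (d : ℕ) (hd : 0 < d) (φ : B →ₐ[R] A)
  (hdeg : ∀ n : ℕ, Submodule.map φ.toLinearMap (ℬ n) = 𝒜 (n * d))
variable {M τ : Type u} [AddCommGroup M] [Module A M] [SetLike τ M] [AddSubgroupClass τ M]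
  (ℳ : ℕ → τ) [SetLike.GradedSMul 𝒜 ℳ]
variable {N τ' : Type u} [AddCommGroup N] [Module B N] [SetLike τ' N] [AddSubgroupClass τ' N]
  (𝒩 : ℕ → τ') [SetLike.GradedSMul ℬ 𝒩]
  (w : N →ₛₗ[φ.toRingHom] M) (hw : Function.Injective w)
  (hwdeg : ∀ n : ℕ, (𝒩 n : Set N).image w = (ℳ (n * d) : Set M))

/-- the Veronese morphism on points -/
noncomputable def cfun : ProjectiveSpectrum 𝒜 → ProjectiveSpectrum ℬ :=
  fun p => (vmap 𝒜 ℬ d hd φ hdeg).base p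

include hw hwdeg in
theorem hyp : VerTw.Hyp ℬ 𝒩 𝒜 ℳ φ.toRingHom w d (cfun 𝒜 ℬ d hd φ hdeg) where
  hd := hd
  ψdeg := fun i b hb => map_mem 𝒜 ℬ d φ hdeg hb
  ψsurj := fun i a ha => exists_preimage 𝒜 ℬ d φ hdeg ha
  vdeg := fun i m hm => (hwdeg i).subset (Set.mem_image_of_mem w hm)
  vsurj := fun i x hx => by
    obtain ⟨m, hm, rfl⟩ := (hwdeg i).symm.subset hx
    exact ⟨m, hm, rfl⟩
  vinj := hw
  hc := fun p => (vmap_base_ideal 𝒜 ℬ d hd φ hdeg p).trans (Ideal.ext fun _ => Iff.rfl)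
  hcont := (vmap 𝒜 ℬ d hd φ hdeg).base.hom.continuous

include hw hwdeg in
theorem hρ (U : (Proj ℬ).Opens) (r : GrTwist.O (𝒜 := ℬ) (op U))
    (y : ((vmap 𝒜 ℬ d hd φ hdeg) ⁻¹ᵁ U : (Proj 𝒜).Opens)) :
    ((show GrTwist.O (𝒜 := 𝒜) (op ((vmap 𝒜 ℬ d hd φ hdeg) ⁻¹ᵁ U)) from
        ((vmap 𝒜 ℬ d hd φ hdeg).app U).hom r).1 y).val =
      (hyp 𝒜 ℬ d hd φ hdeg ℳ 𝒩 w hw hwdeg).vloc y.1
        ((r.1 ⟨cfun 𝒜 ℬ d hd φ hdeg y.1, y.2⟩).val) :=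
  vmap_app_val 𝒜 ℬ d hd φ hdeg U r y.1 y.2 ((hyp 𝒜 ℬ d hd φ hdeg ℳ 𝒩 w hw hwdeg).hc y.1)

/-- the comparison morphism `N(n)~ ⟶ v_* M(nd)~` over the Veronese morphism `v` -/
noncomputable def vcomap (n : ℤ) :
    GrMod.tilde ℬ 𝒩 n ⟶
      (Scheme.Modules.pushforward (vmap 𝒜 ℬ d hd φ hdeg)).obj (GrMod.tilde 𝒜 ℳ (n * d)) :=
  ⟨PresheafOfModules.homMk
    { app := fun U => AddCommGrpCat.ofHom
        ((hyp 𝒜 ℬ d hd φ hdeg ℳ 𝒩 w hw hwdeg).comapApp n U.unop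
          ((vmap 𝒜 ℬ d hd φ hdeg) ⁻¹ᵁ U.unop) Set.Subset.rfl)
      naturality := fun _ _ _ => rfl }
    fun U r s => (hyp 𝒜 ℬ d hd φ hdeg ℳ 𝒩 w hw hwdeg).comapApp_smul n U.unop
      ((vmap 𝒜 ℬ d hd φ hdeg) ⁻¹ᵁ U.unop) Set.Subset.rfl
      (fun r => ((vmap 𝒜 ℬ d hd φ hdeg).app U.unop).hom r)
      (fun r y => hρ 𝒜 ℬ d hd φ hdeg ℳ 𝒩 w hw hwdeg U.unop r y) r s⟩

theorem isIso_adjunct [DirectSum.Decomposition ℳ] (hφ : Function.Injective φ) (n : ℤ) :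
    IsIso (((Scheme.Modules.pullbackPushforwardAdjunction (vmap 𝒜 ℬ d hd φ hdeg)).homEquiv _ _).symm
      (vcomap 𝒜 ℬ d hd φ hdeg ℳ 𝒩 w hw hwdeg n)) := by
  haveI hiso : IsIso (vmap 𝒜 ℬ d hd φ hdeg) := isIso_vmap 𝒜 ℬ d hd φ hdeg hφ
  have Hy := hyp 𝒜 ℬ d hd φ hdeg ℳ 𝒩 w hw hwdeg
  have hemb := (vmap 𝒜 ℬ d hd φ hdeg).isOpenEmbedding
  apply ProjAway.isIso_adjunct_of_bijective
  intro V
  have hVU : ∀ x ∈ ((vmap 𝒜 ℬ d hd φ hdeg) ''ᵁ V : (Proj ℬ).Opens),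
      ∃ y ∈ ((vmap 𝒜 ℬ d hd φ hdeg) ⁻¹ᵁ ((vmap 𝒜 ℬ d hd φ hdeg) ''ᵁ V) : (Proj 𝒜).Opens),
        cfun 𝒜 ℬ d hd φ hdeg y = x := by
    rintro x ⟨y, hyV, rfl⟩
    exact ⟨y, ⟨y, hyV, rfl⟩, rfl⟩
  have hb := Hy.comapApp_bijective n hemb.injective hemb.isOpenMap
    ((vmap 𝒜 ℬ d hd φ hdeg) ''ᵁ V)
    ((vmap 𝒜 ℬ d hd φ hdeg) ⁻¹ᵁ ((vmap 𝒜 ℬ d hd φ hdeg) ''ᵁ V)) Set.Subset.rfl hVU
  have heq : ∀ τ : Γ(GrMod.tilde ℬ 𝒩 n, (vmap 𝒜 ℬ d hd φ hdeg) ''ᵁ V),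
      (show Γ(GrMod.tilde 𝒜 ℳ (n * d),
          (vmap 𝒜 ℬ d hd φ hdeg) ⁻¹ᵁ ((vmap 𝒜 ℬ d hd φ hdeg) ''ᵁ V)) from
        (vcomap 𝒜 ℬ d hd φ hdeg ℳ 𝒩 w hw hwdeg n).app ((vmap 𝒜 ℬ d hd φ hdeg) ''ᵁ V) τ) =
      Hy.comapApp n ((vmap 𝒜 ℬ d hd φ hdeg) ''ᵁ V)
        ((vmap 𝒜 ℬ d hd φ hdeg) ⁻¹ᵁ ((vmap 𝒜 ℬ d hd φ hdeg) ''ᵁ V)) Set.Subset.rfl τ :=
    fun τ => rfl
  constructor
  · intro τ τ' e
    exact hb.1 ((heq τ).symm.trans (e.trans (heq τ')))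
  · intro σ'
    obtain ⟨τ, hτ⟩ := hb.2 σ'
    exact ⟨τ, (heq τ).trans hτ⟩

include hw hwdeg in
/-- the general form of S9577 and S9579 -/
theorem main [DirectSum.Decomposition ℳ] (hφ : Function.Injective φ) (e : Proj 𝒜 ≅ Proj ℬ)
    (he : ∀ (n : ℕ) (g : B) (hn : 0 < n) (hg : g ∈ ℬ n)
        (θ : CommRingCat.of (HomogeneousLocalization.Away ℬ g) ⟶
          CommRingCat.of (HomogeneousLocalization.Away 𝒜 (φ g))),
        (algebraMap (HomogeneousLocalization.Away 𝒜 (φ g)) (Localization.Away (φ g))).comp θ.hom =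
          (Localization.awayMap φ.toRingHom g).comp
            (algebraMap (HomogeneousLocalization.Away ℬ g) (Localization.Away g)) →
        Proj.awayι 𝒜 (φ g) ((hdeg n).le (Submodule.mem_map_of_mem hg)) (Nat.mul_pos hn hd) ≫ e.hom =
          Spec.map θ ≫ Proj.awayι ℬ g hg hn)
    (n : ℤ) :
    Nonempty (GrMod.tilde 𝒜 ℳ (n * d) ≅
      (Scheme.Modules.pullback e.hom).obj (GrMod.tilde ℬ 𝒩 n)) := by
  have hev : e.hom = vmap 𝒜 ℬ d hd φ hdeg := by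
    apply RelProjGlue.hom_ext_of_local'
    intro x
    obtain ⟨t, ht⟩ := hcov 𝒜 ℬ d hd φ hdeg x
    refine ⟨_, jj 𝒜 ℬ d hd φ hdeg t, inferInstance, ht, ?_⟩
    rw [jj_vmap]
    exact he t.n t.g t.hn t.hg (CommRingCat.ofHom (θ 𝒜 ℬ d φ hdeg t.hg))
      (RingHom.ext fun z => val_θ 𝒜 ℬ d φ hdeg t.hg z)
  haveI := isIso_adjunct 𝒜 ℬ d hd φ hdeg ℳ 𝒩 w hw hwdeg hφ n
  rw [hev]
  exact ⟨(asIso (((Scheme.Modules.pullbackPushforwardAdjunction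
    (vmap 𝒜 ℬ d hd φ hdeg)).homEquiv _ _).symm
      (vcomap 𝒜 ℬ d hd φ hdeg ℳ 𝒩 w hw hwdeg n))).symm⟩

end Groth.Agent.Helper1.VerMain
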