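import Mathlib

/-!
# The Veronese subalgebra of a graded algebra, with its grading (helper1)

`verSub 𝒜 d` is the subalgebra `⨁ₙ A_{nd}` of `A`, graded by `verPiece 𝒜 d n = A_{nd}`.
-/

set_option autoImplicit false
set_option linter.unusedSectionVars false
set_option linter.unusedVariables false
universe u
open DirectSum

namespace Groth.Agent.Helper1.VerSubalg

variable {R A : Type u} [CommRing R] [CommRing A] [Algebra R A] (𝒜 : ℕ → Submodule R A)
  [GradedAlgebra 𝒜] (d : ℕ)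

/-- the underlying submodule of the `d`-th Veronese subring -/
def verSubmodule : Submodule R A := ⨆ n : ℕ, 𝒜 (n * d)

theorem mem_ver {n : ℕ} {a : A} (ha : a ∈ 𝒜 (n * d)) : a ∈ verSubmodule 𝒜 d :=
  Submodule.mem_iSup_of_mem n ha

theorem mul_mem_ver {x y : A} (hx : x ∈ verSubmodule 𝒜 d) (hy : y ∈ verSubmodule 𝒜 d) :
    x * y ∈ verSubmodule 𝒜 d := by
  refine Submodule.iSup_induction (fun n : ℕ => 𝒜 (n * d))
    (motive := fun x => x * y ∈ verSubmodule 𝒜 d) hx ?_ ?_ ?_
  · intro i a ha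
    refine Submodule.iSup_induction (fun n : ℕ => 𝒜 (n * d))
      (motive := fun y => a * y ∈ verSubmodule 𝒜 d) hy ?_ ?_ ?_
    · intro j b hb
      have : a * b ∈ 𝒜 ((i + j) * d) := by
        rw [add_mul]; exact SetLike.mul_mem_graded ha hb
      exact mem_ver 𝒜 d this
    · rw [mul_zero]; exact zero_mem _
    · intro b b' hb hb'; rw [mul_add]; exact add_mem hb hb'
  · rw [zero_mul]; exact zero_mem _
  · intro a a' ha ha'; rw [add_mul]; exact add_mem ha ha'

theorem one_mem_ver : (1 : A) ∈ verSubmodule 𝒜 d :=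
  mem_ver 𝒜 d (n := 0) (by rw [zero_mul]; exact SetLike.GradedOne.one_mem)

/-- the `d`-th Veronese subalgebra -/
def verSub : Subalgebra R A :=
  (verSubmodule 𝒜 d).toSubalgebra (one_mem_ver 𝒜 d) (fun x y hx hy => mul_mem_ver 𝒜 d hx hy)

theorem mem_verSub {a : A} : a ∈ verSub 𝒜 d ↔ a ∈ verSubmodule 𝒜 d := Iff.rfl

theorem decompose_eq_zero {x : A} (hx : x ∈ verSubmodule 𝒜 d) {i : ℕ} (hi : ¬ d ∣ i) :
    (decompose 𝒜 x i : A) = 0 := by
  refine Submodule.iSup_induction (fun n : ℕ => 𝒜 (n * d))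
    (motive := fun x => (decompose 𝒜 x i : A) = 0) hx ?_ ?_ ?_
  · intro n a ha
    exact decompose_of_mem_ne 𝒜 ha (fun h => hi ⟨n, by rw [← h, mul_comm]⟩)
  · simp
  · intro a b ha hb
    rw [decompose_add, DirectSum.add_apply, Submodule.coe_add, ha, hb, add_zero]

/-- the grading of the Veronese subalgebra -/
def verPiece (n : ℕ) : Submodule R (verSub 𝒜 d) :=
  (𝒜 (n * d)).comap (verSub 𝒜 d).val.toLinearMap

theorem mem_verPiece {n : ℕ} {b : verSub 𝒜 d} :
    b ∈ verPiece 𝒜 d n ↔ (b : A) ∈ 𝒜 (n * d) := Iff.rfl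

instance gradedMonoid : SetLike.GradedMonoid (verPiece 𝒜 d) where
  one_mem := by
    show (1 : A) ∈ 𝒜 (0 * d)
    rw [zero_mul]; exact SetLike.GradedOne.one_mem
  mul_mem := by
    intro i j a b ha hb
    show (a : A) * (b : A) ∈ 𝒜 ((i + j) * d)
    rw [add_mul]
    exact SetLike.mul_mem_graded ha hb

variable (hd : 0 < d)

include hd in
theorem proj_coe (y : ⨁ n, verPiece 𝒜 d n) (n₀ : ℕ) :
    (decompose 𝒜 ((DirectSum.coeAddMonoidHom (verPiece 𝒜 d) y : verSub 𝒜 d) : A) (n₀ * d) : A) =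
      ((y n₀ : verSub 𝒜 d) : A) := by
  classical
  induction y using DirectSum.induction_on with
  | zero => simp
  | of g b =>
    rw [DirectSum.coeAddMonoidHom_of]
    have hb : ((b : verSub 𝒜 d) : A) ∈ 𝒜 (g * d) := b.2
    by_cases hg : g = n₀
    · subst hg
      rw [decompose_of_mem_same 𝒜 hb, DirectSum.of_eq_same]
    · have hne : g * d ≠ n₀ * d := fun h => hg (Nat.eq_of_mul_eq_mul_right hd h)
      rw [decompose_of_mem_ne 𝒜 hb hne, DirectSum.of_eq_of_ne _ _ _ (Ne.symm hg)]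
      simp
  | add x y hx hy =>
    rw [map_add, Subalgebra.coe_add, decompose_add, DirectSum.add_apply, Submodule.coe_add, hx, hy,
      DirectSum.add_apply, Submodule.coe_add, Subalgebra.coe_add]

include hd in
theorem coe_injective : Function.Injective (DirectSum.coeAddMonoidHom (verPiece 𝒜 d)) := by
  rw [injective_iff_map_eq_zero]
  intro y hy
  refine DirectSum.ext (fun n₀ => Subtype.ext (Subtype.ext ?_))
  have := proj_coe 𝒜 d hd y n₀
  rw [hy] at this
  rw [← this]
  simp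

open scoped Classical in
theorem coe_surjective : Function.Surjective (DirectSum.coeAddMonoidHom (verPiece 𝒜 d)) := by
  intro x
  have hmem : ∀ i : ℕ, (decompose 𝒜 (x : A) i : A) ∈ verSub 𝒜 d := by
    intro i
    by_cases hi : d ∣ i
    · obtain ⟨k, rfl⟩ := hi
      exact mem_ver 𝒜 d (n := k) (by rw [mul_comm]; exact (decompose 𝒜 (x : A) (d * k)).2)
    · rw [decompose_eq_zero 𝒜 d x.2 hi]; exact zero_mem _
  have hmem2 : ∀ i : ℕ, (⟨(decompose 𝒜 (x : A) i : A), hmem i⟩ : verSub 𝒜 d) ∈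
      verPiece 𝒜 d (i / d) := by
    intro i
    show (decompose 𝒜 (x : A) i : A) ∈ 𝒜 (i / d * d)
    by_cases hi : d ∣ i
    · rw [Nat.div_mul_cancel hi]; exact (decompose 𝒜 (x : A) i).2
    · rw [decompose_eq_zero 𝒜 d x.2 hi]; exact zero_mem _
  refine ⟨∑ i ∈ (decompose 𝒜 (x : A)).support,
    DirectSum.of (fun n => verPiece 𝒜 d n) (i / d) ⟨_, hmem2 i⟩, ?_⟩
  apply Subtype.ext
  rw [map_sum]
  simp only [DirectSum.coeAddMonoidHom_of]
  rw [AddSubmonoidClass.coe_finsetSum]
  exact DirectSum.sum_support_decompose 𝒜 (x : A)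

include hd in
theorem isInternal : DirectSum.IsInternal (verPiece 𝒜 d) :=
  ⟨coe_injective 𝒜 d hd, coe_surjective 𝒜 d⟩

/-- the graded algebra structure of the Veronese subalgebra -/
@[reducible]
noncomputable def gradedAlgebra : GradedAlgebra (verPiece 𝒜 d) :=
  { gradedMonoid 𝒜 d, (isInternal 𝒜 d hd).chooseDecomposition with }

theorem hdeg (n : ℕ) :
    Submodule.map (verSub 𝒜 d).val.toLinearMap (verPiece 𝒜 d n) = 𝒜 (n * d) := by
  ext a
  constructor
  · rintro ⟨b, hb, rfl⟩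
    exact hb
  · intro ha
    exact ⟨⟨a, mem_ver 𝒜 d ha⟩, ha, rfl⟩

theorem val_injective : Function.Injective (verSub 𝒜 d).val := Subtype.val_injective

end Groth.Agent.Helper1.VerSubalg
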