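import Mathlib
import Groth.Agent.Lib.Helper1.Veronese2

/-!
# Extending a module over the Veronese subring to the whole ring (helper1)

For `φ : B → A` identifying `B` with the `d`-th Veronese subring of `A`, every `B`-module `N` embeds
`φ`-semilinearly into an `A`-module (namely `A ⊗_B N`; `B` is a direct summand of `A`).
-/

set_option backward.isDefEq.respectTransparency.types false
set_option synthInstance.maxHeartbeats 400000
set_option maxHeartbeats 1000000
set_option autoImplicit false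
set_option linter.unusedSectionVars false
set_option linter.style.haveILetI false
set_option linter.unusedVariables false
universe u
open DirectSum TensorProduct

namespace Groth.Agent.Helper1.VerTens
open Groth.Agent.Helper1.Veronese

variable {R A B : Type u} [CommRing R] [CommRing A] [Algebra R A] (𝒜 : ℕ → Submodule R A)
  [GradedAlgebra 𝒜] [CommRing B] [Algebra R B] (ℬ : ℕ → Submodule R B) [GradedAlgebra ℬ]
  (d : ℕ) (φ : B →ₐ[R] A)
  (hdeg : ∀ n : ℕ, Submodule.map φ.toLinearMap (ℬ n) = 𝒜 (n * d))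
  (hφ : Function.Injective φ)

/-- projection onto the Veronese subring, valued in `B` -/
noncomputable def πB (a : A) : B := (π_mem_range 𝒜 ℬ d φ hdeg a).choose

theorem φ_πB (a : A) : φ (πB 𝒜 ℬ d φ hdeg a) = π 𝒜 d a :=
  (π_mem_range 𝒜 ℬ d φ hdeg a).choose_spec

include hφ in
theorem πB_add (a a' : A) :
    πB 𝒜 ℬ d φ hdeg (a + a') = πB 𝒜 ℬ d φ hdeg a + πB 𝒜 ℬ d φ hdeg a' := by
  apply hφ
  rw [map_add, φ_πB, φ_πB, φ_πB, map_add]

include hφ in
theorem πB_mul (b : B) (a : A) :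
    πB 𝒜 ℬ d φ hdeg (φ b * a) = b * πB 𝒜 ℬ d φ hdeg a := by
  apply hφ
  rw [map_mul, φ_πB, φ_πB, π_mul 𝒜 ℬ d φ hdeg]

include hφ in
theorem πB_one : πB 𝒜 ℬ d φ hdeg 1 = 1 := by
  apply hφ
  rw [φ_πB, π_of_dvd 𝒜 d SetLike.GradedOne.one_mem (dvd_zero d), map_one]

include hφ hdeg in
theorem exists_ext (N : Type u) [AddCommGroup N] [Module B N] :
    ∃ (P : Type u) (_ : AddCommGroup P) (_ : Module A P) (w₀ : N →ₛₗ[φ.toRingHom] P),
      Function.Injective w₀ := by
  letI : Algebra B A := φ.toRingHom.toAlgebra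
  have halg : ∀ (b : B) (a : A), b • a = φ b * a := fun b a => by
    rw [Algebra.smul_def]; rfl
  let πL : A →ₗ[B] B :=
    { toFun := πB 𝒜 ℬ d φ hdeg
      map_add' := πB_add 𝒜 ℬ d φ hdeg hφ
      map_smul' := fun b a => by
        rw [halg, πB_mul 𝒜 ℬ d φ hdeg hφ]; rfl }
  let w₀ : N →ₛₗ[φ.toRingHom] (A ⊗[B] N) :=
    { toFun := fun y => (1 : A) ⊗ₜ[B] y
      map_add' := fun y y' => TensorProduct.tmul_add _ _ _
      map_smul' := fun b y => by
        show (1 : A) ⊗ₜ[B] (b • y) = φ b • ((1 : A) ⊗ₜ[B] y)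
        rw [TensorProduct.smul_tmul', ← TensorProduct.smul_tmul, halg, smul_eq_mul] }
  refine ⟨A ⊗[B] N, inferInstance, inferInstance, w₀, ?_⟩
  let ρ : A ⊗[B] N →ₗ[B] N := (TensorProduct.lid B N).toLinearMap ∘ₗ LinearMap.rTensor N πL
  have hρ : ∀ y, ρ (w₀ y) = y := by
    intro y
    show (TensorProduct.lid B N) (LinearMap.rTensor N πL ((1 : A) ⊗ₜ[B] y)) = y
    rw [LinearMap.rTensor_tmul, TensorProduct.lid_tmul]
    show πB 𝒜 ℬ d φ hdeg 1 • y = y
    rw [πB_one 𝒜 ℬ d φ hdeg hφ, one_smul]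
  exact Function.LeftInverse.injective hρ

end Groth.Agent.Helper1.VerTens
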