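import Mathlib
import Groth.Prelude.Def_Coh
import Groth.Prelude.Def_GrMod2
import Groth.Agent.Lib.Helper1.PF10c
import Groth.Agent.Lib.Helper1.VerMain
import Groth.Agent.Lib.Lead.PBQc
import Groth.Agent.Lib.Helper1.VerExt
import Groth.Agent.Lib.Helper1.VerSubalg
import Groth.Agent.Lib.Helper1.VerTens

/-!
# Coherent modules on `Proj` of a Noetherian graded ring are attached to finite graded modules (helper1)

No generation in degree one is assumed: we pass to a Veronese subring in which `Proj` is covered by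
finitely many basic opens of degree one elements, use `PF10c.main` there, extend the graded module to the whole
ring (`VerExt`) and compare the attached modules (`VerMain`).
-/

set_option backward.isDefEq.respectTransparency.types false
set_option synthInstance.maxHeartbeats 400000
set_option maxHeartbeats 1000000
set_option autoImplicit false
set_option linter.unusedSectionVars false
set_option linter.style.haveILetI false
set_option linter.unusedVariables false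
universe u
open CategoryTheory CategoryTheory.Limits AlgebraicGeometry TopologicalSpace Opposite

namespace Groth.Agent.Helper1.VerCoh
open Groth.Agent.Helper1.Veronese Groth.Agent.Helper1.VerGM Groth.Agent.Helper1.VerExt

theorem nonempty_iso_of_isIso {C : Type*} [Category C] {X Y : C} (f : X ⟶ Y) (h : IsIso f) :
    Nonempty (Y ≅ X) := ⟨(@asIso _ _ _ _ f h).symm⟩

section Core
variable {R A B : Type u} [CommRing R] [CommRing A] [Algebra R A] (𝒜 : ℕ → Submodule R A)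
  [GradedAlgebra 𝒜] [CommRing B] [Algebra R B] (ℬ : ℕ → Submodule R B) [GradedAlgebra ℬ]
  (d : ℕ) (hd : 0 < d) (φ : B →ₐ[R] A)
  (hdeg : ∀ n : ℕ, Submodule.map φ.toLinearMap (ℬ n) = 𝒜 (n * d))
  (hφ : Function.Injective φ)
variable {N : Type u} [AddCommGroup N] [Module R N] [Module B N] (𝒩 : ℕ → Submodule R N)
  [DirectSum.Decomposition 𝒩] [SetLike.GradedSMul ℬ 𝒩]
variable {P : Type u} [AddCommGroup P] [Module A P] (w₀ : N →ₛₗ[φ.toRingHom] Amb 𝒜 P)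
  (hw₀ : Function.Injective w₀)

attribute [local instance] modGM modRGM

include hφ hw₀ in
theorem core_iso :
    Nonempty (GrTilde.tilde 𝒜 (piece (Qten 𝒜 d φ 𝒩 w₀)) 0 ≅
      (Scheme.Modules.pullback (vmap 𝒜 ℬ d hd φ hdeg)).obj (GrTilde.tilde ℬ 𝒩 0)) := by
  haveI := decompGM (Qten 𝒜 d φ 𝒩 w₀)
  have h := VerMain.isIso_adjunct 𝒜 ℬ d hd φ hdeg (piece (Qten 𝒜 d φ 𝒩 w₀)) 𝒩
    (w 𝒜 ℬ d φ hdeg 𝒩 w₀) (w_injective 𝒜 ℬ d φ hdeg 𝒩 w₀ hw₀)
    (image_w 𝒜 ℬ d hd φ hdeg 𝒩 w₀) hφ 0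
  have e1 := nonempty_iso_of_isIso _ h
  have key : ∀ k : ℤ, k = 0 →
      Nonempty (GrMod.tilde 𝒜 (piece (Qten 𝒜 d φ 𝒩 w₀)) k ≅
        (Scheme.Modules.pullback (vmap 𝒜 ℬ d hd φ hdeg)).obj (GrMod.tilde ℬ 𝒩 0)) →
      Nonempty (GrMod.tilde 𝒜 (piece (Qten 𝒜 d φ 𝒩 w₀)) 0 ≅
        (Scheme.Modules.pullback (vmap 𝒜 ℬ d hd φ hdeg)).obj (GrMod.tilde ℬ 𝒩 0)) := by
    rintro k rfl h
    exact h
  exact key _ (zero_mul _) e1

end Core

section Abstract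
variable {R A B : Type u} [CommRing R] [CommRing A] [Algebra R A] (𝒜 : ℕ → Submodule R A)
  [GradedAlgebra 𝒜] [CommRing B] [Algebra R B] (ℬ : ℕ → Submodule R B) [GradedAlgebra ℬ]
  (d : ℕ) (hd : 0 < d) (φ : B →ₐ[R] A)
  (hdeg : ∀ n : ℕ, Submodule.map φ.toLinearMap (ℬ n) = 𝒜 (n * d))
  (hφ : Function.Injective φ)

attribute [local instance] modGM modRGM

include hd hdeg hφ in
theorem main_abstract (s : Finset B)
    (hcovB : ∀ y : ProjectiveSpectrum ℬ, ∃ g : PF2.T ℬ s, g.1 ∉ y.asHomogeneousIdeal)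
    (F : (Proj 𝒜).Modules) (hF : SheafOfModules.IsQuasicoherent.{u, u, u} F)
    (hFT : SheafOfModules.IsFiniteType.{u, u, u} F) :
    ∃ (M : Type u) (_ : AddCommGroup M) (_ : Module R M) (_ : Module A M) (_ : IsScalarTower R A M)
      (ℳ : ℕ → Submodule R M) (_ : DirectSum.Decomposition ℳ) (_ : SetLike.GradedSMul 𝒜 ℳ),
      Module.Finite A M ∧ Nonempty (GrTilde.tilde 𝒜 ℳ 0 ≅ F) := by
  haveI hv : IsIso (vmap 𝒜 ℬ d hd φ hdeg) := isIso_vmap 𝒜 ℬ d hd φ hdeg hφ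
  haveI : F.IsQuasicoherent := hF
  have hF' : SheafOfModules.IsQuasicoherent.{u, u, u}
      ((Scheme.Modules.pullback (inv (vmap 𝒜 ℬ d hd φ hdeg))).obj F) :=
    Groth.Agent.Lead.PB.isQuasicoherent_pullback _ F
  have hFT' : SheafOfModules.IsFiniteType.{u, u, u}
      ((Scheme.Modules.pullback (inv (vmap 𝒜 ℬ d hd φ hdeg))).obj F) :=
    Groth.Agent.Lead.PB.isFT_pullback (inv (vmap 𝒜 ℬ d hd φ hdeg)) F hFT
  obtain ⟨N, _, _, _, _, 𝒩, _, _, hfin, ⟨eN⟩⟩ := PF10c.main ℬ s _ hcovB hF' hFT'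
  haveI := hfin
  obtain ⟨P, _, _, w₀, hw₀⟩ := VerTens.exists_ext 𝒜 ℬ d φ hdeg hφ N
  obtain ⟨e⟩ := core_iso 𝒜 ℬ d hd φ hdeg hφ 𝒩 (P := P) w₀ hw₀
  refine ⟨GM (Qten 𝒜 d φ 𝒩 (P := P) w₀), inferInstance, modRGM _, modGM _, towerGM _, piece _,
    decompGM _, gradedSMulGM _, finite_GM 𝒜 ℬ d φ hdeg 𝒩 (P := P) w₀, ⟨?_⟩⟩
  exact e ≪≫ (Scheme.Modules.pullback (vmap 𝒜 ℬ d hd φ hdeg)).mapIso eN ≪≫
    (Scheme.Modules.pullbackComp (vmap 𝒜 ℬ d hd φ hdeg) (inv (vmap 𝒜 ℬ d hd φ hdeg))).app F ≪≫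
    (Scheme.Modules.pullbackCongr (IsIso.hom_inv_id (vmap 𝒜 ℬ d hd φ hdeg))).app F ≪≫
    (Scheme.Modules.pullbackId _).app F

end Abstract

section Final
variable {R A : Type u} [CommRing R] [CommRing A] [Algebra R A] (𝒜 : ℕ → Submodule R A)
  [GradedAlgebra 𝒜]

theorem exists_cover [IsNoetherianRing A] :
    ∃ (d : ℕ) (_ : 0 < d) (t : Finset A), (∀ g ∈ t, g ∈ 𝒜 d) ∧
      ∀ x : ProjectiveSpectrum 𝒜, ∃ g ∈ t, g ∉ x.asHomogeneousIdeal := by
  classical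
  obtain ⟨G, hG⟩ := IsNoetherian.noetherian (HomogeneousIdeal.irrelevant 𝒜).toIdeal
  obtain ⟨S, hSdef⟩ : ∃ S : Finset A, S = G.biUnion fun g =>
      (DirectSum.decompose 𝒜 g).support.image fun i => (DirectSum.decompose 𝒜 g i : A) := ⟨_, rfl⟩
  have hGirr : ∀ g ∈ G, g ∈ HomogeneousIdeal.irrelevant 𝒜 := by
    intro g hg
    have : g ∈ (HomogeneousIdeal.irrelevant 𝒜).toIdeal := by
      rw [← hG]; exact Submodule.subset_span hg
    exact this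
  have hS : ∀ f ∈ S, ∃ n : ℕ, 0 < n ∧ f ∈ 𝒜 n := by
    intro f hf
    rw [hSdef] at hf
    obtain ⟨g, hg, hf⟩ := Finset.mem_biUnion.1 hf
    obtain ⟨i, hi, rfl⟩ := Finset.mem_image.1 hf
    refine ⟨i, Nat.pos_of_ne_zero ?_, (DirectSum.decompose 𝒜 g i).2⟩
    rintro rfl
    have h0 := (HomogeneousIdeal.mem_irrelevant_iff 𝒜 g).1 (hGirr g hg)
    rw [DFinsupp.mem_support_iff] at hi
    apply hi
    apply Subtype.ext
    exact h0
  choose! n hn using hS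
  have hd : 0 < ∏ f ∈ S, n f := Finset.prod_pos (fun f hf => (hn f hf).1)
  refine ⟨∏ f ∈ S, n f, hd, S.image (fun f => f ^ ((∏ f ∈ S, n f) / n f)), ?_, ?_⟩
  · intro g hg
    obtain ⟨f, hf, rfl⟩ := Finset.mem_image.1 hg
    have h1 : f ^ ((∏ f ∈ S, n f) / n f) ∈ 𝒜 (((∏ f ∈ S, n f) / n f) • n f) :=
      SetLike.pow_mem_graded _ (hn f hf).2
    have h2 : ((∏ f ∈ S, n f) / n f) • n f = ∏ f ∈ S, n f := by
      rw [smul_eq_mul]; exact Nat.div_mul_cancel (Finset.dvd_prod_of_mem n hf)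
    rwa [h2] at h1
  · intro x
    by_contra hcon
    push Not at hcon
    apply x.not_irrelevant_le
    intro a ha
    have hSx : ∀ f ∈ S, f ∈ x.asHomogeneousIdeal.toIdeal := by
      intro f hf
      exact x.isPrime.mem_of_pow_mem _ (hcon _ (Finset.mem_image.2 ⟨f, hf, rfl⟩))
    have hGx : (G : Set A) ⊆ (x.asHomogeneousIdeal.toIdeal : Set A) := by
      intro g hg
      have hg' : g ∈ G := hg
      show g ∈ x.asHomogeneousIdeal.toIdeal
      rw [← DirectSum.sum_support_decompose 𝒜 g]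
      refine Ideal.sum_mem _ (fun i hi => ?_)
      apply hSx
      rw [hSdef]
      exact Finset.mem_biUnion.2 ⟨g, hg', Finset.mem_image.2 ⟨i, hi, rfl⟩⟩
    have h1 : a ∈ Submodule.span A (G : Set A) := by rw [hG]; exact ha
    exact (Submodule.span_le.2 hGx) h1

theorem main [IsNoetherianRing A] (F : (Proj 𝒜).Modules) (hF : Coh.IsCoh F) :
    ∃ (M : Type u) (_ : AddCommGroup M) (_ : Module R M) (_ : Module A M) (_ : IsScalarTower R A M)
      (ℳ : ℕ → Submodule R M) (_ : DirectSum.Decomposition ℳ) (_ : SetLike.GradedSMul 𝒜 ℳ),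
      Module.Finite A M ∧ Nonempty (GrTilde.tilde 𝒜 ℳ 0 ≅ F) := by
  classical
  obtain ⟨d, hd, t, ht, hcov⟩ := exists_cover 𝒜
  letI : GradedAlgebra (VerSubalg.verPiece 𝒜 d) := VerSubalg.gradedAlgebra 𝒜 d hd
  have hdeg := VerSubalg.hdeg 𝒜 d
  have hφ := VerSubalg.val_injective 𝒜 d
  refine main_abstract 𝒜 (VerSubalg.verPiece 𝒜 d) d hd (VerSubalg.verSub 𝒜 d).val hdeg hφ
    (t.subtype (fun a => a ∈ VerSubalg.verSub 𝒜 d)) ?_ F hF.1 hF.2
  intro y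
  haveI hv : IsIso (vmap 𝒜 (VerSubalg.verPiece 𝒜 d) d hd (VerSubalg.verSub 𝒜 d).val hdeg) :=
    isIso_vmap 𝒜 (VerSubalg.verPiece 𝒜 d) d hd (VerSubalg.verSub 𝒜 d).val hdeg hφ
  obtain ⟨y', hy'⟩ : ∃ y' : Proj (VerSubalg.verPiece 𝒜 d), y' = y := ⟨y, rfl⟩
  obtain ⟨x, hx⟩ : ∃ x : Proj 𝒜, x =
      (inv (vmap 𝒜 (VerSubalg.verPiece 𝒜 d) d hd (VerSubalg.verSub 𝒜 d).val hdeg)).base y' :=
    ⟨_, rfl⟩
  have hxy : (vmap 𝒜 (VerSubalg.verPiece 𝒜 d) d hd (VerSubalg.verSub 𝒜 d).val hdeg).base x =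
      y' := by
    have h1 : (inv (vmap 𝒜 (VerSubalg.verPiece 𝒜 d) d hd (VerSubalg.verSub 𝒜 d).val hdeg) ≫
        vmap 𝒜 (VerSubalg.verPiece 𝒜 d) d hd (VerSubalg.verSub 𝒜 d).val hdeg).base y' = y' := by
      rw [IsIso.inv_hom_id]; rfl
    rw [hx]
    exact h1
  obtain ⟨g, hg, hgx⟩ := hcov x
  have hgd : g ∈ 𝒜 (1 * d) := by rw [one_mul]; exact ht g hg
  obtain ⟨b, hb⟩ : ∃ b : VerSubalg.verSub 𝒜 d, (b : A) = g :=
    ⟨⟨g, VerSubalg.mem_ver 𝒜 d hgd⟩, rfl⟩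
  have hb1 : b ∈ VerSubalg.verPiece 𝒜 d 1 := by
    show (b : A) ∈ 𝒜 (1 * d)
    rw [hb]; exact hgd
  refine ⟨⟨b, Finset.mem_subtype.2 (by rw [hb]; exact hg), hb1⟩, ?_⟩
  have h := vmap_mem_basicOpen_iff 𝒜 (VerSubalg.verPiece 𝒜 d) d hd (VerSubalg.verSub 𝒜 d).val hdeg
    Nat.one_pos hb1 x
  rw [hxy] at h
  intro hby
  have h2 : x ∈ Proj.basicOpen 𝒜 ((VerSubalg.verSub 𝒜 d).val b) := by
    rw [Proj.mem_basicOpen]
    show (b : A) ∉ x.asHomogeneousIdeal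
    rw [hb]; exact hgx
  have h3 := (Proj.mem_basicOpen _ b y').1 (h.2 h2)
  rw [hy'] at h3
  exact h3 hby

end Final

end Groth.Agent.Helper1.VerCoh
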