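import Mathlib
import Groth.Agent.Lib.Helper1.Veronese2

/-! Veronese subrings: finite type over the degree-zero part. -/

universe u

namespace Groth.Agent.Helper1.Veronese

open DirectSum

section FT
variable {R A B : Type u} [CommRing R] [CommRing A] [Algebra R A] (𝒜 : ℕ → Submodule R A)
  [GradedAlgebra 𝒜] [CommRing B] [Algebra R B] (ℬ : ℕ → Submodule R B) [GradedAlgebra ℬ]
  (d : ℕ) (φ : B →ₐ[R] A)
  (hdeg : ∀ n : ℕ, Submodule.map φ.toLinearMap (ℬ n) = 𝒜 (n * d))

theorem multiset_prod_mem (s : Finset A) (n : A → ℕ) (hn : ∀ i ∈ s, i ∈ 𝒜 (n i))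
    (l : Multiset A) (hl : ∀ i ∈ l, i ∈ s) : l.prod ∈ 𝒜 (l.map n).sum := by
  induction l using Multiset.induction_on with
  | empty => simpa using SetLike.one_mem_graded 𝒜
  | cons a l ih =>
    rw [Multiset.prod_cons, Multiset.map_cons, Multiset.sum_cons]
    exact SetLike.mul_mem_graded (hn a (hl a (Multiset.mem_cons_self a l)))
      (ih fun i hi => hl i (Multiset.mem_cons_of_mem hi))

include hdeg in
theorem exists_of_dvd {a : A} {j : ℕ} (ha : a ∈ 𝒜 j) (hj : d ∣ j) : ∃ b : B, φ b = a := by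
  obtain ⟨k, rfl⟩ := hj
  have hx : a ∈ 𝒜 (k * d) := by rw [mul_comm]; exact ha
  obtain ⟨b, -, hb⟩ := exists_preimage 𝒜 ℬ d φ hdeg hx
  exact ⟨b, hb⟩

include hdeg in
theorem finiteType (hd : 0 < d) [Algebra.FiniteType (𝒜 0) A] (hφ : Function.Injective φ) :
    Algebra.FiniteType (ℬ 0) B := by
  classical
  obtain ⟨s, hs, hhom⟩ := GradedAlgebra.exists_finset_adjoin_eq_top_and_homogeneous 𝒜
  choose! n hn using hhom
  let σ : A → B := Function.invFun φ
  have hσ : ∀ {a : A} {j : ℕ}, a ∈ 𝒜 j → d ∣ j → φ (σ a) = a := fun ha hj =>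
    Function.invFun_eq (exists_of_dvd 𝒜 ℬ d φ hdeg ha hj)
  let T : Finset B := ((Multiset.powerset (d • s.val)).map (fun l => σ l.prod)).toFinset
  have hT : ∀ l : Multiset A, l ≤ d • s.val → σ l.prod ∈ (T : Set B) := by
    intro l hl
    simp only [T, Finset.mem_coe, Multiset.mem_toFinset, Multiset.mem_map, Multiset.mem_powerset]
    exact ⟨l, hl, rfl⟩
  set D : Subalgebra (ℬ 0) B := Algebra.adjoin (ℬ 0) (T : Set B) with hD
  -- Claim 1
  have claim1 : ∀ N : ℕ, ∀ l : Multiset A, Multiset.card l = N → (∀ i ∈ l, i ∈ s) →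
      d ∣ (l.map n).sum → ∃ b ∈ D, φ b = l.prod := by
    intro N
    induction N using Nat.strong_induction_on with
    | _ N ih =>
      intro l hN hl hdl
      have hmem := multiset_prod_mem 𝒜 s n hn l hl
      by_cases hle : l ≤ d • s.val
      · exact ⟨σ l.prod, Algebra.subset_adjoin (hT l hle), hσ hmem hdl⟩
      · rw [Multiset.le_iff_count] at hle
        push Not at hle
        obtain ⟨i, hi⟩ := hle
        rw [Multiset.count_nsmul] at hi
        have hil : i ∈ l := by
          rw [← Multiset.count_pos]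
          exact lt_of_le_of_lt (Nat.zero_le _) hi
        have his : i ∈ s := hl i hil
        have hc1 : Multiset.count i s.val = 1 := Multiset.count_eq_one_of_mem s.nodup his
        rw [hc1, mul_one] at hi
        have hrep : Multiset.replicate d i ≤ l := Multiset.le_count_iff_replicate_le.1 hi.le
        set l' := l - Multiset.replicate d i with hl'
        have hl_eq : l = Multiset.replicate d i + l' := by
          rw [hl', add_tsub_cancel_of_le hrep]
        have hcard : Multiset.card l' < N := by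
          rw [← hN, hl_eq, Multiset.card_add, Multiset.card_replicate]
          omega
        have hl's : ∀ x ∈ l', x ∈ s := fun x hx =>
          hl x (Multiset.mem_of_le (by rw [hl']; exact tsub_le_self) hx)
        have hdeg' : d ∣ (l'.map n).sum := by
          rw [hl_eq, Multiset.map_add, Multiset.sum_add, Multiset.map_replicate,
            Multiset.sum_replicate, smul_eq_mul] at hdl
          exact (Nat.dvd_add_right (Dvd.intro _ rfl)).1 hdl
        obtain ⟨b', hb'D, hb'⟩ := ih _ hcard l' rfl hl's hdeg'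
        have hrep_le : Multiset.replicate d i ≤ d • s.val := by
          rw [← Multiset.nsmul_singleton]
          exact nsmul_le_nsmul_right (Multiset.singleton_le.2 his) d
        have hpow : (Multiset.replicate d i).prod = i ^ d := Multiset.prod_replicate d i
        have hipow : i ^ d ∈ 𝒜 (d • n i) := SetLike.pow_mem_graded d (hn i his)
        refine ⟨σ (Multiset.replicate d i).prod * b', D.mul_mem
          (Algebra.subset_adjoin (hT _ hrep_le)) hb'D, ?_⟩
        rw [map_mul, hb', hl_eq, Multiset.prod_add, hpow,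
          hσ hipow (Dvd.intro _ rfl)]
  -- Claim 2
  have claim2 : ∀ a : A, ∃ b ∈ D, φ b = π 𝒜 d a := by
    intro a
    have ha : a ∈ Subalgebra.toSubmodule (Algebra.adjoin (𝒜 0) (s : Set A)) := by
      rw [hs]; trivial
    rw [Algebra.adjoin_eq_span] at ha
    refine Submodule.span_induction (p := fun a _ => ∃ b ∈ D, φ b = π 𝒜 d a) ?_ ?_ ?_ ?_ ha
    · intro m hm
      obtain ⟨l, hl, rfl⟩ := Submonoid.exists_multiset_of_mem_closure hm
      have hmem := multiset_prod_mem 𝒜 s n hn l hl
      by_cases hdl : d ∣ (l.map n).sum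
      · rw [π_of_dvd 𝒜 d hmem hdl]
        exact claim1 _ l rfl hl hdl
      · rw [π_of_not_dvd 𝒜 d hmem hdl]
        exact ⟨0, D.zero_mem, map_zero _⟩
    · exact ⟨0, D.zero_mem, by simp⟩
    · rintro x y _ _ ⟨u, hu, hu'⟩ ⟨v, hv, hv'⟩
      exact ⟨u + v, D.add_mem hu hv, by rw [map_add, map_add, hu', hv']⟩
    · rintro c x _ ⟨u, hu, hu'⟩
      have hc : (c : A) ∈ 𝒜 (0 * d) := by rw [zero_mul]; exact c.2
      obtain ⟨b₀, hb₀, hb₀'⟩ := exists_preimage 𝒜 ℬ d φ hdeg hc
      refine ⟨b₀ * u, D.mul_mem ?_ hu, ?_⟩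
      · exact Subalgebra.algebraMap_mem D (⟨b₀, hb₀⟩ : ℬ 0)
      · have : c • x = φ b₀ * x := by rw [hb₀']; rfl
        rw [this, π_mul 𝒜 ℬ d φ hdeg, map_mul, hu']
  refine ⟨⟨T, eq_top_iff.2 fun b _ => ?_⟩⟩
  obtain ⟨b', hb'D, hb'⟩ := claim2 (φ b)
  rw [π_map 𝒜 ℬ d φ hdeg] at hb'
  rw [← hφ hb']
  exact hb'D

end FT

end Groth.Agent.Helper1.Veronese
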