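import Mathlib
import Groth.Agent.Lib.Helper1.VeryAmple3
import Groth.Agent.Lib.Helper1.AmpleRestr

set_option autoImplicit false
universe u
open CategoryTheory CategoryTheory.Limits AlgebraicGeometry TopologicalSpace Opposite
open scoped HomogeneousIdeal

namespace Groth.Agent.Helper1.VeryAmple

open Groth.Agent.Helper1.HasBase Groth.Agent.Helper1 Groth.Agent.Helper1.AmpleLib

theorem isRelAmple_of_tensorPow {X Y : Scheme.{u}} (f : X ⟶ Y) (L : X.Modules)
    (hL : PicF.IsInvertible L) (n : ℕ) (hn : 0 < n)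
    (h : RelAmple.IsRelAmple f (CohB1.tensorPow L n)) : RelAmple.IsRelAmple f L := by
  refine ⟨h.1, fun V => ?_⟩
  have hLr : PicF.IsInvertible (L.restrict (f ⁻¹ᵁ V.1).ι) :=
    AmpleLib.isInvertible_restrict (f ⁻¹ᵁ V.1).ι hL
  rw [AmpleLib.isAmple_tensorPow_iff hLr n hn]
  exact TwistAmpleOpen.isAmple_of_iso (AmpleLib.restrictTensorPowIso (f ⁻¹ᵁ V.1).ι hL n) (h.2 V)

theorem main5723 {X Y : Scheme.{u}} (f : X ⟶ Y) [QuasiCompact f] (L : X.Modules)
    (hL : PicF.IsInvertible L) (n : ℕ) (hn : 0 < n)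
    (h : RelProj.IsRelVeryAmple f (CohB1.tensorPow L n)) : RelAmple.IsRelAmple f L :=
  isRelAmple_of_tensorPow f L hL n hn (main5721 f _ h)

end Groth.Agent.Helper1.VeryAmple
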