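import Mathlib
import Groth.Agent.Lib.Helper1.VeryAmple2
import Groth.Agent.Lib.Helper1.RP13
import Groth.Agent.Lib.Helper1.SerreCrit

set_option autoImplicit false
universe u
open CategoryTheory CategoryTheory.Limits AlgebraicGeometry TopologicalSpace Opposite
open scoped HomogeneousIdeal

namespace Groth.Agent.Helper1.VeryAmple

open Groth.Agent.Helper1.ProjBC Groth.Agent.Helper1.RP3 Groth.Agent.Helper1.QcCech Groth.Agent.Helper1.RP6
open Groth.Agent.Helper1.LGen Groth.Agent.Helper1.RP7 Groth.Agent.Helper1.RP8 Groth.Agent.Helper1.RP9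
open Groth.Agent.Helper1.RP12 Groth.Agent.Helper1.RP13

theorem main5732 {Y P : Scheme.{u}} (E : Y.Modules) [E.IsQuasicoherent]
    (𝒮 : RelProj.QCGrAlg Y) (j : E ⟶ 𝒮.toModule) (hj : RelProj.IsGrSymAlg E 𝒮 j) (p : P ⟶ Y)
    (chart : ∀ (U : Y.Opens) (hU : IsAffineOpen U), ((p ⁻¹ᵁ U : P.Opens) : Scheme.{u}) ≅ Proj (𝒮.deg U hU))
    (O1 : P.Modules)
    (lam : ∀ (U : Y.Opens) (hU : IsAffineOpen U),
      O1 ⟶ (Scheme.Modules.pushforward (RelProj.emb p chart U hU)).obj (GrTwist.twist (𝒮.deg U hU) 1))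
    (hO1 : RelProj.IsRelTwist 𝒮 p chart 1 O1 lam)
    (φ : E ⟶ (Scheme.Modules.pushforward p).obj O1)
    (hφ : ∀ (U : Y.Opens) (hU : IsAffineOpen U) (e : Γ(E, U))
      (y : ↥(RelProj.emb p chart U hU ⁻¹ᵁ (p ⁻¹ᵁ U))),
      GrTwist.val (V := RelProj.emb p chart U hU ⁻¹ᵁ (p ⁻¹ᵁ U))
          ((lam U hU).app (p ⁻¹ᵁ U) ((φ.app U) e)) y =
        algebraMap (𝒮.presheaf.obj (op U)) (GrTwist.Loc (𝒮.deg U hU) y.1)
          ((j.app U) e : 𝒮.presheaf.obj (op U))) :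
    Epi (((Scheme.Modules.pullbackPushforwardAdjunction p).homEquiv E O1).symm φ) := by
  set ψ := ((Scheme.Modules.pullbackPushforwardAdjunction p).homEquiv E O1).symm φ with hψ
  apply SerreCrit.epi_of_locally_surjective
  intro U' t x hx
  obtain ⟨U, hU, hxU⟩ := exists_affine_mem (p.base x)
  have hx' : x ∈ (RelProj.emb p chart U hU).opensRange := by
    rw [opensRange_emb]; exact hxU
  obtain ⟨y, rfl⟩ := hx'
  obtain ⟨e, he⟩ := exists_j_notMem hj U hU y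
  set a : 𝒮.presheaf.obj (op U) := j.app U e with ha_def
  have ha : a ∈ 𝒮.deg U hU 1 := hj.2 U hU e
  have hb : (1 : 𝒮.presheaf.obj (op U)) ∈ 𝒮.deg U hU 0 := SetLike.GradedOne.one_mem
  have hm : ((1 : ℕ) : ℤ) = ((0 : ℕ) : ℤ) + 1 := by simp
  set WA : P.Opens := RelProj.emb p chart U hU ''ᵁ Proj.basicOpen (𝒮.deg U hU) a with hWAdef
  have hWA : WA ≤ p ⁻¹ᵁ U := by
    rw [← opensRange_emb (p := p) (chart := chart) U hU]
    exact (RelProj.emb p chart U hU).image_le_opensRange _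
  have hmemA : ∀ z : ProjectiveSpectrum (𝒮.deg U hU),
      (RelProj.emb p chart U hU).base z ∈ WA → z ∈ Proj.basicOpen (𝒮.deg U hU) a := by
    rintro z ⟨w, hw, hwz⟩
    have : w = z := (RelProj.emb p chart U hU).isOpenEmbedding.injective hwz
    subst this
    exact hw
  have hnv : ∀ z : ProjectiveSpectrum (𝒮.deg U hU), (RelProj.emb p chart U hU).base z ∈ WA →
      a ∉ z.asHomogeneousIdeal ∧ (1 : 𝒮.presheaf.obj (op U)) ∉ z.asHomogeneousIdeal :=
    fun z hz => ⟨(Proj.mem_basicOpen _ a z).1 (hmemA z hz), GrTwTens.one_not_mem _ z⟩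
  let τ : Γ(O1, WA) := res O1 hWA (show Γ(O1, p ⁻¹ᵁ U) from φ.app U e)
  have ht : (lam U hU).app WA τ = GrTwTriv.fracSec (𝒮.deg U hU) ha hb hm
      (RelProj.emb p chart U hU ⁻¹ᵁ WA) (fun x => (hnv x.1 x.2).2) := by
    apply val_ext
    rintro ⟨z, hz⟩
    refine (rd_res (lam := lam) U hU hWA _ z hz).trans ?_
    refine (hφ U hU e ⟨z, hWA hz⟩).trans ?_
    exact (Localization.mk_one_eq_algebraMap _).symm
  have hgen : IsGen O1 WA τ := isGen_of_lam_eq_frac hO1 U hU hWA τ ha hb hm hnv ht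
  have hyWA : (RelProj.emb p chart U hU).base y ∈ WA :=
    ⟨y, (Proj.mem_basicOpen _ a y).2 he, rfl⟩
  refine ⟨U' ⊓ WA, inf_le_left, ⟨hx, hyWA⟩, ?_⟩
  obtain ⟨r, hr⟩ := (hgen (U' ⊓ WA) inf_le_right).2 (res O1 inf_le_left t)
  have hr' : r • res O1 (inf_le_right : U' ⊓ WA ≤ WA) τ = res O1 (inf_le_left : U' ⊓ WA ≤ U') t := hr
  refine ⟨r • res _ (inf_le_right.trans hWA : U' ⊓ WA ≤ p ⁻¹ᵁ U) (PullSec.σ p E U e), ?_⟩
  rw [Scheme.Modules.Hom.app_smul, ← ModGlue.app_res, hψ, adjunct_σ, ← hr', res_res]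

end Groth.Agent.Helper1.VeryAmple
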