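import Mathlib
import Groth.Agent.Lib.Helper1.ProjBiprod
import Groth.Agent.Lib.Helper1.CoprodMod
import Groth.Agent.Lib.Helper1.SymLift
import Groth.Agent.Lib.Helper1.RP13
import Groth.Agent.S8258
import Groth.Agent.S8284
import Groth.Agent.S8262

set_option autoImplicit false
universe u

open CategoryTheory CategoryTheory.Limits AlgebraicGeometry TopologicalSpace Opposite
open scoped HomogeneousIdeal

namespace Groth.Agent.Helper1.VeryAmpleCoprod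

open Groth.Agent.Helper1.SymAlg

set_option synthInstance.maxHeartbeats 400000
set_option maxHeartbeats 1600000

/-- very ampleness is preserved by precomposition with an immersion -/
theorem precomp {X' X Y : Scheme.{u}} (g : X' ⟶ X) [IsImmersion g] (f : X ⟶ Y) (L : X.Modules)
    (h : RelProj.IsRelVeryAmple f L) :
    RelProj.IsRelVeryAmple (g ≫ f) ((Scheme.Modules.pullback g).obj L) := by
  obtain ⟨E, hE, 𝒮, j, hj, P, p, chart, hP, O1, lam, hO1, i, hi, hip, ⟨e⟩⟩ := h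
  refine ⟨E, hE, 𝒮, j, hj, P, p, chart, hP, O1, lam, hO1, g ≫ i, inferInstance, ?_, ⟨?_⟩⟩
  · rw [Category.assoc, hip]
  · exact (Scheme.Modules.pullback g).mapIso e ≪≫ (Scheme.Modules.pullbackComp g i).app O1


section Data
variable {Y : Scheme.{u}} {E M : Y.Modules} [E.IsQuasicoherent] [M.IsQuasicoherent]
  {𝒮E : RelProj.QCGrAlg Y} {jE : E ⟶ 𝒮E.toModule} (hjE : RelProj.IsGrSymAlg E 𝒮E jE)
  (pr : M ⟶ E) (hpr : ∀ (U : Y.Opens) (_ : IsAffineOpen U) (e : Γ(E, U)), ∃ w : Γ(M, U), pr.app U w = e)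

omit [E.IsQuasicoherent] [M.IsQuasicoherent] in
include hjE in
theorem hu1 (U : Y.Opens) (hU : IsAffineOpen U) (x : Γ(M, U)) :
    ((pr ≫ jE).app U) x ∈ 𝒮E.deg U hU 1 := hjE.2 U hU (pr.app U x)

omit [M.IsQuasicoherent] in
include hjE hpr in
theorem husurj (U : Y.Opens) (hU : IsAffineOpen U) (s : 𝒮E.presheaf.obj (op U))
    (hs : s ∈ 𝒮E.deg U hU 1) : ∃ x : Γ(M, U), ((pr ≫ jE).app U) x = s := by
  obtain ⟨e, rfl⟩ := exists_eq_j_of_mem_deg_one hjE U hU s hs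
  obtain ⟨w, rfl⟩ := hpr U hU e
  exact ⟨w, rfl⟩

end Data

/-- the (⇐) direction of **S12477** -/
theorem of_pieces {X X' Y : Scheme.{u}} (f'' : X ⨿ X' ⟶ Y) (L'' : (X ⨿ X').Modules)
    (h1 : RelProj.IsRelVeryAmple (coprod.inl ≫ f'')
      ((Scheme.Modules.pullback (coprod.inl : X ⟶ X ⨿ X')).obj L''))
    (h2 : RelProj.IsRelVeryAmple (coprod.inr ≫ f'')
      ((Scheme.Modules.pullback (coprod.inr : X' ⟶ X ⨿ X')).obj L'')) :
    RelProj.IsRelVeryAmple f'' L'' := by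
  obtain ⟨E, hE, 𝒮E, jE, hjE, PE, pE, chartE, hPE, O1E, lamE, hO1E, iE, hiE, hipE, ⟨eE⟩⟩ := h1
  obtain ⟨F, hF, 𝒮F, jF, hjF, PF, pF, chartF, hPF, O1F, lamF, hO1F, iF, hiF, hipF, ⟨eF⟩⟩ := h2
  have : E.IsQuasicoherent := hE
  have : F.IsQuasicoherent := hF
  have hM : (E ⊞ F).IsQuasicoherent := QcAbel.isQuasicoherent_biprod E F
  have hprE : ∀ (U : Y.Opens) (_ : IsAffineOpen U) (e : Γ(E, U)),
      ∃ w : Γ(E ⊞ F, U), (biprod.fst : E ⊞ F ⟶ E).app U w = e :=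
    fun U _ e => ⟨(biprod.inl : E ⟶ E ⊞ F).app U e, fst_inl E F U e⟩
  have hprF : ∀ (U : Y.Opens) (_ : IsAffineOpen U) (e : Γ(F, U)),
      ∃ w : Γ(E ⊞ F, U), (biprod.snd : E ⊞ F ⟶ F).app U w = e :=
    fun U _ e => ⟨(biprod.inr : F ⟶ E ⊞ F).app U e, snd_inr E F U e⟩
  have hπE := isGradedHom_lift (E ⊞ F) 𝒮E (biprod.fst ≫ jE) (hu1 hjE biprod.fst)
  have hirrE := hirr_lift (E ⊞ F) 𝒮E (biprod.fst ≫ jE) (hu1 hjE biprod.fst)
    (isGenDegOne_of_isGrSymAlg hjE) (husurj hjE biprod.fst hprE)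
  have hπF := isGradedHom_lift (E ⊞ F) 𝒮F (biprod.snd ≫ jF) (hu1 hjF biprod.snd)
  have hirrF := hirr_lift (E ⊞ F) 𝒮F (biprod.snd ≫ jF) (hu1 hjF biprod.snd)
    (isGenDegOne_of_isGrSymAlg hjF) (husurj hjF biprod.snd hprF)
  obtain ⟨P, p, chart, hP⟩ := Groth.Agent.S8258.result (symGr (E ⊞ F))
  obtain ⟨O1, lam, hO1⟩ := Groth.Agent.S8284.result (symGr (E ⊞ F)) p chart hP 1
  obtain ⟨⟨hE', hhE, -⟩, hcE⟩ := Groth.Agent.S8262.result (𝒜 := symGr (E ⊞ F)) (ℬ := 𝒮E)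
    (lift (E ⊞ F) 𝒮E.toQCAlg (biprod.fst ≫ jE)) hπE hirrE p pE chart chartE hP hPE
  obtain ⟨⟨hF', hhF, -⟩, hcF⟩ := Groth.Agent.S8262.result (𝒜 := symGr (E ⊞ F)) (ℬ := 𝒮F)
    (lift (E ⊞ F) 𝒮F.toQCAlg (biprod.snd ≫ jF)) hπF hirrF p pF chart chartF hP hPF
  have hci : IsClosedImmersion (coprod.desc hE' hF') :=
    ProjBiprod.main5734 E F hE hF 𝒮E 𝒮F (symGr (E ⊞ F)) jE hjE jF hjF (jGr (E ⊞ F))
      (isGrSymAlg (E ⊞ F)) _ hπE (j_lift (E ⊞ F) 𝒮E.toQCAlg (biprod.fst ≫ jE)) _ hπF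
      (j_lift (E ⊞ F) 𝒮F.toQCAlg (biprod.snd ≫ jF)) hirrE hirrF p pE pF chart chartE chartF
      hP hPE hPF hE' hhE hF' hhF
  obtain ⟨tE⟩ := RP13.nonempty_pullback_iso (isGenDegOne (E ⊞ F)) hP hPE hhE hO1 hO1E
  obtain ⟨tF⟩ := RP13.nonempty_pullback_iso (isGenDegOne (E ⊞ F)) hP hPF hhF hO1 hO1F
  have himm : IsImmersion (coprod.map iE iF) := IsZariskiLocalAtTarget.coprodMap iE iF hiE hiF
  set i'' : X ⨿ X' ⟶ P := coprod.map iE iF ≫ coprod.desc hE' hF' with hi''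
  have hl : coprod.inl ≫ i'' = iE ≫ hE' := by
    rw [hi'', coprod.inl_map_assoc, coprod.inl_desc]
  have hr : coprod.inr ≫ i'' = iF ≫ hF' := by
    rw [hi'', coprod.inr_map_assoc, coprod.inr_desc]
  refine ⟨E ⊞ F, hM, symGr (E ⊞ F), jGr (E ⊞ F), isGrSymAlg (E ⊞ F), P, p, chart, hP, O1, lam, hO1,
    i'', inferInstance, ?_, ?_⟩
  · apply coprod.hom_ext
    · rw [← Category.assoc, hl, Category.assoc, hcE hE' hhE, hipE]
    · rw [← Category.assoc, hr, Category.assoc, hcF hF' hhF, hipF]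
  · have hsup : (coprod.inl : X ⟶ X ⨿ X').opensRange ⊔ (coprod.inr : X' ⟶ X ⨿ X').opensRange = ⊤ := by
      apply Opens.ext
      exact (isCompl_range_inl_inr X X').sup_eq_top
    have hinf : (coprod.inl : X ⟶ X ⨿ X').opensRange ⊓ (coprod.inr : X' ⟶ X ⨿ X').opensRange = ⊥ := by
      apply Opens.ext
      exact (isCompl_range_inl_inr X X').inf_eq_bot
    refine CoprodMod.nonempty_iso_of_restrict coprod.inl coprod.inr hsup hinf _ _ ?_ ?_
    · exact (Scheme.Modules.restrictFunctorIsoPullback _).app L'' ≪≫ eE ≪≫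
        (Scheme.Modules.pullback iE).mapIso tE.symm ≪≫
        (Scheme.Modules.pullbackComp iE hE').app O1 ≪≫
        (Scheme.Modules.pullbackCongr hl.symm).app O1 ≪≫
        ((Scheme.Modules.pullbackComp coprod.inl i'').app O1).symm ≪≫
        ((Scheme.Modules.restrictFunctorIsoPullback _).app _).symm
    · exact (Scheme.Modules.restrictFunctorIsoPullback _).app L'' ≪≫ eF ≪≫
        (Scheme.Modules.pullback iF).mapIso tF.symm ≪≫
        (Scheme.Modules.pullbackComp iF hF').app O1 ≪≫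
        (Scheme.Modules.pullbackCongr hr.symm).app O1 ≪≫
        ((Scheme.Modules.pullbackComp coprod.inr i'').app O1).symm ≪≫
        ((Scheme.Modules.restrictFunctorIsoPullback _).app _).symm

/-- **S12477** -/
theorem main12477 {X X' Y : Scheme.{u}} (f'' : X ⨿ X' ⟶ Y) (L'' : (X ⨿ X').Modules) :
    RelProj.IsRelVeryAmple f'' L'' ↔
      RelProj.IsRelVeryAmple (coprod.inl ≫ f'')
          ((Scheme.Modules.pullback (coprod.inl : X ⟶ X ⨿ X')).obj L'') ∧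
        RelProj.IsRelVeryAmple (coprod.inr ≫ f'')
          ((Scheme.Modules.pullback (coprod.inr : X' ⟶ X ⨿ X')).obj L'') :=
  ⟨fun h => ⟨precomp _ _ _ h, precomp _ _ _ h⟩, fun h => of_pieces f'' L'' h.1 h.2⟩

end Groth.Agent.Helper1.VeryAmpleCoprod
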