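import Mathlib
import Groth.Agent.Lib.Helper1.Big4

/-!
# The volume of an invertible module: positivity, monotonicity, homogeneity (helper1)
-/

set_option autoImplicit false
universe u
open CategoryTheory CategoryTheory.Limits AlgebraicGeometry TopologicalSpace Opposite
open scoped ENNReal

namespace Groth.Agent.Helper1.Vol

open Groth.Agent.Helper1 Groth.Agent.Helper1.Euler Groth.Agent.Helper1.Dv
open Groth.Agent.Helper1.FinLen Groth.Agent.Helper1.TwForm Groth.Agent.Helper1.Curve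
open Groth.Agent.Helper1.Snap Groth.Agent.Helper1.SnapPos Groth.Agent.Helper1.FGAInt
open Groth.Agent.Helper1.FGAPos Groth.Agent.Helper1.Big
open Groth.Agent.Lib.Helper4

variable (k : Type u) [Field k] (X : Scheme.{u}) [X.Over (Spec (CommRingCat.of k))]
  [IsProper (X ↘ (Spec (CommRingCat.of k)))]

/-- positive volume forces maximal growth of the sections of all large powers -/
theorem growth_of_vol_pos [IsIntegral X]
    (hproj : ∃ A : X.Modules, CohB1.IsAmple A) (d : ℕ) (hd : topologicalKrullDim X = d)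
    (L : X.Modules) (hL : PicF.IsInvertible L)
    (h : 0 < Filter.limsup (fun m : ℕ =>
      (Module.finrank k (Coh.HH X (CohB1.tensorPow L m) 0) : ℝ≥0∞) / (m : ℝ≥0∞) ^ d)
        Filter.atTop) :
    ∃ a' m₁ : ℕ, 0 < a' ∧ ∀ j : ℕ, m₁ ≤ j →
      j ^ d ≤ a' * Module.finrank k (Coh.HH X (CohB1.tensorPow L j) 0) := by
  classical
  obtain ⟨A, hA⟩ := hproj
  have hd' : topologicalKrullDim X = ((d : ℕ) : WithBot ℕ∞) := hd
  obtain ⟨b, hb0, hb⟩ := exists_between h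
  have hfr := Filter.frequently_lt_of_lt_limsup (by isBoundedDefault) hb
  obtain ⟨n, hn⟩ := ENNReal.exists_nat_mul_gt hb0.ne' ENNReal.one_ne_top
  have hfreq : ∀ N₀ : ℕ, ∃ μ : ℕ, N₀ ≤ μ ∧ 1 ≤ μ ∧
      μ ^ d ≤ n * Module.finrank k (Coh.HH X (CohB1.tensorPow L (1 * μ)) 0) := by
    intro N₀
    obtain ⟨μ, hμ, hlt⟩ := Filter.frequently_atTop.1 hfr (max N₀ 1)
    refine ⟨μ, le_trans (le_max_left _ _) hμ, le_trans (le_max_right _ _) hμ, ?_⟩
    rw [one_mul]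
    have hμ1 : 1 ≤ μ := le_trans (le_max_right _ _) hμ
    have hμ0 : ((μ : ℝ≥0∞)) ^ d ≠ 0 := by
      apply pow_ne_zero
      exact_mod_cast (by omega : μ ≠ 0)
    have hμt : ((μ : ℝ≥0∞)) ^ d ≠ ⊤ := ENNReal.pow_ne_top (ENNReal.natCast_ne_top μ)
    have h1 : b * (μ : ℝ≥0∞) ^ d <
        (Module.finrank k (Coh.HH X (CohB1.tensorPow L μ) 0) : ℝ≥0∞) :=
      (ENNReal.lt_div_iff_mul_lt (Or.inl hμ0) (Or.inl hμt)).1 hlt
    have h2 : (μ : ℝ≥0∞) ^ d ≤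
        (n : ℝ≥0∞) * (Module.finrank k (Coh.HH X (CohB1.tensorPow L μ) 0) : ℝ≥0∞) := by
      calc (μ : ℝ≥0∞) ^ d = 1 * (μ : ℝ≥0∞) ^ d := (one_mul _).symm
        _ ≤ ((n : ℝ≥0∞) * b) * (μ : ℝ≥0∞) ^ d := by gcongr
        _ = (n : ℝ≥0∞) * (b * (μ : ℝ≥0∞) ^ d) := mul_assoc _ _ _
        _ ≤ (n : ℝ≥0∞) * (Module.finrank k (Coh.HH X (CohB1.tensorPow L μ) 0) : ℝ≥0∞) := by
          gcongr
    exact_mod_cast h2
  obtain ⟨t₁, μ, φ, hμ, hφ⟩ :=
    Big.exists_mono_ample_of_frequently k X d hd' A hA L hL 1 n Nat.one_pos hfreq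
  haveI := hφ
  have hA' : CohB1.IsAmple (CohB1.tensorPow A (t₁ + 1)) :=
    (AmpleLib.isAmple_tensorPow_iff hA.1 (t₁ + 1) (Nat.succ_pos t₁)).1 hA
  exact Big.growth_all_of_mono_ample k X d hd' (CohB1.tensorPow A (t₁ + 1)) hA' L hL (1 * μ)
    (by omega) φ

/-- bigness is positivity of the volume -/
theorem big_iff_vol_pos [IsIntegral X]
    (hproj : ∃ A : X.Modules, CohB1.IsAmple A) (d : ℕ) (hd : topologicalKrullDim X = d)
    (L : X.Modules) (hL : PicF.IsInvertible L) :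
    0 < Filter.liminf (fun m : ℕ => (Module.finrank k (Coh.HH X (CohB1.tensorPow L m) 0) : ℝ≥0∞) /
        (m : ℝ≥0∞) ^ d) Filter.atTop ↔
      0 < Filter.limsup (fun m : ℕ => (Module.finrank k (Coh.HH X (CohB1.tensorPow L m) 0) : ℝ≥0∞) /
        (m : ℝ≥0∞) ^ d) Filter.atTop := by
  classical
  constructor
  · intro h
    exact lt_of_lt_of_le h Filter.liminf_le_limsup
  · intro h
    obtain ⟨a', m₁, ha', hgr⟩ := growth_of_vol_pos k X hproj d hd L hL h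
    have ha0 : (0 : ℝ≥0∞) < ((a' : ℝ≥0∞))⁻¹ := ENNReal.inv_pos.2 (ENNReal.natCast_ne_top a')
    refine lt_of_lt_of_le ha0 (Filter.le_liminf_of_le (by isBoundedDefault) ?_)
    refine Filter.eventually_atTop.2 ⟨max m₁ 1, fun j hj => ?_⟩
    have hj1 : 1 ≤ j := le_trans (le_max_right _ _) hj
    have hjm : m₁ ≤ j := le_trans (le_max_left _ _) hj
    have hj0 : ((j : ℝ≥0∞)) ^ d ≠ 0 := by
      apply pow_ne_zero
      exact_mod_cast (by omega : j ≠ 0)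
    have hjt : ((j : ℝ≥0∞)) ^ d ≠ ⊤ := ENNReal.pow_ne_top (ENNReal.natCast_ne_top j)
    rw [ENNReal.le_div_iff_mul_le (Or.inl hj0) (Or.inl hjt)]
    have h3 : ((j : ℝ≥0∞)) ^ d ≤
        (a' : ℝ≥0∞) * (Module.finrank k (Coh.HH X (CohB1.tensorPow L j) 0) : ℝ≥0∞) := by
      exact_mod_cast hgr j hjm
    have ha'0 : (a' : ℝ≥0∞) ≠ 0 := by exact_mod_cast ha'.ne'
    calc ((a' : ℝ≥0∞))⁻¹ * (j : ℝ≥0∞) ^ d
        ≤ ((a' : ℝ≥0∞))⁻¹ *
          ((a' : ℝ≥0∞) * (Module.finrank k (Coh.HH X (CohB1.tensorPow L j) 0) : ℝ≥0∞)) := by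
          gcongr
      _ = (Module.finrank k (Coh.HH X (CohB1.tensorPow L j) 0) : ℝ≥0∞) := by
          rw [← mul_assoc, ENNReal.inv_mul_cancel ha'0 (ENNReal.natCast_ne_top a'), one_mul]

/-- the volume increases in effective directions -/
theorem vol_le_tensor_effective [IsIntegral X] (d : ℕ)
    (L : X.Modules) (hL : PicF.IsInvertible L)
    (E : X.Modules) (hE : PicF.IsInvertible E) (s : Coh.structureModule X ⟶ E) (hs : s ≠ 0) :
    Filter.limsup (fun m : ℕ => (Module.finrank k (Coh.HH X (CohB1.tensorPow L m) 0) : ℝ≥0∞) /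
        (m : ℝ≥0∞) ^ d) Filter.atTop ≤
      Filter.limsup (fun m : ℕ => (Module.finrank k (Coh.HH X (CohB1.tensorPow (CohB1.tensorMod L E) m) 0) : ℝ≥0∞) /
        (m : ℝ≥0∞) ^ d) Filter.atTop := by
  classical
  haveI : AlgebraicGeometry.IsNoetherian X := isNoetherian_of_proper k X
  have hOi : PicF.IsInvertible (Coh.structureModule X) := GenLoc.isInvertible_O
  have hLE : PicF.IsInvertible (CohB1.tensorMod L E) := isInvertible_tensorMod hL hE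
  have hsm : Mono s := mono_of_ne_zero hOi hE s hs
  haveI := hsm
  let f1 : CohB1.tensorMod L (Coh.structureModule X) ⟶ CohB1.tensorMod L E :=
    (DCoh.tensorBi.obj L).map s
  have hf1 : Mono f1 := mono_tensor_left L hL s
  let e0 : CohB1.tensorMod L (Coh.structureModule X) ≅ L :=
    Groth.Agent.Lib.Helper5.LTenFlf.tensorUnitIso L
  have hτ : Mono (e0.inv ≫ f1) := mono_comp' _ (mono_iso_inv e0) f1 hf1
  haveI := hτ
  refine Filter.limsup_le_limsup (Filter.Eventually.of_forall fun m => ?_)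
    (by isBoundedDefault) (by isBoundedDefault)
  obtain ⟨φ, hφ⟩ := exists_mono_tensorPow hL hLE (e0.inv ≫ f1) m
  have hc : Coh.IsCoh (CohB1.tensorPow (CohB1.tensorMod L E) m) :=
    InvQc.isCoh_of_isInvertible _ (isInvertible_tensorPow hLE m)
  have h2 := finrank_HH0_le_of_mono' k X hc φ hφ
  show (Module.finrank k (Coh.HH X (CohB1.tensorPow L m) 0) : ℝ≥0∞) / (m : ℝ≥0∞) ^ d ≤
    (Module.finrank k (Coh.HH X (CohB1.tensorPow (CohB1.tensorMod L E) m) 0) : ℝ≥0∞) /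
      (m : ℝ≥0∞) ^ d
  apply ENNReal.div_le_div_right
  exact_mod_cast h2

/-- a nonzero section of `L^r` embeds `L^j` into `L^(j+r)` -/
theorem h0_le_add [IsIntegral X] (L : X.Modules) (hL : PicF.IsInvertible L) (j r : ℕ)
    (hr : Nontrivial (Coh.HH X (CohB1.tensorPow L r) 0)) :
    Module.finrank k (Coh.HH X (CohB1.tensorPow L j) 0) ≤
      Module.finrank k (Coh.HH X (CohB1.tensorPow L (j + r)) 0) := by
  classical
  haveI : AlgebraicGeometry.IsNoetherian X := isNoetherian_of_proper k X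
  have hOi : PicF.IsInvertible (Coh.structureModule X) := GenLoc.isInvertible_O
  obtain ⟨x, hx⟩ := exists_ne (0 : Coh.HH X (CohB1.tensorPow L r) 0)
  obtain ⟨s, hs⟩ := exists_section_of_HH0_ne (CohB1.tensorPow L r) x hx
  have hLr := isInvertible_tensorPow hL r
  have hLj := isInvertible_tensorPow hL j
  have hsm : Mono s := mono_of_ne_zero hOi hLr s hs
  haveI := hsm
  let f1 : CohB1.tensorMod (CohB1.tensorPow L j) (Coh.structureModule X) ⟶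
      CohB1.tensorMod (CohB1.tensorPow L j) (CohB1.tensorPow L r) :=
    (DCoh.tensorBi.obj (CohB1.tensorPow L j)).map s
  have hf1 : Mono f1 := mono_tensor_left _ hLj s
  let e0 : CohB1.tensorMod (CohB1.tensorPow L j) (Coh.structureModule X) ≅ CohB1.tensorPow L j :=
    Groth.Agent.Lib.Helper5.LTenFlf.tensorUnitIso _
  let e1 := powAddIso hL j r
  have hτ : Mono (e0.inv ≫ f1 ≫ e1.hom) :=
    mono_comp' _ (mono_iso_inv e0) _ (mono_comp' f1 hf1 _ (mono_iso_hom e1))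
  have hc : Coh.IsCoh (CohB1.tensorPow L (j + r)) :=
    InvQc.isCoh_of_isInvertible _ (isInvertible_tensorPow hL (j + r))
  exact finrank_HH0_le_of_mono' k X hc _ hτ

/-- a sequence of constants tending to one -/
theorem tendsto_c (K d : ℕ) :
    Filter.Tendsto (fun j : ℕ => (1 + (K : ℝ≥0∞) * ((j : ℝ≥0∞))⁻¹) ^ d) Filter.atTop (nhds 1) := by
  have h1 := ENNReal.tendsto_inv_nat_nhds_zero
  have h2 := ENNReal.Tendsto.const_mul (a := (K : ℝ≥0∞)) h1 (Or.inr (ENNReal.natCast_ne_top K))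
  have h3 := (tendsto_const_nhds (x := (1 : ℝ≥0∞)) (f := Filter.atTop (α := ℕ))).add h2
  have h4 := ENNReal.Tendsto.pow (n := d) h3
  simpa using h4

/-- the comparison of a quotient with a quotient at a nearby index -/
theorem quot_le (d j n K hj hn : ℕ) (hj1 : 1 ≤ j) (hjn : j ≤ n) (hnK : n ≤ j + K) (hh : hj ≤ hn) :
    (hj : ℝ≥0∞) / (j : ℝ≥0∞) ^ d ≤
      (1 + (K : ℝ≥0∞) * ((j : ℝ≥0∞))⁻¹) ^ d * ((hn : ℝ≥0∞) / (n : ℝ≥0∞) ^ d) := by
  have hj0' : (j : ℝ≥0∞) ≠ 0 := by exact_mod_cast (by omega : j ≠ 0)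
  have hJ0 : ((j : ℝ≥0∞)) ^ d ≠ 0 := pow_ne_zero _ hj0'
  have hJt : ((j : ℝ≥0∞)) ^ d ≠ ⊤ := ENNReal.pow_ne_top (ENNReal.natCast_ne_top j)
  have hD0 : ((n : ℝ≥0∞)) ^ d ≠ 0 := pow_ne_zero _ (by exact_mod_cast (by omega : n ≠ 0))
  have hDt : ((n : ℝ≥0∞)) ^ d ≠ ⊤ := ENNReal.pow_ne_top (ENNReal.natCast_ne_top n)
  have hcJ : (1 + (K : ℝ≥0∞) * ((j : ℝ≥0∞))⁻¹) ^ d * (j : ℝ≥0∞) ^ d = ((j : ℝ≥0∞) + K) ^ d := by
    rw [← mul_pow, add_mul, one_mul, mul_assoc,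
      ENNReal.inv_mul_cancel hj0' (ENNReal.natCast_ne_top j), mul_one]
  have hDJ : ((n : ℝ≥0∞)) ^ d ≤ (1 + (K : ℝ≥0∞) * ((j : ℝ≥0∞))⁻¹) ^ d * (j : ℝ≥0∞) ^ d := by
    rw [hcJ]
    have : (n : ℝ≥0∞) ≤ (j : ℝ≥0∞) + K := by exact_mod_cast hnK
    gcongr
  calc (hj : ℝ≥0∞) / (j : ℝ≥0∞) ^ d ≤ (hn : ℝ≥0∞) / (j : ℝ≥0∞) ^ d := by
        apply ENNReal.div_le_div_right
        exact_mod_cast hh
    _ ≤ (1 + (K : ℝ≥0∞) * ((j : ℝ≥0∞))⁻¹) ^ d * ((hn : ℝ≥0∞) / (n : ℝ≥0∞) ^ d) := by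
        rw [ENNReal.div_le_iff_le_mul (Or.inl hJ0) (Or.inl hJt)]
        calc (hn : ℝ≥0∞) = (hn : ℝ≥0∞) / (n : ℝ≥0∞) ^ d * (n : ℝ≥0∞) ^ d :=
              (ENNReal.div_mul_cancel hD0 hDt).symm
          _ ≤ (hn : ℝ≥0∞) / (n : ℝ≥0∞) ^ d *
              ((1 + (K : ℝ≥0∞) * ((j : ℝ≥0∞))⁻¹) ^ d * (j : ℝ≥0∞) ^ d) := by gcongr
          _ = (1 + (K : ℝ≥0∞) * ((j : ℝ≥0∞))⁻¹) ^ d * ((hn : ℝ≥0∞) / (n : ℝ≥0∞) ^ d) *
              (j : ℝ≥0∞) ^ d := by ring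

/-- rounding up to a multiple -/
theorem exists_mult (a : ℕ) (ha : 0 < a) (x : ℕ) : ∃ m : ℕ, x ≤ a * m ∧ a * m < x + a := by
  refine ⟨(x + a - 1) / a, ?_, ?_⟩
  · have h1 := Nat.div_add_mod (x + a - 1) a
    have h2 := Nat.mod_lt (x + a - 1) ha
    obtain ⟨y, hy⟩ : ∃ y, y = a * ((x + a - 1) / a) := ⟨_, rfl⟩
    rw [← hy] at h1 ⊢
    omega
  · have h1 := Nat.div_add_mod (x + a - 1) a
    obtain ⟨y, hy⟩ : ∃ y, y = a * ((x + a - 1) / a) := ⟨_, rfl⟩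
    rw [← hy] at h1 ⊢
    omega

end Groth.Agent.Helper1.Vol
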