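import Mathlib
import Groth.Agent.Lib.Helper1.Vol1

/-!
# Homogeneity of the volume (helper1)
-/

set_option autoImplicit false
universe u
open CategoryTheory CategoryTheory.Limits AlgebraicGeometry TopologicalSpace Opposite
open scoped ENNReal

namespace Groth.Agent.Helper1.Vol

open Groth.Agent.Helper1 Groth.Agent.Helper1.Euler Groth.Agent.Helper1.Dv
open Groth.Agent.Helper1.FinLen Groth.Agent.Helper1.TwForm Groth.Agent.Helper1.Curve
open Groth.Agent.Helper1.Snap Groth.Agent.Helper1.SnapPos Groth.Agent.Helper1.FGAInt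
open Groth.Agent.Helper1.FGAPos Groth.Agent.Helper1.Big
open Groth.Agent.Lib.Helper4

variable (k : Type u) [Field k] (X : Scheme.{u}) [X.Over (Spec (CommRingCat.of k))]
  [IsProper (X ↘ (Spec (CommRingCat.of k)))]

/-- the volume along the multiples of `a` -/
theorem limsup_mult_eq [IsIntegral X]
    (hproj : ∃ A : X.Modules, CohB1.IsAmple A) (d : ℕ) (hd : topologicalKrullDim X = d)
    (L : X.Modules) (hL : PicF.IsInvertible L) (a : ℕ) (ha : 0 < a) :
    Filter.limsup (fun m : ℕ =>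
        (Module.finrank k (Coh.HH X (CohB1.tensorPow L (a * m)) 0) : ℝ≥0∞) /
          ((a * m : ℕ) : ℝ≥0∞) ^ d) Filter.atTop =
      Filter.limsup (fun m : ℕ => (Module.finrank k (Coh.HH X (CohB1.tensorPow L m) 0) : ℝ≥0∞) /
        (m : ℝ≥0∞) ^ d) Filter.atTop := by
  classical
  obtain ⟨f, hf⟩ : ∃ f : ℕ → ℝ≥0∞, f = fun m : ℕ =>
      (Module.finrank k (Coh.HH X (CohB1.tensorPow L m) 0) : ℝ≥0∞) / (m : ℝ≥0∞) ^ d := ⟨_, rfl⟩
  have hfa : (fun m : ℕ =>
        (Module.finrank k (Coh.HH X (CohB1.tensorPow L (a * m)) 0) : ℝ≥0∞) /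
          ((a * m : ℕ) : ℝ≥0∞) ^ d) = fun m : ℕ => f (a * m) := by
    rw [hf]
  rw [hfa, ← hf]
  apply le_antisymm
  · have hmap : Filter.map (fun m : ℕ => a * m) Filter.atTop ≤ Filter.atTop :=
      Filter.tendsto_atTop_mono (fun m => Nat.le_mul_of_pos_left m ha) Filter.tendsto_id
    exact Filter.limsup_le_limsup_of_le (u := f) hmap
  · by_cases h0 : Filter.limsup f Filter.atTop = 0
    · rw [h0]; exact zero_le
    · have hpos : 0 < Filter.limsup f Filter.atTop := pos_iff_ne_zero.2 h0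
      rw [hf] at hpos
      obtain ⟨a', m₁, ha', hgr⟩ := growth_of_vol_pos k X hproj d hd L hL hpos
      obtain ⟨r₀, hr₀⟩ : ∃ r₀ : ℕ, r₀ = max m₁ 1 := ⟨_, rfl⟩
      have hnt : ∀ r : ℕ, r₀ ≤ r → Nontrivial (Coh.HH X (CohB1.tensorPow L r) 0) := by
        intro r hr
        have hr1 : 1 ≤ r := le_trans (le_trans (le_max_right _ _) hr₀.ge) hr
        have hrm : m₁ ≤ r := le_trans (le_trans (le_max_left _ _) hr₀.ge) hr
        have h1 := hgr r hrm
        have h2 : 0 < r ^ d := Nat.pow_pos (by omega)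
        have h3 : 0 < Module.finrank k (Coh.HH X (CohB1.tensorPow L r) 0) := by
          rcases Nat.eq_zero_or_pos (Module.finrank k (Coh.HH X (CohB1.tensorPow L r) 0)) with h | h
          · rw [h, mul_zero] at h1; omega
          · exact h
        exact Module.nontrivial_of_finrank_pos (R := k) h3
      choose mf hmf using fun j : ℕ => exists_mult a ha (j + r₀)
      obtain ⟨K, hK⟩ : ∃ K : ℕ, K = r₀ + a := ⟨_, rfl⟩
      have hkey : ∀ j : ℕ, 1 ≤ j →
          f j ≤ (1 + (K : ℝ≥0∞) * ((j : ℝ≥0∞))⁻¹) ^ d * f (a * mf j) := by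
        intro j hj
        obtain ⟨h1, h2⟩ := hmf j
        have hq : a * mf j = j + (a * mf j - j) := by omega
        have hmono := h0_le_add k X L hL j (a * mf j - j) (hnt _ (by omega))
        rw [← hq] at hmono
        rw [hf]
        exact quot_le d j (a * mf j) K _ _ hj (by omega) (by omega) hmono
      have hc1 : Filter.limsup (fun j : ℕ => (1 + (K : ℝ≥0∞) * ((j : ℝ≥0∞))⁻¹) ^ d)
          Filter.atTop = 1 := (tendsto_c K d).limsup_eq
      have hmap2 : Filter.map mf Filter.atTop ≤ Filter.atTop := by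
        refine Filter.tendsto_atTop_atTop.2 fun b => ⟨a * b, fun j hj => ?_⟩
        obtain ⟨h1, h2⟩ := hmf j
        have h3 : a * b ≤ a * mf j := by omega
        exact Nat.le_of_mul_le_mul_left h3 ha
      calc Filter.limsup f Filter.atTop
          ≤ Filter.limsup ((fun j : ℕ => (1 + (K : ℝ≥0∞) * ((j : ℝ≥0∞))⁻¹) ^ d) *
              (fun j : ℕ => f (a * mf j))) Filter.atTop := by
            refine Filter.limsup_le_limsup (Filter.eventually_atTop.2 ⟨1, fun j hj => hkey j hj⟩)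
              (by isBoundedDefault) (by isBoundedDefault)
        _ ≤ Filter.limsup (fun j : ℕ => (1 + (K : ℝ≥0∞) * ((j : ℝ≥0∞))⁻¹) ^ d) Filter.atTop *
              Filter.limsup (fun j : ℕ => f (a * mf j)) Filter.atTop := by
            apply ENNReal.limsup_mul_le'
            · left; rw [hc1]; exact one_ne_zero
            · left; rw [hc1]; exact ENNReal.one_ne_top
        _ = Filter.limsup (fun j : ℕ => f (a * mf j)) Filter.atTop := by rw [hc1, one_mul]
        _ ≤ Filter.limsup (fun m : ℕ => f (a * m)) Filter.atTop :=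
            Filter.limsup_le_limsup_of_le (u := fun m : ℕ => f (a * m)) hmap2

/-- the volume is homogeneous of degree `d` -/
theorem vol_pow [IsIntegral X]
    (hproj : ∃ A : X.Modules, CohB1.IsAmple A) (d : ℕ) (hd : topologicalKrullDim X = d)
    (L : X.Modules) (hL : PicF.IsInvertible L) (a : ℕ) (ha : 0 < a) :
    Filter.limsup (fun m : ℕ => (Module.finrank k (Coh.HH X (CohB1.tensorPow (CohB1.tensorPow L a) m) 0) : ℝ≥0∞) /
        (m : ℝ≥0∞) ^ d) Filter.atTop =
      (a : ℝ≥0∞) ^ d * Filter.limsup (fun m : ℕ => (Module.finrank k (Coh.HH X (CohB1.tensorPow L m) 0) : ℝ≥0∞) /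
        (m : ℝ≥0∞) ^ d) Filter.atTop := by
  classical
  have ha0 : ((a : ℝ≥0∞)) ^ d ≠ 0 := pow_ne_zero _ (by exact_mod_cast ha.ne')
  have hat : ((a : ℝ≥0∞)) ^ d ≠ ⊤ := ENNReal.pow_ne_top (ENNReal.natCast_ne_top a)
  have hg : (fun m : ℕ => (Module.finrank k (Coh.HH X (CohB1.tensorPow (CohB1.tensorPow L a) m) 0) : ℝ≥0∞) /
        (m : ℝ≥0∞) ^ d) = fun m : ℕ => (a : ℝ≥0∞) ^ d *
          ((Module.finrank k (Coh.HH X (CohB1.tensorPow L (a * m)) 0) : ℝ≥0∞) /
            ((a * m : ℕ) : ℝ≥0∞) ^ d) := by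
    funext m
    have e := (HHFin1.HHequiv k (powPowIso hL a m) 0).finrank_eq
    rw [e, Nat.cast_mul, mul_pow, ← mul_div_assoc, ENNReal.mul_div_mul_left _ _ ha0 hat]
  rw [hg, ENNReal.limsup_const_mul_of_ne_top hat, limsup_mult_eq k X hproj d hd L hL a ha]

end Groth.Agent.Helper1.Vol
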