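import Mathlib
import Groth.Agent.Lib.Helper1.ThmB7
import Groth.Agent.Lib.Helper1.PicV1
import Groth.Agent.Lib.Helper1.InvInv2
import Groth.Agent.Lib.Helper1.CurveAmp3
import Groth.Agent.Lib.Helper1.GenusOne1
import Groth.Agent.Lib.Helper1.CurveLin4
import Groth.Agent.Lib.Helper1.Curve2
import Groth.Agent.Lib.Helper1.Dv16
import Groth.Agent.Lib.Helper1.RkTwoPn
import Groth.Agent.Lib.Helper1.InvFt

/-!
# Line bundles finite in the sense of Weil on a curve are torsion (helper1, S15339)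
-/

set_option autoImplicit false
set_option backward.isDefEq.respectTransparency.types false
set_option synthInstance.maxHeartbeats 400000
set_option linter.unusedSectionVars false
set_option linter.style.haveILetI false
set_option linter.unusedVariables false
universe u
open CategoryTheory CategoryTheory.Limits AlgebraicGeometry TopologicalSpace Opposite

namespace Groth.Agent.Helper1.WeilFin

open Groth.Agent.Helper1 Groth.Agent.Lead.PicCalc Groth.Agent.Lib.Helper4

section Arith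

/-- cancellation in a weighted sum -/
theorem coeff_eq_of_sum_eq (P Q h : ℕ → ℕ) (D i₁ : ℕ) (hi : i₁ < D) (h1 : h i₁ = 1)
    (hoth : ∀ i, i ≠ i₁ → P i * h i = Q i * h i)
    (hsum : ∑ i ∈ Finset.range D, P i * h i = ∑ i ∈ Finset.range D, Q i * h i) :
    P i₁ = Q i₁ := by
  have hm : i₁ ∈ Finset.range D := Finset.mem_range.2 hi
  rw [← Finset.add_sum_erase _ (fun i => P i * h i) hm,
    ← Finset.add_sum_erase _ (fun i => Q i * h i) hm] at hsum
  have h2 : ∑ i ∈ (Finset.range D).erase i₁, P i * h i =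
      ∑ i ∈ (Finset.range D).erase i₁, Q i * h i :=
    Finset.sum_congr rfl (fun i hi' => hoth i (Finset.ne_of_mem_erase hi'))
  simp only [h2, h1, mul_one] at hsum
  exact Nat.add_right_cancel hsum

/-- the sum over `Fin (natDegree+1)` as a sum over a larger range -/
theorem sum_fin_eq_range (P : Polynomial ℕ) (h : ℕ → ℕ) (D : ℕ) (hD : P.natDegree + 1 ≤ D) :
    ∑ i : Fin (P.natDegree + 1), P.coeff ↑i * h ↑i =
      ∑ i ∈ Finset.range D, P.coeff i * h i := by
  rw [Fin.sum_univ_eq_sum_range (fun i => P.coeff i * h i) (P.natDegree + 1)]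
  apply Finset.sum_subset (Finset.range_mono hD)
  intro i _ hi
  have hlt : P.natDegree < i := by
    rw [Finset.mem_range] at hi
    omega
  rw [Polynomial.coeff_eq_zero_of_natDegree_lt hlt, zero_mul]

theorem exists_ne_of_finrank_ne (k : Type*) [Field k] {V : Type*} [AddCommGroup V] [Module k V]
    (h : Module.finrank k V ≠ 0) : ∃ x : V, x ≠ 0 := by
  by_contra hall
  push Not at hall
  haveI : Subsingleton V := ⟨fun a b => (hall a).trans (hall b).symm⟩
  exact h Module.finrank_zero_of_subsingleton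

end Arith

section Cat

variable {X : Scheme.{u}}

theorem isZero_sigma_of_eq_zero (F : X.Modules) (c : ℕ) (hc : c = 0) :
    IsZero (∐ fun _ : Fin c => F) := by
  subst hc
  exact RkTwoPn.isZero_sigma_fin_zero _

theorem nonempty_sigma_of_eq_one (F : X.Modules) (c : ℕ) (hc : c = 1) :
    Nonempty ((∐ fun _ : Fin c => F) ≅ F) := by
  subst hc
  exact ⟨Dv.coprodOneIso F⟩

/-- a finite coproduct all of whose terms but one vanish -/
theorem nonempty_sigma_iso_of_isZero {n : ℕ} (f : Fin n → X.Modules) (i₀ : Fin n)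
    (h : ∀ i, i ≠ i₀ → IsZero (f i)) : Nonempty ((∐ f) ≅ f i₀) := by
  classical
  refine ⟨{ hom := Sigma.desc (fun i => if hi : i = i₀ then eqToHom (by rw [hi]) else 0)
            inv := Sigma.ι f i₀
            hom_inv_id := ?_
            inv_hom_id := ?_ }⟩
  · apply Sigma.hom_ext
    intro i
    rw [← Category.assoc, Sigma.ι_desc, Category.comp_id]
    by_cases hi : i = i₀
    · subst hi
      rw [dif_pos rfl, eqToHom_refl, Category.id_comp]
    · exact (h i hi).eq_of_src _ _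
  · rw [Sigma.ι_desc, dif_pos rfl, eqToHom_refl]

/-- `M^a ⊗ L^(a+c) ≅ L^c` when `M ⊗ L ≅ O` -/
theorem nonempty_iso_pow_ge {L M : X.Modules}
    (e : CohB1.tensorMod M L ≅ Coh.structureModule X) (a b c : ℕ) (h : b = a + c) :
    Nonempty (CohB1.tensorMod (CohB1.tensorPow M a) (CohB1.tensorPow L b) ≅
      CohB1.tensorPow L c) := by
  subst h
  apply nonempty_iso_of_cl_eq
  have h1 : PicF.cl M * PicF.cl L = 1 := by
    rw [← cl_tensor, cl_eq_of_iso e, cl_one]
  rw [cl_tensor, PicV.cl_tensorPow, PicV.cl_tensorPow, PicV.cl_tensorPow, pow_add, ← mul_assoc,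
    ← mul_pow, h1, one_pow, one_mul]

/-- `M^(b+c) ⊗ L^b ≅ M^c` when `M ⊗ L ≅ O` -/
theorem nonempty_iso_pow_le {L M : X.Modules}
    (e : CohB1.tensorMod M L ≅ Coh.structureModule X) (a b c : ℕ) (h : a = b + c) :
    Nonempty (CohB1.tensorMod (CohB1.tensorPow M a) (CohB1.tensorPow L b) ≅
      CohB1.tensorPow M c) := by
  subst h
  apply nonempty_iso_of_cl_eq
  have h1 : PicF.cl M * PicF.cl L = 1 := by
    rw [← cl_tensor, cl_eq_of_iso e, cl_one]
  rw [cl_tensor, PicV.cl_tensorPow, PicV.cl_tensorPow, PicV.cl_tensorPow, pow_add,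
    mul_comm (PicF.cl M ^ b) (PicF.cl M ^ c), mul_assoc, ← mul_pow, h1, one_pow, mul_one]

/-- the module `P(L)` -/
noncomputable abbrev polyMod (L : X.Modules) (P : Polynomial ℕ) : X.Modules :=
  ∐ fun i : Fin (P.natDegree + 1) => ∐ fun _ : Fin (P.coeff ↑i) => CohB1.tensorPow L ↑i

theorem isCoh_pow {L : X.Modules} (hL : PicF.IsInvertible L) (i : ℕ) :
    Coh.IsCoh (CohB1.tensorPow L i) :=
  InvQc.isCoh_of_isInvertible _ (TwForm.isInvertible_tensorPow hL i)

/-- a torsion module is finite in the sense of Weil -/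
theorem iso_of_torsion (L : X.Modules) (m : ℕ)
    (e : CohB1.tensorPow L m ≅ Coh.structureModule X) :
    Nonempty (polyMod L (Polynomial.X ^ m) ≅ polyMod L 1) := by
  have hdeg : (Polynomial.X ^ m : Polynomial ℕ).natDegree = m := Polynomial.natDegree_X_pow m
  obtain ⟨e1⟩ := nonempty_sigma_iso_of_isZero
    (fun i : Fin ((Polynomial.X ^ m : Polynomial ℕ).natDegree + 1) =>
      ∐ fun _ : Fin ((Polynomial.X ^ m : Polynomial ℕ).coeff ↑i) => CohB1.tensorPow L ↑i)
    ⟨m, by rw [hdeg]; omega⟩ (fun i hi => isZero_sigma_of_eq_zero _ _ (by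
      rw [Polynomial.coeff_X_pow, if_neg (fun h => hi (Fin.ext h))]))
  obtain ⟨e2⟩ := nonempty_sigma_of_eq_one (CohB1.tensorPow L m)
    ((Polynomial.X ^ m : Polynomial ℕ).coeff m) (by rw [Polynomial.coeff_X_pow, if_pos rfl])
  have hdeg1 : (1 : Polynomial ℕ).natDegree = 0 := Polynomial.natDegree_one
  obtain ⟨e3⟩ := nonempty_sigma_iso_of_isZero
    (fun i : Fin ((1 : Polynomial ℕ).natDegree + 1) =>
      ∐ fun _ : Fin ((1 : Polynomial ℕ).coeff ↑i) => CohB1.tensorPow L ↑i)
    ⟨0, by omega⟩ (fun i hi => absurd (Fin.ext (show (i : ℕ) = 0 by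
      have := i.2
      omega)) hi)
  obtain ⟨e4⟩ := nonempty_sigma_of_eq_one (CohB1.tensorPow L 0)
    ((1 : Polynomial ℕ).coeff 0) Polynomial.coeff_one_zero
  exact ⟨e1 ≪≫ e2 ≪≫ e ≪≫ e4.symm ≪≫ e3.symm⟩

end Cat

section Main

variable (k : Type u) [Field k] [IsAlgClosed k] (X : Scheme.{u}) [X.Over (Spec (CommRingCat.of k))]
  [IsIntegral X] [IsProper (X ↘ Spec (CommRingCat.of k))]

/-- count of sections of a twist of `P(L)` -/
theorem finrank_polyMod {L N : X.Modules} (hL : PicF.IsInvertible L) (hN : Coh.IsCoh N)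
    (P : Polynomial ℕ) :
    Module.finrank k (Coh.HH X (CohB1.tensorMod N (polyMod L P)) 0) =
      ∑ i : Fin (P.natDegree + 1), P.coeff ↑i *
        Module.finrank k (Coh.HH X (CohB1.tensorMod N (CohB1.tensorPow L ↑i)) 0) := by
  refine (ThmB.finrank_HH_tensor_sigma k X N
    (fun i : Fin (P.natDegree + 1) => ∐ fun _ : Fin (P.coeff ↑i) => CohB1.tensorPow L ↑i) 0 hN
    (fun i => Dv.isCoh_coprod _ (isCoh_pow hL i) _)).trans ?_
  refine Finset.sum_congr rfl (fun i _ => ?_)
  refine (ThmB.finrank_HH_tensor_sigma k X N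
    (fun _ : Fin (P.coeff ↑i) => CohB1.tensorPow L ↑i) 0 hN (fun _ => isCoh_pow hL i)).trans ?_
  rw [Finset.sum_const, Finset.card_univ, Fintype.card_fin, smul_eq_mul]

/-- transport of the count along an isomorphism `P(L) ≅ Q(L)` -/
theorem sum_eq_of_iso {L N : X.Modules} (hL : PicF.IsInvertible L) (hN : Coh.IsCoh N)
    (P Q : Polynomial ℕ) (e : polyMod L P ≅ polyMod L Q) (D : ℕ)
    (hP : P.natDegree + 1 ≤ D) (hQ : Q.natDegree + 1 ≤ D) :
    ∑ i ∈ Finset.range D, P.coeff i *
        Module.finrank k (Coh.HH X (CohB1.tensorMod N (CohB1.tensorPow L i)) 0) =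
      ∑ i ∈ Finset.range D, Q.coeff i *
        Module.finrank k (Coh.HH X (CohB1.tensorMod N (CohB1.tensorPow L i)) 0) := by
  have h1 := sum_fin_eq_range P
    (fun i => Module.finrank k (Coh.HH X (CohB1.tensorMod N (CohB1.tensorPow L i)) 0)) D hP
  have h2 := sum_fin_eq_range Q
    (fun i => Module.finrank k (Coh.HH X (CohB1.tensorMod N (CohB1.tensorPow L i)) 0)) D hQ
  have h3 := finrank_polyMod k X hL hN P
  have h4 := finrank_polyMod k X hL hN Q
  have h5 := (HHFin1.HHequiv k (Groth.Agent.Lead.TilT.tensorModCongr (Iso.refl N) e) 0).finrank_eq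
  exact h1.symm.trans (h3.symm.trans (h5.trans (h4.trans h2)))

theorem deg_nonneg_of_pow_section (hdim : topologicalKrullDim X = 1) {L : X.Modules}
    (hL : PicF.IsInvertible L) (j : ℕ) (hj : 0 < j)
    (h : Module.finrank k (Coh.HH X (CohB1.tensorPow L j) 0) ≠ 0) :
    0 ≤ Curv2.deg k X L 1 := by
  obtain ⟨x, hx⟩ := exists_ne_of_finrank_ne k h
  obtain ⟨s, hs⟩ := Curve.exists_section_of_HH0_ne _ x hx
  have h1 := Curve.deg_nonneg_of_section k X hdim (TwForm.isInvertible_tensorPow hL j) s hs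
  rw [CurveAmp.deg_tensorPow k X hdim.le hL j] at h1
  by_contra hd
  push Not at hd
  have hj' : (0 : ℤ) < (j : ℤ) := by exact_mod_cast hj
  have h2 := mul_neg_of_pos_of_neg hj' hd
  omega

/-- for a non-torsion `L` with inverse `M`, either no positive power of `L` or no positive power
of `M` has a nonzero section -/
theorem dichotomy (hdim : topologicalKrullDim X = 1) {L M : X.Modules}
    (hL : PicF.IsInvertible L) (hM : PicF.IsInvertible M)
    (e : CohB1.tensorMod M L ≅ Coh.structureModule X)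
    (hNT : ∀ m : ℕ, 0 < m → ¬ Nonempty (CohB1.tensorPow L m ≅ Coh.structureModule X)) :
    (∀ j : ℕ, 0 < j → Module.finrank k (Coh.HH X (CohB1.tensorPow L j) 0) = 0) ∨
    (∀ j : ℕ, 0 < j → Module.finrank k (Coh.HH X (CohB1.tensorPow M j) 0) = 0) := by
  by_contra hcon
  rw [not_or] at hcon
  obtain ⟨hA, hB⟩ := hcon
  push Not at hA hB
  obtain ⟨j, hj, hjne⟩ := hA
  obtain ⟨j', hj', hj'ne⟩ := hB
  have h1 := deg_nonneg_of_pow_section k X hdim hL j hj hjne
  have h2 := deg_nonneg_of_pow_section k X hdim hM j' hj' hj'ne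
  have h3 := GenusOne.deg_of_inverse k X hdim hM hL e
  have h4 : Curv2.deg k X L 1 = 0 := by omega
  obtain ⟨x, hx⟩ := exists_ne_of_finrank_ne k hjne
  obtain ⟨s, hs⟩ := Curve.exists_section_of_HH0_ne _ x hx
  refine hNT j hj (Curve.iso_of_deg_nonpos_of_section k X hdim
    (TwForm.isInvertible_tensorPow hL j) s hs ?_)
  rw [CurveAmp.deg_tensorPow k X hdim.le hL j, h4, mul_zero]

include k

set_option maxHeartbeats 1600000 in
/-- a module finite in the sense of Weil is torsion -/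
theorem torsion_of_iso (hdim : topologicalKrullDim X = 1) {L : X.Modules}
    (hL : PicF.IsInvertible L) (P Q : Polynomial ℕ) (hPQ : P ≠ Q)
    (e : polyMod L P ≅ polyMod L Q) :
    ∃ m : ℕ, 0 < m ∧ Nonempty (CohB1.tensorPow L m ≅ Coh.structureModule X) := by
  classical
  by_contra hcon
  have hNT : ∀ m : ℕ, 0 < m → ¬ Nonempty (CohB1.tensorPow L m ≅ Coh.structureModule X) :=
    fun m hm h => hcon ⟨m, hm, h⟩
  obtain ⟨M, hM, ⟨eM⟩⟩ := InvInv2.exists_inverse hL
  have hdiff : ∃ i, P.coeff i ≠ Q.coeff i := by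
    by_contra hall
    push Not at hall
    exact hPQ (Polynomial.ext hall)
  obtain ⟨D, hD⟩ : ∃ D, D = max P.natDegree Q.natDegree + 1 := ⟨_, rfl⟩
  have hPD : P.natDegree + 1 ≤ D := by
    have := le_max_left P.natDegree Q.natDegree
    omega
  have hQD : Q.natDegree + 1 ≤ D := by
    have := le_max_right P.natDegree Q.natDegree
    omega
  have hlt : ∀ i, P.coeff i ≠ Q.coeff i → i < D := by
    intro i hi
    by_contra hge
    push Not at hge
    apply hi
    rw [Polynomial.coeff_eq_zero_of_natDegree_lt (by omega),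
      Polynomial.coeff_eq_zero_of_natDegree_lt (by omega)]
  have h0 : Module.finrank k (Coh.HH X (Coh.structureModule X) 0) = 1 :=
    CurveLin.finrank_HH_zero_eq_one_of_isAlgClosed k X
  rcases dichotomy k X hdim hL hM eM hNT with hA | hB
  · obtain ⟨i₁, hi₁, hmin⟩ : ∃ i₁, P.coeff i₁ ≠ Q.coeff i₁ ∧
        ∀ i, i < i₁ → P.coeff i = Q.coeff i :=
      ⟨Nat.find hdiff, Nat.find_spec hdiff, fun i hi => not_not.1 (Nat.find_min hdiff hi)⟩
    have hN : Coh.IsCoh (CohB1.tensorPow M i₁) := isCoh_pow hM i₁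
    refine hi₁ (coeff_eq_of_sum_eq (fun i => P.coeff i) (fun i => Q.coeff i)
      (fun i => Module.finrank k
        (Coh.HH X (CohB1.tensorMod (CohB1.tensorPow M i₁) (CohB1.tensorPow L i)) 0))
      D i₁ (hlt i₁ hi₁) ?_ ?_ (sum_eq_of_iso k X hL hN P Q e D hPD hQD))
    · obtain ⟨e1⟩ := nonempty_iso_pow_ge eM i₁ i₁ 0 rfl
      exact ((HHFin1.HHequiv k e1 0).finrank_eq).trans h0
    · intro i hi
      rcases Nat.lt_or_gt_of_ne hi with hlt' | hgt
      · show P.coeff i * _ = Q.coeff i * _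
        rw [hmin i hlt']
      · obtain ⟨e1⟩ := nonempty_iso_pow_ge eM i₁ i (i - i₁) (by omega)
        have hz : Module.finrank k
            (Coh.HH X (CohB1.tensorMod (CohB1.tensorPow M i₁) (CohB1.tensorPow L i)) 0) = 0 :=
          ((HHFin1.HHequiv k e1 0).finrank_eq).trans (hA (i - i₁) (by omega))
        show P.coeff i * _ = Q.coeff i * _
        rw [hz, mul_zero, mul_zero]
  · obtain ⟨i₀, hi₀⟩ := hdiff
    obtain ⟨i₁, hi₁, hmax⟩ : ∃ i₁, P.coeff i₁ ≠ Q.coeff i₁ ∧
        ∀ i, i₁ < i → P.coeff i = Q.coeff i := by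
      refine ⟨Nat.findGreatest (fun i => P.coeff i ≠ Q.coeff i) D,
        Nat.findGreatest_spec (P := fun i => P.coeff i ≠ Q.coeff i) (hlt i₀ hi₀).le hi₀, ?_⟩
      intro i hi
      by_contra hne
      exact Nat.findGreatest_is_greatest (P := fun i => P.coeff i ≠ Q.coeff i) hi
        (hlt i hne).le hne
    have hN : Coh.IsCoh (CohB1.tensorPow M i₁) := isCoh_pow hM i₁
    refine hi₁ (coeff_eq_of_sum_eq (fun i => P.coeff i) (fun i => Q.coeff i)
      (fun i => Module.finrank k
        (Coh.HH X (CohB1.tensorMod (CohB1.tensorPow M i₁) (CohB1.tensorPow L i)) 0))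
      D i₁ (hlt i₁ hi₁) ?_ ?_ (sum_eq_of_iso k X hL hN P Q e D hPD hQD))
    · obtain ⟨e1⟩ := nonempty_iso_pow_ge eM i₁ i₁ 0 rfl
      exact ((HHFin1.HHequiv k e1 0).finrank_eq).trans h0
    · intro i hi
      rcases Nat.lt_or_gt_of_ne hi with hlt' | hgt
      · obtain ⟨e1⟩ := nonempty_iso_pow_le eM i₁ i (i₁ - i) (by omega)
        have hz : Module.finrank k
            (Coh.HH X (CohB1.tensorMod (CohB1.tensorPow M i₁) (CohB1.tensorPow L i)) 0) = 0 :=
          ((HHFin1.HHequiv k e1 0).finrank_eq).trans (hB (i₁ - i) (by omega))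
        show P.coeff i * _ = Q.coeff i * _
        rw [hz, mul_zero, mul_zero]
      · show P.coeff i * _ = Q.coeff i * _
        rw [hmax i hgt]

/-- S15339 -/
theorem main (hdim : topologicalKrullDim X = 1) {L : X.Modules} (hL : PicF.IsInvertible L) :
    (∃ P Q : Polynomial ℕ, P ≠ Q ∧ Nonempty (polyMod L P ≅ polyMod L Q)) ↔
      ∃ m : ℕ, 0 < m ∧ Nonempty (CohB1.tensorPow L m ≅ Coh.structureModule X) := by
  constructor
  · rintro ⟨P, Q, hPQ, ⟨e⟩⟩
    exact torsion_of_iso k X hdim hL P Q hPQ e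
  · rintro ⟨m, hm, ⟨e⟩⟩
    refine ⟨Polynomial.X ^ m, 1, ?_, iso_of_torsion L m e⟩
    intro h
    have h1 := congrArg (fun p : Polynomial ℕ => p.coeff 0) h
    simp only [Polynomial.coeff_X_pow, Polynomial.coeff_one_zero] at h1
    rw [if_neg (by omega)] at h1
    exact absurd h1 (by norm_num)

end Main

end Groth.Agent.Helper1.WeilFin
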