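import Mathlib

/-!
# Roots of unity in Witt vectors congruent to 1 (odd p)

Helper library of helper1.
-/

set_option autoImplicit false

namespace Groth.Agent.Helper1.WittRoot

open WittVector Finset

universe u

section Ring

variable {R : Type*} [CommRing R]

/-- auxiliary coefficients -/
noncomputable def cc (π s : R) : ℕ → R
  | 0 => 0
  | (i + 1) => (i : R) * s ^ 2 + cc π s i * (1 + π * s)

theorem pow_one_add (π s : R) (i : ℕ) :
    (1 + π * s) ^ i = 1 + (i : R) * π * s + π ^ 2 * cc π s i := by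
  induction i with
  | zero => simp [cc]
  | succ i ih =>
    rw [pow_succ, ih, cc]
    push_cast
    ring

theorem geom_sum_one_add (p : ℕ) (hp : Odd p) (s : R) :
    ∃ c : R, ∑ i ∈ range p, (1 + (p : R) * s) ^ i = (p : R) * (1 + (p : R) * c) := by
  obtain ⟨t, ht⟩ := hp
  have hsum : ((∑ i ∈ range p, i : ℕ) : R) = (p : R) * (t : R) := by
    have h1 : (∑ i ∈ range p, i) * 2 = p * (p - 1) := Finset.sum_range_id_mul_two p
    have h2 : p - 1 = 2 * t := by omega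
    have h3 : (∑ i ∈ range p, i) = p * t := by
      rw [h2] at h1
      have : (∑ i ∈ range p, i) * 2 = (p * t) * 2 := by rw [h1]; ring
      exact Nat.eq_of_mul_eq_mul_right (by norm_num) this
    rw [h3]; push_cast; ring
  refine ⟨(t : R) * s + ∑ i ∈ range p, cc (p : R) s i, ?_⟩
  simp only [pow_one_add]
  rw [Finset.sum_add_distrib, Finset.sum_add_distrib, ← Finset.mul_sum]
  have h4 : ∑ i ∈ range p, (i : R) * (p : R) * s = ((∑ i ∈ range p, i : ℕ) : R) * (p : R) * s := by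
    rw [Nat.cast_sum, Finset.sum_mul, Finset.sum_mul]
  rw [h4, hsum]
  simp only [Finset.sum_const, Finset.card_range, nsmul_eq_mul, mul_one]
  ring

end Ring

section Witt

variable (p : ℕ) [hp : Fact p.Prime] (k : Type u) [Field k] [CharP k p] [PerfectRing k p]

local notation "𝕎" => WittVector p

/-- `z ≡ 1 mod p`, `z ≠ 1`, in normal form. -/
def Q (z : 𝕎 k) : Prop :=
  ∃ m : ℕ, 1 ≤ m ∧ ∃ u : 𝕎 k, u.coeff 0 ≠ 0 ∧ z = 1 + (p : 𝕎 k) ^ m * u

variable {p k}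

theorem constantCoeff_p : constantCoeff (p : 𝕎 k) = 0 := by
  rw [map_natCast]
  exact CharP.cast_eq_zero k p

theorem Q.constantCoeff_eq_one {z : 𝕎 k} (hz : Q p k z) : constantCoeff z = 1 := by
  obtain ⟨m, hm, u, -, rfl⟩ := hz
  rw [map_add, map_one, map_mul, map_pow, constantCoeff_p, zero_pow (by omega), zero_mul,
    add_zero]

theorem Q.pow_of_not_dvd {z : 𝕎 k} (hz : Q p k z) (l : ℕ) (hl : ¬ p ∣ l) : Q p k (z ^ l) := by
  have hz1 := hz.constantCoeff_eq_one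
  obtain ⟨m, hm, u, hu, rfl⟩ := hz
  refine ⟨m, hm, u * ∑ i ∈ range l, (1 + (p : 𝕎 k) ^ m * u) ^ i, ?_, ?_⟩
  · show constantCoeff (u * ∑ i ∈ range l, (1 + (p : 𝕎 k) ^ m * u) ^ i) ≠ 0
    rw [map_mul, map_sum]
    simp only [map_pow, hz1, one_pow, Finset.sum_const, Finset.card_range, nsmul_eq_mul, mul_one]
    refine mul_ne_zero hu ?_
    rw [Ne, CharP.cast_eq_zero_iff k p]
    exact hl
  · have h1 := geom_sum_mul (1 + (p : 𝕎 k) ^ m * u) l
    have h2 : (1 + (p : 𝕎 k) ^ m * u) ^ l =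
        1 + (∑ i ∈ range l, (1 + (p : 𝕎 k) ^ m * u) ^ i) * (1 + (p : 𝕎 k) ^ m * u - 1) := by
      rw [h1]; ring
    rw [h2]; ring

theorem Q.pow_p (hp2 : p ≠ 2) {z : 𝕎 k} (hz : Q p k z) : Q p k (z ^ p) := by
  obtain ⟨m, hm, u, hu, rfl⟩ := hz
  obtain ⟨m', rfl⟩ : ∃ m', m = m' + 1 := ⟨m - 1, by omega⟩
  have hodd : Odd p := hp.out.odd_of_ne_two hp2
  have hz' : 1 + (p : 𝕎 k) ^ (m' + 1) * u = 1 + (p : 𝕎 k) * ((p : 𝕎 k) ^ m' * u) := by ring
  obtain ⟨c, hc⟩ := geom_sum_one_add (R := 𝕎 k) p hodd ((p : 𝕎 k) ^ m' * u)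
  refine ⟨m' + 2, by omega, (1 + (p : 𝕎 k) * c) * u, ?_, ?_⟩
  · show constantCoeff ((1 + (p : 𝕎 k) * c) * u) ≠ 0
    rw [map_mul, map_add, map_one, map_mul, constantCoeff_p, zero_mul, add_zero, one_mul]
    exact hu
  · have h1 := geom_sum_mul (1 + (p : 𝕎 k) * ((p : 𝕎 k) ^ m' * u)) p
    rw [hz']
    have h2 : (1 + (p : 𝕎 k) * ((p : 𝕎 k) ^ m' * u)) ^ p =
        1 + (∑ i ∈ range p, (1 + (p : 𝕎 k) * ((p : 𝕎 k) ^ m' * u)) ^ i) *
          (1 + (p : 𝕎 k) * ((p : 𝕎 k) ^ m' * u) - 1) := by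
      rw [h1]; ring
    rw [h2, hc]; ring

theorem Q.pow (hp2 : p ≠ 2) (n : ℕ) : ∀ (z : 𝕎 k), 0 < n → Q p k z → Q p k (z ^ n) := by
  induction n using Nat.strong_induction_on with
  | _ n ih =>
    intro z hn hz
    by_cases hdvd : p ∣ n
    · obtain ⟨n₁, rfl⟩ := hdvd
      have hp1 : 1 < p := hp.out.one_lt
      have hn₁ : 0 < n₁ := Nat.pos_of_mul_pos_left hn
      have hlt : n₁ < p * n₁ := by nlinarith
      rw [mul_comm, pow_mul]
      exact (ih n₁ hlt z hn₁ hz).pow_p hp2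
    · exact hz.pow_of_not_dvd n hdvd

theorem Q.ne_one {z : 𝕎 k} (hz : Q p k z) : z ≠ 1 := by
  obtain ⟨m, hm, u, hu, rfl⟩ := hz
  intro h
  have h1 : (p : 𝕎 k) ^ m * u = 0 := by
    have := congrArg (fun w => w - 1) h
    simpa using this
  rcases mul_eq_zero.mp h1 with h2 | h2
  · exact WittVector.p_nonzero p k (pow_eq_zero_iff (by omega) |>.mp h2)
  · apply hu
    rw [h2]
    exact WittVector.zero_coeff p k 0

theorem S16356 (hp2 : p ≠ 2) (x : 𝕎 k) (n : ℕ) (hn : 0 < n) (hx : x ^ n = 1)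
    (h0 : x.coeff 0 = 1) : x = 1 := by
  by_contra hx1
  have hy : x - 1 ≠ 0 := sub_ne_zero.mpr hx1
  obtain ⟨m, u, hu, hmu⟩ := exists_eq_pow_p_mul (x - 1) hy
  have hm : 1 ≤ m := by
    by_contra hm0
    have hm0' : m = 0 := by omega
    rw [hm0', pow_zero, one_mul] at hmu
    apply hu
    rw [← hmu]
    show constantCoeff (x - 1) = 0
    rw [map_sub, map_one]
    show x.coeff 0 - 1 = 0
    rw [h0, sub_self]
  have hQ : Q p k x := ⟨m, hm, u, hu, by rw [← hmu]; ring⟩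
  exact (Q.pow hp2 n x hn hQ).ne_one hx

end Witt

end Groth.Agent.Helper1.WittRoot
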