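import Mathlib

/-! Cross-range lows: S13166 (separating points by an element of a generating subspace). -/

namespace Groth.Agent.Helper1.XLowA

universe u

/-- A vector space over a field `k` is not covered by at most `#k` proper subspaces. -/
theorem exists_not_mem_of_card_le {k E ι : Type*} [Field k] [AddCommGroup E] [Module k E]
    (W : ι → Submodule k E) (s : Finset ι) (hW : ∀ i ∈ s, W i ≠ ⊤)
    (hcard : ((s.card : ℕ) : Cardinal) ≤ Cardinal.mk k) : ∃ v : E, ∀ i ∈ s, v ∉ W i := by
  classical
  induction s using Finset.induction_on with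
  | empty => exact ⟨0, by simp⟩
  | insert a t ha ih =>
    have hcard' : ((t.card : ℕ) : Cardinal) < Cardinal.mk k := by
      refine lt_of_lt_of_le ?_ hcard
      rw [Finset.card_insert_of_notMem ha]
      exact_mod_cast Nat.lt_succ_self _
    obtain ⟨v, hv⟩ := ih (fun i hi => hW i (Finset.mem_insert_of_mem hi)) hcard'.le
    by_cases hva : v ∈ W a
    · obtain ⟨u, hu⟩ : ∃ u, u ∉ W a := by
        by_contra hcon
        push Not at hcon
        exact hW a (Finset.mem_insert_self a t) (eq_top_iff.mpr fun x _ => hcon x)
      by_contra hcon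
      push Not at hcon
      have hbad : ∀ c : k, ∃ i ∈ t, u + c • v ∈ W i := by
        intro c
        obtain ⟨i, hi, hmem⟩ := hcon (u + c • v)
        rcases Finset.mem_insert.mp hi with rfl | hit
        · exfalso
          apply hu
          have := (W i).sub_mem hmem ((W i).smul_mem c hva)
          simpa using this
        · exact ⟨i, hit, hmem⟩
      choose F hFt hFmem using hbad
      have hinj : Function.Injective (fun c => (⟨F c, hFt c⟩ : t)) := by
        intro c c' hcc
        have hF : F c = F c' := congrArg Subtype.val hcc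
        by_contra hne
        have h1 := hFmem c
        have h2 := hFmem c'
        rw [← hF] at h2
        have h3 : (c - c') • v ∈ W (F c) := by
          have := (W (F c)).sub_mem h1 h2
          rw [sub_smul]
          convert this using 1
          abel
        have h4 : v ∈ W (F c) := by
          have := (W (F c)).smul_mem (c - c')⁻¹ h3
          rwa [smul_smul, inv_mul_cancel₀ (sub_ne_zero.mpr hne), one_smul] at this
        exact hv _ (hFt c) h4
      have h5 := Cardinal.lift_mk_le'.mpr ⟨⟨_, hinj⟩⟩
      rw [Cardinal.mk_coe_finset, Cardinal.lift_natCast] at h5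
      have h6 := Cardinal.lift_lt.mpr hcard'
      rw [Cardinal.lift_natCast] at h6
      exact absurd (h5.trans_lt h6) (lt_irrefl _)
    · refine ⟨v, fun i hi => ?_⟩
      rcases Finset.mem_insert.mp hi with rfl | hit
      · exact hva
      · exact hv i hit

theorem S13166 {k : Type u} [Field k] {B : Type u} [CommRing B] [Algebra k B] (V : Submodule k B)
    (hV : Algebra.adjoin k (V : Set B) = ⊤) {k' : Type u} [Field k'] [Algebra k k']
    {d : ℕ} (x : Fin d → (B →ₐ[k] k')) (hx : Function.Injective x)
    (hk : ((d.choose 2 : ℕ) : Cardinal) ≤ Cardinal.mk k) :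
    ∃ b ∈ V, Function.Injective fun i => x i b := by
  classical
  let W : Finset (Fin d) → Submodule k V := fun T =>
    ⨅ i ∈ T, ⨅ j ∈ T, LinearMap.ker (((x i).toLinearMap - (x j).toLinearMap) ∘ₗ V.subtype)
  have hWmem : ∀ T (v : V), v ∈ W T ↔ ∀ i ∈ T, ∀ j ∈ T, x i v = x j v := by
    intro T v
    simp only [W, Submodule.mem_iInf, LinearMap.mem_ker, LinearMap.comp_apply,
      LinearMap.sub_apply, Submodule.subtype_apply, AlgHom.toLinearMap_apply, sub_eq_zero]
  have hscard : (Finset.powersetCard 2 (Finset.univ : Finset (Fin d))).card = d.choose 2 := by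
    rw [Finset.card_powersetCard, Finset.card_univ, Fintype.card_fin]
  have hW : ∀ T ∈ Finset.powersetCard 2 (Finset.univ : Finset (Fin d)), W T ≠ ⊤ := by
    intro T hT htop
    rw [Finset.mem_powersetCard] at hT
    obtain ⟨i, j, hij, rfl⟩ := Finset.card_eq_two.mp hT.2
    apply hij
    apply hx
    apply AlgHom.ext_of_adjoin_eq_top hV
    intro b hb
    have : (⟨b, hb⟩ : V) ∈ W {i, j} := by rw [htop]; trivial
    exact (hWmem _ _).mp this i (by simp) j (by simp)
  obtain ⟨v, hv⟩ := exists_not_mem_of_card_le W _ hW (by rw [hscard]; exact hk)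
  refine ⟨v.1, v.2, ?_⟩
  intro i j hij
  have hij' : x i v.1 = x j v.1 := hij
  by_contra hne
  have hT : ({i, j} : Finset (Fin d)) ∈ Finset.powersetCard 2 (Finset.univ : Finset (Fin d)) := by
    rw [Finset.mem_powersetCard]
    exact ⟨Finset.subset_univ _, Finset.card_pair hne⟩
  apply hv _ hT
  rw [hWmem]
  intro a ha b hb
  simp only [Finset.mem_insert, Finset.mem_singleton] at ha hb
  rcases ha with rfl | rfl <;> rcases hb with rfl | rfl
  · rfl
  · exact hij'
  · exact hij'.symm
  · rfl

open TensorProduct in
/-- A finitely generated torsion-free module of rank `r` over a domain embeds into `A^r`. -/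
theorem exists_injective_to_pi {A : Type*} [CommRing A] [IsDomain A] (K : Type*) [Field K]
    [Algebra A K] [IsFractionRing A K]
    (M : Type*) [AddCommGroup M] [Module A M] [Module.Finite A M] [NoZeroSMulDivisors A M] (r : ℕ)
    (hr : Module.finrank K (K ⊗[A] M) = r) :
    ∃ f : M →ₗ[A] (Fin r → A), Function.Injective f := by
  classical
  let b := Module.finBasisOfFinrankEq K (K ⊗[A] M) hr
  let φ : (K ⊗[A] M) ≃ₗ[K] (Fin r → K) := b.equivFun
  let ι : M →ₗ[A] K ⊗[A] M := TensorProduct.mk A K M 1
  have hι : Function.Injective ι := by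
    rw [injective_iff_map_eq_zero]
    intro m hm
    obtain ⟨s, hs⟩ := (IsLocalizedModule.eq_zero_iff (nonZeroDivisors A) ι).mp hm
    have hs' : (s : A) • m = 0 := hs
    rcases smul_eq_zero.mp hs' with h | h
    · exact absurd h (nonZeroDivisors.coe_ne_zero s)
    · exact h
  let g₀ : M →ₗ[A] (Fin r → K) := (φ.toLinearMap.restrictScalars A) ∘ₗ ι
  have hg₀ : Function.Injective g₀ := φ.injective.comp hι
  obtain ⟨S, hS⟩ := (Module.finite_def.mp inferInstance : (⊤ : Submodule A M).FG)
  obtain ⟨d, hd⟩ := IsLocalization.exist_integer_multiples (nonZeroDivisors A)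
    (S ×ˢ (Finset.univ : Finset (Fin r))) (fun p : M × Fin r => g₀ p.1 p.2)
  let j : (Fin r → A) →ₗ[A] (Fin r → K) :=
    LinearMap.pi (fun l => (Algebra.linearMap A K) ∘ₗ LinearMap.proj l)
  have hj : Function.Injective j := by
    intro a a' h
    funext l
    have := congrFun h l
    exact IsFractionRing.injective A K this
  let g : M →ₗ[A] (Fin r → K) := (d : A) • g₀
  have hgrange : LinearMap.range g ≤ LinearMap.range j := by
    rw [LinearMap.range_eq_map, ← hS, Submodule.map_span, Submodule.span_le]
    rintro _ ⟨m, hm, rfl⟩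
    have : ∀ l, ∃ a : A, algebraMap A K a = (d : A) • g₀ m l := fun l =>
      hd (m, l) (Finset.mem_product.mpr ⟨hm, Finset.mem_univ l⟩)
    choose a ha using this
    refine ⟨a, ?_⟩
    funext l
    exact ha l
  have hg : Function.Injective g := by
    rw [injective_iff_map_eq_zero]
    intro m hm
    apply (injective_iff_map_eq_zero g₀).mp hg₀
    have hm' : (d : A) • g₀ m = 0 := hm
    funext l
    have h1 : (d : A) • g₀ m l = 0 := congrFun hm' l
    rw [Algebra.smul_def] at h1
    rcases mul_eq_zero.mp h1 with h | h
    · exact absurd ((map_eq_zero_iff _ (IsFractionRing.injective A K)).mp h)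
        (nonZeroDivisors.coe_ne_zero d)
    · exact h
  let e := LinearEquiv.ofInjective j hj
  refine ⟨e.symm.toLinearMap ∘ₗ (g.codRestrict (LinearMap.range j)
    (fun m => hgrange (LinearMap.mem_range_self g m))), ?_⟩
  exact e.symm.injective.comp (fun m m' h => hg (congrArg Subtype.val h))

open TensorProduct in
theorem S11499 (A : Type u) [CommRing A] [IsDomain A]
    (M : Type u) [AddCommGroup M] [Module A M] [Module.Finite A M] [NoZeroSMulDivisors A M] (r : ℕ)
    (hr : Module.finrank (FractionRing A) (FractionRing A ⊗[A] M) = r) :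
    ∃ f : M →ₗ[A] (Fin r → A), Function.Injective f :=
  exists_injective_to_pi (FractionRing A) M r hr

end Groth.Agent.Helper1.XLowA
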