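import Mathlib

/-! Cross-range lows: S14405 (discrete antiderivative of a polynomial), S14511. -/

namespace Groth.Agent.Helper1.XLowB

universe u

open Polynomial

theorem degree_sub_comp_lt (P : ℚ[X]) (hP : P.natDegree ≠ 0) :
    (P - P.comp (X - C 1)).degree < P.degree := by
  have hP0 : P ≠ 0 := by rintro rfl; simp at hP
  have hq : (X - C (1 : ℚ)).natDegree ≠ 0 := by rw [natDegree_X_sub_C]; exact one_ne_zero
  have hlc : (P.comp (X - C 1)).leadingCoeff = P.leadingCoeff := by
    rw [leadingCoeff_comp hq, leadingCoeff_X_sub_C, one_pow, mul_one]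
  have hnd : (P.comp (X - C 1)).natDegree = P.natDegree := by
    rw [natDegree_comp, natDegree_X_sub_C, mul_one]
  have hc0 : P.comp (X - C 1) ≠ 0 := by
    intro h
    rw [h, leadingCoeff_zero] at hlc
    exact hP0 (leadingCoeff_eq_zero.mp hlc.symm)
  apply degree_sub_lt_left _ hP0 hlc.symm
  rw [degree_eq_natDegree hP0, degree_eq_natDegree hc0, hnd]

theorem exists_antidiff (n : ℕ) : ∀ Q : ℚ[X], Q.degree < (n : WithBot ℕ) →
    ∃ P : ℚ[X], P.degree < ((n + 1 : ℕ) : WithBot ℕ) ∧ P - P.comp (X - C 1) = Q := by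
  induction n with
  | zero =>
    intro Q hQ
    have hQ0 : Q = 0 := by
      rw [← degree_eq_bot]
      by_contra hne
      have := (degree_eq_natDegree (degree_eq_bot.not.mp hne))
      rw [this] at hQ
      exact absurd hQ (by simp)
    refine ⟨0, ?_, by simp [hQ0]⟩
    rw [degree_zero]
    exact WithBot.bot_lt_coe _
  | succ n ih =>
    intro Q hQ
    have hDdeg : ((X : ℚ[X]) ^ (n + 1) - (X ^ (n + 1)).comp (X - C 1)).degree <
        ((n + 1 : ℕ) : WithBot ℕ) := by
      have := degree_sub_comp_lt ((X : ℚ[X]) ^ (n + 1)) (by simp)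
      rwa [degree_X_pow] at this
    have hDcoeff : ((X : ℚ[X]) ^ (n + 1) - (X ^ (n + 1)).comp (X - C 1)).coeff n = (n + 1 : ℚ) := by
      rw [coeff_sub, coeff_X_pow, pow_comp, X_comp, sub_eq_add_neg X (C (1 : ℚ)), ← C_neg,
        coeff_X_add_C_pow]
      have h1 : n + 1 - n = 1 := by omega
      rw [h1, Nat.choose_succ_self_right, if_neg (by omega)]
      push_cast
      ring
    obtain ⟨P', hP'deg, hP'⟩ := ih (Q - C (Q.coeff n / (n + 1)) *
        ((X : ℚ[X]) ^ (n + 1) - (X ^ (n + 1)).comp (X - C 1))) (by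
      rw [degree_lt_iff_coeff_zero]
      intro m hm
      rcases hm.eq_or_lt with rfl | hlt
      · rw [coeff_sub, coeff_C_mul, hDcoeff]
        have : (n + 1 : ℚ) ≠ 0 := by positivity
        field_simp
        ring
      · have hlt' : ((n + 1 : ℕ) : WithBot ℕ) ≤ (m : WithBot ℕ) := by exact_mod_cast hlt
        have h1 : Q.coeff m = 0 := coeff_eq_zero_of_degree_lt (lt_of_lt_of_le hQ hlt')
        have h2 := coeff_eq_zero_of_degree_lt (lt_of_lt_of_le hDdeg hlt')
        rw [coeff_sub, coeff_C_mul, h1, h2, mul_zero, sub_zero])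
    refine ⟨P' + C (Q.coeff n / (n + 1)) * X ^ (n + 1), ?_, ?_⟩
    · refine lt_of_le_of_lt (degree_add_le _ _) (max_lt (lt_trans hP'deg ?_) ?_)
      · exact_mod_cast Nat.lt_succ_self _
      · refine lt_of_le_of_lt (degree_C_mul_X_pow_le _ _) ?_
        exact_mod_cast Nat.lt_succ_self _
    · rw [add_comp, mul_comp, C_comp]
      have : P' + C (Q.coeff n / (n + 1)) * X ^ (n + 1) -
          (P'.comp (X - C 1) + C (Q.coeff n / (n + 1)) * (X ^ (n + 1)).comp (X - C 1)) =
          (P' - P'.comp (X - C 1)) + C (Q.coeff n / (n + 1)) *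
            ((X : ℚ[X]) ^ (n + 1) - (X ^ (n + 1)).comp (X - C 1)) := by ring
      rw [this, hP']
      ring

theorem S14405 (φ : ℤ → ℚ) (d : ℕ) (Q : ℚ[X]) (hQ : Q ≠ 0)
    (hd : Q.natDegree = d) (h : ∀ m : ℤ, φ m - φ (m - 1) = Q.eval (m : ℚ)) :
    ∃ P : ℚ[X], P.natDegree = d + 1 ∧ ∀ m : ℤ, φ m = P.eval (m : ℚ) := by
  have hQdeg : Q.degree < ((d + 1 : ℕ) : WithBot ℕ) := by
    rw [degree_eq_natDegree hQ, hd]
    exact_mod_cast Nat.lt_succ_self d
  obtain ⟨P₀, hP₀deg, hP₀⟩ := exists_antidiff (d + 1) Q hQdeg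
  have hΔ : (P₀ + C (φ 0 - P₀.eval 0)) - (P₀ + C (φ 0 - P₀.eval 0)).comp (X - C 1) = Q := by
    rw [add_comp, C_comp, ← hP₀]
    ring
  have hPnd0 : (P₀ + C (φ 0 - P₀.eval 0)).natDegree ≠ 0 := by
    intro h0
    have hc := eq_C_of_natDegree_eq_zero h0
    rw [hc, C_comp, sub_self] at hΔ
    exact hQ hΔ.symm
  have hlt := degree_sub_comp_lt _ hPnd0
  rw [hΔ] at hlt
  have hP0 : (P₀ + C (φ 0 - P₀.eval 0)) ≠ 0 := by
    intro h0
    rw [h0] at hPnd0
    simp at hPnd0
  refine ⟨P₀ + C (φ 0 - P₀.eval 0), ?_, ?_⟩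
  · rw [degree_eq_natDegree hQ, degree_eq_natDegree hP0, hd] at hlt
    have h1 : d < (P₀ + C (φ 0 - P₀.eval 0)).natDegree := by exact_mod_cast hlt
    have h2 : (P₀ + C (φ 0 - P₀.eval 0)).natDegree < d + 1 + 1 := by
      have h3 : (P₀ + C (φ 0 - P₀.eval 0)).degree < ((d + 1 + 1 : ℕ) : WithBot ℕ) := by
        refine lt_of_le_of_lt (degree_add_le _ _) (max_lt hP₀deg (lt_of_le_of_lt degree_C_le ?_))
        exact_mod_cast Nat.succ_pos _
      rw [degree_eq_natDegree hP0] at h3
      exact_mod_cast h3
    omega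
  · have hstep : ∀ m : ℤ, (P₀ + C (φ 0 - P₀.eval 0)).eval (m : ℚ) -
        (P₀ + C (φ 0 - P₀.eval 0)).eval ((m : ℚ) - 1) = Q.eval (m : ℚ) := by
      intro m
      have := congrArg (eval (m : ℚ)) hΔ
      simpa [eval_comp] using this
    have h0 : φ 0 = (P₀ + C (φ 0 - P₀.eval 0)).eval ((0 : ℤ) : ℚ) := by simp
    intro m
    refine Int.induction_on m h0 ?_ ?_
    · intro i ih
      have h1 := h (i + 1)
      have h2 := hstep (i + 1)
      simp only [add_sub_cancel_right] at h1
      push_cast at h1 h2 ih ⊢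
      rw [add_sub_cancel_right] at h2
      linarith
    · intro i ih
      have h1 := h (-i)
      have h2 := hstep (-i)
      push_cast at h1 h2 ih ⊢
      linarith

theorem monomial_case (R : Type*) [CommRing R] (r : ℕ) (m : Fin r →₀ ℕ) (c : R)
    (hm : (m.sum fun _ e => e) ≤ r) :
    ∑ J : Finset (Fin r), (-1 : R) ^ J.card *
        MvPolynomial.eval (fun j => if j ∈ J then (-1 : R) else 0) (MvPolynomial.monomial m c)
      = if m = ∑ i : Fin r, Finsupp.single i 1 then c else 0 := by
  classical
  have heval : ∀ J : Finset (Fin r),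
      MvPolynomial.eval (fun j => if j ∈ J then (-1 : R) else 0) (MvPolynomial.monomial m c) =
        c * ∏ i, (if i ∈ J then (-1 : R) else 0) ^ m i := by
    intro J
    rw [MvPolynomial.eval_monomial, Finsupp.prod_fintype]
    intro i
    exact pow_zero _
  simp only [heval]
  by_cases hex : ∃ i₀, m i₀ = 0
  · obtain ⟨i₀, hi₀⟩ := hex
    have hne : m ≠ ∑ i : Fin r, Finsupp.single i 1 := by
      intro h
      have h1 := DFunLike.congr_fun h i₀
      rw [hi₀, Finsupp.finsetSum_apply] at h1
      simp [Finsupp.single_apply] at h1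
    rw [if_neg hne]
    apply Finset.sum_involution (fun J _ => symmDiff J {i₀})
    · intro J _
      have hprod : ∏ i, (if i ∈ symmDiff J {i₀} then (-1 : R) else 0) ^ m i =
          ∏ i, (if i ∈ J then (-1 : R) else 0) ^ m i := by
        apply Finset.prod_congr rfl
        intro i _
        by_cases hi : i = i₀
        · subst hi
          rw [hi₀, pow_zero, pow_zero]
        · have : i ∈ symmDiff J {i₀} ↔ i ∈ J := by
            simp [Finset.mem_symmDiff, hi]
          simp only [this]
      have hcard : (-1 : R) ^ (symmDiff J {i₀}).card = - (-1 : R) ^ J.card := by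
        by_cases hJ : i₀ ∈ J
        · have h1 : symmDiff J {i₀} = J.erase i₀ := by
            ext i
            simp only [Finset.mem_symmDiff, Finset.mem_singleton, Finset.mem_erase]
            constructor
            · rintro (⟨h1, h2⟩ | ⟨h1, h2⟩)
              · exact ⟨h2, h1⟩
              · exact absurd (h1 ▸ hJ) h2
            · rintro ⟨h1, h2⟩
              exact Or.inl ⟨h2, h1⟩
          rw [h1]
          have h2 := Finset.card_erase_add_one hJ
          rw [← h2, pow_succ]
          ring
        · have h1 : symmDiff J {i₀} = insert i₀ J := by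
            ext i
            simp only [Finset.mem_symmDiff, Finset.mem_singleton, Finset.mem_insert]
            constructor
            · rintro (⟨h1, h2⟩ | ⟨h1, h2⟩)
              · exact Or.inr h1
              · exact Or.inl h1
            · rintro (h1 | h1)
              · exact Or.inr ⟨h1, h1 ▸ hJ⟩
              · exact Or.inl ⟨h1, fun h2 => hJ (h2 ▸ h1)⟩
          rw [h1, Finset.card_insert_of_notMem hJ, pow_succ]
          ring
      rw [hprod, hcard]
      ring
    · intro J _ _ h
      have h1 : i₀ ∈ symmDiff J {i₀} ↔ i₀ ∈ J := by rw [h]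
      simp [Finset.mem_symmDiff] at h1
    · intro J _
      simp
    · intro J _
      exact Finset.mem_univ (symmDiff J {i₀})
  · push Not at hex
    have hone : ∀ i, m i = 1 := by
      by_contra hcon
      push Not at hcon
      obtain ⟨j, hj⟩ := hcon
      have hj2 : 1 < m j := by
        have := hex j
        omega
      have hsum : (m.sum fun _ e => e) = ∑ i, m i := Finsupp.sum_fintype _ _ (fun _ => rfl)
      have h1 : ∑ _i : Fin r, 1 < ∑ i, m i :=
        Finset.sum_lt_sum (fun i _ => Nat.one_le_iff_ne_zero.mpr (hex i))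
          ⟨j, Finset.mem_univ j, hj2⟩
      simp only [Finset.sum_const, Finset.card_univ, Fintype.card_fin, smul_eq_mul, mul_one] at h1
      omega
    have hmt : m = ∑ i : Fin r, Finsupp.single i 1 := by
      ext i
      rw [Finsupp.finsetSum_apply]
      simp [Finsupp.single_apply, hone]
    rw [if_pos hmt]
    rw [Finset.sum_eq_single Finset.univ]
    · simp only [hone, pow_one, Finset.mem_univ, if_true, Finset.prod_const, Finset.card_univ,
        Fintype.card_fin]
      have h1 : (-1 : R) ^ r * (c * (-1) ^ r) = c * ((-1) ^ r * (-1) ^ r) := by ring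
      rw [h1, ← mul_pow]
      simp
    · intro J _ hJ
      obtain ⟨i, hi⟩ : ∃ i, i ∉ J := by
        by_contra hcon
        push Not at hcon
        exact hJ (Finset.eq_univ_iff_forall.mpr hcon)
      rw [Finset.prod_eq_zero (Finset.mem_univ i) (by simp [hi, hone]), mul_zero, mul_zero]
    · intro h
      exact absurd (Finset.mem_univ _) h

theorem S14511 (R : Type u) [CommRing R] (r : ℕ)
    (P : MvPolynomial (Fin r) R) (hP : P.totalDegree ≤ r) :
    MvPolynomial.coeff (∑ i : Fin r, Finsupp.single i 1) P =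
      ∑ J : Finset (Fin r), (-1 : R) ^ J.card *
        MvPolynomial.eval (fun j => if j ∈ J then (-1 : R) else 0) P := by
  classical
  have hsum : ∀ J : Finset (Fin r),
      MvPolynomial.eval (fun j => if j ∈ J then (-1 : R) else 0) P =
        ∑ v ∈ P.support, MvPolynomial.eval (fun j => if j ∈ J then (-1 : R) else 0)
          (MvPolynomial.monomial v (P.coeff v)) := by
    intro J
    conv_lhs => rw [MvPolynomial.as_sum P]
    rw [map_sum]
  simp only [hsum, Finset.mul_sum]
  rw [Finset.sum_comm]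
  rw [Finset.sum_congr rfl (fun m hm => monomial_case R r m (P.coeff m)
    (le_trans (MvPolynomial.le_totalDegree hm) hP))]
  rw [Finset.sum_ite_eq']
  split_ifs with h
  · rfl
  · exact MvPolynomial.notMem_support_iff.mp h

end Groth.Agent.Helper1.XLowB
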