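import Mathlib

/-! Cross-range lows: S15546 (nilpotent in `E ⊗ K` for inseparable `E`), S18538. -/

namespace Groth.Agent.Helper1.XLowC

universe u

open TensorProduct Polynomial

theorem exists_nilpotent_aux (k E K : Type u) [Field k] [Field E]
    [Algebra k E] [FiniteDimensional k E] [Field K] [Algebra k K] [IsAlgClosed K]
    (h : ¬ Algebra.IsSeparable k E) : ∃ y : K ⊗[k] E, y ≠ 0 ∧ y * y = 0 := by
  rw [Algebra.isSeparable_def] at h
  push Not at h
  obtain ⟨α, hα⟩ := h
  have hint : IsIntegral k α := Algebra.IsIntegral.isIntegral α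
  have hirr : Irreducible (minpoly k α) := minpoly.irreducible hint
  have hder : derivative (minpoly k α) = 0 := by
    by_contra hne
    exact hα ((separable_iff_derivative_ne_zero hirr).mpr hne)
  have hf0 : (minpoly k α).map (algebraMap k K) ≠ 0 :=
    (Polynomial.map_ne_zero_iff (algebraMap k K).injective).mpr (minpoly.ne_zero hint)
  have hdeg : ((minpoly k α).map (algebraMap k K)).degree ≠ 0 := by
    rw [degree_map]
    exact (minpoly.degree_pos hint).ne'
  obtain ⟨a, ha⟩ := IsAlgClosed.exists_root _ hdeg
  have hmult : 2 ≤ ((minpoly k α).map (algebraMap k K)).rootMultiplicity a := by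
    have : 1 < ((minpoly k α).map (algebraMap k K)).rootMultiplicity a := by
      rw [one_lt_rootMultiplicity_iff_isRoot hf0]
      refine ⟨ha, ?_⟩
      rw [derivative_map, hder, Polynomial.map_zero]
      simp [IsRoot]
    exact this
  obtain ⟨g, hg⟩ := (le_rootMultiplicity_iff hf0).mp hmult
  have hg0 : g ≠ 0 := by
    rintro rfl
    rw [mul_zero] at hg
    exact hf0 hg
  have hXa : (X - C a : K[X]) ≠ 0 := X_sub_C_ne_zero a
  have hnat : ((X - C a) * g).natDegree < (minpoly k α).natDegree := by
    have h1 : ((minpoly k α).map (algebraMap k K)).natDegree = (minpoly k α).natDegree :=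
      natDegree_map _
    rw [← h1, hg, natDegree_mul (pow_ne_zero 2 hXa) hg0, natDegree_mul hXa hg0,
      natDegree_pow, natDegree_X_sub_C]
    omega
  have hβ : aeval ((1 : K) ⊗ₜ[k] α) ((minpoly k α).map (algebraMap k K)) = 0 := by
    rw [aeval_map_algebraMap]
    have h1 : ((1 : K) ⊗ₜ[k] α) = (Algebra.TensorProduct.includeRight : E →ₐ[k] K ⊗[k] E) α := rfl
    rw [h1, aeval_algHom_apply, minpoly.aeval, map_zero]
  refine ⟨aeval ((1 : K) ⊗ₜ[k] α) ((X - C a) * g), ?_, ?_⟩
  · intro h0
    rw [aeval_eq_sum_range' hnat, Finset.sum_range] at h0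
    have hli := Module.Flat.linearIndependent_one_tmul (S := K) (linearIndependent_pow (K := k) α)
    rw [Fintype.linearIndependent_iff] at hli
    have h2 := hli (fun i => ((X - C a) * g).coeff i) (by
      rw [← h0]
      apply Finset.sum_congr rfl
      intro i _
      rw [Algebra.TensorProduct.tmul_pow, one_pow])
    apply mul_ne_zero hXa hg0
    ext i
    rw [coeff_zero]
    by_cases hi : i < (minpoly k α).natDegree
    · exact h2 ⟨i, hi⟩
    · exact coeff_eq_zero_of_natDegree_lt (lt_of_lt_of_le hnat (not_lt.mp hi))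
  · rw [← map_mul]
    have h1 : (X - C a) * g * ((X - C a) * g) = (minpoly k α).map (algebraMap k K) * g := by
      rw [hg]
      ring
    rw [h1, map_mul, hβ, zero_mul]

theorem S15546 (k E K : Type u) [Field k] [Field E]
    [Algebra k E] [FiniteDimensional k E] [Field K] [Algebra k K] [IsAlgClosure k K]
    (h : ¬ Algebra.IsSeparable k E) : ∃ x : E ⊗[k] K, x ≠ 0 ∧ IsNilpotent x := by
  haveI : IsAlgClosed K := IsAlgClosure.isAlgClosed k
  obtain ⟨y, hy0, hyy⟩ := exists_nilpotent_aux k E K h
  refine ⟨Algebra.TensorProduct.comm k K E y, ?_, 2, ?_⟩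
  · intro h0
    exact hy0 ((Algebra.TensorProduct.comm k K E).injective (by rw [h0, map_zero]))
  · rw [pow_two, ← map_mul, hyy, map_zero]

theorem S18538 (A B K L : Type u) [CommRing A] [CommRing B] [IsDomain A] [IsDomain B]
    [IsIntegrallyClosed A] [Algebra A B] [Module.Finite A B]
    [Field K] [Field L] [Algebra A K] [IsFractionRing A K] [Algebra B L] [IsFractionRing B L]
    [Algebra K L] [Algebra A L] [IsScalarTower A K L] [IsScalarTower A B L] :
    Algebra.IsEffective A B := by
  intro b
  constructor
  · intro hb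
    let ψ : B →ₗ[A] L := (IsScalarTower.toAlgHom A B L).toLinearMap
    let F : B ⊗[A] B →ₗ[A] L ⊗[K] L :=
      (TensorProduct.mapOfCompatibleSMul K A A L L) ∘ₗ TensorProduct.map ψ ψ
    have hb' : b ⊗ₜ[A] (1 : B) - (1 : B) ⊗ₜ[A] b = 0 := by
      rw [← Algebra.TensorProduct.includeLeftSubRight_apply]
      exact hb
    have hF : F (b ⊗ₜ[A] (1 : B) - (1 : B) ⊗ₜ[A] b) = 0 := by rw [hb', map_zero]
    have hL : Algebra.TensorProduct.includeLeftSubRight K L (algebraMap B L b) = 0 := by
      rw [Algebra.TensorProduct.includeLeftSubRight_apply]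
      rw [map_sub] at hF
      simpa [F, ψ] using hF
    have hKL : Algebra.IsEffective K L := Algebra.IsEffective.of_faithfullyFlat K L
    obtain ⟨c, hc⟩ := (hKL (algebraMap B L b)).mp hL
    have hc' : algebraMap K L c = algebraMap B L b := hc
    have hbint : IsIntegral A b := Algebra.IsIntegral.isIntegral b
    have hcint : IsIntegral A c := by
      have h1 : IsIntegral A (algebraMap B L b) := hbint.map (IsScalarTower.toAlgHom A B L)
      rw [← hc'] at h1
      exact (isIntegral_algHom_iff (IsScalarTower.toAlgHom A K L)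
        (algebraMap K L).injective).mp h1
    obtain ⟨a, ha⟩ := IsIntegrallyClosed.algebraMap_eq_of_integral hcint
    refine ⟨a, ?_⟩
    apply IsFractionRing.injective B L
    show algebraMap B L (algebraMap A B a) = algebraMap B L b
    rw [← hc', ← ha, ← IsScalarTower.algebraMap_apply, ← IsScalarTower.algebraMap_apply]
  · rintro ⟨a, rfl⟩
    exact Algebra.TensorProduct.includeLeftSubRight_algebraMap_zero a

end Groth.Agent.Helper1.XLowC
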