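import Mathlib

/-! Cross-range low S15391: a section of a torsion-free module over a reduced Noetherian ring
vanishing in all fibres is zero. -/

namespace Groth.Agent.Helper1.XLowD

universe u

open TensorProduct

theorem one_tmul_eq_zero_iff {R : Type*} [CommRing R] (I : Ideal R) (M : Type*) [AddCommGroup M]
    [Module R M] (m : M) :
    (1 : R ⧸ I) ⊗ₜ[R] m = 0 ↔ m ∈ I • (⊤ : Submodule R M) := by
  rw [← (quotTensorEquivQuotSMul M I).map_eq_zero_iff, quotTensorEquivQuotSMul_mk_one_tmul,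
    Submodule.Quotient.mk_eq_zero]

theorem exists_notMem_mul_eq_zero {R : Type*} [CommRing R] [IsReduced R] (p : Ideal R) [p.IsPrime]
    (hp : p ∈ minimalPrimes R) (x : R) (hx : x ∈ p) : ∃ u ∉ p, u * x = 0 := by
  have h := IsLocalization.AtPrime.radical_map_of_mem_minimalPrimes
    (A := Localization.AtPrime p) p ⊥ hp
  have hx' : algebraMap R (Localization.AtPrime p) x ∈
      (Ideal.map (algebraMap R (Localization.AtPrime p)) (⊥ : Ideal R)).radical := by
    rw [h]
    exact Ideal.mem_map_of_mem _ hx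
  rw [Ideal.map_bot] at hx'
  obtain ⟨n, hn⟩ := hx'
  rw [Ideal.mem_bot, ← map_pow, IsLocalization.map_eq_zero_iff p.primeCompl] at hn
  obtain ⟨u, hu⟩ := hn
  refine ⟨u.1, u.2, ?_⟩
  apply IsNilpotent.eq_zero
  refine ⟨n + 1, ?_⟩
  have : ((u : R) * x) ^ (n + 1) = (u : R) ^ n * x * ((u : R) * x ^ n) := by ring
  rw [this, hu, mul_zero]

theorem exists_notMem_smul_eq_zero {R : Type*} [CommRing R] [IsReduced R] (p : Ideal R)
    [p.IsPrime] (hp : p ∈ minimalPrimes R) {M : Type*} [AddCommGroup M] [Module R M] (m : M)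
    (hm : m ∈ p • (⊤ : Submodule R M)) : ∃ u ∉ p, u • m = 0 := by
  refine Submodule.smul_induction_on hm ?_ ?_
  · intro x hx n _
    obtain ⟨u, hu, hux⟩ := exists_notMem_mul_eq_zero p hp x hx
    exact ⟨u, hu, by rw [smul_smul, hux, zero_smul]⟩
  · rintro a b ⟨u, hu, hua⟩ ⟨v, hv, hvb⟩
    refine ⟨u * v, fun h => (‹p.IsPrime›.mem_or_mem h).elim hu hv, ?_⟩
    rw [smul_add, mul_smul u v b, hvb, smul_zero, add_zero, mul_comm, mul_smul, hua, smul_zero]

theorem exists_smul_mem_of_tmul_eq_zero {R : Type*} [CommRing R] (p : Ideal R) [p.IsPrime]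
    (M : Type*) [AddCommGroup M] [Module R M] (t : M)
    (ht : (1 : p.ResidueField) ⊗ₜ[R] t = (0 : p.ResidueField ⊗[R] M)) :
    ∃ s ∉ p, s • t ∈ p • (⊤ : Submodule R M) := by
  let e := TensorProduct.AlgebraTensorModule.cancelBaseChange R (R ⧸ p) p.ResidueField
    p.ResidueField M
  have h1 : (1 : p.ResidueField) ⊗ₜ[R ⧸ p] ((1 : R ⧸ p) ⊗ₜ[R] t) = 0 := by
    apply e.injective
    rw [map_zero, TensorProduct.AlgebraTensorModule.cancelBaseChange_tmul, one_smul]
    exact ht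
  obtain ⟨s, hs⟩ := (IsLocalizedModule.eq_zero_iff (nonZeroDivisors (R ⧸ p))
    (TensorProduct.mk (R ⧸ p) p.ResidueField ((R ⧸ p) ⊗[R] M) 1)).mp h1
  obtain ⟨s0, hs0⟩ := Ideal.Quotient.mk_surjective (s : R ⧸ p)
  refine ⟨s0, ?_, ?_⟩
  · intro hmem
    have : (s : R ⧸ p) = 0 := by
      rw [← hs0]
      exact Ideal.Quotient.eq_zero_iff_mem.mpr hmem
    exact nonZeroDivisors.coe_ne_zero s this
  · rw [← one_tmul_eq_zero_iff]
    have h2 : (1 : R ⧸ p) ⊗ₜ[R] (s0 • t) = (s : R ⧸ p) • ((1 : R ⧸ p) ⊗ₜ[R] t) := by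
      rw [TensorProduct.tmul_smul, ← hs0, TensorProduct.smul_tmul', TensorProduct.smul_tmul',
        smul_eq_mul, mul_one, Algebra.smul_def, mul_one]
      rfl
    rw [h2]
    exact hs

theorem S15391 (R : Type u) [CommRing R] [IsReduced R] [IsNoetherianRing R]
    (M : Type u) [AddCommGroup M] [Module R M] [Module.Finite R M] [Module.IsTorsionFree R M]
    (t : M) (ht : ∀ p : PrimeSpectrum R, (1 : p.asIdeal.ResidueField) ⊗ₜ[R] t =
      (0 : p.asIdeal.ResidueField ⊗[R] M)) :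
    t = 0 := by
  classical
  have hmin : ∀ p ∈ minimalPrimes R, ¬ (Ideal.torsionOf R M t ≤ p) := by
    intro p hp hle
    haveI : p.IsPrime := hp.1.1
    obtain ⟨s, hs, hst⟩ := exists_smul_mem_of_tmul_eq_zero p M t (ht ⟨p, hp.1.1⟩)
    obtain ⟨u, hu, hust⟩ := exists_notMem_smul_eq_zero p hp _ hst
    have hmem : u * s ∈ Ideal.torsionOf R M t := by
      rw [Ideal.mem_torsionOf_iff, mul_smul]
      exact hust
    exact (‹p.IsPrime›.mem_or_mem (hle hmem)).elim hu hs
  have hfin := minimalPrimes.finite_of_isNoetherianRing R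
  have hnot : ¬ ((Ideal.torsionOf R M t : Set R) ⊆ ⋃ p ∈ (hfin.toFinset : Set (Ideal R)), p) := by
    rw [Ideal.subset_union_prime (f := fun p : Ideal R => p) ⊥ ⊥]
    · rintro ⟨p, hp, hle⟩
      exact hmin p (hfin.mem_toFinset.mp hp) hle
    · intro p hp _ _
      exact (hfin.mem_toFinset.mp hp).1.1
  rw [Set.not_subset] at hnot
  obtain ⟨r, hr, hrn⟩ := hnot
  have hr' : ∀ p ∈ minimalPrimes R, r ∉ p := by
    intro p hp hrp
    apply hrn
    simp only [Set.mem_iUnion]
    exact ⟨p, by simpa using hp, hrp⟩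
  have hreg : IsRegular r := by
    rw [isRegular_iff_mem_nonZeroDivisors, mem_nonZeroDivisors_iff_right]
    intro x hx
    apply IsNilpotent.eq_zero
    have hx' : x ∈ (⊥ : Ideal R).radical := by
      rw [← Ideal.sInf_minimalPrimes, Ideal.mem_sInf]
      intro p hp
      have h1 : x * r ∈ p := by rw [hx]; exact p.zero_mem
      exact (hp.1.1.mem_or_mem h1).resolve_right (hr' p hp)
    obtain ⟨n, hn⟩ := hx'
    exact ⟨n, hn⟩
  have hrt : r • t = 0 := (Ideal.mem_torsionOf_iff t r).mp hr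
  have hsr : IsSMulRegular M r := Module.IsTorsionFree.isSMulRegular hreg
  exact hsr.right_eq_zero_of_smul hrt

end Groth.Agent.Helper1.XLowD
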