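import Mathlib

/-!
# Miscellaneous low-tier statements (helper1), part E
-/

set_option autoImplicit false

namespace Groth.Agent.Helper1.XLowE

universe u v

theorem S18392 (A : Type u) [CommRing A] [IsDomain A] [IsNoetherianRing A] (z : A)
    (hz : (Ideal.span {z}).radical.IsPrime) (V : Set (PrimeSpectrum A)) (hV : IsOpen V)
    (hne : V.Nonempty) :
    ∃ x : A, x ∉ (Ideal.span {z}).radical ∧
      ((PrimeSpectrum.basicOpen (x * z) : TopologicalSpace.Opens (PrimeSpectrum A)) :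
        Set (PrimeSpectrum A)) ⊆ V := by
  classical
  obtain ⟨𝔞, h𝔞⟩ : ∃ 𝔞 : Ideal A, Vᶜ = PrimeSpectrum.zeroLocus (𝔞 : Set A) :=
    (PrimeSpectrum.isClosed_iff_zeroLocus_ideal Vᶜ).mp hV.isClosed_compl
  have h𝔞ne : 𝔞 ≠ ⊥ := by
    rintro rfl
    rw [PrimeSpectrum.zeroLocus_bot] at h𝔞
    obtain ⟨v, hv⟩ := hne
    have : v ∈ Vᶜ := by rw [h𝔞]; trivial
    exact this hv
  have hfin := Ideal.finite_minimalPrimes_of_isNoetherianRing A 𝔞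
  let T : Finset (Ideal A) := hfin.toFinset.filter (fun 𝔮 => z ∉ 𝔮)
  have hJ : ¬ (T.inf id ≤ (Ideal.span {z}).radical) := by
    intro hle
    obtain ⟨𝔮, h𝔮T, h𝔮𝔭⟩ := hz.inf_le'.mp hle
    rw [Finset.mem_filter, Set.Finite.mem_toFinset] at h𝔮T
    obtain ⟨h𝔮min, hz𝔮⟩ := h𝔮T
    have h𝔮p : 𝔮.IsPrime := h𝔮min.1.1
    have hlt : 𝔮 < (Ideal.span {z}).radical := lt_of_le_of_ne h𝔮𝔭 (by
      intro h
      exact hz𝔮 (h ▸ Ideal.le_radical (Ideal.mem_span_singleton_self z)))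
    have h𝔭min : (Ideal.span {z}).radical ∈ (Ideal.span {z}).minimalPrimes := by
      refine ⟨⟨hz, Ideal.le_radical⟩, ?_⟩
      rintro 𝔯 ⟨h𝔯p, h𝔯z⟩ _
      exact (Ideal.IsPrime.radical_le_iff h𝔯p).mpr h𝔯z
    have hht : ((Ideal.span {z}).radical).height ≤ 1 :=
      Ideal.height_le_one_of_isPrincipal_of_mem_minimalPrimes (Ideal.span {z}) _ h𝔭min
    have h1 : 𝔮.height < ((Ideal.span {z}).radical).height :=
      Ideal.height_strict_mono_of_isPrime_of_isPrime hlt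
    have h2 : 𝔮.height = 0 := Order.lt_one_iff.mp (lt_of_lt_of_le h1 hht)
    rw [Ideal.height_eq_zero_iff_eq_bot] at h2
    exact h𝔞ne (le_bot_iff.mp (h2 ▸ h𝔮min.1.2))
  obtain ⟨x, hxJ, hx𝔭⟩ := SetLike.not_le_iff_exists.mp hJ
  refine ⟨x, hx𝔭, ?_⟩
  intro q hq
  by_contra hqV
  have hqV' : q ∈ PrimeSpectrum.zeroLocus (𝔞 : Set A) := h𝔞 ▸ hqV
  have hxz : x * z ∈ 𝔞.radical := by
    rw [← Ideal.sInf_minimalPrimes, Ideal.mem_sInf]
    intro 𝔮 h𝔮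
    by_cases hz𝔮 : z ∈ 𝔮
    · exact 𝔮.mul_mem_left x hz𝔮
    · have h𝔮T : 𝔮 ∈ T := by
        rw [Finset.mem_filter, Set.Finite.mem_toFinset]; exact ⟨h𝔮, hz𝔮⟩
      exact 𝔮.mul_mem_right z ((Finset.inf_le h𝔮T : T.inf id ≤ id 𝔮) hxJ)
  have h1 : 𝔞 ≤ q.asIdeal := (PrimeSpectrum.mem_zeroLocus _ _).mp hqV'
  exact hq ((Ideal.IsPrime.radical_le_iff q.isPrime).mpr h1 hxz)

theorem S18393 {C : Type u} {X : Type v} [TopologicalSpace C] [TopologicalSpace X]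
    [TopologicalSpace.NoetherianSpace C]
    (c₁ c₂ : C → X) (hc₁ : Continuous c₁) (hc₂ : Continuous c₂) (Z : Set X) (hZ : IsClosed Z) :
    (∀ x ∈ Z, ∃ U : Set X, IsOpen U ∧ x ∈ U ∧
        ∀ y : C, c₂ y ∈ Z → c₂ y ∈ U → c₁ y ∈ U → c₁ y ∈ Z) ↔
      ∀ T : Set C, T ⊆ closure (c₂ ⁻¹' Z \ c₁ ⁻¹' Z) → IsIrreducible T →
        closure (c₁ '' T) ∩ closure (c₂ '' T) = ∅ := by
  have hB : closure (c₂ ⁻¹' Z \ c₁ ⁻¹' Z) ⊆ c₂ ⁻¹' Z :=
    closure_minimal Set.sdiff_subset (hZ.preimage hc₂)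
  constructor
  · intro h T hT hTirr
    rw [Set.eq_empty_iff_forall_notMem]
    rintro x ⟨hx1, hx2⟩
    have hxZ : x ∈ Z := by
      have h1 : closure (c₂ '' T) ⊆ Z :=
        closure_minimal (by rintro _ ⟨y, hy, rfl⟩; exact hB (hT hy)) hZ
      exact h1 hx2
    obtain ⟨U, hUo, hxU, hU⟩ := h x hxZ
    obtain ⟨_, hU1, y₁, hy₁T, rfl⟩ := mem_closure_iff.mp hx1 U hUo hxU
    obtain ⟨_, hU2, y₂, hy₂T, rfl⟩ := mem_closure_iff.mp hx2 U hUo hxU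
    obtain ⟨y, hyT, hy1, hy2⟩ := hTirr.2 (c₁ ⁻¹' U) (c₂ ⁻¹' U) (hUo.preimage hc₁)
      (hUo.preimage hc₂) ⟨y₁, hy₁T, hU1⟩ ⟨y₂, hy₂T, hU2⟩
    obtain ⟨w, ⟨hw1, hw2⟩, hwZ2, hwZ1⟩ := mem_closure_iff.mp (hT hyT) (c₁ ⁻¹' U ∩ c₂ ⁻¹' U)
      ((hUo.preimage hc₁).inter (hUo.preimage hc₂)) ⟨hy1, hy2⟩
    exact hwZ1 (hU w hwZ2 hw2 hw1)
  · intro h x hxZ
    obtain ⟨S, hSf, hSc, hSi, hSU⟩ :=
      TopologicalSpace.NoetherianSpace.exists_finite_set_isClosed_irreducible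
        (isClosed_closure : IsClosed (closure (c₂ ⁻¹' Z \ c₁ ⁻¹' Z)))
    have hF : ∀ T ∈ S, ∃ F : Set X, IsClosed F ∧ x ∉ F ∧
        (closure (c₁ '' T) = F ∨ closure (c₂ '' T) = F) := by
      intro T hTS
      have hdisj := h T (hSU ▸ Set.subset_sUnion_of_mem hTS) (hSi T hTS)
      by_cases hx1 : x ∈ closure (c₁ '' T)
      · refine ⟨closure (c₂ '' T), isClosed_closure, ?_, Or.inr rfl⟩
        intro hx2
        have h3 : x ∈ closure (c₁ '' T) ∩ closure (c₂ '' T) := ⟨hx1, hx2⟩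
        rw [hdisj] at h3
        exact h3
      · exact ⟨closure (c₁ '' T), isClosed_closure, hx1, Or.inl rfl⟩
    choose! F hFc hFx hFeq using hF
    refine ⟨(⋃ T ∈ S, F T)ᶜ, ?_, ?_, ?_⟩
    · exact (hSf.isClosed_biUnion hFc).isOpen_compl
    · simp only [Set.mem_compl_iff, Set.mem_iUnion, not_exists]
      intro T hT
      exact hFx T hT
    · intro y hyZ hyU2 hyU1
      by_contra hy1
      have hyD : y ∈ closure (c₂ ⁻¹' Z \ c₁ ⁻¹' Z) := subset_closure ⟨hyZ, hy1⟩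
      rw [hSU] at hyD
      obtain ⟨T, hTS, hyT⟩ := hyD
      rcases hFeq T hTS with h1 | h2
      · apply hyU1
        exact Set.mem_biUnion hTS (h1 ▸ subset_closure ⟨y, hyT, rfl⟩)
      · apply hyU2
        exact Set.mem_biUnion hTS (h2 ▸ subset_closure ⟨y, hyT, rfl⟩)

end Groth.Agent.Helper1.XLowE
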