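import Mathlib
import Groth.Agent.Lib.Helper1.LocalCrit

/-!
# Miscellaneous low-tier statements (helper1), part F
-/

set_option autoImplicit false

namespace Groth.Agent.Helper1.XLowF

open TensorProduct Groth.Agent.Helper1.LocalCrit

universe u v w

/-- A saturated submodule (w.r.t. a non-zero-divisor `a` on `M`) has injective reduction
modulo `a`. -/
theorem lTensor_quotient_span_singleton_subtype_injective {R : Type u} [CommRing R]
    {M : Type v} [AddCommGroup M] [Module R M] (a : R) (N : Submodule R M)
    (hsat : ∀ m : M, a • m ∈ N → m ∈ N) :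
    Function.Injective (LinearMap.lTensor (R ⧸ Ideal.span {a}) N.subtype) := by
  rw [injective_iff_map_eq_zero]
  intro z hz
  obtain ⟨n, rfl⟩ := exists_one_tmul_eq (Ideal.span {a}) N z
  rw [LinearMap.lTensor_tmul, one_tmul_eq_zero_iff, Submodule.ideal_span_singleton_smul] at hz
  obtain ⟨m, -, hm⟩ := hz
  have hm' : a • m = (n : M) := hm
  have hmN : m ∈ N := hsat m (hm' ▸ n.2)
  rw [one_tmul_eq_zero_iff, Submodule.ideal_span_singleton_smul]
  refine ⟨⟨m, hmN⟩, Submodule.mem_top, ?_⟩
  apply Subtype.ext
  exact hm'

theorem S16358 (p : ℕ) [Fact p.Prime]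
    (k : Type u) [Field k] [CharP k p] [PerfectRing k p]
    (M : Type v) [AddCommGroup M] [Module (WittVector p k) M]
    [Module.Free (WittVector p k) M]
    (G : Type w) [Group G] (ρ : Representation (WittVector p k) G M) :
    Function.Injective
      (LinearMap.lTensor (WittVector p k ⧸ Ideal.span {(p : WittVector p k)})
        ρ.invariants.subtype) := by
  apply lTensor_quotient_span_singleton_subtype_injective
  intro m hm
  rw [Representation.mem_invariants] at hm ⊢
  intro g
  have h1 := hm g
  rw [map_smul] at h1
  exact smul_right_injective M (WittVector.p_nonzero p k) h1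

end Groth.Agent.Helper1.XLowF
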