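import Mathlib
import Groth.Agent.Lib.Helper1.DegFin1
import Groth.Agent.Lib.Helper1.VB5
import Groth.Agent.Lib.Helper1.HProj2
import Groth.Agent.Lib.Helper4.ProperPush1
import Groth.Prelude.Def_RelProj

/-!
# Dominant integral curves over a smooth curve are finite flat (helper1)
-/

set_option autoImplicit false
universe u
open CategoryTheory CategoryTheory.Limits AlgebraicGeometry TopologicalSpace Opposite

namespace Groth.Agent.Helper1.ZCorr

section Flat

variable {Z C : Scheme.{u}} [IsIntegral Z] [IsIntegral C] (q : Z ⟶ C)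

theorem map_genericPoint_of_surjective (hq : Function.Surjective q.base) :
    q.base (genericPoint Z) = genericPoint C := by
  obtain ⟨z, hz⟩ := hq (genericPoint C)
  have h1 : genericPoint Z ⤳ z := (genericPoint_spec Z).specializes (by simp)
  have h2 : q.base (genericPoint Z) ⤳ genericPoint C := hz ▸ h1.map q.continuous
  have h3 : genericPoint C ⤳ q.base (genericPoint Z) :=
    (genericPoint_spec C).specializes (by simp)
  exact (h2.antisymm h3).eq

theorem stalkMap_injective (hξ : q.base (genericPoint Z) = genericPoint C) (z : Z) :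
    Function.Injective (q.stalkMap z).hom := by
  have hdom : q.base (genericPoint Z) ⤳ genericPoint C := hξ ▸ specializes_rfl
  rw [injective_iff_map_eq_zero]
  intro a ha
  obtain ⟨V, hzV, s, rfl⟩ := TopCat.Presheaf.exists_germ_eq C.presheaf (x := q.base z) a
  have h1 := Scheme.Hom.germ_stalkMap_apply q V z hzV s
  rw [h1] at ha
  have h2 : q.app V s = 0 :=
    germ_injective_of_isIntegral Z z hzV (ha.trans (map_zero _).symm)
  have hV : genericPoint C ∈ V :=
    ((genericPoint_spec C).specializes (Set.mem_univ (q.base z))).mem_open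
      V.2 hzV
  have h3 : s = 0 :=
    Groth.Agent.Lib.Helper4.ProperPush1.app_injective_of_dominant q hdom V hV
      (h2.trans (map_zero _).symm)
  rw [h3, map_zero]

/-- a dominant morphism from an integral scheme to a scheme whose local rings are valuation rings
is flat -/
theorem flat_of_valuationRing (hξ : q.base (genericPoint Z) = genericPoint C)
    (hC : ∀ c : C, ValuationRing (C.presheaf.stalk c)) : Flat q := by
  rw [Flat.iff_flat_stalkMap]
  intro z
  haveI := hC (q.base z)
  letI : Algebra (C.presheaf.stalk (q.base z)) (Z.presheaf.stalk z) := (q.stalkMap z).hom.toAlgebra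
  change Module.Flat (C.presheaf.stalk (q.base z)) (Z.presheaf.stalk z)
  rw [Module.Flat.flat_iff_torsion_eq_bot_of_isBezout, eq_bot_iff]
  intro b hb
  rw [Submodule.mem_torsion_iff] at hb
  obtain ⟨⟨r, hr⟩, hrb⟩ := hb
  rw [Submodule.mem_bot]
  have h1 : (q.stalkMap z).hom r * b = 0 := hrb
  rcases mul_eq_zero.mp h1 with h | h
  · exfalso
    have := stalkMap_injective q hξ z (h.trans (map_zero _).symm)
    exact (nonZeroDivisors.ne_zero hr) this
  · exact h

end Flat

section Main

variable (k : Type u) [Field k] (C X : Scheme.{u}) [C.Over (Spec (CommRingCat.of k))]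
  [X.Over (Spec (CommRingCat.of k))]

/-- S18267 -/
theorem finite_flat [IsIntegral C] [Smooth (C ↘ Spec (CommRingCat.of k))]
    (hC : RelProj.IsHQuasiProjective (C ↘ Spec (CommRingCat.of k)))
    (hdimC : topologicalKrullDim C = 1)
    (hX : RelProj.IsHProjective (X ↘ Spec (CommRingCat.of k)))
    {Z : Scheme.{u}}
    (i : Z ⟶ pullback (C ↘ Spec (CommRingCat.of k)) (X ↘ Spec (CommRingCat.of k)))
    [IsClosedImmersion i] [IsIntegral Z] (hdimZ : topologicalKrullDim Z = 1)
    (hsurj : Function.Surjective
      ⇑(i ≫ pullback.fst (C ↘ Spec (CommRingCat.of k)) (X ↘ Spec (CommRingCat.of k)))) :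
    IsFinite (i ≫ pullback.fst (C ↘ Spec (CommRingCat.of k)) (X ↘ Spec (CommRingCat.of k))) ∧
      Flat (i ≫ pullback.fst (C ↘ Spec (CommRingCat.of k)) (X ↘ Spec (CommRingCat.of k))) := by
  haveI : IsProper (X ↘ Spec (CommRingCat.of k)) := by
    obtain ⟨n, j, hj, hjf⟩ := hX
    rw [← hjf]
    infer_instance
  haveI : LocallyOfFiniteType (C ↘ Spec (CommRingCat.of k)) := by
    obtain ⟨n, j, hj1, hj2, hjf⟩ := hC
    rw [← hjf]
    infer_instance
  haveI : QuasiCompact (C ↘ Spec (CommRingCat.of k)) := by
    obtain ⟨n, j, hj1, hj2, hjf⟩ := hC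
    rw [← hjf]
    infer_instance
  set q := i ≫ pullback.fst (C ↘ Spec (CommRingCat.of k)) (X ↘ Spec (CommRingCat.of k)) with hq
  haveI : IsProper q := by rw [hq]; infer_instance
  haveI : IsNoetherian Z :=
    VB5.isNoetherian_of_proper k (q ≫ (C ↘ Spec (CommRingCat.of k)))
  have hξ := map_genericPoint_of_surjective q hsurj
  refine ⟨DegFin.isFinite_of_nonconstant q hdimZ.le hdimC hξ, ?_⟩
  exact flat_of_valuationRing q hξ fun c =>
    VB5.valuationRing_stalk_of_smooth k (C ↘ Spec (CommRingCat.of k)) hdimC.le c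

end Main

end Groth.Agent.Helper1.ZCorr
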