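import Mathlib

set_option autoImplicit false
universe u

namespace Groth.Agent.Helper1.ZMTa

/-- comparison of localizations away from an element along an injective ring map which is
"surjective up to powers" -/
theorem bijective_of_away {R R' Ra Ra' : Type*} [CommRing R] [CommRing R'] [CommRing Ra]
    [CommRing Ra'] [Algebra R Ra] [Algebra R' Ra'] (φ : R →+* R') (a : R)
    [IsLocalization.Away a Ra] [IsLocalization.Away (φ a) Ra'] (ψ : Ra →+* Ra')
    (hψ : ψ.comp (algebraMap R Ra) = (algebraMap R' Ra').comp φ) (hinj : Function.Injective φ)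
    (hsurj : ∀ x : R', ∃ n : ℕ, ∃ r : R, φ a ^ n * x = φ r) : Function.Bijective ψ := by
  have hψ' : ∀ r : R, ψ (algebraMap R Ra r) = algebraMap R' Ra' (φ r) := fun r =>
    congrArg (fun f : R →+* Ra' => f r) hψ
  have hunit : ∀ k : ℕ, IsUnit (algebraMap R' Ra' (φ a ^ k)) := fun k => by
    rw [map_pow]
    exact (IsLocalization.Away.algebraMap_isUnit (φ a)).pow k
  have hunit0 : ∀ k : ℕ, IsUnit (algebraMap R Ra (a ^ k)) := fun k => by
    rw [map_pow]
    exact (IsLocalization.Away.algebraMap_isUnit a).pow k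
  constructor
  · rw [injective_iff_map_eq_zero]
    intro y hy
    obtain ⟨⟨r, ⟨_, k, rfl⟩⟩, hr⟩ := IsLocalization.surj (Submonoid.powers a) y
    simp only at hr
    have h1 : algebraMap R' Ra' (φ r) = 0 := by
      rw [← hψ', ← hr, map_mul, hy, zero_mul]
    obtain ⟨⟨_, m, rfl⟩, hm⟩ := (IsLocalization.map_eq_zero_iff (Submonoid.powers (φ a)) Ra' _).1 h1
    simp only at hm
    have h2 : a ^ m * r = 0 := by
      apply hinj
      rw [map_mul, map_pow, map_zero, hm]
    have h3 : algebraMap R Ra r = 0 :=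
      (IsLocalization.map_eq_zero_iff (Submonoid.powers a) Ra r).2 ⟨⟨_, m, rfl⟩, h2⟩
    rw [h3] at hr
    exact (hunit0 k).mul_left_eq_zero.1 hr
  · intro z
    obtain ⟨⟨x, ⟨_, k, rfl⟩⟩, hx⟩ := IsLocalization.surj (Submonoid.powers (φ a)) z
    simp only at hx
    obtain ⟨n, r, hr⟩ := hsurj x
    obtain ⟨y, hy⟩ := (hunit0 (n + k)).exists_right_inv
    refine ⟨algebraMap R Ra r * y, ?_⟩
    have h4 : ψ (algebraMap R Ra r * y) * algebraMap R' Ra' (φ a ^ (n + k)) =
        algebraMap R' Ra' (φ r) := by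
      rw [← map_pow, ← hψ', ← map_mul, mul_assoc, mul_comm y, hy, mul_one, hψ']
    have h5 : z * algebraMap R' Ra' (φ a ^ (n + k)) = algebraMap R' Ra' (φ r) := by
      rw [← hr, pow_add, map_mul, map_mul, ← hx]
      ring
    exact (hunit (n + k)).mul_left_injective (h4.trans h5.symm)

end Groth.Agent.Helper1.ZMTa
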