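import Mathlib
import Groth.Agent.Lib.Helper1.ZMTa1

set_option autoImplicit false
universe u

namespace Groth.Agent.Helper1.ZMTa

section
variable {A A'' L : Type*} [CommRing A] [CommRing A''] [CommRing L] [Algebra A A'']
  [Algebra A'' L] [Algebra A L] [IsScalarTower A A'' L]

/-- the elements of a localization which become elements of `C` after multiplication by a power
of `a` -/
def powSub (C : Subalgebra A A'') (a : A'') (ha : a ∈ C) : Subalgebra A L where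
  carrier := {y | ∃ n : ℕ, ∃ c ∈ C, y * algebraMap A'' L a ^ n = algebraMap A'' L c}
  mul_mem' := by
    rintro y₁ y₂ ⟨n₁, c₁, hc₁, h₁⟩ ⟨n₂, c₂, hc₂, h₂⟩
    refine ⟨n₁ + n₂, c₁ * c₂, C.mul_mem hc₁ hc₂, ?_⟩
    rw [map_mul, ← h₁, ← h₂, pow_add]
    ring
  one_mem' := ⟨0, 1, C.one_mem, by simp⟩
  add_mem' := by
    rintro y₁ y₂ ⟨n₁, c₁, hc₁, h₁⟩ ⟨n₂, c₂, hc₂, h₂⟩
    refine ⟨n₁ + n₂, c₁ * a ^ n₂ + c₂ * a ^ n₁,
      C.add_mem (C.mul_mem hc₁ (C.pow_mem ha _)) (C.mul_mem hc₂ (C.pow_mem ha _)), ?_⟩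
    rw [map_add, map_mul, map_mul, ← h₁, ← h₂, pow_add, map_pow, map_pow]
    ring
  zero_mem' := ⟨0, 0, C.zero_mem, by simp⟩
  algebraMap_mem' := by
    intro r
    refine ⟨0, algebraMap A A'' r, C.algebraMap_mem r, ?_⟩
    rw [pow_zero, mul_one, ← IsScalarTower.algebraMap_apply]

theorem exists_finset_of_finiteType (a : A'') [IsLocalization.Away a L]
    (hft : Algebra.FiniteType A L) :
    ∃ t : Finset A'', ∀ C : Subalgebra A A'', a ∈ C → (↑t : Set A'') ⊆ C →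
      ∀ x : A'', ∃ n : ℕ, a ^ n * x ∈ C := by
  classical
  obtain ⟨G, hG⟩ := hft.out
  have hsurj : ∀ g : L, ∃ c : A'', ∃ n : ℕ, g * algebraMap A'' L a ^ n = algebraMap A'' L c := by
    intro g
    obtain ⟨⟨c, ⟨_, n, rfl⟩⟩, h⟩ := IsLocalization.surj (Submonoid.powers a) g
    exact ⟨c, n, by simpa using h⟩
  choose cg ng hcg using hsurj
  refine ⟨G.image cg, ?_⟩
  intro C haC htC x
  have hB : powSub (L := L) C a haC = ⊤ := by
    rw [eq_top_iff, ← hG]
    apply Algebra.adjoin_le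
    intro g hg
    refine ⟨ng g, cg g, htC ?_, hcg g⟩
    rw [Finset.coe_image]
    exact ⟨g, hg, rfl⟩
  have hx : algebraMap A'' L x ∈ powSub (L := L) C a haC := by rw [hB]; trivial
  obtain ⟨n, c, hc, h⟩ := hx
  rw [← map_pow, ← map_mul] at h
  obtain ⟨⟨_, m, rfl⟩, hm⟩ := (IsLocalization.eq_iff_exists (Submonoid.powers a) L).1 h
  simp only at hm
  refine ⟨m + n, ?_⟩
  have : a ^ (m + n) * x = a ^ m * c := by
    rw [← hm, pow_add]; ring
  rw [this]
  exact C.mul_mem (C.pow_mem haC _) hc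

end

end Groth.Agent.Helper1.ZMTa
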