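import Mathlib
import Groth.Agent.Lib.Helper1.ZMTa2

set_option autoImplicit false
universe u
open CategoryTheory CategoryTheory.Limits AlgebraicGeometry TopologicalSpace Opposite

namespace Groth.Agent.Helper1.ZMTa

variable {E N T : Scheme.{u}}

theorem morphismRestrict_apply' (c : N ⟶ T) (U : T.Opens) (z : ↥(c ⁻¹ᵁ U)) :
    ((c ∣_ U) z).1 = c z.1 := by
  have h := congrArg (fun φ : ((c ⁻¹ᵁ U : N.Opens) : Scheme.{u}) ⟶ T => φ z) (morphismRestrict_ι c U)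
  simp only [Scheme.Hom.comp_apply] at h
  exact h

/-- **Lemma B'** -/
theorem isOpenImmersion_of_forall_isIso (j₀ : E ⟶ N) [IsOpenImmersion j₀] (c : N ⟶ T)
    {ι : Type*} (U : ι → T.Opens) (hcov : ∀ e : E, ∃ i, c (j₀ e) ∈ U i)
    (hiso : ∀ i, IsIso (c ∣_ U i)) : IsOpenImmersion (j₀ ≫ c) := by
  apply IsOpenImmersion.of_forall_source_exists
  · intro e e' hee'
    rw [Scheme.Hom.comp_apply, Scheme.Hom.comp_apply] at hee'
    obtain ⟨i, hi⟩ := hcov e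
    have hi' : c (j₀ e') ∈ U i := hee' ▸ hi
    haveI := hiso i
    let z : ↥(c ⁻¹ᵁ U i) := ⟨j₀ e, hi⟩
    let z' : ↥(c ⁻¹ᵁ U i) := ⟨j₀ e', hi'⟩
    have hz : (c ∣_ U i) z = (c ∣_ U i) z' := by
      apply Subtype.ext
      rw [morphismRestrict_apply', morphismRestrict_apply']
      exact hee'
    have hinj : Function.Injective (c ∣_ U i) :=
      (ConcreteCategory.bijective_of_isIso (c ∣_ U i).base).1
    have h2 : z = z' := hinj hz
    have h3 : j₀ e = j₀ e' := congrArg Subtype.val h2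
    exact j₀.isOpenEmbedding.injective h3
  · intro e
    obtain ⟨i, hi⟩ := hcov e
    haveI := hiso i
    refine ⟨_, (j₀ ⁻¹ᵁ (c ⁻¹ᵁ U i)).ι, inferInstance, ?_, ?_⟩
    · rw [Scheme.Opens.opensRange_ι]
      exact hi
    · have h1 : (j₀ ⁻¹ᵁ (c ⁻¹ᵁ U i)).ι ≫ j₀ ≫ c = (j₀ ∣_ (c ⁻¹ᵁ U i)) ≫ (c ∣_ U i) ≫ (U i).ι := by
        rw [morphismRestrict_ι, ← Category.assoc, ← morphismRestrict_ι, Category.assoc]
      rw [h1]
      infer_instance

end Groth.Agent.Helper1.ZMTa
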