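import Mathlib
import Groth.Agent.Lib.Helper1.ZMTa3

set_option autoImplicit false
universe u
open CategoryTheory CategoryTheory.Limits AlgebraicGeometry TopologicalSpace Opposite

namespace Groth.Agent.Helper1.ZMTa

theorem appTop_toSpecΓ_comp {N : Scheme.{u}} {C' : CommRingCat.{u}} (β : C' ⟶ Γ(N, ⊤)) :
    (N.toSpecΓ ≫ Spec.map β).appTop = (Scheme.ΓSpecIso C').hom ≫ β := by
  rw [Scheme.Hom.comp_appTop, Scheme.toSpecΓ_appTop, Scheme.ΓSpecIso_naturality]

set_option maxHeartbeats 800000 in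
theorem isIso_morphismRestrict_of_away {N : Scheme.{u}} [IsAffine N] {C' : CommRingCat.{u}}
    (β : C' ⟶ Γ(N, ⊤)) (hβ : Function.Injective β.hom) (aC : C')
    (hsurj : ∀ x : Γ(N, ⊤), ∃ n : ℕ, ∃ r : C', β.hom aC ^ n * x = β.hom r) :
    IsIso ((N.toSpecΓ ≫ Spec.map β) ∣_
      ((Spec C').basicOpen ((Scheme.ΓSpecIso C').inv.hom aC))) := by
  set c := N.toSpecΓ ≫ Spec.map β with hc
  set a' := (Scheme.ΓSpecIso C').inv.hom aC with ha'
  have happ : c.appTop = (Scheme.ΓSpecIso C').hom ≫ β := appTop_toSpecΓ_comp β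
  have hcr : ∀ r : C', c.appTop.hom ((Scheme.ΓSpecIso C').inv.hom r) = β.hom r := by
    intro r
    rw [happ, CommRingCat.hom_comp, RingHom.comp_apply]
    congr 1
    exact congrArg (fun φ : C' ⟶ C' => φ.hom r) (Scheme.ΓSpecIso C').inv_hom_id
  have hca' : c.appTop.hom a' = β.hom aC := hcr aC
  haveI : IsAffineHom c := inferInstance
  have hUaff : IsAffineOpen ((Spec C').basicOpen a') := (isAffineOpen_top (Spec C')).basicOpen a'
  rw [isIso_morphismRestrict_iff_isIso_app c hUaff, ConcreteCategory.isIso_iff_bijective]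
  have hpre : c ⁻¹ᵁ ((Spec C').basicOpen a') = N.basicOpen (c.appTop.hom a') :=
    Scheme.preimage_basicOpen_top c a'
  letI alg1 : Algebra Γ(N, ⊤) Γ(N, c ⁻¹ᵁ ((Spec C').basicOpen a')) :=
    (N.presheaf.map (homOfLE le_top).op).hom.toAlgebra
  haveI loc1 : IsLocalization.Away (c.appTop.hom a') Γ(N, c ⁻¹ᵁ ((Spec C').basicOpen a')) :=
    (isAffineOpen_top N).isLocalization_of_eq_basicOpen (c.appTop.hom a') (homOfLE le_top) hpre
  haveI loc2 : IsLocalization.Away a' Γ(Spec C', (Spec C').basicOpen a') :=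
    (isAffineOpen_top (Spec C')).isLocalization_basicOpen a'
  refine bijective_of_away (c.appTop.hom) a' (c.app ((Spec C').basicOpen a')).hom ?_ ?_ ?_
  · have hnat := c.naturality (homOfLE ((Spec C').basicOpen_le a')).op
    exact congrArg CommRingCat.Hom.hom hnat
  · rw [happ, CommRingCat.hom_comp]
    exact hβ.comp (ConcreteCategory.bijective_of_isIso (Scheme.ΓSpecIso C').hom).1
  · intro x
    obtain ⟨n, r, hr⟩ := hsurj x
    refine ⟨n, (Scheme.ΓSpecIso C').inv.hom r, ?_⟩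
    rw [hca', hcr, hr]

variable {X V : Scheme.{u}}

set_option maxHeartbeats 1600000 in
/-- base case: affine target -/
theorem zmt_affine [IsAffine V] (f : X ⟶ V) [IsSeparated f] [LocallyOfFiniteType f]
    [QuasiCompact f] [LocallyQuasiFinite f] :
    ∃ (T : Scheme.{u}) (j : X ⟶ T) (π : T ⟶ V), IsOpenImmersion j ∧ IsFinite π ∧ j ≫ π = f := by
  classical
  set N := f.normalization with hN
  set toN := f.toNormalization with htoN
  set fromN := f.fromNormalization with hfromN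
  have hfac : toN ≫ fromN = f := f.toNormalization_fromNormalization
  haveI : IsAffine N := isAffine_of_isAffineHom fromN
  haveI : IsOpenImmersion toN := inferInstance
  haveI : CompactSpace X := QuasiCompact.compactSpace_of_compactSpace f
  -- finite basic open cover of the range
  obtain ⟨s, hsfin, hs⟩ := (isCompact_and_isOpen_iff_finite_and_eq_biUnion_basicOpen
    (X := N) (U := Set.range toN)).1 ⟨isCompact_range toN.continuous, toN.isOpenEmbedding.isOpen_range⟩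
  letI algAA'' : Algebra Γ(V, ⊤) Γ(N, ⊤) := fromN.appTop.hom.toAlgebra
  haveI : Algebra.IsIntegral Γ(V, ⊤) Γ(N, ⊤) := by
    rw [← algebraMap_isIntegral_iff]
    exact IsIntegralHom.isIntegral_app fromN ⊤ (isAffineOpen_top V)
  -- the localizations
  have hft : ∀ a ∈ s, ((algebraMap Γ(N, ⊤) Γ(N, N.basicOpen a)).comp
      (algebraMap Γ(V, ⊤) Γ(N, ⊤))).FiniteType := by
    intro a ha
    have hle : N.basicOpen a ≤ toN.opensRange := by
      intro z hz
      have : z ∈ Set.range toN := by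
        rw [hs]
        exact Set.mem_biUnion ha hz
      exact this
    have hXa : IsAffineOpen (toN ⁻¹ᵁ N.basicOpen a) :=
      ((isAffineOpen_top N).basicOpen a).preimage_of_isOpenImmersion toN hle
    have h1 : (f.appLE ⊤ (toN ⁻¹ᵁ N.basicOpen a) le_top).hom.FiniteType :=
      f.finiteType_appLE (isAffineOpen_top V) hXa le_top
    have h2 : f.appLE ⊤ (toN ⁻¹ᵁ N.basicOpen a) le_top =
        fromN.appLE ⊤ (N.basicOpen a) le_top ≫ toN.appLE (N.basicOpen a) (toN ⁻¹ᵁ N.basicOpen a)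
          le_rfl := by
      have h3 := Scheme.Hom.appLE_comp_appLE toN fromN ⊤ (N.basicOpen a)
        (toN ⁻¹ᵁ N.basicOpen a) le_top le_rfl
      rw [h3]
      have gen : ∀ (g : X ⟶ V) (hg : g = f) (e : toN ⁻¹ᵁ N.basicOpen a ≤ g ⁻¹ᵁ ⊤),
          f.appLE ⊤ (toN ⁻¹ᵁ N.basicOpen a) le_top = g.appLE ⊤ (toN ⁻¹ᵁ N.basicOpen a) e := by
        rintro g rfl e
        rfl
      exact gen _ hfac _
    haveI hiso : IsIso (toN.appLE (N.basicOpen a) (toN ⁻¹ᵁ N.basicOpen a) le_rfl) := by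
      rw [← Scheme.Hom.app_eq_appLE]
      exact toN.isIso_app _ hle
    have h4 : fromN.appLE ⊤ (N.basicOpen a) le_top =
        f.appLE ⊤ (toN ⁻¹ᵁ N.basicOpen a) le_top ≫
          inv (toN.appLE (N.basicOpen a) (toN ⁻¹ᵁ N.basicOpen a) le_rfl) := by
      rw [h2, Category.assoc, IsIso.hom_inv_id, Category.comp_id]
    have h5 : (fromN.appLE ⊤ (N.basicOpen a) le_top).hom.FiniteType := by
      rw [h4, CommRingCat.hom_comp]
      exact RingHom.FiniteType.comp (RingHom.FiniteType.of_surjective _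
        (ConcreteCategory.bijective_of_isIso _).2) h1
    have h6 : (algebraMap Γ(N, ⊤) Γ(N, N.basicOpen a)).comp (algebraMap Γ(V, ⊤) Γ(N, ⊤)) =
        (fromN.appLE ⊤ (N.basicOpen a) le_top).hom := by
      rw [Scheme.Hom.appLE, CommRingCat.hom_comp]
      rfl
    rw [h6]
    exact h5
  have htex : ∀ a : Γ(N, ⊤), a ∈ s → ∃ t : Finset Γ(N, ⊤),
      ∀ C : Subalgebra Γ(V, ⊤) Γ(N, ⊤), a ∈ C → (↑t : Set Γ(N, ⊤)) ⊆ C →
        ∀ x : Γ(N, ⊤), ∃ n : ℕ, a ^ n * x ∈ C := by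
    intro a ha
    letI : Algebra Γ(V, ⊤) Γ(N, N.basicOpen a) :=
      ((algebraMap Γ(N, ⊤) Γ(N, N.basicOpen a)).comp (algebraMap Γ(V, ⊤) Γ(N, ⊤))).toAlgebra
    haveI : IsScalarTower Γ(V, ⊤) Γ(N, ⊤) Γ(N, N.basicOpen a) :=
      IsScalarTower.of_algebraMap_eq (fun _ => rfl)
    haveI : IsLocalization.Away a Γ(N, N.basicOpen a) :=
      (isAffineOpen_top N).isLocalization_basicOpen a
    exact exists_finset_of_finiteType a (hft a ha)
  choose! t ht using htex
  set G : Set Γ(N, ⊤) := s ∪ ⋃ a ∈ s, (↑(t a) : Set Γ(N, ⊤)) with hG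
  have hGfin : G.Finite := hsfin.union (hsfin.biUnion (fun a _ => (t a).finite_toSet))
  set C : Subalgebra Γ(V, ⊤) Γ(N, ⊤) := Algebra.adjoin Γ(V, ⊤) G with hC
  haveI hCfin : Module.Finite Γ(V, ⊤) C :=
    Algebra.finite_adjoin_of_finite_of_isIntegral hGfin
      (fun x _ => Algebra.IsIntegral.isIntegral x)
  have hsC : ∀ a ∈ s, a ∈ C := fun a ha => Algebra.subset_adjoin (Or.inl ha)
  have htC : ∀ a ∈ s, (↑(t a) : Set Γ(N, ⊤)) ⊆ C := fun a ha x hx =>
    Algebra.subset_adjoin (Or.inr (Set.mem_biUnion ha hx))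
  let C' : CommRingCat.{u} := CommRingCat.of C
  let α : Γ(V, ⊤) ⟶ C' := CommRingCat.ofHom (algebraMap Γ(V, ⊤) C)
  let β : C' ⟶ Γ(N, ⊤) := CommRingCat.ofHom C.val.toRingHom
  have hαβ : α ≫ β = fromN.appTop := by
    ext x
    rfl
  have hβinj : Function.Injective β.hom := Subtype.val_injective
  let T : Scheme.{u} := Spec C'
  let c : N ⟶ T := N.toSpecΓ ≫ Spec.map β
  let π : T ⟶ V := Spec.map α ≫ V.isoSpec.inv
  haveI : IsFinite (Spec.map α) := by
    rw [IsFinite.SpecMap_iff]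
    exact RingHom.finite_algebraMap.2 hCfin
  haveI : IsFinite π := inferInstance
  have hcπ : c ≫ π = fromN := by
    change (N.toSpecΓ ≫ Spec.map β) ≫ Spec.map α ≫ V.isoSpec.inv = fromN
    rw [Category.assoc, ← Spec.map_comp_assoc, hαβ, ← Scheme.toSpecΓ_naturality_assoc,
      Scheme.toSpecΓ_isoSpec_inv, Category.comp_id]
  let U : s → T.Opens := fun a =>
    T.basicOpen ((Scheme.ΓSpecIso C').inv.hom (⟨a.1, hsC a.1 a.2⟩ : C))
  have hpre : ∀ a : s, c ⁻¹ᵁ (U a) = N.basicOpen a.1 := by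
    intro a
    have h1 := Scheme.preimage_basicOpen_top c
      ((Scheme.ΓSpecIso C').inv.hom (⟨a.1, hsC a.1 a.2⟩ : C))
    have h2 : c.appTop = (Scheme.ΓSpecIso C').hom ≫ β := appTop_toSpecΓ_comp β
    have h3 : (Scheme.ΓSpecIso C').hom.hom ((Scheme.ΓSpecIso C').inv.hom
        (⟨a.1, hsC a.1 a.2⟩ : C)) = (⟨a.1, hsC a.1 a.2⟩ : C) :=
      congrArg (fun φ : C' ⟶ C' => φ.hom (⟨a.1, hsC a.1 a.2⟩ : C)) (Scheme.ΓSpecIso C').inv_hom_id
    have h4 : c.appTop.hom ((Scheme.ΓSpecIso C').inv.hom (⟨a.1, hsC a.1 a.2⟩ : C)) = a.1 := by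
      rw [h2, CommRingCat.hom_comp, RingHom.comp_apply, h3]
      rfl
    rw [h1]
    exact congrArg N.basicOpen h4
  have hcov : ∀ e : X, ∃ a : s, c (toN e) ∈ U a := by
    intro e
    have h1 : toN e ∈ Set.range toN := ⟨e, rfl⟩
    rw [hs] at h1
    obtain ⟨a, ha, hea⟩ := Set.mem_iUnion₂.1 h1
    refine ⟨⟨a, ha⟩, ?_⟩
    have h2 : toN e ∈ c ⁻¹ᵁ (U ⟨a, ha⟩) := by
      rw [hpre]
      exact hea
    exact h2
  have hiso : ∀ a : s, IsIso (c ∣_ U a) := by
    intro a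
    apply isIso_morphismRestrict_of_away β hβinj (⟨a.1, hsC a.1 a.2⟩ : C)
    intro x
    obtain ⟨n, hn⟩ := ht a.1 a.2 C (hsC a.1 a.2) (htC a.1 a.2) x
    exact ⟨n, ⟨_, hn⟩, rfl⟩
  have hopen : IsOpenImmersion (toN ≫ c) := isOpenImmersion_of_forall_isIso toN c U hcov hiso
  refine ⟨T, toN ≫ c, π, hopen, inferInstance, ?_⟩
  rw [Category.assoc, hcπ, hfac]

end Groth.Agent.Helper1.ZMTa
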