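import Mathlib
import Groth.Agent.Lib.Helper1.ZMTa4
import Groth.Agent.Lib.Helper1.LocImm22

set_option autoImplicit false
universe u
open CategoryTheory CategoryTheory.Limits AlgebraicGeometry TopologicalSpace Opposite

namespace Groth.Agent.Helper1.ZMTa

/-- a property local at the target can be checked on `f ∣_ U` via any pullback square -/
theorem restrict_of_isPullback {P : MorphismProperty Scheme.{u}} [P.RespectsIso]
    {X Y UX : Scheme.{u}} (f : X ⟶ Y) (U : Y.Opens) {iX : UX ⟶ X} {f' : UX ⟶ (U : Scheme.{u})}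
    (h : IsPullback iX f' f U.ι) (H : P f') : P (f ∣_ U) := by
  have h0 := (isPullback_morphismRestrict f U).flip
  have e : (h0.isoIsPullback _ _ h).hom ≫ f' = f ∣_ U := h0.isoIsPullback_hom_snd _ _ h
  rw [← e]
  exact (P.cancel_left_of_respectsIso _ _).2 H

/-- double restriction, swapped -/
theorem restrict_restrict_swap {P : MorphismProperty Scheme.{u}} [IsZariskiLocalAtTarget P]
    {X Y : Scheme.{u}} (g : X ⟶ Y) (V W : Y.Opens) (H : P (g ∣_ V)) :
    P ((g ∣_ W) ∣_ (W.ι ⁻¹ᵁ V)) := by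
  have h1 : P ((g ∣_ V) ∣_ (V.ι ⁻¹ᵁ W)) := IsZariskiLocalAtTarget.restrict H _
  have h2 : P (g ∣_ (V.ι ''ᵁ (V.ι ⁻¹ᵁ W))) :=
    (P.arrow_mk_iso_iff (morphismRestrictRestrict g V (V.ι ⁻¹ᵁ W))).1 h1
  have e : V.ι ''ᵁ (V.ι ⁻¹ᵁ W) = W.ι ''ᵁ (W.ι ⁻¹ᵁ V) := by
    rw [Scheme.Hom.image_preimage_eq_opensRange_inf, Scheme.Hom.image_preimage_eq_opensRange_inf,
      Scheme.Opens.opensRange_ι, Scheme.Opens.opensRange_ι, inf_comm]
  have h3 : P (g ∣_ (W.ι ''ᵁ (W.ι ⁻¹ᵁ V))) :=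
    (P.arrow_mk_iso_iff (morphismRestrictEq g e)).1 h2
  exact (P.arrow_mk_iso_iff (morphismRestrictRestrict g W (W.ι ⁻¹ᵁ V))).2 h3

/-- **K1**: a dominant open immersion over `S` into a separated `S`-scheme is surjective over
any open over which the source is universally closed. -/
theorem mem_range_of_universallyClosed {Y T S : Scheme.{u}} (g : Y ⟶ S) (j : Y ⟶ T) (π : T ⟶ S)
    [IsOpenImmersion j] [IsDominant j] [IsSeparated π] (hjπ : j ≫ π = g) (V : S.Opens)
    (hV : UniversallyClosed (g ∣_ V)) (t : T) (ht : π t ∈ V) : t ∈ Set.range j := by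
  subst hjπ
  set P : T.Opens := π ⁻¹ᵁ V with hP
  have hcomp : (j ≫ π) ∣_ V = (j ∣_ P) ≫ (π ∣_ V) := morphismRestrict_comp j π V
  haveI : UniversallyClosed ((j ∣_ P) ≫ (π ∣_ V)) := hcomp ▸ hV
  haveI : IsSeparated (π ∣_ V) :=
    IsZariskiLocalAtTarget.restrict (P := @IsSeparated) inferInstance V
  haveI : UniversallyClosed (j ∣_ P) := UniversallyClosed.of_comp_of_isSeparated (j ∣_ P) (π ∣_ V)
  haveI : IsDominant (j ∣_ P) :=
    IsZariskiLocalAtTarget.restrict (P := @IsDominant) inferInstance P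
  have hclosed : IsClosed (Set.range (j ∣_ P)) := (j ∣_ P).isClosedMap.isClosed_range
  have hsurj := (surjective_of_isDominant_of_isClosed_range (j ∣_ P) hclosed).surj
  obtain ⟨y, hy⟩ := hsurj ⟨t, ht⟩
  refine ⟨y.1, ?_⟩
  rw [← morphismRestrict_base_coe, hy]

end Groth.Agent.Helper1.ZMTa
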