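import Mathlib
import Groth.Agent.Lib.Helper1.ZMTa5

set_option autoImplicit false
universe u
open CategoryTheory CategoryTheory.Limits AlgebraicGeometry TopologicalSpace Opposite

namespace Groth.Agent.Helper1.ZMTa

open Groth.Agent.Helper1.LocImmL

set_option maxHeartbeats 1600000 in
/-- **ZG**: ZMT for a morphism which is already finite over `V`, where `S = V ∪ W`, `W` affine. -/
theorem zmt_glue_finite {Y S : Scheme.{u}} (g : Y ⟶ S) [IsSeparated g] [LocallyOfFiniteType g]
    [QuasiCompact g] [LocallyQuasiFinite g] (V W : S.Opens) (hVW : V ⊔ W = ⊤)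
    (hW : IsAffineOpen W) (hV : IsFinite (g ∣_ V)) :
    ∃ (T : Scheme.{u}) (j : Y ⟶ T) (π : T ⟶ S), IsOpenImmersion j ∧ IsFinite π ∧ j ≫ π = g := by
  haveI : IsAffine (W : Scheme.{u}) := hW
  set YW : Y.Opens := g ⁻¹ᵁ W with hYW
  set gW : (YW : Scheme.{u}) ⟶ (W : Scheme.{u}) := g ∣_ W with hgW
  haveI : IsSeparated gW := IsZariskiLocalAtTarget.restrict (P := @IsSeparated) inferInstance W
  haveI : LocallyOfFiniteType gW :=
    IsZariskiLocalAtTarget.restrict (P := @LocallyOfFiniteType) inferInstance W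
  haveI : QuasiCompact gW := IsZariskiLocalAtTarget.restrict (P := @QuasiCompact) inferInstance W
  haveI : LocallyQuasiFinite gW :=
    IsZariskiLocalAtTarget.restrict (P := @LocallyQuasiFinite) inferInstance W
  obtain ⟨T0, j0, π0, hj0, hπ0, hjπ0⟩ := zmt_affine gW
  haveI := hj0
  haveI := hπ0
  haveI : QuasiCompact j0 := by
    haveI : QuasiCompact (j0 ≫ π0) := by rw [hjπ0]; infer_instance
    exact QuasiCompact.of_comp j0 π0
  -- image
  set TW : Scheme.{u} := j0.image with hTW
  set jW : (YW : Scheme.{u}) ⟶ TW := j0.toImage with hjW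
  set πW : TW ⟶ (W : Scheme.{u}) := j0.imageι ≫ π0 with hπW
  haveI : IsOpenImmersion jW := inferInstance
  haveI : IsDominant jW := inferInstance
  haveI : IsFinite πW := inferInstance
  have hjπW : jW ≫ πW = gW := by
    rw [hjW, hπW, ← Category.assoc, Scheme.Hom.toImage_imageι, hjπ0]
  -- K1
  have hK1 : ∀ t : TW, (πW t).1 ∈ V → t ∈ Set.range jW := by
    intro t ht
    have huc : UniversallyClosed (gW ∣_ (W.ι ⁻¹ᵁ V)) :=
      restrict_restrict_swap (P := @UniversallyClosed) g V W inferInstance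
    exact mem_range_of_universallyClosed gW jW πW hjπW (W.ι ⁻¹ᵁ V) huc t ht
  -- pushout
  have hcond : YW.ι ≫ g = jW ≫ πW ≫ W.ι := by
    rw [← Category.assoc, hjπW, hgW, morphismRestrict_ι]
  set inl : Y ⟶ pushout YW.ι jW := pushout.inl YW.ι jW with hinl
  set inr : TW ⟶ pushout YW.ι jW := pushout.inr YW.ι jW with hinr
  set π : pushout YW.ι jW ⟶ S := pushout.desc g (πW ≫ W.ι) hcond with hπ
  have hinlπ : inl ≫ π = g := pushout.inl_desc _ _ _
  have hinrπ : inr ≫ π = πW ≫ W.ι := pushout.inr_desc _ _ _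
  have hglue : ∀ y : YW, inl y.1 = inr (jW y) := by
    intro y
    have h := congrArg (fun φ : (YW : Scheme.{u}) ⟶ pushout YW.ι jW => φ y)
      (pushout.condition (f := YW.ι) (g := jW))
    simp only [Scheme.Hom.comp_apply] at h
    exact h
  have hπinl : ∀ y : Y, π (inl y) = g y := fun y => by
    rw [← Scheme.Hom.comp_apply, hinlπ]
  have hπinr : ∀ t : TW, π (inr t) = (πW t).1 := fun t => by
    rw [← Scheme.Hom.comp_apply, hinrπ, Scheme.Hom.comp_apply]
    rfl
  refine ⟨pushout YW.ι jW, inl, π, inferInstance, ?_, hinlπ⟩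
  have hsqW : IsPullback inr πW π W.ι := by
    refine (IsOpenImmersion.isPullback πW inr W.ι π hinrπ ?_).flip
    ext t
    simp only [Scheme.Hom.coe_preimage, Scheme.Hom.coe_opensRange, Set.mem_preimage,
      Scheme.Opens.range_ι, SetLike.mem_coe, Set.mem_range]
    constructor
    · intro ht
      rcases pushout_cover YW.ι jW t with ⟨y, rfl⟩ | ⟨t', rfl⟩
      · have hy : y ∈ YW := by
          have := hπinl y
          rw [this] at ht
          exact ht
        exact ⟨jW ⟨y, hy⟩, (hglue ⟨y, hy⟩).symm⟩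
      · exact ⟨t', rfl⟩
    · rintro ⟨t', rfl⟩
      rw [hπinr]
      exact (πW t').2
  have hsqV : IsPullback ((g ⁻¹ᵁ V).ι ≫ inl) (g ∣_ V) π V.ι := by
    refine (IsOpenImmersion.isPullback (g ∣_ V) ((g ⁻¹ᵁ V).ι ≫ inl) V.ι π ?_ ?_).flip
    · rw [Category.assoc, hinlπ, morphismRestrict_ι]
    · ext t
      simp only [Scheme.Hom.coe_preimage, Scheme.Hom.coe_opensRange, Set.mem_preimage,
        Scheme.Opens.range_ι, SetLike.mem_coe, Set.mem_range]
      constructor
      · intro ht
        rcases pushout_cover YW.ι jW t with ⟨y, rfl⟩ | ⟨t', rfl⟩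
        · have hy : y ∈ g ⁻¹ᵁ V := by
            have := hπinl y
            rw [this] at ht
            exact ht
          exact ⟨⟨y, hy⟩, rfl⟩
        · rw [hπinr] at ht
          obtain ⟨y', rfl⟩ := hK1 t' ht
          have hy : y'.1 ∈ g ⁻¹ᵁ V := by
            have h1 : g y'.1 = (πW (jW y')).1 := by
              rw [← hπinl, hglue, hπinr]
            change g y'.1 ∈ V
            rw [h1]
            exact ht
          exact ⟨⟨y'.1, hy⟩, hglue y'⟩
      · rintro ⟨y, rfl⟩
        rw [Scheme.Hom.comp_apply, hπinl]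
        exact y.2
  apply IsZariskiLocalAtTarget.of_iSup_eq_top (P := @IsFinite) (fun b : Bool => cond b V W)
  · rw [iSup_bool_eq]
    exact hVW
  · rintro (_ | _)
    · exact restrict_of_isPullback (P := @IsFinite) π W hsqW inferInstance
    · exact restrict_of_isPullback (P := @IsFinite) π V hsqV hV

end Groth.Agent.Helper1.ZMTa
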