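import Mathlib
import Groth.Agent.Lib.Helper1.ZMTa6

set_option autoImplicit false
universe u
open CategoryTheory CategoryTheory.Limits AlgebraicGeometry TopologicalSpace Opposite

namespace Groth.Agent.Helper1.ZMTa

open Groth.Agent.Helper1.LocImmL

/-- Zariski's main theorem (finite form) holds over `S` -/
def ZMTProp (S : Scheme.{u}) : Prop :=
  ∀ (X : Scheme.{u}) (f : X ⟶ S) [IsSeparated f] [LocallyOfFiniteType f] [QuasiCompact f]
    [LocallyQuasiFinite f], ∃ (T : Scheme.{u}) (j : X ⟶ T) (π : T ⟶ S),
      IsOpenImmersion j ∧ IsFinite π ∧ j ≫ π = f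

theorem zmtProp_of_isAffine (S : Scheme.{u}) [IsAffine S] : ZMTProp S := by
  intro X f _ _ _ _
  exact zmt_affine f

set_option maxHeartbeats 1600000 in
/-- the induction step -/
theorem zmt_step {S : Scheme.{u}} [CompactSpace S] [QuasiSeparatedSpace S] (V W : S.Opens)
    (hVW : V ⊔ W = ⊤) (hW : IsAffineOpen W) (hVc : IsCompact (V : Set S))
    (hV : ZMTProp (V : Scheme.{u})) : ZMTProp S := by
  intro X f _ _ _ _
  set XV : X.Opens := f ⁻¹ᵁ V with hXV
  set fV : (XV : Scheme.{u}) ⟶ (V : Scheme.{u}) := f ∣_ V with hfV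
  haveI : IsSeparated fV := IsZariskiLocalAtTarget.restrict (P := @IsSeparated) inferInstance V
  haveI : LocallyOfFiniteType fV :=
    IsZariskiLocalAtTarget.restrict (P := @LocallyOfFiniteType) inferInstance V
  haveI : QuasiCompact fV := IsZariskiLocalAtTarget.restrict (P := @QuasiCompact) inferInstance V
  haveI : LocallyQuasiFinite fV :=
    IsZariskiLocalAtTarget.restrict (P := @LocallyQuasiFinite) inferInstance V
  obtain ⟨TV, jV, πV, hjV, hπV, hjπV⟩ := hV _ fV
  haveI := hjV
  haveI := hπV
  have hcond : XV.ι ≫ f = jV ≫ πV ≫ V.ι := by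
    rw [← Category.assoc, hjπV, hfV, morphismRestrict_ι]
  set inl : X ⟶ pushout XV.ι jV := pushout.inl XV.ι jV with hinl
  set inr : TV ⟶ pushout XV.ι jV := pushout.inr XV.ι jV with hinr
  set g : pushout XV.ι jV ⟶ S := pushout.desc f (πV ≫ V.ι) hcond with hg
  have hinlg : inl ≫ g = f := pushout.inl_desc _ _ _
  have hinrg : inr ≫ g = πV ≫ V.ι := pushout.inr_desc _ _ _
  have hglue : ∀ y : XV, inl y.1 = inr (jV y) := by
    intro y
    have h := congrArg (fun φ : (XV : Scheme.{u}) ⟶ pushout XV.ι jV => φ y)
      (pushout.condition (f := XV.ι) (g := jV))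
    simp only [Scheme.Hom.comp_apply] at h
    exact h
  have hginl : ∀ y : X, g (inl y) = f y := fun y => by
    rw [← Scheme.Hom.comp_apply, hinlg]
  have hginr : ∀ t : TV, g (inr t) = (πV t).1 := fun t => by
    rw [← Scheme.Hom.comp_apply, hinrg, Scheme.Hom.comp_apply]
    rfl
  -- separatedness
  haveI : IsSeparated g := by
    apply isSeparated_pushout_desc XV.ι jV f (πV ≫ V.ι) hcond
    have hrange : Set.range (pullback.fst f (πV ≫ V.ι)) ⊆ Set.range XV.ι := by
      rintro _ ⟨p, rfl⟩
      rw [Scheme.Opens.range_ι]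
      change f (pullback.fst f (πV ≫ V.ι) p) ∈ V
      rw [← Scheme.Hom.comp_apply, pullback.condition, Scheme.Hom.comp_apply,
        Scheme.Hom.comp_apply]
      exact (πV _).2
    set pr1' := IsOpenImmersion.lift XV.ι (pullback.fst f (πV ≫ V.ι)) hrange with hpr1'
    have h1 : pr1' ≫ XV.ι = pullback.fst f (πV ≫ V.ι) := IsOpenImmersion.lift_fac _ _ _
    haveI : IsSeparated pr1' := by
      haveI : IsSeparated (pr1' ≫ XV.ι) := by rw [h1]; infer_instance
      exact IsSeparated.of_comp pr1' XV.ι
    have h2 : pullback.lift XV.ι jV hcond ≫ pr1' = 𝟙 _ := by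
      rw [← cancel_mono XV.ι, Category.assoc, h1, pullback.lift_fst, Category.id_comp]
    haveI : IsClosedImmersion (pullback.lift XV.ι jV hcond ≫ pr1') := by rw [h2]; infer_instance
    exact IsClosedImmersion.of_comp (pullback.lift XV.ι jV hcond) pr1'
  haveI : LocallyOfFiniteType g := by
    apply IsZariskiLocalAtSource.of_openCover (P := @LocallyOfFiniteType)
      (twoCover inl inr (pushout_cover XV.ι jV))
    rintro (_ | _)
    · change LocallyOfFiniteType (inr ≫ g)
      rw [hinrg]
      infer_instance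
    · change LocallyOfFiniteType (inl ≫ g)
      rw [hinlg]
      infer_instance
  haveI : LocallyQuasiFinite g := by
    apply IsZariskiLocalAtSource.of_openCover (P := @LocallyQuasiFinite)
      (twoCover inl inr (pushout_cover XV.ι jV))
    rintro (_ | _)
    · change LocallyQuasiFinite (inr ≫ g)
      rw [hinrg]
      infer_instance
    · change LocallyQuasiFinite (inl ≫ g)
      rw [hinlg]
      infer_instance
  haveI : CompactSpace X := QuasiCompact.compactSpace_of_compactSpace f
  haveI : CompactSpace ↥(V : Scheme.{u}) := isCompact_iff_compactSpace.1 hVc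
  haveI : CompactSpace TV := QuasiCompact.compactSpace_of_compactSpace πV
  haveI : CompactSpace ↥(pushout XV.ι jV : Scheme.{u}) := by
    constructor
    have h : (Set.univ : Set ↥(pushout XV.ι jV : Scheme.{u})) =
        Set.range inl ∪ Set.range inr := by
      ext y
      simp only [Set.mem_univ, Set.mem_union, true_iff]
      exact pushout_cover XV.ι jV y
    rw [h]
    exact (isCompact_range inl.continuous).union (isCompact_range inr.continuous)
  haveI : QuasiCompact g := inferInstance
  have hsq : IsPullback inr πV g V.ι := by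
    refine (IsOpenImmersion.isPullback πV inr V.ι g hinrg ?_).flip
    ext t
    simp only [Scheme.Hom.coe_preimage, Scheme.Hom.coe_opensRange, Set.mem_preimage,
      Scheme.Opens.range_ι, SetLike.mem_coe, Set.mem_range]
    constructor
    · intro ht
      rcases pushout_cover XV.ι jV t with ⟨y, rfl⟩ | ⟨t', rfl⟩
      · have hy : y ∈ XV := by
          have := hginl y
          rw [this] at ht
          exact ht
        exact ⟨jV ⟨y, hy⟩, (hglue ⟨y, hy⟩).symm⟩
      · exact ⟨t', rfl⟩
    · rintro ⟨t', rfl⟩
      rw [hginr]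
      exact (πV t').2
  have hfin : IsFinite (g ∣_ V) := restrict_of_isPullback (P := @IsFinite) g V hsq hπV
  obtain ⟨T, j, π, hj, hπ, hjπ⟩ := zmt_glue_finite g V W hVW hW hfin
  haveI := hj
  exact ⟨T, inl ≫ j, π, inferInstance, hπ, by rw [Category.assoc, hjπ, hinlg]⟩

end Groth.Agent.Helper1.ZMTa
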