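import Mathlib
import Groth.Agent.Lib.Helper1.ZMTa7

set_option autoImplicit false
universe u
open CategoryTheory CategoryTheory.Limits AlgebraicGeometry TopologicalSpace Opposite

namespace Groth.Agent.Helper1.ZMTa

theorem zmtProp_of_fin_cover : ∀ (n : ℕ) (S : Scheme.{u}) [QuasiSeparatedSpace S]
    (U : Fin n → S.Opens), (∀ i, IsAffineOpen (U i)) → (⨆ i, U i = ⊤) → ZMTProp S := by
  intro n
  induction n with
  | zero =>
    intro S _ U hU hsup
    haveI : IsEmpty S := by
      constructor
      intro s
      have h : s ∈ (⨆ i, U i : S.Opens) := hsup ▸ trivial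
      rw [Opens.mem_iSup] at h
      obtain ⟨i, _⟩ := h
      exact i.elim0
    haveI : IsAffine S := isAffine_of_isEmpty
    exact zmtProp_of_isAffine S
  | succ n ih =>
    intro S _ U hU hsup
    set V : S.Opens := ⨆ i : Fin n, U i.castSucc with hVdef
    set W : S.Opens := U (Fin.last n) with hWdef
    have hVW : V ⊔ W = ⊤ := by
      rw [← hsup]
      apply le_antisymm
      · exact sup_le (iSup_le fun i => le_iSup U i.castSucc) (le_iSup U (Fin.last n))
      · apply iSup_le
        intro i
        refine Fin.lastCases ?_ (fun j => ?_) i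
        · exact le_sup_right
        · exact le_sup_of_le_left (le_iSup (fun j : Fin n => U j.castSucc) j)
    have hVc : IsCompact (V : Set S) := by
      rw [hVdef, Opens.coe_iSup]
      exact isCompact_iUnion fun i => (hU _).isCompact
    haveI : CompactSpace S := by
      constructor
      rw [← Opens.coe_top, ← hsup, Opens.coe_iSup]
      exact isCompact_iUnion fun i => (hU i).isCompact
    have hV : ZMTProp (V : Scheme.{u}) := by
      haveI : QuasiSeparatedSpace ↥(V : Scheme.{u}) :=
        QuasiSeparatedSpace.of_isOpenEmbedding V.ι.isOpenEmbedding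
      apply ih (V : Scheme.{u}) (fun i => V.ι ⁻¹ᵁ U i.castSucc)
      · intro i
        refine (hU i.castSucc).preimage_of_isOpenImmersion V.ι ?_
        rw [Scheme.Opens.opensRange_ι]
        exact le_iSup (fun j : Fin n => U j.castSucc) i
      · rw [← Scheme.Hom.preimage_iSup]
        exact Scheme.Opens.ι_preimage_self V
    exact zmt_step V W hVW (hU _) hVc hV

end Groth.Agent.Helper1.ZMTa
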