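import Mathlib
import Groth.Agent.Lib.Helper1.ZMTa8

set_option autoImplicit false
universe u
open CategoryTheory CategoryTheory.Limits AlgebraicGeometry TopologicalSpace Opposite

namespace Groth.Agent.Helper1.ZMTa

theorem zmtProp_of_qcqs (S : Scheme.{u}) [CompactSpace S] [QuasiSeparatedSpace S] : ZMTProp S := by
  classical
  let 𝒰 := S.affineCover.finiteSubcover
  haveI : Fintype 𝒰.I₀ := inferInstance
  let e := Fintype.equivFin 𝒰.I₀
  apply zmtProp_of_fin_cover (Fintype.card 𝒰.I₀) S (fun k => (𝒰.f (e.symm k)).opensRange)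
  · intro k
    exact isAffineOpen_opensRange _
  · rw [← 𝒰.iSup_opensRange]
    exact e.symm.iSup_comp (g := fun i => (𝒰.f i).opensRange)

/-- **Zariski's main theorem**, finite form, qcqs base (S0385) -/
theorem zmt_qcqs {X S : Scheme.{u}} (f : X ⟶ S) [CompactSpace S] [QuasiSeparatedSpace S]
    [LocallyQuasiFinite f] [LocallyOfFiniteType f] [QuasiCompact f] [IsSeparated f] :
    ∃ (T : Scheme.{u}) (j : X ⟶ T) (π : T ⟶ S),
      IsOpenImmersion j ∧ QuasiCompact j ∧ IsFinite π ∧ j ≫ π = f := by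
  obtain ⟨T, j, π, hj, hπ, hjπ⟩ := zmtProp_of_qcqs S X f
  haveI := hπ
  refine ⟨T, j, π, hj, ?_, hπ, hjπ⟩
  haveI : QuasiCompact (j ≫ π) := by rw [hjπ]; infer_instance
  exact QuasiCompact.of_comp j π

end Groth.Agent.Helper1.ZMTa
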