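import Mathlib
import Groth.Prelude.Def_EssFT
import Groth.Agent.Lib.Helper1.ZMTa9
import Groth.Agent.Lib.Helper1.LocImm25

set_option autoImplicit false
universe u
open CategoryTheory CategoryTheory.Limits AlgebraicGeometry TopologicalSpace Opposite

namespace Groth.Agent.Helper1.ZMTa

open Groth.Agent.Helper1.LocImmL

set_option maxHeartbeats 800000 in
/-- S18200 -/
theorem ess_qf_factorization {X Y : Scheme.{u}} [IsNoetherian X] [IsNoetherian Y] (f : X ⟶ Y)
    [IsSeparated f] [EssFT.EssFiniteType f] [LocallyQuasiFinite f] :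
    ∃ (Z : Scheme.{u}) (i : X ⟶ Z) (h : Z ⟶ Y), IsNoetherian Z ∧ LocImm.IsLocImmersion i ∧
      IsFinite h ∧ i ≫ h = f := by
  obtain ⟨Y', k, p, hY', hk, hpsep, hplft, hpqc, hkp⟩ := exists_factorization f
  haveI := hY'
  haveI := hpsep
  haveI := hplft
  haveI := hpqc
  set O : Y'.Opens := p.quasiFiniteLocus with hO
  have hkO : ∀ x, k x ∈ O := by
    intro x
    rw [hO, Scheme.Hom.mem_quasiFiniteLocus]
    have h1 : f.QuasiFiniteAt x := f.quasiFiniteAt x
    haveI := isIso_stalkMap_of_isLocalizing k hk.1 x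
    subst hkp
    have h2 : (k ≫ p).QuasiFiniteAt x ↔ p.QuasiFiniteAt (k x) := by
      simp only [Scheme.Hom.QuasiFiniteAt, Scheme.Hom.stalkMap_comp]
      exact RingHom.QuasiFinite.respectsIso.cancel_right_isIso (p.stalkMap (k x)) (k.stalkMap x)
    exact h2.1 h1
  have hrange : Set.range k ⊆ Set.range O.ι := by
    rintro _ ⟨x, rfl⟩
    rw [Scheme.Opens.range_ι]
    exact hkO x
  set k' : X ⟶ (O : Scheme.{u}) := IsOpenImmersion.lift O.ι k hrange with hk'def
  have hk' : k' ≫ O.ι = k := IsOpenImmersion.lift_fac _ _ _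
  have hk'loc : LocImm.IsLocImmersion k' := isLocImmersion_of_comp_mono k' O.ι (hk'.symm ▸ hk)
  haveI : IsNoetherian (O : Scheme.{u}) := isNoetherian_of_isOpenImmersion O.ι
  haveI : LocallyQuasiFinite (O.ι ≫ p) := inferInstance
  haveI : QuasiCompact (O.ι ≫ p) := inferInstance
  obtain ⟨T, j, π, hj, hjqc, hπ, hjπ⟩ := zmt_qcqs (O.ι ≫ p)
  haveI := hj
  haveI := hπ
  refine ⟨T, k' ≫ j, π, ?_, ?_, hπ, ?_⟩
  · haveI : IsLocallyNoetherian T := LocallyOfFiniteType.isLocallyNoetherian π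
    haveI : CompactSpace T := QuasiCompact.compactSpace_of_compactSpace π
    exact {}
  · exact isLocImmersion_comp k' j hk'loc (isLocImmersion_of_isOpenImmersion j)
  · rw [Category.assoc, hjπ, ← Category.assoc, hk', hkp]

end Groth.Agent.Helper1.ZMTa
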