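import Mathlib
import Groth.Agent.Lib.Helper1.ZMTa9

set_option autoImplicit false
universe u
open CategoryTheory CategoryTheory.Limits AlgebraicGeometry TopologicalSpace Opposite

namespace Groth.Agent.Helper1.ZMTa

set_option maxHeartbeats 1600000 in
/-- S1376 -/
theorem finite_surjective_extends {S V : Scheme.{u}} [CompactSpace ↑S] [QuasiSeparatedSpace ↑S]
    (U : S.Opens) (hU : IsCompact (U : Set ↑S))
    (v : V ⟶ (U : Scheme.{u})) [IsFinite v] [Surjective v] :
    ∃ (V' : Scheme.{u}) (π : V' ⟶ S) (i : V ⟶ V'), Surjective π ∧ IsFinite π ∧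
      IsPullback i v π U.ι := by
  haveI : CompactSpace ↥(U : Scheme.{u}) := isCompact_iff_compactSpace.1 hU
  haveI : QuasiCompact U.ι := inferInstance
  haveI : QuasiCompact (v ≫ U.ι) := inferInstance
  haveI : LocallyQuasiFinite (v ≫ U.ι) := inferInstance
  obtain ⟨T, j, π₀, hj, hjqc, hπ₀, hjπ₀⟩ := zmt_qcqs (v ≫ U.ι)
  haveI := hj
  haveI := hjqc
  haveI := hπ₀
  set T' : Scheme.{u} := j.image with hT'
  set j' : V ⟶ T' := j.toImage with hj'
  set π' : T' ⟶ S := j.imageι ≫ π₀ with hπ'
  haveI : IsOpenImmersion j' := inferInstance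
  haveI : IsDominant j' := inferInstance
  haveI : IsFinite π' := inferInstance
  have hjπ' : j' ≫ π' = v ≫ U.ι := by
    rw [hj', hπ', ← Category.assoc, Scheme.Hom.toImage_imageι, hjπ₀]
  have hsq0 : IsPullback (𝟙 V) v (v ≫ U.ι) U.ι := by
    refine (IsOpenImmersion.isPullback v (𝟙 V) U.ι (v ≫ U.ι) (Category.id_comp _) ?_).flip
    ext x
    simp only [Scheme.Hom.coe_preimage, Scheme.Hom.coe_opensRange, Set.mem_preimage,
      Scheme.Opens.range_ι, SetLike.mem_coe, Set.mem_range]
    constructor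
    · intro _
      exact ⟨x, rfl⟩
    · intro _
      rw [Scheme.Hom.comp_apply]
      exact (v x).2
  have huc : UniversallyClosed ((v ≫ U.ι) ∣_ U) :=
    restrict_of_isPullback (P := @UniversallyClosed) (v ≫ U.ι) U hsq0 inferInstance
  have hK1 : ∀ t : T', π' t ∈ U → t ∈ Set.range j' := fun t ht =>
    mem_range_of_universallyClosed (v ≫ U.ι) j' π' hjπ' U huc t ht
  -- the reduced complement
  let Zc : Closeds S := ⟨(U : Set S)ᶜ, U.isOpen.isClosed_compl⟩
  let I : S.IdealSheafData := Scheme.IdealSheafData.vanishingIdeal Zc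
  have hIrange : Set.range I.subschemeι = (U : Set S)ᶜ := by
    rw [Scheme.IdealSheafData.range_subschemeι]
    exact Scheme.IdealSheafData.coe_support_vanishingIdeal Zc
  haveI : IsFinite I.subschemeι := inferInstance
  set π : T' ⨿ I.subscheme ⟶ S := coprod.desc π' I.subschemeι with hπ
  have hinl : (coprod.inl : T' ⟶ T' ⨿ I.subscheme) ≫ π = π' := coprod.inl_desc _ _
  have hinr : (coprod.inr : I.subscheme ⟶ T' ⨿ I.subscheme) ≫ π = I.subschemeι :=
    coprod.inr_desc _ _
  have hπinl : ∀ t : T', π ((coprod.inl : T' ⟶ T' ⨿ I.subscheme) t) = π' t := fun t => by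
    rw [← Scheme.Hom.comp_apply, hinl]
  have hπinr : ∀ z : I.subscheme, π ((coprod.inr : I.subscheme ⟶ T' ⨿ I.subscheme) z) =
      I.subschemeι z := fun z => by
    rw [← Scheme.Hom.comp_apply, hinr]
  refine ⟨T' ⨿ I.subscheme, π, j' ≫ coprod.inl, ?_, inferInstance, ?_⟩
  · constructor
    intro s
    by_cases hs : s ∈ U
    · obtain ⟨x, hx⟩ := v.surjective ⟨s, hs⟩
      refine ⟨(coprod.inl : T' ⟶ T' ⨿ I.subscheme) (j' x), ?_⟩
      rw [hπinl, ← Scheme.Hom.comp_apply, hjπ', Scheme.Hom.comp_apply, hx]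
      rfl
    · have hs' : s ∈ Set.range I.subschemeι := by
        rw [hIrange]
        exact hs
      obtain ⟨z, rfl⟩ := hs'
      exact ⟨(coprod.inr : I.subscheme ⟶ T' ⨿ I.subscheme) z, hπinr z⟩
  · refine (IsOpenImmersion.isPullback v (j' ≫ coprod.inl) U.ι π ?_ ?_).flip
    · rw [Category.assoc, hinl, hjπ']
    · ext y
      simp only [Scheme.Hom.coe_preimage, Scheme.Hom.coe_opensRange, Set.mem_preimage,
        Scheme.Opens.range_ι, SetLike.mem_coe, Set.mem_range]
      obtain ⟨(t | z), rfl⟩ := (coprodMk T' I.subscheme).surjective y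
      · rw [coprodMk_inl, hπinl]
        constructor
        · intro ht
          obtain ⟨x, rfl⟩ := hK1 t ht
          exact ⟨x, rfl⟩
        · rintro ⟨x, hx⟩
          rw [Scheme.Hom.comp_apply] at hx
          have h2 : j' x = t :=
            (coprod.inl : T' ⟶ T' ⨿ I.subscheme).isOpenEmbedding.injective hx
          rw [← h2, ← Scheme.Hom.comp_apply, hjπ', Scheme.Hom.comp_apply]
          exact (v x).2
      · rw [coprodMk_inr, hπinr]
        constructor
        · intro hz
          exfalso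
          have h3 : I.subschemeι z ∈ (U : Set S)ᶜ := by
            rw [← hIrange]
            exact ⟨z, rfl⟩
          exact h3 hz
        · rintro ⟨x, hx⟩
          exfalso
          rw [Scheme.Hom.comp_apply] at hx
          exact Set.disjoint_iff_forall_ne.mp (isCompl_range_inl_inr T' I.subscheme).disjoint
            ⟨j' x, rfl⟩ ⟨z, rfl⟩ hx

end Groth.Agent.Helper1.ZMTa
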