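import Mathlib
import Groth.Agent.Lib.Helper1.ZMTa9

set_option autoImplicit false
universe u
open CategoryTheory CategoryTheory.Limits AlgebraicGeometry TopologicalSpace Opposite

namespace Groth.Agent.Helper1.ZMTa

/-- a finite type algebra which is a quotient of a principal localization of an integral algebra
is quasi-finite -/
theorem quasiFinite_comp_of_integral {R S T : Type*} [CommRing R] [CommRing S] [CommRing T]
    (φ : R →+* S) (ψ : S →+* T) (hφ : φ.IsIntegral) (s : S) (hu : IsUnit (ψ s))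
    (hsurj : ∀ t : T, ∃ n : ℕ, ∃ a : S, t * ψ s ^ n = ψ a) (hft : (ψ.comp φ).FiniteType) :
    (ψ.comp φ).QuasiFinite := by
  set I := RingHom.ker ψ with hI
  let f' : R →+* S ⧸ I := (Ideal.Quotient.mk I).comp φ
  let g' : S ⧸ I →+* T := RingHom.kerLift ψ
  have hg'mk : ∀ a : S, g' (Ideal.Quotient.mk I a) = ψ a := fun a => RingHom.kerLift_mk ψ a
  have hcomp : g'.comp f' = ψ.comp φ := by
    ext r
    simp only [RingHom.comp_apply, f']
    exact hg'mk _
  have hf' : f'.IsIntegral :=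
    RingHom.IsIntegral.trans φ _ hφ
      (RingHom.isIntegral_of_surjective _ Ideal.Quotient.mk_surjective)
  have hg' : g'.IsStandardOpenImmersion := by
    letI := g'.toAlgebra
    have halg : ∀ x : S ⧸ I, algebraMap (S ⧸ I) T x = g' x := fun _ => rfl
    refine ⟨Ideal.Quotient.mk I s, ?_⟩
    rw [IsLocalization.Away, isLocalization_iff]
    refine ⟨?_, ?_, ?_⟩
    · rintro ⟨_, n, rfl⟩
      rw [halg, map_pow, hg'mk]
      exact hu.pow n
    · intro t
      obtain ⟨n, a, h⟩ := hsurj t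
      refine ⟨(Ideal.Quotient.mk I a, ⟨Ideal.Quotient.mk I s ^ n, n, rfl⟩), ?_⟩
      rw [halg, halg, map_pow, hg'mk, hg'mk]
      exact h
    · intro x y hxy
      rw [halg, halg] at hxy
      exact ⟨1, by rw [RingHom.kerLift_injective ψ hxy]⟩
  rw [← hcomp]
  exact RingHom.QuasiFinite.of_isIntegral_of_finiteType hf' hg' (hcomp ▸ hft)

set_option maxHeartbeats 1600000 in
/-- a morphism locally of finite type which factors as an immersion followed by an integral
morphism is locally quasi-finite -/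
theorem locallyQuasiFinite_of_immersion_comp_integral {X N Y : Scheme.{u}} (g : X ⟶ N)
    (h : N ⟶ Y) [IsImmersion g] [IsIntegralHom h] [LocallyOfFiniteType (g ≫ h)] :
    LocallyQuasiFinite (g ≫ h) := by
  rw [HasRingHomProperty.iff_exists_appLE (P := @LocallyQuasiFinite)
    (RingHom.QuasiFinite.stableUnderComposition.stableUnderCompositionWithLocalizationAway
      RingHom.QuasiFinite.holdsForLocalizationAway).left]
  intro x
  obtain ⟨Z, g₁, g₂, hg₁, hg₂, hg⟩ := (IsImmersion.isImmersion_iff_exists (f := g)).1 inferInstance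
  haveI := hg₁
  haveI := hg₂
  obtain ⟨V, hV, hyV, -⟩ := Opens.isBasis_iff_nbhd.mp Y.isBasis_affineOpens
    (Opens.mem_top ((g ≫ h) x))
  set W : N.Opens := h ⁻¹ᵁ V with hWdef
  have hW : IsAffineOpen W := hV.preimage h
  have hnW : g x ∈ W := by
    change h (g x) ∈ V
    rw [← Scheme.Hom.comp_apply]
    exact hyV
  have hnO : g x ∈ g₂.opensRange ⊓ W := by
    refine ⟨?_, hnW⟩
    rw [← hg, Scheme.Hom.comp_apply]
    exact ⟨g₁ x, rfl⟩
  obtain ⟨s, hsO, hns⟩ := hW.exists_basicOpen_le ⟨g x, hnO⟩ hnW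
  set D : N.Opens := N.basicOpen s with hDdef
  have hD : IsAffineOpen D := hW.basicOpen s
  have hDW : D ≤ W := N.basicOpen_le s
  have hDr : D ≤ g₂.opensRange := hsO.trans inf_le_left
  have hDZ : IsAffineOpen (g₂ ⁻¹ᵁ D) := hD.preimage_of_isOpenImmersion g₂ hDr
  have hU0 : IsAffineOpen (g₁ ⁻¹ᵁ (g₂ ⁻¹ᵁ D)) := hDZ.preimage g₁
  have hUeq : g ⁻¹ᵁ D = g₁ ⁻¹ᵁ (g₂ ⁻¹ᵁ D) := by
    rw [← hg]
    rfl
  have hU : IsAffineOpen (g ⁻¹ᵁ D) := hUeq ▸ hU0
  have e₁ : g ⁻¹ᵁ D ≤ g ⁻¹ᵁ W := g.preimage_mono hDW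
  have e : g ⁻¹ᵁ D ≤ (g ≫ h) ⁻¹ᵁ V := e₁
  refine ⟨⟨V, hV⟩, ⟨g ⁻¹ᵁ D, hU⟩, hns, e, ?_⟩
  have hfac : (g ≫ h).appLE V (g ⁻¹ᵁ D) e = h.appLE V W le_rfl ≫ g.appLE W (g ⁻¹ᵁ D) e₁ := by
    rw [Scheme.Hom.appLE_comp_appLE]
  have hfac2 : g.appLE W (g ⁻¹ᵁ D) e₁ = N.presheaf.map (homOfLE hDW).op ≫ g.app D := by
    rw [Scheme.Hom.app_eq_appLE, Scheme.Hom.map_appLE]
  have hφ : (h.appLE V W le_rfl).hom.IsIntegral := by
    rw [← Scheme.Hom.app_eq_appLE]
    exact IsIntegralHom.isIntegral_app h V hV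
  haveI : IsLocalization.Away s Γ(N, D) := hW.isLocalization_basicOpen s
  have hres : ∀ a : Γ(N, W), (N.presheaf.map (homOfLE hDW).op).hom a =
      algebraMap Γ(N, W) Γ(N, D) a := fun a => rfl
  have hψ : ∀ a : Γ(N, W), (g.appLE W (g ⁻¹ᵁ D) e₁).hom a =
      (g.app D).hom (algebraMap Γ(N, W) Γ(N, D) a) := by
    intro a
    rw [hfac2, CommRingCat.hom_comp, RingHom.comp_apply, hres]
  have hsurjD : Function.Surjective (g.app D).hom := by
    have h1 : ∀ (g' : X ⟶ N) (hg' : g' = g), Function.Surjective (g'.app D).hom →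
        Function.Surjective (g.app D).hom := by
      rintro g' rfl h
      exact h
    apply h1 (g₁ ≫ g₂) hg
    rw [Scheme.Hom.comp_app]
    haveI : IsIso (g₂.app D) := g₂.isIso_app D hDr
    intro t
    obtain ⟨b, hb⟩ := Scheme.Hom.app_surjective g₁ (g₂ ⁻¹ᵁ D) hDZ t
    obtain ⟨a, ha⟩ := (ConcreteCategory.bijective_of_isIso (g₂.app D)).2 b
    refine ⟨a, ?_⟩
    rw [← hb, ← ha]
    rfl
  rw [hfac, CommRingCat.hom_comp]
  refine quasiFinite_comp_of_integral _ _ hφ s ?_ ?_ ?_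
  · rw [hψ]
    exact (IsLocalization.Away.algebraMap_isUnit s).map _
  · intro t
    obtain ⟨b, rfl⟩ := hsurjD t
    obtain ⟨⟨a, ⟨_, n, rfl⟩⟩, hab⟩ := IsLocalization.surj (Submonoid.powers s) b
    simp only at hab
    refine ⟨n, a, ?_⟩
    rw [hψ, hψ, ← hab, map_mul, map_pow, map_pow]
  · rw [← CommRingCat.hom_comp, ← hfac]
    exact (g ≫ h).finiteType_appLE hV hU e

/-- S4807 -/
theorem exists_immersion_finite_fac_iff {X Y : Scheme.{u}} (f : X ⟶ Y)
    [CompactSpace Y] [QuasiSeparatedSpace Y] [IsSeparated f] [LocallyOfFiniteType f]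
    [QuasiCompact f] :
    (∃ (Y' : Scheme.{u}) (f' : X ⟶ Y') (u : Y' ⟶ Y), IsImmersion f' ∧ IsFinite u ∧ f' ≫ u = f) ↔
      IsImmersion f.toNormalization := by
  constructor
  · rintro ⟨Y', f', u, hf', hu, hfac⟩
    haveI := hf'
    haveI := hu
    haveI : IsIntegralHom u := inferInstance
    have h1 : f.toNormalization ≫ f.normalizationDesc f' u hfac.symm = f' :=
      f.toNormalization_normalizationDesc f' u hfac.symm
    haveI : IsImmersion (f.toNormalization ≫ f.normalizationDesc f' u hfac.symm) := by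
      rw [h1]
      exact hf'
    exact IsImmersion.of_comp f.toNormalization (f.normalizationDesc f' u hfac.symm)
  · intro hg
    haveI := hg
    have hfac : f.toNormalization ≫ f.fromNormalization = f :=
      f.toNormalization_fromNormalization
    haveI : LocallyOfFiniteType (f.toNormalization ≫ f.fromNormalization) := by
      rw [hfac]
      infer_instance
    have hlqf := locallyQuasiFinite_of_immersion_comp_integral f.toNormalization
      f.fromNormalization
    haveI : LocallyQuasiFinite f := by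
      rw [← hfac]
      exact hlqf
    obtain ⟨T, j, π, hj, hjqc, hπ, hjπ⟩ := zmt_qcqs f
    haveI := hj
    exact ⟨T, j, π, inferInstance, hπ, hjπ⟩

end Groth.Agent.Helper1.ZMTa
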