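import Mathlib
import Groth.Agent.Lib.Helper1.ZMTa9

set_option autoImplicit false
universe u
open CategoryTheory CategoryTheory.Limits AlgebraicGeometry TopologicalSpace Opposite

namespace Groth.Agent.Helper1.ZMTa

set_option maxHeartbeats 1600000 in
/-- a finite morphism to a quasi-compact open of a qcqs scheme is the restriction of a finite
morphism to the whole scheme -/
theorem finite_extends {S V : Scheme.{u}} [CompactSpace ↑S] [QuasiSeparatedSpace ↑S]
    (U : S.Opens) (hU : IsCompact (U : Set ↑S))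
    (v : V ⟶ (U : Scheme.{u})) [IsFinite v] :
    ∃ (V' : Scheme.{u}) (π : V' ⟶ S) (i : V ⟶ V'), IsFinite π ∧ IsOpenImmersion i ∧
      IsPullback i v π U.ι := by
  haveI : CompactSpace ↥(U : Scheme.{u}) := isCompact_iff_compactSpace.1 hU
  haveI : QuasiCompact U.ι := inferInstance
  haveI : QuasiCompact (v ≫ U.ι) := inferInstance
  haveI : LocallyQuasiFinite (v ≫ U.ι) := inferInstance
  obtain ⟨T, j, π₀, hj, hjqc, hπ₀, hjπ₀⟩ := zmt_qcqs (v ≫ U.ι)
  haveI := hj
  haveI := hjqc
  haveI := hπ₀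
  set T' : Scheme.{u} := j.image with hT'
  set j' : V ⟶ T' := j.toImage with hj'
  set π' : T' ⟶ S := j.imageι ≫ π₀ with hπ'
  haveI : IsOpenImmersion j' := inferInstance
  haveI : IsDominant j' := inferInstance
  haveI : IsFinite π' := inferInstance
  have hjπ' : j' ≫ π' = v ≫ U.ι := by
    rw [hj', hπ', ← Category.assoc, Scheme.Hom.toImage_imageι, hjπ₀]
  have hsq0 : IsPullback (𝟙 V) v (v ≫ U.ι) U.ι := by
    refine (IsOpenImmersion.isPullback v (𝟙 V) U.ι (v ≫ U.ι) (Category.id_comp _) ?_).flip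
    ext x
    simp only [Scheme.Hom.coe_preimage, Scheme.Hom.coe_opensRange, Set.mem_preimage,
      Scheme.Opens.range_ι, SetLike.mem_coe, Set.mem_range]
    constructor
    · intro _
      exact ⟨x, rfl⟩
    · intro _
      rw [Scheme.Hom.comp_apply]
      exact (v x).2
  have huc : UniversallyClosed ((v ≫ U.ι) ∣_ U) :=
    restrict_of_isPullback (P := @UniversallyClosed) (v ≫ U.ι) U hsq0 inferInstance
  have hK1 : ∀ t : T', π' t ∈ U → t ∈ Set.range j' := fun t ht =>
    mem_range_of_universallyClosed (v ≫ U.ι) j' π' hjπ' U huc t ht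
  refine ⟨T', π', j', inferInstance, inferInstance, ?_⟩
  refine (IsOpenImmersion.isPullback v j' U.ι π' hjπ' ?_).flip
  ext t
  simp only [Scheme.Hom.coe_preimage, Scheme.Hom.coe_opensRange, Set.mem_preimage,
    Scheme.Opens.range_ι, SetLike.mem_coe, Set.mem_range]
  constructor
  · intro ht
    obtain ⟨x, rfl⟩ := hK1 t ht
    exact ⟨x, rfl⟩
  · rintro ⟨x, rfl⟩
    rw [← Scheme.Hom.comp_apply, hjπ', Scheme.Hom.comp_apply]
    exact (v x).2

/-- S16574 -/
theorem finite_extends_affine (A : Type u) [CommRing A] (U : (Spec (CommRingCat.of A)).Opens)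
    (hU : IsCompact (U : Set (Spec (CommRingCat.of A))))
    (U' : Scheme.{u}) (g : U' ⟶ (U : Scheme.{u})) [IsFinite g] :
    ∃ (B : Type u) (_ : CommRing B) (_ : Algebra A B) (i : U' ⟶ Spec (CommRingCat.of B)),
      Module.Finite A B ∧ IsPullback i g (Spec.map (CommRingCat.ofHom (algebraMap A B))) U.ι := by
  obtain ⟨T, π, i, hπ, hi, hsq⟩ := finite_extends U hU g
  haveI := hπ
  haveI : IsAffine T := isAffine_of_isAffineHom π
  let β : CommRingCat.of A ⟶ Γ(T, ⊤) := (Scheme.ΓSpecIso (CommRingCat.of A)).inv ≫ π.appTop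
  letI : Algebra A Γ(T, ⊤) := β.hom.toAlgebra
  have hβ : CommRingCat.ofHom (algebraMap A Γ(T, ⊤)) = β := rfl
  have hfac : T.isoSpec.hom ≫ Spec.map β = π := by
    apply ext_of_isAffine
    rw [Scheme.isoSpec_hom, appTop_toSpecΓ_comp]
    simp [β]
  refine ⟨Γ(T, ⊤), inferInstance, inferInstance, i ≫ T.isoSpec.hom, ?_, ?_⟩
  · have h1 : IsFinite (Spec.map β) := by
      have : Spec.map β = T.isoSpec.inv ≫ π := by rw [← hfac, Iso.inv_hom_id_assoc]
      rw [this]
      infer_instance
    have h2 := (IsFinite.SpecMap_iff (f := β)).1 h1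
    exact h2
  · rw [hβ]
    have h2 : IsPullback T.isoSpec.hom π (Spec.map β) (𝟙 _) :=
      IsPullback.of_horiz_isIso ⟨by rw [hfac, Category.comp_id]⟩
    have := hsq.paste_horiz h2
    rwa [Category.comp_id] at this

end Groth.Agent.Helper1.ZMTa
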